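import Cfsg.Agent.Lib.Schur.PcGolay

/-!
# A tail certificate for a Sylow subgroup of a Mathieu group
-/

set_option autoImplicit false
set_option maxRecDepth 100000
set_option maxHeartbeats 0

namespace Cfsg.Agent.Lib.Schur.Cert.M23p2

open Cfsg.Agent.Lib.Schur.PcMain Cfsg.Agent.Lib.Schur.PcGolay

def rule_0 : List (List ℕ) := [[5, 6]]

def rule_1 : List (List ℕ) := [[1, 3], [6]]

def rule_2 : List (List ℕ) := [[2], [2, 4], [5]]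

def rule_3 : List (List ℕ) := [[3, 6], [3], [3, 5], []]

def rule_4 : List (List ℕ) := [[4, 5, 6], [4], [4, 6], [4, 6], []]

def rule_5 : List (List ℕ) := [[5], [5, 6], [5], [5], [5], []]

def rule_6 : List (List ℕ) := [[6], [6], [6], [6], [6], [6], []]

def item_0 : List (List ℕ) × List (List ℕ) := ([[0], [1, 4], [0, 1, 3, 5, 6], [3, 5], [3, 6], [6]], [[0, 1, 3, 5], [1, 3, 6], [0, 1, 3, 4], [3], [5], [6]])

def item_1 : List (List ℕ) × List (List ℕ) := ([[0], [0, 2, 3, 4, 6], [3, 6], [2], [5], [6]], [[2, 4, 6], [3, 4, 6], [0, 3, 4, 6], [0, 3, 5], [5], [6]])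

def item_2 : List (List ℕ) × List (List ℕ) := ([[1, 2, 5], [1, 3, 4, 5], [1, 2, 4, 5], [4, 5], [6]], [[1, 2, 4, 6], [1, 2], [1, 3, 4, 5, 6], [6], [4, 5]])

def ov_0 : List ℕ × ℕ × ℕ × List (ℕ × ℤ) := ([2, 1, 0], 0, 1, [(3002, 1), (4000, 1), (4003, -1), (5004, 1), (5005, 1)])

def ov_1 : List ℕ × ℕ × ℕ × List (ℕ × ℤ) := ([3, 2, 0], 0, 1, [(5000, 1), (6002, -1), (6005, 1)])

def ov_2 : List ℕ × ℕ × ℕ × List (ℕ × ℤ) := ([3, 2, 1], 0, 1, [(4003, 1), (5001, 1), (5004, -1), (6005, 1), (6006, 1)])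

def ov_3 : List ℕ × ℕ × ℕ × List (ℕ × ℤ) := ([4, 3, 1], 0, 1, [(6001, 1)])

def ov_4 : List ℕ × ℕ × ℕ × List (ℕ × ℤ) := ([5, 1, 0], 0, 1, [(5003, -1), (6000, 1), (6003, -1)])

def ov_5 : List ℕ × ℕ × ℕ × List (ℕ × ℤ) := ([5, 3, 0], 0, 1, [(6005, 1)])

def ov_6 : List ℕ × ℕ × ℕ × List (ℕ × ℤ) := ([5, 3, 1], 0, 1, [(6003, -1)])

def ov_7 : List ℕ × ℕ × ℕ × List (ℕ × ℤ) := ([5, 4, 1], 0, 1, [(6004, -1)])

def ov_8 : List ℕ × ℕ × ℕ × List (ℕ × ℤ) := ([1, 1, 0], 0, 1, [(1000, -2), (3001, -1), (3003, -1), (6000, 1), (6003, -2)])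

def ov_9 : List ℕ × ℕ × ℕ × List (ℕ × ℤ) := ([1, 0, 0], 0, 1, [(1000, 2), (3000, 1), (3003, 1), (5001, 1), (5003, 2), (6001, 1), (6006, 1)])

def ov_10 : List ℕ × ℕ × ℕ × List (ℕ × ℤ) := ([2, 1, 1], 0, 1, [(2001, 2), (4001, 1), (4004, 1), (6002, 1), (6004, 2)])

def ov_11 : List ℕ × ℕ × ℕ × List (ℕ × ℤ) := ([3, 3, 0], 0, 1, [(3000, -2), (6003, -1), (6006, -1)])

def ov_12 : List ℕ × ℕ × ℕ × List (ℕ × ℤ) := ([3, 3, 2], 0, 1, [(3002, -2), (5003, -1), (5005, -1)])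

def ov_13 : List ℕ × ℕ × ℕ × List (ℕ × ℤ) := ([2, 2, 2], 0, 1, [(5002, 1)])

def fr_0 : ℕ × List ℕ × List ℕ × List (ℕ × ℤ) := (0, [3, 0], [0, 3, 5], [(3001, 1), (5000, -1), (5003, -1), (6001, 1), (6003, 1), (1000005, -1)])

def fr_1 : ℕ × List ℕ × List ℕ × List (ℕ × ℤ) := (0, [4, 2], [2, 4, 5], [(3000, -1), (3001, -1), (5000, 1), (5001, 1), (5003, 2), (5004, 1), (6000, -1), (6003, 2), (6004, 1), (1000005, -1)])

def fr_2 : ℕ × List ℕ × List ℕ × List (ℕ × ℤ) := (1, [1, 0], [0, 1, 4], [(2000, -1), (3000, -1), (3002, 1), (4000, -1), (4002, 1), (4003, -1), (5004, 2), (6000, -1), (6002, 1), (6003, -1), (6004, 1), (6005, -1), (6006, -1), (1001004, -1)])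

def fr_3 : ℕ × List ℕ × List ℕ × List (ℕ × ℤ) := (1, [3, 2], [2, 3, 4], [(3002, 1), (4000, -1), (4003, -1), (5000, 1), (5004, -1), (6000, -1), (6002, 1), (6005, -1), (6006, -1), (1001004, -1)])

def fr_4 : ℕ × List ℕ × List ℕ × List (ℕ × ℤ) := (1, [4, 1], [1, 4], [(5000, -1), (5002, -1)])

def fr_5 : ℕ × List ℕ × List ℕ × List (ℕ × ℤ) := (1, [4, 2], [2, 4], [(5000, 1), (5004, 1)])

def fr_6 : ℕ × List ℕ × List ℕ × List (ℕ × ℤ) := (1, [5, 2], [2, 5], [(6000, 1), (6004, 1)])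

def fr_7 : ℕ × List ℕ × List ℕ × List (ℕ × ℤ) := (2, [3, 0], [0, 3], [(4001, -1), (4002, -1), (5001, -1), (5002, -1), (5004, 1), (6001, 1), (6004, 1), (6005, -1), (6006, -1)])

def fr_8 : ℕ × List ℕ × List ℕ × List (ℕ × ℤ) := (2, [3, 1], [1, 3], [(4001, -1), (4003, -1), (5001, -1), (5003, -1), (6001, 1), (6002, 1), (6003, -1), (6005, -1), (6006, -1)])

def tg_0 : ℕ × ℤ × List (ℕ × ℤ) := (1000, 0, [(0, 1)])

def tg_1 : ℕ × ℤ × List (ℕ × ℤ) := (2001, 0, [(1, 1)])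

def tg_2 : ℕ × ℤ × List (ℕ × ℤ) := (3002, 0, [(2, 1)])

def tg_3 : ℕ × ℤ × List (ℕ × ℤ) := (3000, 0, [(3, 1)])

def tg_4 : ℕ × ℤ × List (ℕ × ℤ) := (6001, 0, [(7, 1)])

def tg_5 : ℕ × ℤ × List (ℕ × ℤ) := (6005, 0, [(9, 1)])

def tg_6 : ℕ × ℤ × List (ℕ × ℤ) := (6003, 0, [(10, -1)])

def tg_7 : ℕ × ℤ × List (ℕ × ℤ) := (6004, 0, [(11, -1)])

def tg_8 : ℕ × ℤ × List (ℕ × ℤ) := (5002, 0, [(17, 1)])

def tg_9 : ℕ × ℤ × List (ℕ × ℤ) := (5000, 0, [(22, -1)])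

def tg_10 : ℕ × ℤ × List (ℕ × ℤ) := (5004, 0, [(23, 1)])

def tg_11 : ℕ × ℤ × List (ℕ × ℤ) := (6000, 0, [(24, 1)])

def tg_12 : ℕ × ℤ × List (ℕ × ℤ) := (6002, 0, [(5, -1)])

def tg_13 : ℕ × ℤ × List (ℕ × ℤ) := (5003, 0, [(8, -1)])

def tg_14 : ℕ × ℤ × List (ℕ × ℤ) := (6006, 0, [(15, -1)])

def tg_15 : ℕ × ℤ × List (ℕ × ℤ) := (5005, 0, [(16, -1)])

def tg_16 : ℕ × ℤ × List (ℕ × ℤ) := (4001, 0, [(6, -1), (26, -1)])

def tg_17 : ℕ × ℤ × List (ℕ × ℤ) := (4004, 0, [(14, 1)])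

def tg_18 : ℕ × ℤ × List (ℕ × ℤ) := (3001, 0, [(12, 1), (13, 1), (18, 1), (19, -1)])

def tg_19 : ℕ × ℤ × List (ℕ × ℤ) := (3003, 0, [(12, -1)])

def tg_20 : ℕ × ℤ × List (ℕ × ℤ) := (5001, 0, [(13, 1)])

def tg_21 : ℕ × ℤ × List (ℕ × ℤ) := (4002, 0, [(25, -1)])

def tg_22 : ℕ × ℤ × List (ℕ × ℤ) := (4003, 0, [(26, -1)])

def tg_23 : ℕ × ℤ × List (ℕ × ℤ) := (4000, 0, [(4, 1)])

def tg_24 : ℕ × ℤ × List (ℕ × ℤ) := (2000, 0, [(20, -1), (21, 1)])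

def C : Cert where
  p := 2
  n := 7
  r := 3
  fuel := 17
  rules := [rule_0, rule_1, rule_2, rule_3, rule_4, rule_5, rule_6]
  defs := [(1, 0), (2, 1), (3, 2), (3, 0)]
  items := [item_0, item_1, item_2]
  ovs := [ov_0, ov_1, ov_2, ov_3, ov_4, ov_5, ov_6, ov_7, ov_8, ov_9, ov_10, ov_11, ov_12, ov_13]
  frs := [fr_0, fr_1, fr_2, fr_3, fr_4, fr_5, fr_6, fr_7, fr_8]
  k0 := 1000
  zm := 1
  zcomb := [(0, 1)]
  targets := [tg_0, tg_1, tg_2, tg_3, tg_4, tg_5, tg_6, tg_7, tg_8, tg_9, tg_10, tg_11, tg_12, tg_13, tg_14, tg_15, tg_16, tg_17, tg_18, tg_19, tg_20, tg_21, tg_22, tg_23, tg_24]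

def codes : List ℕ := [965867841121813639842978002575710368, 964074389745228867356999827045463216, 961267113370278030331189732634708576, 974985066141162058461933166572252192, 967325647939042215147529412265752736, 963559745903778623359417332224538656, 967323392335001944357420755179412512]

def conj : List ℕ := [977832776253331742990160652830626316, 965874474151892938455468305712091312, 959453381886206908617888920937628896]

def base : List ℕ := [2, 3]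

def ord : List ℕ := [25, 5, 59, 43, 21, 9, 39, 55, 0, 60, 44, 30, 50, 16, 14, 34, 124, 64, 80, 98, 78, 108, 114, 94, 106, 118, 122, 84, 68, 102, 88, 72, 69, 89, 103, 119, 73, 85, 123, 107, 117, 105, 11, 27, 121, 101, 23, 7, 90, 70, 74, 56, 40, 86, 52, 36, 79, 115, 109, 65, 95, 99, 81, 125, 3, 63, 93, 113, 19, 47, 97, 77, 41, 53, 87, 71, 37, 57, 75, 91, 76, 112, 96, 46, 2, 92, 62, 18, 48, 12, 28, 82, 126, 32, 66, 110, 127, 67, 33, 13, 111, 83, 29, 49, 51, 15, 17, 61, 35, 31, 45, 1, 54, 42, 38, 8, 24, 58, 4, 20, 6, 26, 22, 100, 116, 10, 104, 120]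

theorem check_ok : C.check = true := by decide +kernel

theorem chk_ok : chkG C codes conj base ord = true := by decide +kernel

end Cfsg.Agent.Lib.Schur.Cert.M23p2
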