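import Cfsg.Agent.Lib.Schur.PcGolay

/-!
# A tail certificate for a Sylow subgroup of a Mathieu group
-/

set_option autoImplicit false
set_option maxRecDepth 100000
set_option maxHeartbeats 0

namespace Cfsg.Agent.Lib.Schur.Cert.M23p3

open Cfsg.Agent.Lib.Schur.PcMain Cfsg.Agent.Lib.Schur.PcGolay

def rule_0 : List (List ℕ) := [[]]

def rule_1 : List (List ℕ) := [[1], []]

def item_0 : List (List ℕ) × List (List ℕ) := ([[0], [1]], [[0], [1, 1]])

def fr_0 : ℕ × List ℕ × List ℕ × List (ℕ × ℤ) := (0, [1, 0], [0, 1], [(1000, 1)])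

def tg_0 : ℕ × ℤ × List (ℕ × ℤ) := (1000, 0, [(0, 1)])

def C : Cert where
  p := 3
  n := 2
  r := 2
  fuel := 4
  rules := [rule_0, rule_1]
  defs := []
  items := [item_0]
  ovs := []
  frs := [fr_0]
  k0 := 1000
  zm := 1
  zcomb := [(0, 1)]
  targets := [tg_0]

def codes : List ℕ := [984080454272371590236395799266428082, 980353261087205202513940045814727852]

def conj : List ℕ := [980249744221753741051061037351116462]

def base : List ℕ := [0]

def ord : List ℕ := [0, 2, 5, 3, 6, 8, 4, 1, 7]

theorem check_ok : C.check = true := by decide +kernel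

theorem chk_ok : chkG C codes conj base ord = true := by decide +kernel

end Cfsg.Agent.Lib.Schur.Cert.M23p3
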