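import Cfsg.Agent.Lib.Schur.PcBase
import Cfsg.Agent.Lib.Schur.PcSplit
import Cfsg.Agent.Lib.TC.D.Fi22Chain.Lev

/-!
# A tail certificate for a Sylow subgroup, with words in the columns of a table
-/

set_option autoImplicit false
set_option maxRecDepth 100000
set_option maxHeartbeats 0
set_option Elab.async false

namespace Cfsg.Agent.Lib.Schur.Cert.Fi22p2

open Cfsg.Agent.Lib.Schur.PcMain Cfsg.Agent.Lib.Schur.PcBase Cfsg.Agent.Lib.Schur.PcCert Cfsg.Agent.Lib.Schur.PcSplit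

def rule_0 : List (List ℕ) := [[7, 13, 15]]

def rule_1 : List (List ℕ) := [[1, 4], [6, 7, 8, 10, 14]]

def rule_2 : List (List ℕ) := [[2, 4, 7, 8, 9, 10, 11, 13, 14, 15], [2, 5], [8, 9, 10, 12, 13, 14, 15, 16]]

def rule_3 : List (List ℕ) := [[3, 9], [3, 6], [3, 5, 9, 10, 15], [7, 9, 10, 12]]

def rule_4 : List (List ℕ) := [[4, 10], [4, 7], [4, 10, 14, 16], [4, 7, 11, 13, 15, 16], [12, 16]]

def rule_5 : List (List ℕ) := [[5, 7, 9, 10, 11, 15], [5, 8], [5, 12], [5, 9, 10, 15, 16], [5, 11], [9, 10, 11, 14, 15, 16]]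

def rule_6 : List (List ℕ) := [[6, 7, 10, 11, 12, 14, 15, 16], [6, 9, 11, 12, 13, 14, 16], [6, 8, 9, 10, 12, 13, 15], [6, 10, 13, 15, 16], [6, 10, 14, 15, 16], [6, 9, 10, 11, 15], [14, 16]]

def rule_7 : List (List ℕ) := [[7, 16], [7, 10, 12], [7, 11, 13, 14], [7, 13], [7, 14], [7, 13, 14, 15, 16], [7, 14], [16]]

def rule_8 : List (List ℕ) := [[8, 10, 11], [8, 9, 10, 11, 13, 16], [8, 14, 16], [8, 9, 10, 11, 12, 13, 16], [8, 12, 15], [8, 15], [8, 14, 15], [8, 14, 15], [15, 16]]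

def rule_9 : List (List ℕ) := [[9, 13], [9, 12, 13, 14, 16], [9, 12, 14], [9, 13, 14, 15], [9, 15], [9, 14, 15, 16], [9, 14, 15, 16], [9], [9, 16], []]

def rule_10 : List (List ℕ) := [[10, 14], [10, 14, 15], [10, 12], [10], [10, 15, 16], [10, 14, 16], [10, 16], [10, 16], [10, 15, 16], [10, 16], []]

def rule_11 : List (List ℕ) := [[11, 15], [11, 12, 13, 16], [11, 14], [11, 13, 14], [11, 15, 16], [11, 15], [11, 14, 15], [11, 16], [11, 15], [11, 16], [11, 16], [16]]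

def rule_12 : List (List ℕ) := [[12, 15, 16], [12, 14, 16], [12, 15], [12, 14, 15], [12], [12, 15], [12, 15], [12, 16], [12], [12], [12], [12], []]

def rule_13 : List (List ℕ) := [[13], [13, 16], [13, 16], [13], [13], [13], [13], [13], [13], [13], [13], [13], [13], []]

def rule_14 : List (List ℕ) := [[14, 16], [14, 15, 16], [14, 15], [14, 16], [14, 16], [14], [14], [14], [14], [14], [14], [14], [14], [14], []]

def rule_15 : List (List ℕ) := [[15, 16], [15], [15], [15], [15], [15], [15], [15], [15], [15], [15], [15], [15], [15], [15], []]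

def rule_16 : List (List ℕ) := [[16], [16], [16], [16], [16], [16], [16], [16], [16], [16], [16], [16], [16], [16], [16], [16], []]

def item_0 : List (List ℕ) × List (List ℕ) := ([[0, 4, 5, 7, 8, 9, 12, 13, 14, 15, 16], [1, 3, 4, 5, 8, 13, 14, 16], [3, 4, 5, 6, 7, 9, 10, 11, 12, 13, 14, 16], [4, 10, 12, 16], [5, 6, 8, 9, 10, 12, 14], [6, 7, 9, 11, 12, 13, 15, 16], [7, 12, 14], [8, 9, 11, 13, 14, 15], [9, 10, 11, 14, 16], [10, 11, 12, 15, 16], [11, 16], [12, 14, 15], [13, 16], [14, 15, 16], [15], [16]], [[0, 4, 5, 7, 8, 9, 10, 11, 12], [1, 3, 4, 5, 8, 13, 14], [3, 4, 7, 8, 9, 10, 14, 15], [4, 6, 9, 10, 13], [3, 4, 5, 6, 7, 9, 10, 11, 12, 13], [8], [7, 10, 11, 12, 13, 15], [6, 7, 8, 9, 11, 16], [9, 10, 11, 14, 16], [7, 9, 11, 14, 15], [7, 9, 10, 11, 14, 15], [10, 12], [13, 16], [14, 15, 16], [15], [16]])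

def item_1 : List (List ℕ) × List (List ℕ) := ([[0, 4, 5, 7, 8, 9, 12, 13, 14, 15, 16], [1, 2, 3, 5, 9, 11, 13, 15], [3, 4, 5, 6, 7, 9, 10, 11, 12, 13, 14, 16], [4, 10, 12, 16], [5, 6, 8, 9, 10, 12, 14], [6, 7, 9, 11, 12, 13, 15, 16], [7, 12, 14], [8, 9, 11, 13, 14, 15], [9, 10, 11, 14, 16], [10, 11, 12, 15, 16], [11, 16], [12, 14, 15], [13, 16], [14, 15, 16], [15], [16]], [[0, 5, 11, 13, 14, 15], [1, 2, 3, 6, 8, 10, 11, 13, 14, 15], [3, 4, 5, 8, 10, 12, 14], [0, 4, 6, 9, 10, 11, 12, 13, 16], [5, 6, 9, 12, 14, 16], [3, 4, 8, 9, 10, 12, 15, 16], [7, 10, 13], [5, 6, 8, 9, 10, 12, 13], [9, 10, 11, 14, 16], [12, 14], [7, 9, 10, 11, 13, 14, 15, 16], [10, 11, 15], [13, 16], [13, 15, 16], [13, 14], [16]])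

def item_2 : List (List ℕ) × List (List ℕ) := ([[1, 2, 3, 5, 9, 11, 13, 15], [2, 4, 6, 11, 14, 15, 16], [3, 4, 5, 6, 7, 9, 10, 11, 12, 13, 14, 16], [4, 10, 12, 16], [5, 6, 8, 9, 10, 12, 14], [6, 7, 9, 11, 12, 13, 15, 16], [7, 12, 14], [8, 9, 11, 13, 14, 15], [9, 10, 11, 14, 16], [10, 11, 12, 15, 16], [11, 16], [12, 14, 15], [13, 16], [14, 15, 16], [15], [16]], [[1, 2, 3, 5, 9, 11, 12, 13, 14, 16], [2, 4, 6, 8, 10, 11, 13], [3, 4, 5, 8, 9, 10, 11, 13, 14], [1, 3, 5, 10, 11, 12, 13, 14, 15, 16], [5, 6, 9, 13, 14, 16], [6, 7, 10, 12, 16], [6, 8, 9, 11, 12, 13, 15, 16], [8, 10, 14], [13, 14, 16], [8, 11, 12, 13, 14], [8, 10, 11, 13, 14, 16], [12, 14, 16], [9, 10, 11, 16], [14, 15, 16], [16], [15]])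

def item_3 : List (List ℕ) × List (List ℕ) := ([[0, 4, 5, 7, 8, 9, 12, 13, 14, 15, 16], [1, 2, 3, 5, 9, 11, 13, 15], [2, 4, 5, 6, 7, 9, 11, 15], [4, 10, 12, 16], [5, 6, 8, 9, 10, 12, 14], [7, 12, 14], [8, 9, 11, 13, 14, 15], [9, 10, 11, 14, 16], [10, 11, 12, 15, 16], [11, 16], [12, 14, 15], [13, 16], [14, 15, 16], [15], [16]], [[7, 9, 11, 16], [9, 10, 11, 13, 14, 16], [2, 4, 5, 6, 7, 8, 9, 10, 11, 13, 16], [0, 1, 2, 3, 4, 9, 10, 13, 14, 15], [5, 6, 9, 10, 11, 12, 14, 15], [0, 1, 2, 3, 7, 9, 11, 14, 15, 16], [8, 9, 11, 12, 13, 15], [1, 2, 3, 5, 8, 9, 10, 11, 13, 16], [10, 11, 12, 14, 15, 16], [4, 7, 8, 9, 12, 14, 15, 16], [12, 14, 16], [13, 16], [10, 11, 13, 14, 16], [12, 14, 15], [16]])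

def ov_0 : List ℕ × ℕ × ℕ × List (ℕ × ℤ) := ([2, 1, 0], 0, 1, [(4001, -1), (4002, 1), (5000, 1), (5004, -2), (7001, -1), (7005, 1), (8001, -1), (8004, -1), (8005, 1), (8007, 1), (9001, -1), (9005, 1), (9007, 1), (10001, -1), (10007, 1), (11001, -1), (11004, -1), (11005, 1), (11007, -1), (11008, -2), (11010, -2), (11011, -1), (12004, -1), (12007, 2), (12008, -1), (12010, 2), (12012, -2), (13001, -1), (13005, 1), (13008, 1), (13011, 1), (13013, -1), (14001, -1), (14007, 1), (14008, 2), (14009, 4), (14010, 1), (14011, 3), (14012, 1), (14013, 1), (14014, 1), (15001, -1), (15004, -1), (15005, 1), (15007, 1), (15008, 1), (15009, 2), (15012, -1), (15013, -1), (16004, 1), (16005, -1), (16007, -1), (16008, 1), (16009, 3), (16010, -3), (16011, -4), (16013, -2), (16014, 4), (16015, 3), (16016, -2)])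

def ov_1 : List ℕ × ℕ × ℕ × List (ℕ × ℤ) := ([3, 1, 0], 0, 1, [(4003, 1), (6000, 1), (6004, -1), (7006, 1), (7007, 1), (9001, -1), (9004, -1), (9006, 1), (9007, 1), (10009, -1), (11006, 1), (11007, 1), (11009, 1), (11010, 1), (11011, 1), (12004, -1), (13004, -1), (13006, 1), (13007, 1), (13009, 1), (13010, 1), (13011, 1), (13012, 1), (14004, -1), (14007, 1), (14010, 1), (14011, 1), (14014, 1), (15006, 1), (15007, 1), (15010, 1), (15011, 2), (15012, 1), (15014, 2), (15015, 1), (16004, -1), (16007, 1), (16009, 1), (16010, 1), (16011, 2), (16012, 1), (16013, 4), (16014, 3), (16015, 5), (16016, 2)])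

def ov_2 : List ℕ × ℕ × ℕ × List (ℕ × ℤ) := ([3, 2, 1], 0, 1, [(5001, 1), (5003, 1), (6002, -1), (8005, -1), (9001, 1), (9005, 1), (10001, 1), (10005, 1), (12005, -1), (12010, 1), (13005, -1), (13010, 1), (14008, -2), (14012, -2), (14013, -2), (14014, 2), (15001, 1), (15008, 1), (15009, -1), (15012, -2), (15013, -1), (15014, 1), (16006, 1), (16008, -1), (16009, 1), (16010, -1), (16012, -1), (16013, -1), (16014, 1), (16015, -3), (16016, 2)])

def ov_3 : List ℕ × ℕ × ℕ × List (ℕ × ℤ) := ([4, 1, 0], 0, 1, [(7000, 1), (7004, -1), (10001, -1), (10004, -1), (10007, 1), (14004, -1), (14010, -1), (14014, -1), (15004, -1), (15014, -1), (15015, -1), (16010, 1), (16012, 1), (16014, -1)])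

def ov_4 : List ℕ × ℕ × ℕ × List (ℕ × ℤ) := ([4, 2, 1], 0, 1, [(5004, 1), (7002, -1), (7005, -1), (10001, 1), (10005, -1), (10007, -1), (11005, -1), (11007, 1), (11010, 1), (13005, -1), (13010, -1), (13011, -1), (13013, -1), (14001, 1), (14007, -1), (14010, -1), (14011, -1), (14013, -1), (14014, -1), (15010, -1), (15011, -1), (16001, 1), (16007, -1), (16014, -2)])

def ov_5 : List ℕ × ℕ × ℕ × List (ℕ × ℤ) := ([4, 3, 0], 0, 1, [(7000, 1), (9004, 1), (9007, 1), (10003, -1), (10007, 1), (10009, -1), (11000, 1), (11009, -1), (11010, -1), (13000, 1), (13009, -1), (13010, -1), (15000, 1), (15007, 1), (15009, -1), (15011, 1), (15015, 1), (16000, 1), (16010, -1), (16011, -1), (16013, -1)])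

def ov_6 : List ℕ × ℕ × ℕ × List (ℕ × ℤ) := ([4, 3, 1], 0, 1, [(6004, 1), (7001, 1), (7003, -1), (10007, 2), (10010, 1), (11001, 1), (11006, -1), (11007, -1), (12011, 1), (12012, 1), (13001, 1), (13007, -1), (14007, 2), (14010, 1), (14011, 1), (14012, 2), (14013, 2), (15001, 1), (15006, -1), (15007, 1), (15010, 1), (15011, 1), (15012, 2), (15013, 1), (16001, 1), (16006, -1), (16010, 1), (16011, -1), (16014, 1), (16015, 1), (16016, 2)])

def ov_7 : List ℕ × ℕ × ℕ × List (ℕ × ℤ) := ([5, 1, 0], 0, 1, [(5004, -1), (7001, -1), (7004, -1), (8000, 1), (8004, -1), (8007, -1), (9001, -1), (9004, -1), (9008, 1), (10001, -1), (10008, 1), (10009, -1), (11001, -1), (11004, -1), (11007, -1), (11009, -1), (11010, 1), (12004, -1), (12009, -2), (12011, -1), (12012, -2), (13010, -1), (13011, -1), (13012, -1), (13013, -1), (14004, -1), (14008, -1), (14009, -2), (14010, -1), (14011, -2), (14012, -5), (14013,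 -2), (14014, -2), (15001, -1), (15004, -1), (15008, 1), (15009, -1), (15010, -1), (15011, 1), (15012, -3), (15013, -1), (15014, -3), (15015, -2), (16004, -1), (16008, -1), (16009, -1), (16010, 1), (16011, 1), (16012, -5), (16013, -1), (16014, -5), (16015, -3), (16016, -2)])

def ov_8 : List ℕ × ℕ × ℕ × List (ℕ × ℤ) := ([5, 2, 1], 0, 1, [(8002, -1), (8005, -1), (12001, 1), (12005, -1), (12008, -1), (14005, -1), (15012, 1), (15015, -1), (16005, -1), (16015, -2)])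

def ov_9 : List ℕ × ℕ × ℕ × List (ℕ × ℤ) := ([5, 3, 1], 0, 1, [(6005, 1), (8003, -1), (8006, -1), (9001, 1), (10001, 1), (11006, -1), (11008, 1), (11009, 1), (11010, 1), (12006, -1), (12010, 1), (13006, -1), (13010, 1), (14010, 1), (14011, -1), (15001, 1), (15009, 1), (15010, 1), (15012, 1), (15014, 1), (16001, 1), (16006, -1), (16008, -1), (16009, -1), (16010, 1), (16011, 1), (16012, 1), (16013, 1), (16014, 1), (16015, 1), (16016, 1)])

def ov_10 : List ℕ × ℕ × ℕ × List (ℕ × ℤ) := ([5, 3, 2], 0, 1, [(9002, 1), (10002, 1), (12003, -1), (12005, -1), (12010, -1), (12012, 1), (14005, -1), (14009, 1), (14012, 1), (15002, 1), (15005, 1), (15012, 2), (15014, -1), (15015, -1), (16002, 1), (16005, -1), (16009, -1), (16010, 1), (16012, -1), (16014, 1), (16015, -2)])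

def ov_11 : List ℕ × ℕ × ℕ × List (ℕ × ℤ) := ([5, 4, 1], 0, 1, [(7005, 1), (8004, -1), (8007, -1), (11001, 1), (11007, -1), (11008, -1), (12007, -1), (13008, 1), (13011, 1), (13012, 1), (13013, 1), (14008, 1), (14013, 1), (15008, 1), (15012, -1), (15013, 1), (15015, -1), (16008, 1), (16011, 1), (16013, 1)])

def ov_12 : List ℕ × ℕ × ℕ × List (ℕ × ℤ) := ([5, 4, 2], 0, 1, [(10005, 1), (11002, 1), (11010, -1), (12004, -1), (12010, -1), (12011, 1), (14005, 1), (14014, 1), (16005, 1), (16012, -1)])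

def ov_13 : List ℕ × ℕ × ℕ × List (ℕ × ℤ) := ([6, 4, 2], 0, 1, [(8004, -1), (9004, -1), (10002, 1), (10004, -1), (10006, 1), (12004, -1), (12009, -1), (13004, -1), (13012, 1), (14002, 1), (14006, 1), (15002, 1), (15004, -1), (15008, -1), (15010, 1), (15015, -1), (16002, 1), (16006, 1), (16008, -1), (16009, 1), (16010, -1), (16012, -1), (16014, 1), (16015, -3)])

def ov_14 : List ℕ × ℕ × ℕ × List (ℕ × ℤ) := ([6, 5, 3], 0, 1, [(9003, 1), (9006, 1), (10003, 1), (10005, -1), (10006, 1), (11003, 1), (11009, -1), (11010, -2), (13005, -1), (13010, -1), (13013, 1), (14010, 1), (14013, 1), (14014, 1), (15003, 1), (15005, -1), (15006, 1), (15009, 1), (15015, 1), (16005, -1), (16006, 1), (16009, -1), (16010, 2), (16013, -1), (16014, -3), (16015, -1), (16016, -1)])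

def ov_15 : List ℕ × ℕ × ℕ × List (ℕ × ℤ) := ([7, 1, 0], 0, 1, [(7004, -1), (10000, 1), (10004, -1), (12000, 1), (12004, -1), (14010, -1), (15012, -1), (16001, -1), (16004, -1), (16010, 1), (16014, 1), (16015, 1)])

def ov_16 : List ℕ × ℕ × ℕ × List (ℕ × ℤ) := ([7, 3, 0], 0, 1, [(9007, 1), (13000, 1), (13009, -1), (16003, -1), (16009, -1), (16013, 1)])

def ov_17 : List ℕ × ℕ × ℕ × List (ℕ × ℤ) := ([7, 3, 2], 0, 1, [(7005, -1), (9007, 1), (10007, 1), (11003, -1), (11005, -1), (11009, -1), (11010, -1), (13002, 1), (13003, -1), (13005, -1), (13011, -2), (13013, -1), (14003, -1), (14009, -1), (14010, -1), (14011, -1), (14013, -1), (14014, -1), (15007, 1), (15013, 2), (15014, 1), (15015, -1), (16005, -1), (16010, -1), (16013, 1), (16014, -1), (16016, -1)])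

def ov_18 : List ℕ × ℕ × ℕ × List (ℕ × ℤ) := ([7, 4, 0], 0, 1, [(10007, 1), (14000, 1), (14010, -1), (16004, -1), (16010, -1), (16016, 1)])

def ov_19 : List ℕ × ℕ × ℕ × List (ℕ × ℤ) := ([7, 4, 2], 0, 1, [(10007, 1), (11004, -1), (11010, -1), (13004, -1), (13010, -1), (14002, 1), (14004, -1), (14007, 1), (15010, -1), (15013, -1), (15014, -2), (16007, 1), (16013, -2), (16014, -1), (16015, -1), (16016, -1)])

def ov_20 : List ℕ × ℕ × ℕ × List (ℕ × ℤ) := ([7, 5, 1], 0, 1, [(8007, 1), (10005, -1), (10008, -1), (12005, -1), (12008, -1), (13001, 1), (13008, -1), (13010, -1), (13012, -1), (14001, 1), (14012, 1), (14013, 1), (15001, 1), (15012, -1), (16001, 1), (16010, -1), (16012, -1), (16013, -1), (16015, 1)])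

def ov_21 : List ℕ × ℕ × ℕ × List (ℕ × ℤ) := ([7, 5, 2], 0, 1, [(11005, -1), (12007, 1), (12011, 1), (13002, 1), (13005, -1), (13011, -1), (14002, 1), (14005, -1), (14011, -1), (15002, 1), (15011, -1), (16002, 1), (16012, -1), (16013, 1), (16015, -1), (16016, 1)])

def ov_22 : List ℕ × ℕ × ℕ × List (ℕ × ℤ) := ([8, 3, 0], 0, 1, [(9000, 1), (9008, 1), (10000, 1), (10003, -1), (10009, 1), (11000, 1), (11003, -1), (11009, 1), (12000, 1), (12009, -1), (12010, -1), (12011, -1), (13000, 1), (13012, 1), (14009, -1), (14011, 1), (14012, 1), (14013, 1), (15012, 1), (15015, 1), (16000, 1), (16010, 1), (16011, 2), (16012, -1), (16015, 2), (16016, 2)])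

def ov_23 : List ℕ × ℕ × ℕ × List (ℕ × ℤ) := ([8, 3, 1], 0, 1, [(8006, -1), (9001, 1), (9003, -1), (10001, 1), (10003, -1), (11001, 1), (11003, -1), (12001, 1), (12006, -1), (12009, -1), (12012, 1), (13001, 1), (13003, -1), (13012, 2), (14011, -1), (14012, -1), (15006, -1), (15010, -1), (15012, 1), (15015, -1), (16001, 1), (16003, -1), (16010, -1), (16011, 1), (16012, 2), (16013, -2), (16015, -1), (16016, 2)])

def ov_24 : List ℕ × ℕ × ℕ × List (ℕ × ℤ) := ([8, 4, 2], 0, 1, [(10008, 1), (12002, 1), (12010, -1), (14004, -1), (14008, 1), (14010, -1), (15002, 1), (15010, -1), (15012, 1), (15015, 1), (16004, -1), (16008, 1), (16012, 1), (16014, 1), (16015, 2)])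

def ov_25 : List ℕ × ℕ × ℕ × List (ℕ × ℤ) := ([8, 5, 2], 0, 1, [(12008, 1), (14005, -1), (14012, -1), (15002, 1), (15012, -1), (15014, -1), (16005, -1), (16012, -1), (16015, 1)])

def ov_26 : List ℕ × ℕ × ℕ × List (ℕ × ℤ) := ([8, 5, 4], 0, 1, [(11008, 1), (12005, -1), (12011, -1), (15004, 1), (15005, -1), (15011, -1)])

def ov_27 : List ℕ × ℕ × ℕ × List (ℕ × ℤ) := ([8, 7, 4], 0, 1, [(12007, -1), (14004, 1), (14008, 1), (15004, 1), (15007, -1), (15012, -1), (15014, 1), (16014, -1)])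

def ov_28 : List ℕ × ℕ × ℕ × List (ℕ × ℤ) := ([8, 7, 6], 0, 1, [(14006, 1), (14007, -1), (14008, 1), (15006, 1), (15007, -1)])

def ov_29 : List ℕ × ℕ × ℕ × List (ℕ × ℤ) := ([9, 1, 0], 0, 1, [(9004, -1), (12000, 1), (12004, -1), (13000, 1), (13001, -1), (13012, 1), (14000, 1), (14004, -1), (14013, -1), (15012, -1), (15013, 1), (16000, 1), (16014, 1)])

def ov_30 : List ℕ × ℕ × ℕ × List (ℕ × ℤ) := ([9, 3, 0], 0, 1, [(13000, 1), (13003, -1), (14000, 1), (14009, -1), (14013, -1), (15000, 1), (15009, -1), (15013, -1), (16015, 1), (16016, 1)])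

def ov_31 : List ℕ × ℕ × ℕ × List (ℕ × ℤ) := ([9, 3, 1], 0, 1, [(9006, -1), (12003, -1), (12006, -1), (13001, 1), (13003, -1), (13012, -1), (14001, 1), (14003, -1), (14006, -1), (14012, -2), (14013, 1), (14014, -1), (15001, 1), (15012, -2), (15014, -1), (15015, -1), (16003, -1), (16012, -1), (16013, 1), (16014, -1)])

def ov_32 : List ℕ × ℕ × ℕ × List (ℕ × ℤ) := ([9, 4, 0], 0, 1, [(10009, 1), (13004, -1), (13010, -1), (15000, 1), (15010, -1), (15013, -1), (16013, 1), (16015, 1), (16016, 1)])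

def ov_33 : List ℕ × ℕ × ℕ × List (ℕ × ℤ) := ([9, 7, 0], 0, 1, [(13007, -1), (16009, 1), (16013, 1)])

def ov_34 : List ℕ × ℕ × ℕ × List (ℕ × ℤ) := ([9, 7, 3], 0, 1, [(13007, -1), (13009, 1), (14007, -1), (14013, -1), (15007, -1), (15013, -1)])

def ov_35 : List ℕ × ℕ × ℕ × List (ℕ × ℤ) := ([9, 7, 4], 0, 1, [(14009, 1), (15007, -1), (15014, -1)])

def ov_36 : List ℕ × ℕ × ℕ × List (ℕ × ℤ) := ([9, 8, 0], 0, 1, [(10009, 1), (11009, 1), (13008, -1), (13010, -1), (13011, -1), (16000, 1), (16010, -1), (16013, -1), (16016, 1)])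

def ov_37 : List ℕ × ℕ × ℕ × List (ℕ × ℤ) := ([9, 8, 2], 0, 1, [(12008, -1), (14008, -1), (14009, 1), (14012, 1), (16002, 1), (16009, 1), (16014, -1)])

def ov_38 : List ℕ × ℕ × ℕ × List (ℕ × ℤ) := ([10, 1, 0], 0, 1, [(10004, -1), (14000, 1), (14001, -1), (15000, 1), (15014, -1), (15015, -1), (16004, -1), (16015, 1)])

def ov_39 : List ℕ × ℕ × ℕ × List (ℕ × ℤ) := ([10, 2, 1], 0, 1, [(10005, -1), (12001, 1), (12005, -1), (14002, -1), (14005, -1), (15002, -1), (15012, 1), (15015, -1), (16012, -1), (16014, -1), (16015, -1)])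

def ov_40 : List ℕ × ℕ × ℕ × List (ℕ × ℤ) := ([10, 3, 0], 0, 1, [(10009, -1), (14003, -1), (14009, -1), (16009, -1), (16014, -1), (16016, -1)])

def ov_41 : List ℕ × ℕ × ℕ × List (ℕ × ℤ) := ([10, 3, 1], 0, 1, [(10006, -1), (14003, -1), (14006, -1), (15003, -1), (15006, -1), (16006, -1), (16014, -1), (16015, -2), (16016, -1)])

def ov_42 : List ℕ × ℕ × ℕ × List (ℕ × ℤ) := ([10, 3, 2], 0, 1, [(10005, -1), (10009, -1), (12003, -1), (12005, -1), (12009, -1), (12010, -1), (14005, -1), (14012, -1), (14014, -1), (15005, -1), (15010, 1), (15012, 1), (15014, -1), (15015, -1), (16009, -1), (16012, -2), (16014, -1), (16015, -2), (16016, -1)])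

def ov_43 : List ℕ × ℕ × ℕ × List (ℕ × ℤ) := ([10, 4, 0], 0, 1, [(14004, -1), (14010, -1), (15000, 1), (15010, -1), (15014, -1), (16000, 1), (16014, -1)])

def ov_44 : List ℕ × ℕ × ℕ × List (ℕ × ℤ) := ([10, 4, 1], 0, 1, [(10007, -1), (14004, -1), (14007, -1), (15001, 1), (15004, -1), (15014, -1), (16001, 1), (16014, -2), (16016, -1)])

def ov_45 : List ℕ × ℕ × ℕ × List (ℕ × ℤ) := ([10, 5, 1], 0, 1, [(10008, -1), (14001, 1), (14005, -1), (15005, -1), (15008, -1), (15014, 1), (16001, 1), (16008, -1), (16014, -1), (16015, -2)])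

def ov_46 : List ℕ × ℕ × ℕ × List (ℕ × ℤ) := ([10, 5, 2], 0, 1, [(12005, -1), (12010, 1), (14002, 1), (14012, -2), (15012, -1), (16002, 1), (16012, -2), (16015, -1)])

def ov_47 : List ℕ × ℕ × ℕ × List (ℕ × ℤ) := ([10, 5, 3], 0, 1, [(10009, -1), (14003, 1), (14009, -1), (14010, -1), (15010, 1), (15014, 1), (16003, 1), (16009, -1), (16010, 1)])

def ov_48 : List ℕ × ℕ × ℕ × List (ℕ × ℤ) := ([10, 5, 4], 0, 1, [(11010, 1), (14004, 1), (14011, -1), (15005, -1), (15011, -1), (15014, 1), (16004, 1), (16005, -1), (16016, 1)])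

def ov_49 : List ℕ × ℕ × ℕ × List (ℕ × ℤ) := ([10, 7, 0], 0, 1, [(14007, -1), (16000, 1), (16010, 1)])

def ov_50 : List ℕ × ℕ × ℕ × List (ℕ × ℤ) := ([10, 7, 3], 0, 1, [(13010, 1), (16003, 1), (16013, -1)])

def ov_51 : List ℕ × ℕ × ℕ × List (ℕ × ℤ) := ([11, 1, 0], 0, 1, [(11004, -1), (12000, 1), (12004, -1), (13000, 1), (13004, -1), (15001, -1), (15004, -1), (15013, -1), (16000, 1), (16004, -1), (16012, -1), (16015, -2)])

def ov_52 : List ℕ × ℕ × ℕ × List (ℕ × ℤ) := ([11, 3, 1], 0, 1, [(11006, -1), (12003, -1), (12006, -1), (13001, 1), (13003, -1), (13012, -1), (14001, 1), (14012, -2), (14014, -1), (15006, -1), (15012, -1), (15013, -1), (15015, -1), (16003, -1), (16006, -1), (16013, 1), (16016, 1)])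

def ov_53 : List ℕ × ℕ × ℕ × List (ℕ × ℤ) := ([11, 5, 0], 0, 1, [(11007, -1), (11009, -1), (11010, -1), (15000, 1), (15005, -1), (15011, 1), (16009, -1), (16011, -1), (16015, 3), (16016, -1)])

def ov_54 : List ℕ × ℕ × ℕ × List (ℕ × ℤ) := ([11, 5, 2], 0, 1, [(12011, 1), (14005, -1), (14012, -1), (15002, 1), (15012, -1), (15014, -1)])

def ov_55 : List ℕ × ℕ × ℕ × List (ℕ × ℤ) := ([11, 5, 4], 0, 1, [(15004, 1), (15005, -1), (16005, -1), (16011, -1), (16015, 1)])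

def ov_56 : List ℕ × ℕ × ℕ × List (ℕ × ℤ) := ([11, 7, 0], 0, 1, [(15007, -1), (16000, 1), (16011, 1)])

def ov_57 : List ℕ × ℕ × ℕ × List (ℕ × ℤ) := ([11, 7, 2], 0, 1, [(13011, 1), (14007, -1), (14013, -1), (16002, 1), (16011, -1), (16013, 1)])

def ov_58 : List ℕ × ℕ × ℕ × List (ℕ × ℤ) := ([11, 8, 0], 0, 1, [(11010, -1), (15000, 1), (15008, -1), (16011, -1), (16015, 2)])

def ov_59 : List ℕ × ℕ × ℕ × List (ℕ × ℤ) := ([11, 8, 4], 0, 1, [(12011, 1), (15004, 1), (15008, -1), (15011, 1), (16008, -1), (16012, -1)])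

def ov_60 : List ℕ × ℕ × ℕ × List (ℕ × ℤ) := ([11, 8, 6], 0, 1, [(14008, -1), (14011, 1), (15006, 1), (15008, -1), (15011, 1)])

def ov_61 : List ℕ × ℕ × ℕ × List (ℕ × ℤ) := ([11, 9, 8], 0, 1, [(15009, -1), (16008, 1), (16011, 1)])

def ov_62 : List ℕ × ℕ × ℕ × List (ℕ × ℤ) := ([12, 3, 1], 0, 1, [(12006, -1), (14001, 1), (14003, -1), (15001, 1), (15006, -1), (15014, -1), (16003, -1), (16014, 1), (16015, 1)])

def ov_63 : List ℕ × ℕ × ℕ × List (ℕ × ℤ) := ([12, 4, 0], 0, 1, [(12010, -1), (15004, -1), (15010, -1), (16004, -1), (16010, -1)])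

def ov_64 : List ℕ × ℕ × ℕ × List (ℕ × ℤ) := ([12, 4, 1], 0, 1, [(12007, -1), (14004, -1), (14007, -1), (16004, -1), (16014, -1), (16016, -1)])

def ov_65 : List ℕ × ℕ × ℕ × List (ℕ × ℤ) := ([12, 5, 1], 0, 1, [(12008, -1), (14005, -1), (14008, -1), (15001, 1), (15008, -1), (15014, -1), (16005, -1), (16008, -1), (16015, 1)])

def ov_66 : List ℕ × ℕ × ℕ × List (ℕ × ℤ) := ([12, 5, 2], 0, 1, [(15002, 1), (15005, -1)])

def ov_67 : List ℕ × ℕ × ℕ × List (ℕ × ℤ) := ([12, 5, 4], 0, 1, [(12011, -1), (15004, 1), (15011, -1)])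

def ov_68 : List ℕ × ℕ × ℕ × List (ℕ × ℤ) := ([12, 6, 5], 0, 1, [(12009, -1), (12010, -1), (12011, -1), (15005, 1), (15006, -1), (15012, 1)])

def ov_69 : List ℕ × ℕ × ℕ × List (ℕ × ℤ) := ([12, 7, 4], 0, 1, [(14012, 1), (16004, 1), (16014, -1)])

def ov_70 : List ℕ × ℕ × ℕ × List (ℕ × ℤ) := ([12, 8, 4], 0, 1, [(15012, 1)])

def ov_71 : List ℕ × ℕ × ℕ × List (ℕ × ℤ) := ([12, 9, 7], 0, 1, [(16009, -1)])

def ov_72 : List ℕ × ℕ × ℕ × List (ℕ × ℤ) := ([12, 9, 8], 0, 1, [(16012, 1)])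

def ov_73 : List ℕ × ℕ × ℕ × List (ℕ × ℤ) := ([12, 10, 2], 0, 1, [(15010, -1), (15012, -1)])

def ov_74 : List ℕ × ℕ × ℕ × List (ℕ × ℤ) := ([12, 10, 3], 0, 1, [(14010, -1), (15010, -1)])

def ov_75 : List ℕ × ℕ × ℕ × List (ℕ × ℤ) := ([13, 1, 0], 0, 1, [(13004, -1), (16000, 1), (16004, -1)])

def ov_76 : List ℕ × ℕ × ℕ × List (ℕ × ℤ) := ([13, 2, 1], 0, 1, [(13005, -1), (16001, 1), (16002, -1)])

def ov_77 : List ℕ × ℕ × ℕ × List (ℕ × ℤ) := ([13, 3, 0], 0, 1, [(13009, -1)])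

def ov_78 : List ℕ × ℕ × ℕ × List (ℕ × ℤ) := ([13, 3, 1], 0, 1, [(13006, -1), (16003, -1), (16006, -1)])

def ov_79 : List ℕ × ℕ × ℕ × List (ℕ × ℤ) := ([13, 3, 2], 0, 1, [(13005, -1), (13009, -1), (13010, -1), (15013, 1), (16003, -1), (16005, -1), (16009, -1), (16010, -1), (16015, -1)])

def ov_80 : List ℕ × ℕ × ℕ × List (ℕ × ℤ) := ([13, 4, 0], 0, 1, [(13010, -1)])

def ov_81 : List ℕ × ℕ × ℕ × List (ℕ × ℤ) := ([13, 5, 1], 0, 1, [(13008, -1), (16005, -1), (16008, -1)])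

def ov_82 : List ℕ × ℕ × ℕ × List (ℕ × ℤ) := ([13, 5, 4], 0, 1, [(13011, -1)])

def ov_83 : List ℕ × ℕ × ℕ × List (ℕ × ℤ) := ([13, 7, 0], 0, 1, [(16013, 1)])

def ov_84 : List ℕ × ℕ × ℕ × List (ℕ × ℤ) := ([13, 7, 4], 0, 1, [(14013, 1)])

def ov_85 : List ℕ × ℕ × ℕ × List (ℕ × ℤ) := ([13, 8, 4], 0, 1, [(13012, -1), (15013, 1)])

def ov_86 : List ℕ × ℕ × ℕ × List (ℕ × ℤ) := ([13, 8, 5], 0, 1, [(15013, 1)])

def ov_87 : List ℕ × ℕ × ℕ × List (ℕ × ℤ) := ([14, 1, 0], 0, 1, [(14004, -1), (15000, 1), (15004, -1), (16000, 1), (16001, -1)])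

def ov_88 : List ℕ × ℕ × ℕ × List (ℕ × ℤ) := ([14, 2, 1], 0, 1, [(14005, -1), (15001, 1), (15002, -1), (16002, -1), (16005, -1), (16015, 1)])

def ov_89 : List ℕ × ℕ × ℕ × List (ℕ × ℤ) := ([14, 3, 1], 0, 1, [(14006, -1), (15003, -1), (15006, -1), (16001, 1), (16003, -1), (16015, -1)])

def ov_90 : List ℕ × ℕ × ℕ × List (ℕ × ℤ) := ([14, 4, 1], 0, 1, [(14007, -1), (15004, -1), (15007, -1), (16001, 1), (16004, -1), (16015, -1)])

def ov_91 : List ℕ × ℕ × ℕ × List (ℕ × ℤ) := ([14, 5, 4], 0, 1, [(14011, -1), (16005, -1), (16011, -1)])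

def ov_92 : List ℕ × ℕ × ℕ × List (ℕ × ℤ) := ([14, 8, 5], 0, 1, [(15014, 1)])

def ov_93 : List ℕ × ℕ × ℕ × List (ℕ × ℤ) := ([14, 9, 8], 0, 1, [(16014, 1)])

def ov_94 : List ℕ × ℕ × ℕ × List (ℕ × ℤ) := ([14, 10, 3], 0, 1, [(16010, -1)])

def ov_95 : List ℕ × ℕ × ℕ × List (ℕ × ℤ) := ([15, 1, 0], 0, 1, [(15004, -1), (16001, -1), (16004, -1)])

def ov_96 : List ℕ × ℕ × ℕ × List (ℕ × ℤ) := ([15, 2, 1], 0, 1, [(15005, -1)])

def ov_97 : List ℕ × ℕ × ℕ × List (ℕ × ℤ) := ([15, 3, 1], 0, 1, [(15006, -1)])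

def ov_98 : List ℕ × ℕ × ℕ × List (ℕ × ℤ) := ([15, 4, 1], 0, 1, [(15007, -1)])

def ov_99 : List ℕ × ℕ × ℕ × List (ℕ × ℤ) := ([15, 5, 1], 0, 1, [(15008, -1)])

def ov_100 : List ℕ × ℕ × ℕ × List (ℕ × ℤ) := ([15, 5, 4], 0, 1, [(15011, -1)])

def ov_101 : List ℕ × ℕ × ℕ × List (ℕ × ℤ) := ([15, 9, 8], 0, 1, [(16015, 1)])

def ov_102 : List ℕ × ℕ × ℕ × List (ℕ × ℤ) := ([16, 1, 0], 0, 1, [(16004, -1)])

def ov_103 : List ℕ × ℕ × ℕ × List (ℕ × ℤ) := ([16, 2, 1], 0, 1, [(16005, -1)])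

def ov_104 : List ℕ × ℕ × ℕ × List (ℕ × ℤ) := ([16, 3, 1], 0, 1, [(16006, -1)])

def ov_105 : List ℕ × ℕ × ℕ × List (ℕ × ℤ) := ([16, 4, 1], 0, 1, [(16007, -1)])

def ov_106 : List ℕ × ℕ × ℕ × List (ℕ × ℤ) := ([16, 5, 1], 0, 1, [(16008, -1)])

def ov_107 : List ℕ × ℕ × ℕ × List (ℕ × ℤ) := ([16, 5, 4], 0, 1, [(16011, -1)])

def ov_108 : List ℕ × ℕ × ℕ × List (ℕ × ℤ) := ([1, 1, 0], 0, 1, [(1000, -2), (4001, -1), (4004, -1), (6000, 1), (6004, -2), (7000, 1), (7004, -1), (8000, 1), (8004, -2), (8007, -1), (10000, 1), (10004, -1), (10008, -1), (11007, 1), (11008, 1), (11010, 1), (11011, 1), (12004, -1), (12006, -1), (12011, 1), (12012, -1), (14000, 1), (14004, -1), (14007, -1), (14010, 2), (14011, 1), (14012, -3), (14014, -1), (15004, -1), (15011, 2), (15012, -3), (15014, -2), (15015, -3), (16004, -1), (16006, -1), (16007, -1), (16008, -1), (16010, 1), (16011, 1), (16012, -1), (16014, 1), (16015,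 -4)])

def ov_109 : List ℕ × ℕ × ℕ × List (ℕ × ℤ) := ([1, 0, 0], 0, 1, [(1000, 2), (4000, 1), (4004, 1), (7001, 1), (7004, 2), (10004, 2), (10010, 1), (12004, 2), (12007, 1), (12010, 1), (12012, 1), (13001, 1), (13004, 2), (13010, 1), (14004, 1), (14010, 2), (14012, 2), (14013, 2), (14014, 1), (15001, 1), (15004, 1), (15010, 1), (15012, 2), (15013, 2), (15014, 1), (15015, 1), (16004, 1), (16007, 1), (16012, 2), (16013, 2), (16014, 1), (16015, 2), (16016, 3)])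

def ov_110 : List ℕ × ℕ × ℕ × List (ℕ × ℤ) := ([2, 2, 1], 0, 1, [(2001, -2), (5002, -1), (5005, -1), (8001, 1), (8005, -2), (9001, 1), (9005, -2), (9008, -1), (10001, 1), (10005, -2), (10008, -1), (11008, -1), (12001, 1), (12005, -1), (12010, 1), (13001, 1), (13005, -2), (13009, 1), (13013, 1), (14001, 1), (14005, -2), (14008, -1), (14009, -1), (14012, -1), (14014, -1), (15001, 1), (15005, -1), (15008, -1), (15009, -1), (15010, -1), (15011, -1), (15012, 1), (15013, -1), (15014, -2), (15015, -3), (16001, 1), (16005, -2), (16008, -1), (16010, -2), (16012, 2), (16013, 1), (16014, 2), (16015, -2), (16016, -1)])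

def ov_111 : List ℕ × ℕ × ℕ × List (ℕ × ℤ) := ([3, 3, 0], 0, 1, [(3000, -2), (7000, 1), (9000, 1), (9003, -1), (9009, -1), (10000, 1), (10009, -2), (12000, 1), (12009, -2), (13009, -1), (13010, 1), (13012, 1), (14009, -1), (14012, 1), (15009, -1), (16010, 1), (16012, -1), (16013, -1), (16014, -1), (16015, -1)])

def ov_112 : List ℕ × ℕ × ℕ × List (ℕ × ℤ) := ([3, 0, 0], 0, 1, [(3000, 2), (7003, 1), (9000, 1), (9009, 1), (13003, 1), (13013, 1), (15003, 1), (15009, 2), (15013, 1)])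

def ov_113 : List ℕ × ℕ × ℕ × List (ℕ × ℤ) := ([3, 3, 1], 0, 1, [(3001, -2), (6003, -1), (6006, -1), (7001, 1), (7006, -2), (9001, 1), (9006, -2), (10001, 1), (10006, -1), (10009, 1), (12001, 1), (12006, -2), (12009, 1), (12010, -1), (12012, 1), (13006, -1), (13010, 1), (13012, 1), (14007, -1), (14009, -1), (14010, 1), (14012, -1), (14013, -1), (14014, -1), (15006, -1), (15010, -1), (15012, -1), (15014, 1), (15015, -2), (16006, -1), (16007, -1), (16009, -1), (16010, -1), (16012, 2), (16013, 1), (16014, -1), (16015, -1), (16016, -1)])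

def ov_114 : List ℕ × ℕ × ℕ × List (ℕ × ℤ) := ([3, 3, 2], 0, 1, [(3002, -2), (5003, -1), (5005, -1), (7002, 1), (7005, -2), (9002, 1), (9003, -1), (9005, -2), (9007, -1), (9009, -2), (10002, 1), (10003, -1), (10005, -2), (10007, -1), (10009, -2), (10010, -2), (11007, -1), (11009, -1), (11010, -1), (12002, 1), (12005, -2), (12009, -3), (12010, -2), (12012, 1), (13009, -4), (13010, -3), (13012, 1), (13013, -1), (14007, -1), (14009, -2), (14010, -2), (14013, -2), (14014, -3), (15003, -1), (15007, -1), (15009, -2), (15010, -3), (15012, -1), (15013, -1), (15014, -3), (15015, -5), (16005, -1), (16007, -1), (16009, -3), (16010, -2), (16011, -2), (16012, -3), (16013, -4), (16014, -3), (16015, -8), (16016, -7)])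

def ov_115 : List ℕ × ℕ × ℕ × List (ℕ × ℤ) := ([3, 2, 2], 0, 1, [(3002, 2), (5002, 1), (5005, 1), (8003, 1), (8005, 2), (9002, 1), (9003, 1), (9005, 1), (9008, 1), (9009, 2), (10002, 1), (10003, 1), (10005, 1), (10008, 1), (10009, 2), (10010, 2), (11005, 2), (11008, 1), (11009, 3), (11010, 3), (11011, 1), (12003, 1), (12009, 2), (12010, 1), (12012, 2), (13003, 1), (13005, 2), (13009, 3), (13010, 2), (13012, 3), (13013, 1), (14003, 1), (14005, 2), (14008, 1), (14009, 2), (14010, 3), (14011, 1), (14012, 2), (14013, 1), (14014, 3), (15002, 1), (15003, 1), (15005, 1), (15008, 1), (15009, 1), (15010, 3), (15011, 3), (15012, 1), (15014, 2), (15015, 6), (16003, 1), (16008, 1), (16009, 3), (16010, 4), (16011, 2), (16012, 4), (16013, 4), (16014, 9), (16015, 12), (16016, 8)])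

def ov_116 : List ℕ × ℕ × ℕ × List (ℕ × ℤ) := ([4, 4, 0], 0, 1, [(4000, -2), (10004, -1), (10010, -1), (12000, 1), (12010, -2), (15010, -1), (16000, 1), (16010, -1), (16015, -1)])

def ov_117 : List ℕ × ℕ × ℕ × List (ℕ × ℤ) := ([4, 0, 0], 0, 1, [(4000, 2), (7004, 1), (10000, 1), (10010, 1), (13004, 1), (13010, 2), (14010, 2), (14013, 1), (14014, 1), (15004, 1), (15010, 2), (15014, 1)])

def ov_118 : List ℕ × ℕ × ℕ × List (ℕ × ℤ) := ([4, 4, 1], 0, 1, [(4001, -2), (7004, -1), (7007, -1), (12001, 1), (12007, -2), (14007, -1), (16001, 1), (16007, -1), (16012, -1), (16016, -1)])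

def ov_119 : List ℕ × ℕ × ℕ × List (ℕ × ℤ) := ([5, 5, 1], 0, 1, [(5001, -2), (8005, -1), (8008, -1), (9001, 1), (9008, -2), (10001, 1), (10008, -2), (11001, 1), (11008, -2), (12010, 1), (12011, 1), (12012, 1), (13010, 1), (13011, 1), (13012, 1), (13013, 1), (14001, 1), (14008, -2), (14010, 1), (14014, 1), (15001, 1), (15008, -1), (15009, -1), (15010, -1), (15012, 1), (15013, 1), (15015, -2), (16001, 1), (16008, -2), (16009, -1), (16012, 1), (16013, 1), (16015, -1), (16016, -1)])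

def ov_120 : List ℕ × ℕ × ℕ × List (ℕ × ℤ) := ([5, 1, 1], 0, 1, [(5001, 2), (6005, 1), (7005, 1), (8001, 1), (8005, 1), (8008, 1), (9007, 1), (9008, 3), (9009, 1), (10005, 1), (10007, 1), (10008, 1), (10010, 1), (11007, 1), (11008, 3), (11009, 1), (11010, 2), (11011, 1), (13008, 3), (13009, 1), (13010, 2), (13011, 1), (13013, 1), (14005, 1), (14008, 3), (14009, 1), (14010, 2), (14011, 1), (14013, 1), (14014, 1), (15007, 1), (15008, 2), (15009, 1), (15010, 1), (15011, 2), (15013, 2), (15014, 4), (15015, 4), (16008, 3), (16009, 1), (16010, 3), (16011, 2), (16013, 6), (16014, 6), (16015, 5), (16016, 7)])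

def ov_121 : List ℕ × ℕ × ℕ × List (ℕ × ℤ) := ([5, 5, 2], 0, 1, [(5002, -2), (9002, 1), (10002, 1), (11002, 1), (12005, -1), (12010, 1), (14002, 1), (14010, 1), (14011, 1), (14012, -1), (14014, 1), (15002, 1), (15012, -1), (16002, 1), (16012, -2), (16015, -1)])

def ov_122 : List ℕ × ℕ × ℕ × List (ℕ × ℤ) := ([5, 4, 4], 0, 1, [(5004, 2), (11004, 1), (11011, 1), (12005, 1), (12011, 2), (15011, 2), (15015, 1), (16005, 1), (16011, 2), (16012, 1), (16015, 1), (16016, 1)])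

def ov_123 : List ℕ × ℕ × ℕ × List (ℕ × ℤ) := ([6, 6, 4], 0, 1, [(6004, -2), (10006, -1), (10010, -1), (14004, 1), (14006, -1), (14010, -1), (14014, -1), (15006, -1), (15010, -1), (15014, -1), (15015, -1), (16004, 1), (16006, -1), (16010, -2), (16014, -1), (16015, -1), (16016, -1)])

def ov_124 : List ℕ × ℕ × ℕ × List (ℕ × ℤ) := ([6, 6, 5], 0, 1, [(6005, -2), (9006, -1), (9009, -1), (10006, -1), (10009, -1), (10010, -1), (11006, -1), (11009, -1), (11010, -1), (11011, -1), (14005, 1), (14009, -2), (14010, -1), (14011, -1), (14014, -1), (15006, -1), (15009, -1), (15010, -2), (15011, -2), (15014, -1), (15015, -2), (16005, 1), (16009, -2), (16010, -1), (16011, -2), (16014, -4), (16015, -6), (16016, -3)])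

def ov_125 : List ℕ × ℕ × ℕ × List (ℕ × ℤ) := ([7, 7, 0], 0, 1, [(7000, -2), (16000, 1), (16007, -1), (16016, -1)])

def ov_126 : List ℕ × ℕ × ℕ × List (ℕ × ℤ) := ([7, 7, 1], 0, 1, [(7001, -2), (10007, -1), (10010, -1), (12007, -1), (12010, -1), (12012, -1), (16001, 1), (16010, -2), (16012, -1), (16016, -1)])

def ov_127 : List ℕ × ℕ × ℕ × List (ℕ × ℤ) := ([7, 1, 1], 0, 1, [(7001, 2), (7006, -1), (8007, 1), (10001, 1), (10007, 1), (10010, 1), (12001, 1), (12010, 1), (12012, 1), (14008, -1), (14012, 1), (14014, 1), (15010, 3), (15012, 1), (15014, 2), (15015, 1), (16014, -1), (16015, 1), (16016, 1)])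

def ov_128 : List ℕ × ℕ × ℕ × List (ℕ × ℤ) := ([7, 7, 2], 0, 1, [(7002, -2), (11007, -1), (11011, -1), (13007, -1), (13011, -1), (13013, -1), (14007, -1), (14011, -1), (14013, -1), (14014, -1), (16002, 1), (16011, -1), (16013, -2), (16014, -2), (16016, -1)])

def ov_129 : List ℕ × ℕ × ℕ × List (ℕ × ℤ) := ([7, 7, 3], 0, 1, [(7003, -2), (13007, -1), (13013, -1), (16003, 1), (16013, -2)])

def ov_130 : List ℕ × ℕ × ℕ × List (ℕ × ℤ) := ([7, 3, 3], 0, 1, [(7003, 2), (9007, 1), (10007, 1), (12007, 1), (13003, 1), (13013, 1), (16012, -1), (16013, 2), (16016, 1)])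

def ov_131 : List ℕ × ℕ × ℕ × List (ℕ × ℤ) := ([7, 7, 4], 0, 1, [(7004, -2), (14007, -1), (14014, -1), (16004, 1), (16014, -2)])

def ov_132 : List ℕ × ℕ × ℕ × List (ℕ × ℤ) := ([8, 8, 0], 0, 1, [(8000, -2), (10008, -1), (10010, -1), (11008, -1), (11010, -1), (11011, -1), (15000, 1), (15010, -2), (15011, -1), (15015, -1), (16000, 1), (16010, -1), (16011, -1), (16015, -3), (16016, -1)])

def ov_133 : List ℕ × ℕ × ℕ × List (ℕ × ℤ) := ([8, 0, 0], 0, 1, [(8000, 2), (8007, -1), (10000, 1), (10010, 1), (11000, 1), (11010, 1), (11011, 1), (13008, 1), (13010, 2), (13011, 2), (14011, 1), (14013, -1), (15008, 1), (15010, 2), (15011, 2), (15013, -1), (15014, 1), (16011, 1), (16013, 2), (16014, 2), (16015, 2), (16016, 1)])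

def ov_134 : List ℕ × ℕ × ℕ × List (ℕ × ℤ) := ([8, 8, 5], 0, 1, [(8005, -2), (15005, 1), (15008, -1), (15015, -1), (16005, 1), (16015, -2)])

def ov_135 : List ℕ × ℕ × ℕ × List (ℕ × ℤ) := ([8, 5, 5], 0, 1, [(8005, 2), (9008, 1), (10008, 1), (11008, 1), (14008, 1), (15005, 1), (15008, 1), (15011, 1), (15015, 2), (16008, 1), (16010, 1), (16015, 3), (16016, 1)])

def ov_136 : List ℕ × ℕ × ℕ × List (ℕ × ℤ) := ([9, 9, 0], 0, 1, [(9000, -2), (13009, -1), (13013, -1)])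

def ov_137 : List ℕ × ℕ × ℕ × List (ℕ × ℤ) := ([10, 10, 2], 0, 1, [(10002, -2), (12010, -1), (12012, -1)])

def ov_138 : List ℕ × ℕ × ℕ × List (ℕ × ℤ) := ([10, 10, 3], 0, 1, [(10003, -2)])

def ov_139 : List ℕ × ℕ × ℕ × List (ℕ × ℤ) := ([10, 3, 3], 0, 1, [(10003, 2), (10007, -1), (10009, -1), (12010, 1), (16009, -1), (16016, -1)])

def ov_140 : List ℕ × ℕ × ℕ × List (ℕ × ℤ) := ([11, 11, 0], 0, 1, [(11000, -2), (15011, -1), (15015, -1), (16000, 1), (16015, -2)])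

def ov_141 : List ℕ × ℕ × ℕ × List (ℕ × ℤ) := ([11, 0, 0], 0, 1, [(11000, 2), (11007, -1), (13011, 1), (15000, 1), (15011, 1), (15015, 1), (16013, -1), (16015, -1)])

def ov_142 : List ℕ × ℕ × ℕ × List (ℕ × ℤ) := ([11, 11, 1], 0, 1, [(11001, -2), (12011, -1), (12012, -1), (13011, -1), (13012, -1), (13013, -1), (16001, 1), (16011, -1), (16012, -1), (16013, -1), (16016, -1)])

def ov_143 : List ℕ × ℕ × ℕ × List (ℕ × ℤ) := ([12, 12, 3], 0, 1, [(12003, -2), (14012, -1), (14014, -1), (15012, -1), (15014, -1), (15015, -1)])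

def ov_144 : List ℕ × ℕ × ℕ × List (ℕ × ℤ) := ([14, 14, 2], 0, 1, [(14002, -2), (15014, -1), (15015, -1)])

def ov_145 : List ℕ × ℕ × ℕ × List (ℕ × ℤ) := ([0, 0, 0], 0, 1, [(7000, 1), (13000, 1), (15000, 1), (16013, 1), (16015, 1), (16016, 1)])

def ov_146 : List ℕ × ℕ × ℕ × List (ℕ × ℤ) := ([1, 1, 1], 0, 1, [(6001, 1), (7001, 1), (8001, 1), (9007, 1), (9008, 1), (9009, 1), (10001, 1), (10008, 1), (10009, 1), (10010, 1), (11007, 1), (11008, 1), (11009, 1), (11010, 2), (11011, 1), (12007, 1), (12010, 1), (12012, 1), (13007, 1), (13008, 1), (13009, 1), (13010, 2), (13011, 1), (13012, 1), (13013, 1), (14001, 1), (14007, 1), (14008, 1), (14009, 1), (14010, 3), (14011, 1), (14012, 1), (14013, 1), (14014, 1), (15011, 1), (15014, 1), (15015, 2), (16007, 1), (16010, 3), (16011, 2), (16012, 2), (16013, 3), (16014, 5), (16015, 3), (16016, 6)])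

def ov_147 : List ℕ × ℕ × ℕ × List (ℕ × ℤ) := ([2, 2, 2], 0, 1, [(8002, 1), (9002, 1), (10002, 1), (12002, 1), (12010, 1), (12012, 1), (13002, 1), (14002, 1), (14009, 1), (14012, 1), (14014, 1), (15002, 1), (15013, 1), (15014, 1), (15015, 1), (16002, 1), (16009, 1), (16010, 1), (16012, 3), (16013, 1), (16014, 1), (16015, 1), (16016, 1)])

def ov_148 : List ℕ × ℕ × ℕ × List (ℕ × ℤ) := ([3, 3, 3], 0, 1, [(7003, 1), (9003, 1), (10003, 1), (12003, 1), (13009, 1), (13013, 1), (14010, 1), (14012, 1), (14014, 1), (15010, 1), (15012, 1), (15014, 1), (15015, 1)])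

def ov_149 : List ℕ × ℕ × ℕ × List (ℕ × ℤ) := ([4, 4, 4], 0, 1, [(12004, 1), (16004, 1)])

def ov_150 : List ℕ × ℕ × ℕ × List (ℕ × ℤ) := ([5, 5, 5], 0, 1, [(9005, 1), (10005, 1), (11005, 1), (14005, 1), (14010, 1), (14014, 1), (15005, 1), (15010, 1), (15011, 1), (15014, 1), (15015, 1), (16005, 1), (16010, 1), (16014, 1), (16016, 1)])

def ov_151 : List ℕ × ℕ × ℕ × List (ℕ × ℤ) := ([6, 6, 6], 0, 1, [(14006, 1), (16006, 1)])

def fr_0 : ℕ × List ℕ × List ℕ × List (ℕ × ℤ) := (0, [1, 0], [0, 1, 3, 7, 8, 10, 11, 13, 15], [(6006, -1), (7006, -2), (7007, -1), (8006, -2), (8007, -1), (9006, -1), (9007, -2), (9008, -1), (9009, -1), (10001, -1), (10003, -1), (10005, 1), (10006, -1), (10007, -1), (10010, -1), (11001, -1), (11003, 1), (11004, -2), (11005, 1), (11006, -2), (11007, -2), (11008, -2), (11009, -2), (12003, 1), (12005, -1), (12008, -1), (12010, 1), (12011, -2), (13001, 1), (13004, 2), (13005,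 1), (13006, -1), (13007, -2), (13008, -1), (13009, -2), (13010, -1), (13011, -1), (14001, 1), (14004, -1), (14006, -1), (14007, -1), (14009, -4), (14010, -3), (14011, -2), (14012, 1), (14013, 2), (14014, -3), (15001, 1), (15003, -1), (15006, -2), (15007, -1), (15009, -6), (15010, -1), (15011, -5), (15012, -2), (15013, -2), (15014, -4), (15015, -4), (16000, -1), (16001, 1), (16004, -2), (16005, 1), (16007, -2), (16008, 1), (16009, -3), (16010, -1), (16011, -5), (16012, -4), (16013, -2), (16014, -12), (16015, -10), (16016, -5), (1000003, -1), (1000007, -1), (1000008, -1), (1000010, -1), (1000011, -1), (1000013, -1), (1000015, -1)])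

def fr_1 : ℕ × List ℕ × List ℕ × List (ℕ × ℤ) := (0, [3, 3], [11, 13, 14, 15], [(6004, 1), (6006, 1), (9004, 1), (9006, 1), (9009, 1), (10009, 1), (12004, -1), (12006, 2), (12009, 2), (12010, 2), (12012, -1), (13004, 1), (13006, 1), (13009, 1), (13010, 1), (13013, 1), (14006, 1), (14009, 3), (14010, 2), (14013, 2), (14014, 2), (15010, 1), (15012, -1), (15014, 2), (15015, 3), (16004, -1), (16006, 1), (16009, 1), (16014, 3), (16015, 3), (16016, 1), (1000003, 2), (1000011, -1), (1000013, -1), (1000014, -1), (1000015, -1)])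

def fr_2 : ℕ × List ℕ × List ℕ × List (ℕ × ℤ) := (0, [3, 0], [0, 3, 9], [(6000, 1), (6004, 1), (6005, 1), (7004, 1), (7005, 1), (7006, -1), (8006, -1), (8007, -1), (9000, 1), (9004, 1), (9005, 1), (9006, -1), (9007, 1), (10007, 4), (10008, 1), (10009, 2), (10010, 2), (11005, 1), (11007, 1), (11009, 2), (11010, 2), (11011, 1), (12000, -1), (12010, 3), (12012, 1), (13000, 1), (13004, 1), (13008, 1), (13009, 1), (13010, 4), (13011, 2), (13012, 3), (13013, 1), (14005, -1), (14006, -1), (14008, -2), (14010, -1), (14011, -2), (14012, -4), (15004, 1), (15005, -1), (15007, -1), (15008, -1), (15009, -1), (15010, 5), (15011, 2), (15012, 2), (15013, 1), (15015, 2), (16000, -1), (16004, 2), (16006, 1), (16007, 1), (16009, 1), (16010, 2), (16011, 3), (16012, 5), (16013, 7), (16015, 8), (16016, 8), (1000009, -1)])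

def fr_3 : ℕ × List ℕ × List ℕ × List (ℕ × ℤ) := (0, [4, 0], [0, 4, 9, 11, 13, 15], [(3000, 1), (4000, 1), (4003, -1), (5003, -1), (5004, -1), (7000, 1), (7003, -1), (7004, 1), (7005, 1), (7006, 1), (7007, -1), (8000, -1), (8003, -1), (8004, -2), (8005, -1), (8007, -3), (9003, -1), (9004, 1), (9005, 2), (9006, -1), (9008, -1), (9009, -1), (10003, -1), (10004, -1), (10007, 1), (10008, -1), (10009, 1), (10010, -1), (11000, 1), (11003, -1), (11004, -1), (11005, -1), (11008, -2), (11009, -3), (11010, -5), (11011, -2), (12003, -1), (12005, 1), (12006, 2), (12007, 1), (12008, -1), (12011, -1), (12012, -1), (13000, 1), (13004, -1), (13005, -1), (13007, -1), (13010, -1), (13011, -2), (13013, -2), (14000, -1), (14005, 2), (14006, -1), (14007, 1), (14008, -1), (14009, -4), (14010, -1), (14011, -3), (14012, -2), (14013, -3), (14014, -1), (15005, 1), (15007, -1), (15008, -1), (15010, -3), (15011, -7),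 (15012, -1), (15013, 2), (15014, 1), (15015, -4), (16004, -1), (16005, -2), (16008, -3), (16009, -4), (16010, -6), (16012, -2), (16013, -7), (16014, -8), (16015, -14), (16016, -6), (1000009, -1), (1000011, -1), (1000013, -1), (1000015, -1)])

def fr_4 : ℕ × List ℕ × List ℕ × List (ℕ × ℤ) := (0, [4, 1], [1, 4, 7, 8, 15], [(3001, 1), (4001, 1), (5003, -1), (5004, -1), (6003, -1), (7001, 1), (7005, 1), (8001, -1), (8005, 1), (8006, -1), (8007, -1), (9004, -1), (9005, -1), (9006, -1), (9008, 2), (9009, -1), (10006, -2), (10007, 1), (10009, -2), (10010, -1), (11001, 1), (11003, 1), (11004, 1), (11005, -2), (11006, -1), (11008, 2), (11009, -2), (11010, -1), (11011, -1), (12006, -1), (12008, -1), (12009, -2), (12010, 1), (12012, 1), (13001, 1), (13003, -1), (13004, -1), (13006, 1), (13007, -1), (13008, 2), (13011, 2), (13012, 1), (13013, 1), (14001, -1), (14005, 2), (14006, -2), (14007, 2), (14008,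 2), (14009, -4), (14010, -5), (14011, -7), (14012, -1), (14013, -4), (14014, -1), (15004, 1), (15006, -4), (15007, 2), (15008, 3), (15009, -7), (15010, -9), (15011, -5), (15013, 5), (15014, 4), (15015, -3), (16003, -1), (16005, 2), (16006, -4), (16007, 1), (16008, 1), (16009, -6), (16011, -1), (16012, -5), (16013, 4), (16014, -6), (16015, -9), (16016, -4), (1000007, -1), (1000008, -1), (1000015, -1)])

def fr_5 : ℕ × List ℕ × List ℕ × List (ℕ × ℤ) := (0, [5, 3], [3, 5, 9, 10, 11, 13, 14], [(6004, -1), (7004, -1), (7007, -1), (8004, 1), (8006, 1), (8007, -2), (9004, -1), (9007, -1), (9008, -1), (9009, -1), (10006, 1), (10007, -2), (10008, -1), (10009, -2), (10010, -1), (11004, -1), (11007, -1), (11009, -1), (11010, -1), (12004, -1), (12006, 2), (12007, 1), (12009, 2), (12011, 2), (12012, 1), (13004, -1), (13007, -2), (13008, -1), (13009, -2), (13010, -2), (14007, -1), (14009, -2), (14010, -2),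 (14011, -3), (14012, 1), (14013, -1), (14014, -2), (15004, -1), (15006, 1), (15007, -2), (15010, -2), (15011, 1), (15012, 1), (15013, -2), (15014, -1), (15015, -1), (16004, -1), (16006, 1), (16007, -1), (16008, -1), (16009, -2), (16010, -5), (16011, 1), (16012, 2), (16013, -3), (16014, -7), (16015, -6), (16016, -4), (1000009, -1), (1000010, -1), (1000011, -1), (1000013, -1), (1000014, -1)])

def fr_6 : ℕ × List ℕ × List ℕ × List (ℕ × ℤ) := (0, [5, 4], [4, 5, 8, 12, 13], [(6005, -1), (7005, -1), (7006, -1), (8003, 1), (8004, 1), (8005, 1), (8006, 2), (8007, 2), (9004, 1), (9006, 2), (9007, 1), (9008, -1), (10004, 1), (10005, 1), (10006, 1), (10007, 1), (10008, -2), (11004, 1), (11006, 1), (11008, -1), (11010, 1), (12004, 1), (12005, -1), (12007, 1), (12008, -2), (12010, -1), (12011, 1), (12012, 1), (13004, 1), (13006, 1), (13007, 1), (13008, -1), (13010, 1), (14006, 1), (14008, 1), (14009,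 4), (14010, 5), (14011, 3), (14012, 3), (14013, 2), (14014, 3), (15005, -1), (15006, 1), (15008, -1), (15009, 8), (15010, 4), (15011, 2), (15012, 1), (15013, 3), (15014, 6), (15015, 3), (16004, 1), (16006, 1), (16007, 1), (16008, 1), (16009, 2), (16010, 2), (16012, -1), (16014, 7), (16015, 2), (16016, 3), (1000008, -1), (1000012, -1), (1000013, -1)])

def fr_7 : ℕ × List ℕ × List ℕ × List (ℕ × ℤ) := (0, [7, 2], [2, 7, 8, 12, 15], [(6003, 1), (6004, 1), (7003, 1), (7004, 1), (7006, -1), (8005, -1), (8006, -2), (8007, -1), (9006, -1), (9007, -1), (10004, -1), (10005, -1), (10006, -2), (10007, 1), (10008, 3), (10010, 1), (11008, 1), (11010, -1), (12008, 1), (12009, 2), (12011, 2), (13003, -1), (13004, 1), (13007, 2), (13008, 2), (13009, 2), (13010, 1), (13011, 1), (13013, 1), (14003, -1), (14004, -1), (14005, -1), (14006, -1), (14009, -1), (14010, -3), (14011, -1), (14013, 3), (14014, -2), (15003,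 -1), (15004, 1), (15006, -2), (15007, 1), (15008, 3), (15009, -2), (15010, -3), (15011, 1), (15013, 2), (15014, -3), (16003, 1), (16004, -1), (16005, -1), (16007, 2), (16008, 2), (16009, -1), (16011, -1), (16012, 3), (16013, 4), (16014, -5), (16015, 6), (16016, -1), (1000008, -1), (1000012, -1), (1000015, -1)])

def fr_8 : ℕ × List ℕ × List ℕ × List (ℕ × ℤ) := (0, [10, 5], [5, 10, 13, 15], [(8007, -1), (9008, 1), (10008, 1), (11006, -1), (11007, -1), (11008, 1), (11009, -1), (12011, 1), (13011, 1), (14007, -1), (14008, 1), (14009, -2), (14010, -1), (14011, -2), (14012, -1), (14013, -1), (14014, -1), (15007, -1), (15008, 1), (15009, -2), (15010, -1), (15012, -1), (15013, -1), (16006, -1), (16007, -1), (16010, 1), (16012, 1), (16013, 1), (16014, -2), (1000013, -1), (1000015, -1)])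

def fr_9 : ℕ × List ℕ × List ℕ × List (ℕ × ℤ) := (0, [11, 0], [0, 11, 15], [(10000, 1), (10004, 1), (10005, 1), (10007, 1), (10008, 1), (10009, 1), (11010, -1), (12011, 1), (13012, 1), (14000, -1), (14007, -1), (14008, -1), (14009, -1), (14012, 2), (14013, -1), (14014, 1), (15000, -1), (15004, 1), (15009, -1), (15012, 2), (15013, -1), (15015, 1), (16005, 1), (16008, -1), (16012, 3), (16013, -1), (16015, 1), (16016, 1), (1000015, -1)])

def fr_10 : ℕ × List ℕ × List ℕ × List (ℕ × ℤ) := (0, [12, 1], [1, 12, 15], [(16013, 1), (1000015, -1)])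

def fr_11 : ℕ × List ℕ × List ℕ × List (ℕ × ℤ) := (0, [12, 4], [4, 12], [(13003, 1), (13004, 1), (13007, 1), (13008, -1), (13011, 1), (14013, 1), (16003, 1), (16004, 1), (16007, 1), (16008, -1), (16011, 1), (16013, 1), (16014, -1)])

def fr_12 : ℕ × List ℕ × List ℕ × List (ℕ × ℤ) := (0, [13, 1], [1, 13, 14, 15], [(16014, 1), (1000014, -1), (1000015, -1)])

def fr_13 : ℕ × List ℕ × List ℕ × List (ℕ × ℤ) := (0, [14, 4], [4, 14], [(15003, 1), (15004, 1), (15007, 1), (15008, -1), (15011, 1), (15013, 1), (15014, -1)])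

def fr_14 : ℕ × List ℕ × List ℕ × List (ℕ × ℤ) := (1, [3, 0], [0, 3, 9], [(5000, -1), (6000, 1), (6005, 1), (7004, 2), (7005, -1), (7006, 1), (8004, 1), (9000, 1), (9005, 1), (9006, -1), (10004, -1), (10005, 1), (10007, 1), (10010, 1), (11006, -1), (11007, 1), (11008, 1), (11009, 1), (11010, 2), (11011, 1), (12005, 1), (12007, 1), (12008, 1), (12009, 1), (12010, 2), (12011, 2), (12012, 1), (13004, 1), (13007, 1), (13010, 3), (13011, 2), (13012, 2), (14000, -1), (14005, -1), (14006, 1), (14007, -2), (14010, 2), (14011, -3), (14013, 1), (14014, 1), (15000, -1), (15005, -2), (15007, 1), (15010, 1), (15012, 2), (15013, -3), (15014, 1), (15015, 1), (16005, 2), (16007, 1), (16008, 1), (16009, 1), (16010, 2), (16011, 2), (16012, 7), (16013, 4), (16014, 3), (16015, 3), (16016, 3), (1001009, -1)])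

def fr_15 : ℕ × List ℕ × List ℕ × List (ℕ × ℤ) := (1, [6, 1], [1, 6, 9, 11, 13], [(7005, -1), (7006, 1), (8007, -1), (9007, 1), (10001, 1), (10002, -1), (10003, -1), (10005, -1), (10007, -1), (10009, -1), (11005, -1), (11006, 1), (11008, 1), (11009, -1), (11010, -1), (12001, -1), (12002, 1), (12005, -1), (12006, 1), (12008, 1), (12009, -1), (12010, 2), (13001, 1), (13002, 1), (13003, -1), (13005, -1), (13010, -3), (13012, 2), (13013, -1), (14001, -1), (14002, 1), (14003, -1), (14005, -1), (14007, -1), (14009, -1), (14010, -3), (14011, -1), (14012, 2), (14013, -1), (15009, -1), (15011, -1), (15012, 4), (15013, -2), (15015, 1), (16002, 1), (16003, -1), (16010, -1), (16011, -1), (16012, 1), (16013, -2), (16014, -3), (16015, 1), (16016, -3), (1001009, -1), (1001011, -1), (1001013, -1)])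

def fr_16 : ℕ × List ℕ × List ℕ × List (ℕ × ℤ) := (1, [7, 6], [6, 7, 13], [(7005, -1), (7006, -1), (10005, -1), (10006, -1), (10007, 1), (10008, -1), (10009, -1), (11007, -1), (12007, 1), (12008, 1), (12009, 1), (12010, 1), (12011, 1), (13005, -1), (13012, -1), (13013, -1), (14007, -1), (14010, -1), (14014, -1), (15006, -1), (15007, -1), (15008, -1), (15010, 1), (15011, -1), (15012, 1), (15014, -2), (15015, -1), (16008, -1), (16010, -2), (16012, -1), (16013, -3), (16014, -5), (16015, -4), (16016, -2), (1001013, -1)])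

def fr_17 : ℕ × List ℕ × List ℕ × List (ℕ × ℤ) := (1, [8, 3], [3, 8, 14, 15], [(9000, 1), (9006, 1), (10000, 1), (10006, 1), (10009, 1), (11000, 1), (11006, 1), (11010, -1), (13004, 1), (13006, 1), (13010, 1), (13011, 1), (13012, 1), (14000, 1), (14004, -1), (14011, 2), (14012, -1), (14013, -1), (14014, 1), (15004, 1), (15011, 1), (15012, -1), (15013, 1), (15014, 1), (15015, 2), (16000, 1), (16004, -1), (16011, 1), (16012, -2), (16014, -2), (16016, 1), (1001014, -1), (1001015, -1)])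

def fr_18 : ℕ × List ℕ × List ℕ × List (ℕ × ℤ) := (1, [10, 1], [1, 10, 11, 14], [(7001, 1), (7002, 1), (7003, 1), (7006, 1), (8007, -1), (9001, 1), (9002, 1), (9003, 1), (9006, 1), (9008, 1), (10001, 1), (10007, -1), (11003, -1), (11005, -1), (11007, -1), (11009, -1), (11010, -1), (12003, -1), (12005, -1), (12012, 2), (13001, 1), (13003, -1), (13007, -1), (13009, 1), (13011, 2), (13012, 3), (13013, 1), (14001, 1), (14002, 1), (14003, -1), (14005, -1), (14006, 1), (14007, -1), (14008, 1), (14009, 1), (14011, -2), (14013, -2), (14014, 2), (15001, 1), (15002, 1), (15007, -1), (15008, 1), (15010, -1), (15011, 1), (15012, 1), (15013, 1), (15014, 3), (15015, 1), (16006, 1), (16011, -3), (16012, 2), (16013, 3), (16014, 4), (16015, 4), (1001011, -1), (1001014, -1)])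

def fr_19 : ℕ × List ℕ × List ℕ × List (ℕ × ℤ) := (1, [11, 6], [6, 11, 15], [(10007, 1), (11007, 1), (11010, 1), (12007, -1), (13010, -1), (13011, -1), (14007, -1), (15010, 1), (15012, -1), (15013, 1), (15014, -1), (16011, 1), (16012, -1), (16013, 1), (16014, -2), (16016, 1), (1001015, -1)])

def fr_20 : ℕ × List ℕ × List ℕ × List (ℕ × ℤ) := (1, [12, 3], [3, 12], [(13000, 1), (13006, 1), (13009, 1), (13011, 1), (16000, 1), (16006, 1), (16009, 1), (16011, 1), (16013, 1)])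

def fr_21 : ℕ × List ℕ × List ℕ × List (ℕ × ℤ) := (2, [3, 1], [1, 3, 11, 13, 14, 15], [(2001, -1), (3002, 1), (4001, -1), (4002, -1), (4003, -1), (5002, 1), (5003, -1), (5004, -1), (6001, -1), (6003, -1), (6004, 1), (6005, -1), (7003, -1), (7005, -1), (7006, -2), (7007, -1), (8001, -1), (8003, -1), (8005, -1), (9005, 1), (9006, -2), (9007, -1), (9008, -2), (9009, -2), (10001, -1), (10004, 1), (10006, -1), (10008, 1), (10010, -2), (11001, -1), (11002, 1), (11004, 1), (11005, -1), (11006, -3), (11007, -2), (11008, -1), (11009, -3), (11010, -2), (11011, -3), (12004, 1), (12005, -1), (12006, 1), (12009, -1), (12010, 1), (12011, -2), (12012, -1), (13001, -1), (13002, 1), (13004, 1), (13005, -2), (13006, 1), (13007, -1), (13009, -1), (13010, -1), (13011, -2), (13012, -1), (13013, -4), (14002, 1), (14004, 1), (14006, -2), (14008, -1), (14009, -3), (14010, -5), (14011, -3), (14012, -1), (14013, -1),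 (14014, -4), (15002, 1), (15006, -1), (15007, -1), (15008, -2), (15009, -3), (15010, -4), (15011, -4), (15012, 2), (15013, 1), (15015, -3), (16004, 1), (16005, -1), (16006, -2), (16007, -1), (16008, -1), (16009, -3), (16010, -7), (16011, -4), (16012, -1), (16013, -4), (16014, 1), (16015, -6), (16016, -10), (1002011, -1), (1002013, -1), (1002014, -1), (1002015, -1)])

def fr_22 : ℕ × List ℕ × List ℕ × List (ℕ × ℤ) := (2, [7, 6], [6, 7, 13], [(8006, 1), (8007, -1), (9007, -1), (9008, -1), (10006, 1), (10008, 1), (10009, 1), (11007, -1), (11008, -1), (11010, -1), (12009, 1), (12010, -1), (12011, 1), (13007, -1), (13008, -1), (13010, -1), (13012, -1), (14006, 1), (14007, -1), (14008, 1), (14010, 1), (15007, -1), (15009, -1), (15010, 1), (15011, -1), (15012, 1), (15014, -1), (16012, -2), (16013, -2), (16014, -1), (1002013, -1)])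

def fr_23 : ℕ × List ℕ × List ℕ × List (ℕ × ℤ) := (2, [9, 1], [1, 9, 11, 13], [(8002, 1), (8004, 1), (8006, 1), (10002, -1), (10004, -1), (10006, -1), (10008, -1), (11010, 2), (12004, 1), (13002, 1), (13004, 1), (13006, 1), (13010, 1), (13012, -1), (14002, 1), (14008, 1), (14010, 2), (14011, 4), (14013, 1), (14014, 1), (15002, -1), (15011, 1), (15012, -1), (15013, -1), (15014, -2), (15015, 1), (16002, -1), (16004, -1), (16010, 1), (16011, -1), (16012, 1), (16013, 4), (16014, 3), (1002011, -1), (1002013, -1)])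

def fr_24 : ℕ × List ℕ × List ℕ × List (ℕ × ℤ) := (2, [10, 9], [9, 10, 15], [(10008, 1), (11010, -2), (12008, -1), (12010, -1), (13010, -1), (13012, 1), (14010, -1), (14012, 1), (15010, 1), (15011, 1), (15012, 1), (15013, 2), (15014, 2), (16008, 1), (16010, -1), (16011, 1), (16012, -3), (16013, -3), (16014, -3), (16015, 1), (1002015, -1)])

def fr_25 : ℕ × List ℕ × List ℕ × List (ℕ × ℤ) := (2, [11, 2], [2, 11, 13, 15], [(12006, -1), (12007, -1), (12008, 1), (15003, -1), (15004, 1), (15005, 1), (15006, -1), (15014, 1), (15015, -1), (16003, 1), (16004, -1), (16005, -1), (16006, -1), (16007, -1), (16012, 1), (16014, 1), (1002013, -1), (1002015, -1)])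

def fr_26 : ℕ × List ℕ × List ℕ × List (ℕ × ℤ) := (2, [12, 5], [5, 12], [(9006, 1), (9007, 1), (10006, 1), (10007, 1), (10009, -1), (11006, 1), (11007, 1), (11010, 1), (12009, -1), (12010, -1), (12011, -1), (13006, -1), (13007, -1), (13009, -1), (13011, -1), (13012, -1), (14010, 1), (14011, 1), (14014, 1), (15010, 1), (15011, 1), (15013, 1), (15014, 1), (15015, 1), (16009, -2), (16010, 2), (16012, -2), (16015, -1), (16016, 2)])

def fr_27 : ℕ × List ℕ × List ℕ × List (ℕ × ℤ) := (2, [13, 1], [1, 13, 14, 15], [(14008, 1), (14010, 1), (14013, 1), (15014, 1), (16014, 1), (16015, 1), (1002014, -1), (1002015, -1)])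

def fr_28 : ℕ × List ℕ × List ℕ × List (ℕ × ℤ) := (3, [1, 0], [0, 1], [(1000, -1), (2000, -1), (3000, -1), (4001, 1), (4003, 1), (4004, -1), (5000, -1), (5001, 1), (5002, 1), (5003, 1), (5004, -1), (7001, 1), (7003, -1), (7005, 2), (8001, 1), (8003, -1), (8004, -1), (8005, -2), (8007, -1), (9000, -1), (9001, 1), (9003, -1), (9004, -1), (9005, -1), (9007, 1), (9008, -1), (9009, -1), (10003, 1), (10004, -1), (10007, -1), (10008, -2), (10009, -2), (11000, -1), (11002, 1), (11007, 2), (11008, -2), (11010, 1), (11011, -1), (12001, 1), (12002, 1), (12003, -1), (12005, -1), (12007, -2), (12008, -1), (12009, -2), (12010, -1), (13000, -1), (13001, 1), (13003, -1), (13005, 1), (13007, 2), (13012, 1), (14001, 1), (14002, 1), (14004, -2), (14005, -1), (14007, 1), (14008, -2), (14009, -4), (14010, -2), (14012, 1), (15000, -1), (15001, 1), (15003, -1), (15005, -1), (15007, 1), (15008, -3), (15009, -2),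 (15010, -3), (15011, -2), (15012, -5), (15014, -7), (15015, -5), (16001, 1), (16004, -1), (16005, 2), (16007, 2), (16008, -2), (16009, -7), (16010, -1), (16011, 3), (16012, -5), (16013, 5), (16014, -2), (16015, -12), (16016, -2)])

def fr_29 : ℕ × List ℕ × List ℕ × List (ℕ × ℤ) := (3, [7, 4], [4, 7], [(5001, -1), (5002, -1), (5003, -1), (6001, -1), (6002, -1), (6003, -1), (6005, -1), (8002, -1), (8005, 1), (8008, -1), (9001, -1), (9003, -1), (9006, -3), (9008, -1), (9009, -2), (10001, -1), (10002, -1), (10006, -3), (10008, -1), (10010, -2), (11001, -1), (11006, -2), (11009, -2), (11010, -2), (11011, -1), (12001, -1), (12003, -1), (12005, -1), (12006, -1), (12008, -2), (12009, -2), (12010, -1), (12012, -3), (13002, -1), (13005, 1), (13006, 1), (13008, -1), (13009, -1), (13011, 1), (13012, -2), (13013, -3), (14001, -1), (14003, -1), (14005, -1), (14006, -1), (14008, -1), (14009, -3), (14010,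 -9), (14011, -3), (14012, -4), (14013, -3), (14014, -6), (15001, -1), (15005, -1), (15006, -2), (15009, -5), (15010, -6), (15011, -3), (15012, -2), (15013, -3), (15014, -5), (15015, -8), (16003, -1), (16006, -3), (16008, -1), (16009, -4), (16010, -8), (16011, -1), (16012, -2), (16013, -4), (16014, -2), (16015, -4), (16016, -12)])

def fr_30 : ℕ × List ℕ × List ℕ × List (ℕ × ℤ) := (3, [9, 2], [2, 9, 13], [(4002, 1), (5004, -1), (6004, -1), (7002, 1), (7005, 1), (7006, 1), (8002, 1), (8005, 1), (8006, 1), (9002, 1), (9005, 1), (9006, 1), (10005, 1), (10006, 1), (10007, 1), (10008, 1), (10009, 1), (11002, -1), (11004, -1), (11006, -1), (11007, -1), (11008, 1), (11010, -1), (12002, 1), (12005, -1), (12006, -1), (12010, -1), (12011, -1), (13005, 1), (13007, -1), (13008, 1), (13009, 1), (13010, 1), (13011, 1), (13013, 1), (14002, 1), (14005, -1), (14007, 1), (14008, 2), (14009, 2), (14010, 1), (14011,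 4), (14012, -1), (14013, 1), (14014, 3), (15002, 1), (15004, 1), (15007, -1), (15008, 1), (15010, 2), (15011, 1), (15012, -2), (15013, -2), (15014, -1), (15015, 2), (16004, -1), (16005, -2), (16006, -1), (16007, 1), (16010, 1), (16012, -4), (16013, 1), (16014, -3), (16015, 1), (16016, 3), (1003013, -1)])

def fr_31 : ℕ × List ℕ × List ℕ × List (ℕ × ℤ) := (3, [9, 6], [6, 9, 13, 14], [(8004, -1), (8007, -1), (9004, -1), (9007, -1), (11004, -1), (11007, -1), (11008, -2), (11009, -2), (12004, -1), (12008, 1), (12012, -1), (13004, -1), (13007, -1), (13008, -1), (13009, -1), (13011, 1), (13012, -2), (14009, -1), (14011, 1), (14014, -1), (15004, -1), (15009, -4), (15011, -2), (15012, -1), (15013, -3), (15014, -1), (15015, -3), (16007, -1), (16011, 1), (16012, -1), (16013, -2), (16014, -2), (16015, -4), (16016, -2), (1003013, -1), (1003014, -1)])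

def fr_32 : ℕ × List ℕ × List ℕ × List (ℕ × ℤ) := (3, [11, 2], [2, 11, 14], [(13008, 1), (13010, 1), (15013, 1), (16013, -1), (1003014, -1)])

def fr_33 : ℕ × List ℕ × List ℕ × List (ℕ × ℤ) := (3, [11, 7], [7, 11], [(13001, 1), (13002, 1), (13003, 1), (13005, 1), (13008, 1), (14013, 1), (16001, 1), (16003, 1), (16005, 1), (16008, 1), (16013, 1), (16014, -1), (16016, 1)])

def fr_34 : ℕ × List ℕ × List ℕ × List (ℕ × ℤ) := (3, [13, 4], [4, 13], [(12005, 1), (12006, 1), (12009, 1), (12010, 1), (12011, 1), (14005, 1), (14006, 1), (14009, 1), (14010, 1), (14011, 1), (15006, -1), (15008, -1), (15011, 1), (15012, -1), (15014, 1), (15015, 1)])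

def tg_0 : ℕ × ℤ × List (ℕ × ℤ) := (1000, 0, [(0, 1)])

def tg_1 : ℕ × ℤ × List (ℕ × ℤ) := (2001, 0, [(1, 1)])

def tg_2 : ℕ × ℤ × List (ℕ × ℤ) := (3001, 0, [(2, 1)])

def tg_3 : ℕ × ℤ × List (ℕ × ℤ) := (4001, 0, [(3, 1)])

def tg_4 : ℕ × ℤ × List (ℕ × ℤ) := (5001, 0, [(4, 1)])

def tg_5 : ℕ × ℤ × List (ℕ × ℤ) := (3000, 0, [(5, 1)])

def tg_6 : ℕ × ℤ × List (ℕ × ℤ) := (4000, 0, [(6, 1)])

def tg_7 : ℕ × ℤ × List (ℕ × ℤ) := (5004, 0, [(7, 1)])

def tg_8 : ℕ × ℤ × List (ℕ × ℤ) := (5002, 0, [(8, 1)])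

def tg_9 : ℕ × ℤ × List (ℕ × ℤ) := (7003, 0, [(9, 1)])

def tg_10 : ℕ × ℤ × List (ℕ × ℤ) := (7004, 0, [(10, 1)])

def tg_11 : ℕ × ℤ × List (ℕ × ℤ) := (8005, 0, [(11, 1)])

def tg_12 : ℕ × ℤ × List (ℕ × ℤ) := (7000, 0, [(12, 1)])

def tg_13 : ℕ × ℤ × List (ℕ × ℤ) := (15012, 0, [(83, 1)])

def tg_14 : ℕ × ℤ × List (ℕ × ℤ) := (16009, 0, [(84, -1)])

def tg_15 : ℕ × ℤ × List (ℕ × ℤ) := (16012, 0, [(85, 1)])

def tg_16 : ℕ × ℤ × List (ℕ × ℤ) := (13009, 0, [(90, -1)])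

def tg_17 : ℕ × ℤ × List (ℕ × ℤ) := (13010, 0, [(93, -1)])

def tg_18 : ℕ × ℤ × List (ℕ × ℤ) := (13011, 0, [(95, -1)])

def tg_19 : ℕ × ℤ × List (ℕ × ℤ) := (16013, 0, [(96, 1)])

def tg_20 : ℕ × ℤ × List (ℕ × ℤ) := (14013, 0, [(97, 1)])

def tg_21 : ℕ × ℤ × List (ℕ × ℤ) := (15013, 0, [(99, 1)])

def tg_22 : ℕ × ℤ × List (ℕ × ℤ) := (15014, 0, [(105, 1)])

def tg_23 : ℕ × ℤ × List (ℕ × ℤ) := (16014, 0, [(106, 1)])

def tg_24 : ℕ × ℤ × List (ℕ × ℤ) := (16010, 0, [(107, -1)])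

def tg_25 : ℕ × ℤ × List (ℕ × ℤ) := (15005, 0, [(109, -1)])

def tg_26 : ℕ × ℤ × List (ℕ × ℤ) := (15006, 0, [(110, -1)])

def tg_27 : ℕ × ℤ × List (ℕ × ℤ) := (15007, 0, [(111, -1)])

def tg_28 : ℕ × ℤ × List (ℕ × ℤ) := (15008, 0, [(112, -1)])

def tg_29 : ℕ × ℤ × List (ℕ × ℤ) := (15011, 0, [(113, -1)])

def tg_30 : ℕ × ℤ × List (ℕ × ℤ) := (16015, 0, [(114, 1)])

def tg_31 : ℕ × ℤ × List (ℕ × ℤ) := (16004, 0, [(115, -1)])

def tg_32 : ℕ × ℤ × List (ℕ × ℤ) := (16005, 0, [(116, -1)])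

def tg_33 : ℕ × ℤ × List (ℕ × ℤ) := (16006, 0, [(117, -1)])

def tg_34 : ℕ × ℤ × List (ℕ × ℤ) := (16007, 0, [(118, -1)])

def tg_35 : ℕ × ℤ × List (ℕ × ℤ) := (16008, 0, [(119, -1)])

def tg_36 : ℕ × ℤ × List (ℕ × ℤ) := (16011, 0, [(120, -1)])

def tg_37 : ℕ × ℤ × List (ℕ × ℤ) := (15002, 0, [(79, 1)])

def tg_38 : ℕ × ℤ × List (ℕ × ℤ) := (15010, 0, [(86, -1)])

def tg_39 : ℕ × ℤ × List (ℕ × ℤ) := (14010, 0, [(87, -1)])

def tg_40 : ℕ × ℤ × List (ℕ × ℤ) := (13012, 0, [(98, -1)])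

def tg_41 : ℕ × ℤ × List (ℕ × ℤ) := (12004, 0, [(162, 1)])

def tg_42 : ℕ × ℤ × List (ℕ × ℤ) := (14006, 0, [(164, 1)])

def tg_43 : ℕ × ℤ × List (ℕ × ℤ) := (13007, 0, [(46, -1)])

def tg_44 : ℕ × ℤ × List (ℕ × ℤ) := (14009, 0, [(48, 1)])

def tg_45 : ℕ × ℤ × List (ℕ × ℤ) := (16003, 0, [(63, 1)])

def tg_46 : ℕ × ℤ × List (ℕ × ℤ) := (16000, 0, [(69, 1)])

def tg_47 : ℕ × ℤ × List (ℕ × ℤ) := (15009, 0, [(74, -1)])

def tg_48 : ℕ × ℤ × List (ℕ × ℤ) := (14012, 0, [(82, 1)])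

def tg_49 : ℕ × ℤ × List (ℕ × ℤ) := (13004, 0, [(88, -1)])

def tg_50 : ℕ × ℤ × List (ℕ × ℤ) := (13006, 0, [(91, -1)])

def tg_51 : ℕ × ℤ × List (ℕ × ℤ) := (13008, 0, [(94, -1)])

def tg_52 : ℕ × ℤ × List (ℕ × ℤ) := (14011, 0, [(104, -1)])

def tg_53 : ℕ × ℤ × List (ℕ × ℤ) := (16016, 0, [(138, -1)])

def tg_54 : ℕ × ℤ × List (ℕ × ℤ) := (15004, 0, [(68, 1)])

def tg_55 : ℕ × ℤ × List (ℕ × ℤ) := (14008, 0, [(73, -1)])

def tg_56 : ℕ × ℤ × List (ℕ × ℤ) := (12010, 0, [(76, -1)])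

def tg_57 : ℕ × ℤ × List (ℕ × ℤ) := (13013, 0, [(142, -1)])

def tg_58 : ℕ × ℤ × List (ℕ × ℤ) := (14007, 0, [(47, -1)])

def tg_59 : ℕ × ℤ × List (ℕ × ℤ) := (16002, 0, [(70, 1)])

def tg_60 : ℕ × ℤ × List (ℕ × ℤ) := (12011, 0, [(72, 1)])

def tg_61 : ℕ × ℤ × List (ℕ × ℤ) := (12009, 0, [(81, -1)])

def tg_62 : ℕ × ℤ × List (ℕ × ℤ) := (16001, 0, [(103, 1)])

def tg_63 : ℕ × ℤ × List (ℕ × ℤ) := (15015, 0, [(147, -1)])

def tg_64 : ℕ × ℤ × List (ℕ × ℤ) := (12008, 0, [(50, -1)])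

def tg_65 : ℕ × ℤ × List (ℕ × ℤ) := (15003, 0, [(178, 1)])

def tg_66 : ℕ × ℤ × List (ℕ × ℤ) := (14005, 0, [(38, -1)])

def tg_67 : ℕ × ℤ × List (ℕ × ℤ) := (15001, 0, [(78, 1)])

def tg_68 : ℕ × ℤ × List (ℕ × ℤ) := (13005, 0, [(92, -1)])

def tg_69 : ℕ × ℤ × List (ℕ × ℤ) := (13000, 0, [(185, 1)])

def tg_70 : ℕ × ℤ × List (ℕ × ℤ) := (13003, 0, [(176, 1)])

def tg_71 : ℕ × ℤ × List (ℕ × ℤ) := (14014, 0, [(144, -1)])

def tg_72 : ℕ × ℤ × List (ℕ × ℤ) := (9007, 0, [(29, 1)])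

def tg_73 : ℕ × ℤ × List (ℕ × ℤ) := (15000, 0, [(158, 1)])

def tg_74 : ℕ × ℤ × List (ℕ × ℤ) := (14004, 0, [(56, -1)])

def tg_75 : ℕ × ℤ × List (ℕ × ℤ) := (12007, 0, [(40, -1)])

def tg_76 : ℕ × ℤ × List (ℕ × ℤ) := (10009, 0, [(45, 1)])

def tg_77 : ℕ × ℤ × List (ℕ × ℤ) := (11009, 0, [(49, 1)])

def tg_78 : ℕ × ℤ × List (ℕ × ℤ) := (14003, 0, [(60, 1)])

def tg_79 : ℕ × ℤ × List (ℕ × ℤ) := (11010, 0, [(61, 1)])

def tg_80 : ℕ × ℤ × List (ℕ × ℤ) := (10006, 0, [(54, -1)])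

def tg_81 : ℕ × ℤ × List (ℕ × ℤ) := (10007, 0, [(57, -1)])

def tg_82 : ℕ × ℤ × List (ℕ × ℤ) := (14000, 0, [(43, 1)])

def tg_83 : ℕ × ℤ × List (ℕ × ℤ) := (11007, 0, [(66, -1)])

def tg_84 : ℕ × ℤ × List (ℕ × ℤ) := (7007, 0, [(28, -1), (32, -1), (51, 2), (52, 1), (58, 1), (64, 1), (75, 1), (131, -1), (157, -1), (174, 1), (175, -1), (199, 1)])

def tg_85 : ℕ × ℤ × List (ℕ × ℤ) := (12001, 0, [(131, 1)])

def tg_86 : ℕ × ℤ × List (ℕ × ℤ) := (7002, 0, [(16, -1), (17, -1), (27, 1), (30, 1), (44, 1), (51, 1), (52, 2), (55, -2), (59, 2), (75, 1), (161, -1), (198, -1), (199, 2)])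

def tg_87 : ℕ × ℤ × List (ℕ × ℤ) := (11011, 0, [(141, -1)])

def tg_88 : ℕ × ℤ × List (ℕ × ℤ) := (7005, 0, [(16, -1), (17, -1), (21, -1), (23, 1), (34, 1), (37, 1), (51, 1), (52, 2), (55, -1), (58, 1), (75, 1), (157, -1), (160, -1), (199, 1)])

def tg_89 : ℕ × ℤ × List (ℕ × ℤ) := (6001, 0, [(13, -13), (14, -1), (15, -26), (16, 43), (18, -9), (19, 5), (20, 40), (21, 728), (22, -71), (23, -606), (24, -111), (25, 50), (26, 39), (28, 15), (30, -214), (33, 268), (34, 100), (35, -3), (36, 231), (37, -718), (39, -112), (42, -90), (44, -58), (51, -123), (52, -1078), (55, 784), (58, -58), (59, 4), (64, 112), (65, 54), (75, -253), (121, 11), (122, 11), (124, -36), (125, -36), (126, -1), (127, -49), (128, -49), (129, 5), (132, -68), (133, -42), (134, -37), (135, 165), (137, -63), (139, 6), (140, 6), (145, 26), (148, 217), (149, -36), (157, 969), (159, 27), (160, 741), (161, 233), (163, -13), (165, 2),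 (166, 1), (167, 3), (168, -1), (169, -2), (170, -2), (171, -23), (172, 23), (173, 23), (175, -47), (177, 1), (179, -13), (180, 13), (181, -13), (182, 13), (183, -13), (184, -13), (187, 246), (189, 246), (190, -246), (194, 26), (195, 13), (196, -13), (197, 13), (198, -614), (199, -306)])

def tg_90 : ℕ × ℤ × List (ℕ × ℤ) := (6004, 0, [(13, -7), (15, -2), (16, -20), (18, 11), (19, 20), (20, -7), (21, -49), (22, -6), (23, 83), (24, -11), (25, 28), (26, 9), (28, 13), (30, 47), (33, -37), (34, -57), (35, -18), (36, -22), (37, 44), (39, -83), (42, 14), (44, -5), (51, 4), (52, 179), (55, -84), (58, -14), (59, 73), (64, -4), (65, -15), (75, 93), (121, 7), (122, 7), (124, -9), (125, 9), (127, -4), (128, -4), (129, 4), (132, 25), (133, 27), (134, -21), (135, -16), (137, 7), (139, 7), (140, 7), (148, 10), (149, -9), (155, 12), (157, -111), (159, -34), (160, -54), (161, -22), (163, 5), (171, -2), (172,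 2), (173, 2), (175, -4), (179, -7), (180, 7), (181, -7), (182, 7), (183, -7), (184, -7), (187, -27), (189, -27), (190, 27), (194, 2), (195, 7), (196, -7), (197, 7), (198, 59), (199, 81)])

def tg_91 : ℕ × ℤ × List (ℕ × ℤ) := (10010, 0, [(136, -1)])

def tg_92 : ℕ × ℤ × List (ℕ × ℤ) := (10000, 0, [(130, 1)])

def tg_93 : ℕ × ℤ × List (ℕ × ℤ) := (8000, 0, [(19, 1), (20, 1), (21, 3), (23, -3), (24, -1), (30, -1), (33, 1), (34, 1), (36, 1), (37, -3), (42, -1), (52, -6), (55, 5), (58, -1), (59, 2), (64, 1), (65, -1), (75, 1), (135, 2), (157, 6), (160, 3), (161, 1), (187, 1), (189, 1), (190, -1), (198, -3)])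

def tg_94 : ℕ × ℤ × List (ℕ × ℤ) := (8006, 0, [(21, 1), (23, -1), (33, 1), (37, -1), (51, 3), (52, -2), (55, 1), (58, 1), (59, 3), (64, 3), (75, 1), (129, -3), (135, 3), (148, 1), (157, 3), (160, 1), (187, 1), (189, 1), (190, -1), (198, -1)])

def tg_95 : ℕ × ℤ × List (ℕ × ℤ) := (8007, 0, [(21, 1), (23, -1), (33, 1), (37, -1), (51, -1), (52, -2), (55, 1), (58, -2), (59, -1), (64, -1), (129, 1), (135, -1), (157, 1), (160, 1), (198, -1)])

def tg_96 : ℕ × ℤ × List (ℕ × ℤ) := (11000, 0, [(146, 1)])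

def tg_97 : ℕ × ℤ × List (ℕ × ℤ) := (9009, 0, [(30, 1), (34, -1), (35, -1), (39, -1), (51, 1), (52, 1), (55, -1), (58, 1), (59, 4), (64, 3), (124, -1), (129, -1), (135, 3), (148, 1), (149, -1), (157, 1), (161, -1)])

def tg_98 : ℕ × ℤ × List (ℕ × ℤ) := (9000, 0, [(125, 1)])

def tg_99 : ℕ × ℤ × List (ℕ × ℤ) := (5005, 0, [(16, 1), (19, -1), (23, -1), (25, -1), (33, -2), (34, -2), (35, -1), (36, 1), (39, -1), (52, 1), (58, 3), (59, 6), (64, 3), (65, 1), (75, -2), (123, -1), (124, -1), (129, -1), (134, 1), (135, 3), (148, -1), (157, 2), (159, 1), (163, -2), (198, 2)])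

def tg_100 : ℕ × ℤ × List (ℕ × ℤ) := (6003, 0, [(22, -1), (24, -1), (33, 2), (35, -1), (36, 1), (39, -2), (42, -1), (44, -3), (51, 5), (52, -8), (55, 4), (58, 3), (59, 16), (64, 10), (65, -1), (75, 4), (124, -1), (129, -7), (135, 11), (148, -1), (157, 12), (171, -1), (172, 1), (173, 1), (175, -2)])

def tg_101 : ℕ × ℤ × List (ℕ × ℤ) := (9004, 0, [(33, -1), (42, -1), (52, 1), (58, 1), (59, 1), (64, 1), (135, 1)])

def tg_102 : ℕ × ℤ × List (ℕ × ℤ) := (10003, 0, [(18, -1)])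

def tg_103 : ℕ × ℤ × List (ℕ × ℤ) := (9005, 0, [(34, 1), (42, -1), (52, 1), (64, 1), (135, 1), (163, 1), (198, -1)])

def tg_104 : ℕ × ℤ × List (ℕ × ℤ) := (9006, 0, [(42, -1), (44, -1), (52, -1), (55, 1), (59, 1), (64, 1), (75, 1), (135, 1), (157, 1)])

def tg_105 : ℕ × ℤ × List (ℕ × ℤ) := (11006, 0, [(191, 1)])

def tg_106 : ℕ × ℤ × List (ℕ × ℤ) := (9008, 0, [(39, -1), (51, 1), (58, 1), (59, 2), (64, 1), (129, -1), (135, 1), (148, 1), (157, 1)])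

def tg_107 : ℕ × ℤ × List (ℕ × ℤ) := (10002, 0, [(15, -1), (21, -1), (22, -2), (23, 4), (24, -2), (26, 2), (35, -5), (36, 5), (37, 2), (39, -6), (42, 2), (51, -5), (52, 14), (58, 1), (59, -4), (65, -1), (75, -3), (123, -3), (127, -2), (128, -2), (129, 3), (132, 2), (133, 3), (155, 2), (157, -8), (161, 6), (163, 4), (194, 1), (198, 1)])

def tg_108 : ℕ × ℤ × List (ℕ × ℤ) := (12012, 0, [(150, -1)])

def tg_109 : ℕ × ℤ × List (ℕ × ℤ) := (10005, 0, [(52, -1), (59, 1), (157, 1)])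

def tg_110 : ℕ × ℤ × List (ℕ × ℤ) := (11002, 0, [(25, 1)])

def tg_111 : ℕ × ℤ × List (ℕ × ℤ) := (11005, 0, [(163, 1)])

def tg_112 : ℕ × ℤ × List (ℕ × ℤ) := (9002, 0, [(59, -1), (134, 1)])

def tg_113 : ℕ × ℤ × List (ℕ × ℤ) := (8004, 0, [(26, -1), (59, -1), (64, -1), (129, 1), (135, -1), (157, -1)])

def tg_114 : ℕ × ℤ × List (ℕ × ℤ) := (7001, 0, [(19, 1), (24, -1), (39, -1), (42, 1), (64, -1), (135, -1)])

def tg_115 : ℕ × ℤ × List (ℕ × ℤ) := (9001, 0, [(16, 1), (24, -1), (35, -1), (36, 1), (39, -1), (42, 2), (51, -1), (64, -1), (65, 1), (75, -2), (135, -1), (161, 1)])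

def tg_116 : ℕ × ℤ × List (ℕ × ℤ) := (8001, 0, [(16, 1), (39, 1), (42, 1), (58, -1), (59, -2), (123, 1), (129, -1), (157, -1)])

def tg_117 : ℕ × ℤ × List (ℕ × ℤ) := (8003, 0, [(22, -1), (24, -1), (39, -1), (51, 1), (58, -1), (59, 2), (64, 1), (75, 1), (129, -1), (132, 1), (133, 1), (135, 1), (157, 1)])

def tg_118 : ℕ × ℤ × List (ℕ × ℤ) := (5003, 0, [(37, 1), (39, 1), (42, -1), (59, 2), (64, 1), (65, -1), (75, 1), (127, -1), (128, -1), (135, 1), (157, 1)])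

def tg_119 : ℕ × ℤ × List (ℕ × ℤ) := (6002, 0, [(15, -1), (16, -1), (64, -1), (129, 1), (135, -1)])

def tg_120 : ℕ × ℤ × List (ℕ × ℤ) := (4003, 0, [(14, 1), (16, 1), (39, 1), (42, -1), (51, 2), (58, 1), (59, 4), (64, 5), (75, 1), (121, -1), (122, -1), (129, -4), (135, 5), (140, 1), (157, 2)])

def tg_121 : ℕ × ℤ × List (ℕ × ℤ) := (2000, 0, [(16, -1), (22, -1), (35, -1), (37, 2), (42, -4), (51, 6), (58, 4), (59, 15), (64, 13), (65, -2), (75, 3), (121, -1), (122, -2), (129, -8), (135, 13), (157, 7), (161, -2), (179, 1), (180, -1), (181, 1), (182, -1), (183, 1), (184, 1), (193, -1), (198, 1)])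

def tg_122 : ℕ × ℤ × List (ℕ × ℤ) := (4002, 0, [(13, 1), (16, -2), (22, -1), (24, 1), (35, -1), (37, 1), (39, 5), (42, -3), (51, 3), (58, 1), (59, 4), (64, 7), (65, -2), (75, 3), (121, -1), (122, -1), (129, -3), (135, 8), (157, 2), (161, -1), (179, 1), (180, -1), (181, 1), (182, -1), (183, 1), (184, 1), (198, 1)])

def tg_123 : ℕ × ℤ × List (ℕ × ℤ) := (3002, 1, [(16, -4), (21, -2), (22, 2), (24, 2), (39, 2), (42, -2), (51, 4), (58, 4), (59, -6), (64, -2), (129, 4), (135, -4), (140, -4), (157, -3), (186, 2), (188, -2), (192, -2)])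

def tg_124 : ℕ × ℤ × List (ℕ × ℤ) := (4004, 1, [(16, -2), (21, -1), (22, 1), (24, 1), (39, 1), (51, 2), (58, 2), (59, -6), (64, -4), (122, 1), (129, 4), (135, -5), (140, -2), (157, -3), (186, 1), (188, -1), (192, -1)])

def tg_125 : ℕ × ℤ × List (ℕ × ℤ) := (5000, 1, [(13, 1), (16, -3), (21, -1), (22, 1), (24, 2), (39, 4), (42, -2), (51, 1), (58, 2), (59, -6), (64, -2), (129, 4), (135, -2), (140, -2), (157, -3), (186, 1), (188, -1), (192, -1)])

def tg_126 : ℕ × ℤ × List (ℕ × ℤ) := (6006, 1, [(16, -1), (21, -1), (22, 1), (24, 1), (39, 1), (42, -1), (51, 4), (58, 2), (64, 2), (75, 2), (126, -1), (129, -1), (135, 1), (186, 1), (188, -1), (192, -1)])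

def tg_127 : ℕ × ℤ × List (ℕ × ℤ) := (6000, 1, [(16, -2), (21, -1), (22, 1), (24, 1), (58, 1), (59, -6), (64, -5), (75, -1), (121, 1), (122, 1), (129, 5), (135, -6), (140, -2), (157, -3), (186, 1), (188, -1), (192, -1)])

def tg_128 : ℕ × ℤ × List (ℕ × ℤ) := (6005, 1, [(16, -1), (21, -1), (22, 2), (24, 1), (42, -1), (51, 1), (58, 2), (59, -2), (64, -1), (75, -1), (129, 2), (135, -2), (140, -2), (157, -1), (186, 1), (188, -1), (192, -1)])

def tg_129 : ℕ × ℤ × List (ℕ × ℤ) := (7006, 1, [(16, -3), (21, -1), (22, 1), (24, 1), (39, 1), (42, -1), (51, 2), (58, 2), (59, -4), (64, -2), (129, 3), (135, -3), (140, -3), (157, -2), (186, 1), (188, -1), (192, -1)])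

def tg_130 : ℕ × ℤ × List (ℕ × ℤ) := (8008, 1, [(16, -3), (21, -1), (22, 1), (24, 2), (42, -1), (51, 3), (58, 4), (59, -2), (64, -1), (129, 2), (132, -1), (135, -2), (140, -2), (157, -1), (186, 1), (188, -1), (192, -1)])

def tg_131 : ℕ × ℤ × List (ℕ × ℤ) := (8002, 1, [(16, -2), (21, -2), (22, 1), (24, 1), (39, 1), (42, -1), (51, 2), (58, 2), (59, -2), (64, -1), (129, 2), (135, -2), (140, -2), (157, -1), (186, 1), (188, -1), (192, -1)])

def tg_132 : ℕ × ℤ × List (ℕ × ℤ) := (9003, 1, [(16, -2), (21, -1), (22, 1), (24, 1), (39, 1), (51, 2), (58, 2), (59, -4), (64, -2), (65, 1), (75, -1), (129, 2), (135, -3), (140, -2), (157, -2), (161, 1), (186, 1), (188, -1), (192, -1)])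

def tg_133 : ℕ × ℤ × List (ℕ × ℤ) := (10001, 1, [(16, -3), (21, -1), (22, 1), (24, 1), (39, 1), (42, -1), (51, 2), (58, 2), (59, -4), (64, -2), (129, 3), (135, -3), (140, -2), (157, -2), (186, 1), (188, -1), (192, -1)])

def tg_134 : ℕ × ℤ × List (ℕ × ℤ) := (10004, 1, [(16, -2), (21, -1), (22, 1), (24, 1), (39, 1), (42, -1), (51, 2), (58, 2), (59, -2), (129, 1), (135, -1), (140, -2), (157, -1), (186, 1), (188, -1), (192, -1)])

def tg_135 : ℕ × ℤ × List (ℕ × ℤ) := (10008, 1, [(16, -2), (21, -1), (22, 1), (24, 1), (39, 1), (42, -1), (51, 1), (58, 1), (59, -4), (64, -2), (129, 3), (135, -3), (140, -2), (157, -2), (186, 1), (188, -1), (192, -1)])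

def tg_136 : ℕ × ℤ × List (ℕ × ℤ) := (11001, 1, [(16, -2), (21, -1), (22, 1), (24, 2), (39, 2), (42, -1), (51, 2), (58, 2), (59, -4), (64, -1), (129, 2), (135, -2), (140, -2), (157, -2), (186, 1), (188, -1), (192, -1)])

def tg_137 : ℕ × ℤ × List (ℕ × ℤ) := (11003, 1, [(16, -2), (21, -1), (22, 1), (24, 1), (35, -1), (39, 1), (42, -1), (51, 2), (58, 2), (59, -2), (129, 2), (135, -1), (140, -2), (157, -1), (186, 1), (188, -1), (192, -1)])

def tg_138 : ℕ × ℤ × List (ℕ × ℤ) := (11004, 1, [(16, -2), (21, -1), (22, 1), (24, 1), (39, 1), (42, -1), (51, 2), (58, 2), (59, -2), (64, -1), (129, 2), (135, -1), (140, -2), (157, -1), (186, 1), (188, -1), (192, -1)])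

def tg_139 : ℕ × ℤ × List (ℕ × ℤ) := (11008, 1, [(16, -2), (21, -1), (22, 1), (24, 1), (39, 2), (42, -1), (51, 2), (58, 2), (59, -4), (64, -1), (129, 2), (135, -2), (140, -2), (157, -2), (186, 1), (188, -1), (192, -1)])

def tg_140 : ℕ × ℤ × List (ℕ × ℤ) := (12000, 1, [(16, -2), (21, -1), (22, 1), (24, 1), (39, 1), (42, -1), (51, 2), (58, 2), (59, -2), (129, 2), (135, -1), (140, -2), (157, -1), (186, 1), (188, -1), (192, -1)])

def tg_141 : ℕ × ℤ × List (ℕ × ℤ) := (12002, 1, [(16, -2), (21, -1), (22, 1), (24, 1), (37, 1), (39, 1), (42, -1), (51, 3), (58, 3), (59, -2), (129, 1), (135, -1), (140, -2), (157, -1), (186, 1), (188, -1), (192, -1)])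

def tg_142 : ℕ × ℤ × List (ℕ × ℤ) := (12003, 1, [(16, -2), (21, -1), (22, 1), (24, 1), (39, 1), (42, -2), (51, 2), (58, 2), (59, -2), (65, -1), (75, 1), (129, 2), (135, -1), (140, -2), (157, -1), (186, 1), (188, -1), (192, -1)])

def tg_143 : ℕ × ℤ × List (ℕ × ℤ) := (12005, 1, [(16, -2), (21, -1), (22, 1), (24, 1), (39, 1), (42, -1), (51, 2), (58, 2), (59, -4), (64, -1), (129, 2), (135, -2), (140, -2), (157, -2), (186, 1), (188, -1), (192, -1)])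

def tg_144 : ℕ × ℤ × List (ℕ × ℤ) := (12006, 1, [(16, -2), (21, -1), (22, 1), (24, 1), (39, 1), (42, -1), (51, 1), (58, 2), (59, -4), (64, -2), (75, -1), (129, 3), (135, -3), (140, -2), (157, -2), (186, 1), (188, -1), (192, -1)])

def tg_145 : ℕ × ℤ × List (ℕ × ℤ) := (13001, 1, [(16, -2), (21, -1), (22, 1), (24, 1), (39, 1), (42, -2), (51, 2), (58, 2), (59, -2), (129, 2), (135, -1), (140, -2), (157, -1), (186, 1), (188, -1), (192, -1)])

def tg_146 : ℕ × ℤ × List (ℕ × ℤ) := (13002, 1, [(16, -2), (21, -1), (22, 1), (24, 1), (39, 1), (51, 2), (58, 2), (59, -4), (64, -2), (129, 2), (135, -3), (140, -2), (157, -2), (186, 1), (188, -1), (192, -1), (198, 1)])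

def tg_147 : ℕ × ℤ × List (ℕ × ℤ) := (14001, 1, [(16, -2), (21, -1), (22, 1), (24, 1), (39, 1), (42, -1), (51, 1), (58, 2), (59, -4), (64, -2), (129, 3), (135, -3), (140, -2), (157, -2), (186, 1), (188, -1), (192, -1)])

def tg_148 : ℕ × ℤ × List (ℕ × ℤ) := (14002, 1, [(16, -2), (21, -1), (22, 1), (24, 1), (39, 1), (42, -1), (51, 2), (58, 2), (59, -3), (64, -1), (129, 2), (135, -2), (140, -2), (157, -2), (186, 1), (188, -1), (192, -1)])

def C : Cert where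
  p := 2
  n := 17
  r := 4
  fuel := 405
  rules := [rule_0, rule_1, rule_2, rule_3, rule_4, rule_5, rule_6, rule_7, rule_8, rule_9, rule_10, rule_11, rule_12, rule_13, rule_14, rule_15, rule_16]
  defs := [(1, 0), (2, 1), (3, 1), (4, 1), (5, 1), (3, 0), (4, 0), (5, 4), (5, 2), (7, 3), (7, 4), (8, 5), (7, 0)]
  items := [item_0, item_1, item_2, item_3]
  ovs := [ov_0, ov_1, ov_2, ov_3, ov_4, ov_5, ov_6, ov_7, ov_8, ov_9, ov_10, ov_11, ov_12, ov_13, ov_14, ov_15, ov_16, ov_17, ov_18, ov_19, ov_20, ov_21, ov_22, ov_23, ov_24, ov_25, ov_26, ov_27, ov_28, ov_29, ov_30, ov_31, ov_32, ov_33, ov_34, ov_35, ov_36, ov_37, ov_38, ov_39, ov_40, ov_41, ov_42, ov_43, ov_44, ov_45, ov_46, ov_47, ov_48, ov_49, ov_50, ov_51, ov_52, ov_53, ov_54, ov_55, ov_56, ov_57, ov_58, ov_59, ov_60, ov_61, ov_62, ov_63, ov_64, ov_65, ov_66, ov_67, ov_68, ov_69, ov_70, ov_71, ov_72, ov_73, ov_74, ov_75, ov_76, ov_77,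 ov_78, ov_79, ov_80, ov_81, ov_82, ov_83, ov_84, ov_85, ov_86, ov_87, ov_88, ov_89, ov_90, ov_91, ov_92, ov_93, ov_94, ov_95, ov_96, ov_97, ov_98, ov_99, ov_100, ov_101, ov_102, ov_103, ov_104, ov_105, ov_106, ov_107, ov_108, ov_109, ov_110, ov_111, ov_112, ov_113, ov_114, ov_115, ov_116, ov_117, ov_118, ov_119, ov_120, ov_121, ov_122, ov_123, ov_124, ov_125, ov_126, ov_127, ov_128, ov_129, ov_130, ov_131, ov_132, ov_133, ov_134, ov_135, ov_136, ov_137, ov_138, ov_139, ov_140, ov_141, ov_142, ov_143, ov_144, ov_145, ov_146, ov_147, ov_148, ov_149, ov_150, ov_151]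
  frs := [fr_0, fr_1, fr_2, fr_3, fr_4, fr_5, fr_6, fr_7, fr_8, fr_9, fr_10, fr_11, fr_12, fr_13, fr_14, fr_15, fr_16, fr_17, fr_18, fr_19, fr_20, fr_21, fr_22, fr_23, fr_24, fr_25, fr_26, fr_27, fr_28, fr_29, fr_30, fr_31, fr_32, fr_33, fr_34]
  k0 := 3002
  zm := 2
  zcomb := [(1, 2), (5, 2), (6, 2), (11, 2), (13, 462), (14, 36), (15, 898), (16, 214), (17, 1694), (18, 308), (19, -220), (20, -1410), (21, -31888), (22, 2450), (23, 27642), (24, 3894), (25, -1758), (26, -1360), (27, -8376), (28, 3918), (29, 42790), (30, -1012), (31, 108), (32, 8934), (33, -9212), (34, 3252), (35, 120), (36, -7980), (37, 31554), (39, 3984), (41, 32060), (42, 3138), (44, -6394), (45, -13834), (46, 56770), (48, -36252), (49, -16594), (50, 57904), (51, -6330), (52, 38698), (53, 25112), (54, -16730), (55, -26414), (58, 4364), (59, -12702), (62, 54726), (63, 56794), (64, -8356), (65, -1844), (67, -9720), (68, -36740),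 (69, -60194), (70, -10130), (71, 49986), (74, 17252), (75, 2408), (76, -128444), (77, -58446), (79, 14204), (80, -51496), (81, 23150), (82, -123312), (83, -954), (84, 89114), (85, -50580), (86, 99900), (87, -26038), (88, 12886), (89, 35574), (90, -28450), (91, 16334), (93, 118606), (94, 68850), (95, 36500), (96, -62402), (97, -21532), (98, 14880), (99, 2422), (100, 17306), (101, -2456), (102, 1974), (104, 5370), (105, -56607), (106, -201148), (107, 214194), (108, 39102), (109, 112273), (110, 20094), (111, 72310), (112, -64015), (113, 32096), (114, -18096), (115, -20368), (116, 5005), (117, -35410), (118, 23164), (119, -864), (120, -48442), (121, -396), (122, -396), (124, 1258), (125, 1240), (126, 34), (127, 1692), (128, 1692), (129, -180), (132, 2326), (133, 1428), (134, 1296), (135, -1268), (137, 2170), (138, -27880), (139, -224), (140, -224), (142, -49826), (143, -50536), (144, -1562), (145,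 -920), (147, 9611), (148, -7490), (149, 1258), (151, -47806), (152, -47806), (153, 6686), (154, 6686), (156, 4682), (157, -36031), (158, -57178), (159, -896), (160, -32324), (161, 328), (162, -5234), (163, 430), (164, -42568), (165, -68), (166, -34), (167, -102), (168, 34), (169, 68), (170, 68), (171, 794), (172, -794), (173, -794), (174, -4438), (175, 6060), (177, -34), (179, 462), (180, -462), (181, 462), (182, -462), (183, 462), (184, 462), (185, 19246), (186, 2), (187, -8482), (188, -2), (189, -8482), (190, 8482), (192, -2), (194, -898), (195, -460), (196, 460), (197, -460), (198, 29648), (199, -4172)]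
  targets := [tg_0, tg_1, tg_2, tg_3, tg_4, tg_5, tg_6, tg_7, tg_8, tg_9, tg_10, tg_11, tg_12, tg_13, tg_14, tg_15, tg_16, tg_17, tg_18, tg_19, tg_20, tg_21, tg_22, tg_23, tg_24, tg_25, tg_26, tg_27, tg_28, tg_29, tg_30, tg_31, tg_32, tg_33, tg_34, tg_35, tg_36, tg_37, tg_38, tg_39, tg_40, tg_41, tg_42, tg_43, tg_44, tg_45, tg_46, tg_47, tg_48, tg_49, tg_50, tg_51, tg_52, tg_53, tg_54, tg_55, tg_56, tg_57, tg_58, tg_59, tg_60, tg_61, tg_62, tg_63, tg_64, tg_65, tg_66, tg_67, tg_68, tg_69, tg_70, tg_71, tg_72, tg_73, tg_74, tg_75, tg_76, tg_77, tg_78, tg_79, tg_80, tg_81, tg_82, tg_83, tg_84, tg_85, tg_86, tg_87, tg_88, tg_89, tg_90, tg_91, tg_92, tg_93, tg_94, tg_95, tg_96, tg_97, tg_98, tg_99, tg_100, tg_101, tg_102, tg_103, tg_104, tg_105, tg_106, tg_107, tg_108, tg_109, tg_110, tg_111, tg_112, tg_113, tg_114, tg_115, tg_116, tg_117, tg_118, tg_119, tg_120, tg_121, tg_122, tg_123, tg_124,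 tg_125, tg_126, tg_127, tg_128, tg_129, tg_130, tg_131, tg_132, tg_133, tg_134, tg_135, tg_136, tg_137, tg_138, tg_139, tg_140, tg_141, tg_142, tg_143, tg_144, tg_145, tg_146, tg_147, tg_148]

def wE : List (List ℕ) := [[2, 3, 2, 4, 3, 2, 5, 4, 7, 3, 2, 4, 3, 5, 4, 6, 5, 7, 3, 8, 7, 3, 2, 4, 5, 6, 1, 2, 3, 4, 5, 7, 3, 2, 4, 3, 7, 8, 7, 3, 2, 1, 4, 3, 5, 4, 7, 3, 0, 1, 2, 3, 4, 5, 6, 7, 3, 2, 4, 3, 5, 8, 7, 3, 2, 1, 0, 4, 3, 2, 5, 4, 7, 3], [2, 5, 4, 3, 2, 6, 7, 3, 4, 8, 7, 3, 2, 4, 3, 5, 4, 6, 7, 3, 8, 7, 1, 2, 3, 4, 7, 3, 2, 8, 0, 1, 2, 3, 4, 5, 6, 7, 3, 2, 1, 4, 3, 2, 8, 7, 3, 2, 1, 0, 4, 3, 2, 1, 5, 4, 3, 2, 6, 7, 3, 4, 5, 8], [4, 5, 6, 5, 7, 3, 2, 4, 3, 5, 4, 7, 3, 8, 7, 3, 2, 4, 3, 5, 4, 6, 5, 7, 3, 2, 4, 8, 7, 3, 2, 1, 2, 3, 4, 5, 6, 7, 3, 2, 4, 5, 8, 7, 3, 2, 1, 4, 3, 2, 5, 6, 7, 3, 4, 5, 0, 1, 2, 3, 4, 5, 6, 7, 3, 2, 4, 3, 8, 7, 3, 2, 1, 0, 4, 3, 2, 1, 5, 4, 3, 2, 7, 3, 4, 8, 7, 3,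 2], [2, 3, 2, 5, 4, 3, 2, 6, 5, 4, 7, 3, 2, 4, 3, 5, 4, 6, 7, 3, 8, 7, 3, 2, 4, 3, 5, 6, 7, 8, 1, 2, 3, 4, 5, 6, 7, 3, 4, 5, 8, 7, 3, 2, 1, 4, 3, 7, 8, 0, 1, 2, 3, 4, 5, 6, 7, 3, 2, 1, 4, 3, 5, 4, 8, 7, 3, 2, 1, 4, 3, 2, 5, 6, 7, 3, 8], [2, 4, 5, 6, 7, 3, 2, 8, 7, 3, 2, 4, 3, 5, 4, 6, 5, 7, 3, 2, 4, 3, 7, 8, 7, 3, 2, 4, 5, 1, 2, 3, 4, 5, 7, 3, 2, 4, 3, 7, 8, 7, 3, 2, 1, 4, 3, 5, 4, 7, 3, 0, 1, 2, 3, 4, 5, 7, 3, 2, 4, 3, 7, 8, 7, 3, 2, 1, 4, 3, 2, 5, 6, 7, 3], [2, 3, 2, 8, 7, 3, 2, 4, 3, 5, 4, 6, 5, 7, 3, 2, 4, 3, 7, 8, 7, 3, 4, 5, 6, 1, 2, 3, 4, 5, 7, 3, 2, 4, 3, 7, 8, 7, 3, 2, 1, 4, 3, 5, 4, 7, 3, 0, 1, 2, 3, 4, 5, 6, 7, 3, 2, 4, 3, 5, 7, 8, 7, 3, 2, 1, 4, 3, 2, 7, 3, 4, 8], [2, 3, 5, 7, 3, 2, 4, 3, 5, 6, 8, 7, 3, 2, 4, 3, 5, 4, 6, 5, 7, 3, 2, 4, 3, 7, 8, 7, 3, 4, 5, 1, 2, 3, 4, 5, 6, 7, 3, 2, 4, 3, 7, 8, 7, 3, 2, 1, 4, 3, 2, 7, 3, 4, 5, 0, 1, 2, 3, 4, 5, 6, 7, 3, 2, 1, 4, 5, 8, 7, 3, 2,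 1, 4, 3, 2, 5, 4, 7, 3, 2, 1, 4, 8], [4, 3, 2, 6, 5, 4, 3, 7, 3, 2, 4, 3, 5, 4, 6, 5, 7, 3, 2, 1, 2, 3, 4, 5, 7, 3, 2, 4, 3, 7, 8, 7, 3, 2, 4, 3, 5, 4, 6, 7, 0, 1, 2, 3, 4, 5, 6, 7, 3, 2, 1, 4, 3, 2, 5, 8, 7, 3, 2, 1, 0, 4, 3, 2, 1, 5, 4, 7, 3, 2, 1, 0, 4, 3, 7, 8, 7], [2, 3, 4, 6, 5, 4, 3, 7, 3, 2, 4, 3, 7, 8, 7, 3, 2, 4, 3, 7, 8, 1, 2, 3, 4, 5, 7, 3, 2, 4, 3, 7, 8, 7, 3, 2, 1, 4, 3, 5, 4, 7, 3, 0, 1, 2, 3, 4, 5, 6, 7, 3, 2, 1, 4, 3, 2, 5, 8, 7, 3, 2, 1, 4, 3, 2, 7, 3, 8, 7], [2, 3, 2, 4, 3, 5, 4, 3, 2, 8, 7, 3, 2, 4, 3, 5, 4, 1, 2, 3, 4, 7, 3, 2, 8, 0, 1, 2, 3, 4, 5, 6, 7, 3, 2, 1, 0, 4, 3, 5, 4, 8, 7, 3, 2, 1, 0, 4, 3, 2, 1, 5, 4, 3, 2, 7, 3, 2, 1, 4, 8], [3, 2, 4, 3, 7, 3, 2, 4, 3, 7, 8, 7, 3, 2, 4, 3, 5, 4, 6, 5, 7, 3, 2, 4, 3, 8, 7, 1, 2, 3, 4, 7, 3, 2, 1, 0, 1, 2, 3, 4, 5, 6, 7, 3, 2, 1, 4, 5, 8, 7, 3, 2, 4, 3, 7, 8], [3, 2, 5, 4, 3, 7, 3, 2, 4, 3, 5, 4, 6, 5, 8, 7, 3, 2, 4, 3, 5, 4,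 6, 5, 7, 3, 2, 4, 3, 7, 8, 1, 2, 3, 4, 7, 3, 2, 1, 0, 1, 2, 3, 4, 5, 6, 7, 3, 2, 1, 0, 4, 5, 8, 7, 3, 2, 4, 3, 5, 7], [2, 4, 5, 4, 6, 5, 4, 7, 3, 4, 5, 6, 8, 7, 3, 4, 5, 6, 1, 2, 3, 4, 7, 3, 2, 1, 0, 1, 2, 3, 4, 5, 6, 7, 3, 2, 1, 4, 3, 5, 4, 7, 3, 8, 7], [0], [2, 4, 3, 2, 5, 4, 3, 2, 6, 7, 3, 2, 4, 3, 8, 7, 3, 2, 4, 3, 5, 4, 6, 5, 7, 3, 2, 4, 3, 8, 1, 2, 3, 4, 7, 3, 2, 1, 0, 1, 2, 3, 4, 5, 6, 7, 3, 2, 1, 4, 5, 8, 7, 3, 2, 4, 3, 5, 4, 7, 8], [2, 3, 2, 4, 3, 2, 6, 7, 3, 2, 4, 3, 7, 8, 7, 3, 2, 4, 3, 5, 4, 6, 5, 7, 3, 2, 4, 3, 7, 1, 2, 3, 4, 7, 3, 2, 1, 0, 1, 2, 3, 4, 5, 6, 7, 3, 2, 1, 0, 4, 5, 8, 7, 3, 2, 4, 3, 7], [2, 0]]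

def wY : List (List ℕ) := [[6, 5, 8, 7, 3, 2, 4, 3, 5, 4, 7, 3, 8, 1, 2, 3, 4, 5, 6, 7, 3, 2, 4, 3, 7, 8, 7, 3, 2, 1, 4, 3, 2, 7, 3, 4, 5, 0, 1, 2, 3, 4, 5, 6, 7, 3, 2, 1, 4, 3, 2, 8, 7, 3, 2, 1, 4, 3, 2, 5, 4, 3, 7, 3, 2, 1, 8], [5, 4, 3, 2, 6, 5, 8, 7, 3, 2, 4, 3, 5, 4, 6, 5, 7, 3, 2, 4, 8, 7, 3, 4, 5, 1, 2, 3, 4, 5, 7, 3, 2, 4, 3, 7, 8, 7, 3, 2, 1, 4, 3, 5, 4, 7, 3, 0, 1, 2, 3, 4, 5, 7, 3, 2, 4, 3, 7, 8, 7, 3, 2, 1, 0, 4, 3, 2, 5, 7, 3], [3, 5, 4, 3, 6, 5, 7, 3, 2, 4, 3, 5, 6, 8, 7, 3, 1, 2, 3, 4, 5, 6, 7, 3, 2, 1, 4, 5, 8, 7, 3, 2, 1, 4, 3, 2, 5, 4, 6, 7, 3, 4, 5, 8, 7, 3, 0, 1, 2, 3, 4, 5, 6, 7, 3, 2, 1, 4, 3, 2, 5, 8, 7, 3, 2, 1, 0, 4, 3, 2, 5, 4, 6, 7], [4, 3, 2, 6, 7, 3, 2, 4, 3, 5, 6, 7, 8, 7, 3, 2, 4, 3, 7, 8, 1, 2, 3, 4, 7, 3, 2, 8, 0, 1, 2, 3, 4, 5, 6, 7, 3, 2, 1, 0, 4, 3, 5, 4, 8, 7, 3, 2, 1, 0, 4, 3, 2, 1, 5, 4, 3, 2, 7, 3, 2, 1, 8, 7]]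

def lv : List (ℕ × List (List ℕ)) := [(1, [[], [13], [13, 16], [16], [1, 2, 4, 10], [2, 3, 6, 11], [1, 2, 8], [1, 2, 8, 13], [2, 5, 6, 8, 12], [0, 1, 2, 14], [0, 2, 8, 10, 12], [0, 2, 4, 12], [2, 3, 6, 13], [0, 2, 3, 6, 8], [1, 2, 10], [2, 8, 14, 16], [2, 7, 14], [2, 4, 5, 6, 16], [1, 2, 10, 13], [2, 4, 10, 14], [2, 3, 6], [2, 4, 5, 6], [1, 2, 13, 15], [1, 2, 6, 9], [0, 2, 3, 7, 10], [0, 2, 3, 5], [2, 4, 5, 7, 10], [1, 2, 15], [2, 8, 14], [0, 2, 3, 6], [0, 2, 6, 11, 14], [2, 4, 5, 8], [0, 2, 7, 11], [2, 5, 11, 12], [4, 5, 7, 11], [0, 1, 2, 4, 12], [2, 5, 6, 9, 10], [2, 12, 13], [0, 4, 16], [1, 6, 8, 16], [2, 5, 14], [2, 5, 12, 14], [2, 12, 16], [0, 8, 10], [0, 2, 4, 6, 11], [1, 6, 8], [2, 5, 14, 16], [1, 2, 3, 5], [4, 10], [2, 12], [0, 1, 4, 5], [1, 3, 4], [1, 2, 4, 5, 10], [2, 4, 5, 6, 7], [0, 1, 5, 7], [2, 5, 13, 14], [2, 5, 11], [8, 16], [0, 2, 5, 15], [0, 4], [2, 4, 5, 15], [3, 10, 11,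 12], [1, 7, 13], [2, 3, 8], [2, 4, 8], [0, 2, 4, 6, 11, 13], [0, 2, 8, 9], [1, 2, 5, 9], [1, 6, 9], [8], [1, 2, 7, 11, 13], [0, 9, 14], [1, 3, 6, 9], [0, 2, 3, 4], [0, 2, 6, 8, 12], [0, 1, 9], [1, 7, 16], [2, 3, 4, 10], [2, 12, 15], [2, 4, 5, 10, 14], [0, 1, 2, 9], [2, 5, 11, 13], [8, 13], [1, 2, 7, 11], [5, 15], [2, 5, 8, 11], [0, 2, 7, 8, 12], [0, 5, 11], [10, 11, 14], [0, 2, 3, 7, 13], [1, 7], [0, 7, 16], [2, 3, 8, 13], [4, 12, 16], [0, 5, 8, 9], [2, 7, 9], [2, 3, 7, 9, 11], [2, 3, 4, 5], [0, 1, 5, 6, 12], [0, 13, 14], [0, 4, 6, 9, 10], [3, 5, 11, 13], [1, 2, 7, 11, 16], [3, 8, 12, 16], [5, 10], [1, 3, 9], [1, 2, 5, 8, 13], [0, 1, 3, 9], [0, 4, 5, 8], [0, 2, 6, 14], [1, 6, 10], [0, 6, 10], [2, 6, 8, 11], [8, 10, 12], [0, 2, 5], [1, 2, 4, 6, 10], [2, 4, 5, 11, 12], [0, 3, 6, 8], [1, 3, 8, 12, 14], [2, 4, 9, 11], [5, 10, 13], [5, 11], [1, 2, 5, 8], [4, 6, 11], [5, 9, 14], [3, 11, 14], [12,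 16], [2, 5, 13], [0, 2, 3, 7], [0, 2, 3, 7, 11], [0, 7, 13], [4, 12, 13], [4, 10, 11], [1, 5, 14], [1, 2, 4, 7, 13], [0, 4, 11, 14], [0, 14], [0, 6, 9, 13], [4, 5, 7, 14], [1, 3, 5, 7], [3, 4, 7, 9], [1, 4, 6, 9], [1, 9], [0, 1, 3, 6], [4, 8, 15], [2, 5, 16], [0, 2, 3, 6, 10], [2, 5, 6, 9, 13], [0, 7], [4, 12], [3, 4, 6], [1, 2, 4, 7], [0, 1, 3, 5, 10], [0, 4, 6, 7, 12], [0, 1, 2, 8], [4, 5, 8, 12], [4, 6, 11, 13], [3, 5, 14], [0, 3, 6, 9], [12, 13], [2, 3, 5, 7], [2, 5], [0, 2, 7, 12], [2, 5, 7, 9, 14], [2, 5, 14, 15], [1, 8, 13], [2, 3, 4, 7, 9], [1, 2, 4, 7, 10], [8, 11], [2, 4, 6, 11, 16], [3, 5, 8, 10], [0, 6, 9], [3, 8, 12], [0, 8, 9, 10, 11], [5, 8, 13, 14], [12], [0, 1, 2, 4, 10], [2, 5, 13, 16], [0, 2, 6, 12], [2, 5, 6, 9], [2, 5, 6, 7], [2, 3, 8, 12], [2, 3, 11, 12, 13], [8, 11, 13], [2, 4, 6, 11, 13], [0, 2, 6, 16], [2, 3, 5, 7, 13], [1, 8], [2, 3, 4, 5, 8], [1, 11, 12], [0, 2,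 6], [0, 2, 3, 7, 12], [0, 2, 6, 10], [2, 5, 13, 14, 15], [2, 5, 10, 11], [1, 8, 16], [0, 4, 6, 12], [2, 3, 7, 13], [1, 2, 6, 11], [1, 5, 7], [7, 8, 14], [0, 1, 2, 15], [1, 2, 4, 6], [1, 2, 9, 11, 13], [0, 4, 6], [3, 4, 5, 11], [8, 9], [1, 10, 13], [2, 3, 5, 12, 15], [5, 8, 14], [0, 1, 10], [0, 2, 7, 10], [0, 2, 9, 10], [0, 2, 7], [2, 3, 5, 9], [2, 3, 5, 9, 11], [2, 6, 14], [2, 3, 6, 8, 9], [1, 5, 6, 10], [2, 6, 11, 13], [2, 4, 5, 9, 11], [2, 3, 11, 12], [2, 4, 6, 11], [0, 2, 6, 13], [0, 2, 9, 16], [0, 1, 5], [4, 5, 6, 7], [4, 6, 13], [0, 2, 12], [2, 5, 7, 11], [4, 9], [1, 10], [0, 2, 9], [2, 3, 7], [0, 2, 7, 16], [0, 2, 6, 11], [2, 3, 9, 10, 11], [0, 1, 2, 10, 13], [0, 2, 9, 14], [0, 4, 9, 10], [1, 2, 4], [0, 5, 8, 10], [4, 7, 10], [8, 9, 13], [0, 4, 7, 10], [1, 15], [2, 5, 6, 13, 14], [2, 5, 7, 10, 14], [6, 10, 11, 12], [1, 4, 5, 6], [0, 2, 6, 12, 15], [2, 3, 6, 10], [0, 2, 7, 13], [0, 1,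 2, 4], [2, 5, 8, 9], [1, 2, 5, 7, 12], [2, 6, 11], [4, 11, 12], [1, 2, 8, 10], [0, 2, 3, 9], [2, 5, 13, 15], [3, 9, 11], [0, 3, 8, 11], [0, 8, 9, 10], [0, 6, 12], [4, 6], [2, 8, 9, 13], [9, 11, 13, 16], [0, 2, 12, 13], [4, 9, 13], [0, 5, 7, 11], [9, 11, 13], [0, 2, 6, 7], [0, 1], [1, 13, 15], [2, 3, 7, 8, 12], [2, 3, 4, 6], [0, 2, 3, 7, 8, 12], [2, 4, 7, 8, 11], [2, 5, 10, 13], [2, 3, 5, 6], [1, 2, 4, 6, 9], [2, 6, 7, 9, 11], [2, 9, 14], [0, 1, 2, 5, 8], [2, 4, 11, 14], [2, 5, 7, 8], [0, 2, 8, 10, 11], [1, 2, 3], [2, 8, 10], [2, 5, 6, 14], [0, 1, 15], [2, 5, 15], [2, 5, 12], [0, 1, 2, 11], [1, 2, 6, 7], [2, 4], [2, 5, 10], [1, 4, 12, 16], [1, 9, 14], [1, 2, 6, 10], [0, 1, 13], [6, 11, 12], [0, 6, 8, 10], [0, 7, 8, 13], [1, 4, 11], [0, 9, 10], [0, 7, 12], [0, 2, 4, 7], [2, 4, 9, 13], [2, 8, 9], [4, 11, 14], [3, 4, 9, 10], [2, 3, 8, 10], [0, 3, 6], [0, 1, 3], [9, 11], [9, 10, 11], [0, 2, 14,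 15], [0, 1, 14], [0, 2, 3], [2, 3, 6, 8, 12], [2, 8, 11, 13], [2, 4, 5, 9, 14], [2, 9, 11, 14], [2, 4, 11, 12], [1, 2, 10, 11], [0, 2, 4, 11, 12], [2, 3, 9, 11], [2, 11, 12, 16], [0, 2, 4, 16], [2, 9, 10, 11, 14], [2, 3, 9, 14], [2, 4, 7, 8], [1, 2, 4, 5, 9], [2, 4, 7, 9], [2, 4, 16], [2, 3, 6, 8, 13], [1, 2, 4, 8, 11], [2, 4, 5, 9], [2, 3, 8, 9, 10], [2, 3, 7, 8, 10], [0, 2, 4], [2, 6, 9, 10], [3, 8, 11], [2, 4, 13], [2, 8, 12], [2, 5, 7, 8, 11], [10], [5, 8, 16], [5, 8], [3, 4, 5, 15], [1, 3, 9, 14], [0, 9, 11], [2, 3, 5, 8, 15], [2, 6, 8], [1, 2, 7], [4, 6, 9, 13], [4, 14, 16], [2, 4, 6, 11, 12], [1, 3, 7], [2, 5, 6, 12], [2, 5, 6, 11, 12], [6, 8, 10], [0, 7, 8], [4, 5, 16], [4, 5], [5, 14], [2, 5, 8, 13], [0, 2, 4, 7, 13], [2, 6, 9, 13], [2, 12, 14], [1, 7, 8, 12], [1, 2, 4, 5], [1, 2, 9], [1, 3, 5, 10], [3, 4, 6, 12], [2, 3, 4], [5, 12, 16], [0, 1, 8], [3, 8, 9, 10], [2, 3, 4, 16], [5,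 12], [1, 2, 3, 6], [4], [6, 8, 9], [3, 6, 7, 9, 11], [2, 3, 5, 10], [2, 4, 6, 9, 11], [2, 8, 11], [0, 2, 4, 6, 9, 11], [2, 6, 11, 12], [2, 5, 7, 8, 14], [2, 11, 12, 13], [1, 2, 6, 8], [0, 2, 8, 10], [2, 9, 14, 16], [0, 2, 3, 8, 9], [2, 3, 6, 8], [2, 3, 4, 9, 10], [1, 2, 4, 5, 6], [2, 3, 12, 14], [7, 8, 13], [3, 8, 10], [10, 13], [13, 15], [11, 16], [11, 12, 14], [1, 5, 10], [1, 4, 12], [0, 4, 6, 11], [5, 6, 8, 9], [0, 9, 11, 13], [0, 2, 3, 4, 12], [2, 3, 4, 5, 11], [1, 2, 7, 8], [0, 1, 5, 6], [2, 5, 7, 8, 9], [1, 2, 7, 13], [4, 6, 9], [8, 14, 15], [1, 2, 3, 6, 11], [1, 3, 6, 10], [8, 12, 14], [8, 10, 14], [1, 2, 6, 10, 11], [0, 6, 10, 11], [1, 2, 4, 7, 8], [4, 7, 9, 11], [4, 11], [0, 2, 11], [2, 5, 9, 10], [1, 3, 7, 10], [0, 3, 7], [7, 8], [4, 5, 13], [1, 5, 12], [2, 5, 8], [2, 3, 6, 9], [1, 6, 8, 12], [2, 4, 5, 16], [2, 6, 9], [2, 6, 7, 12], [0, 1, 3, 5], [2, 4, 5], [4, 5, 7], [3, 6, 8],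 [3, 4, 7, 12], [2, 4, 7, 11], [5, 12, 13], [2, 7, 8, 14], [4, 13], [8, 12], [2, 4, 6], [8, 10], [8, 12, 16], [2, 3, 4, 6, 9], [0, 8, 16], [2, 13], [2, 10, 13], [0, 4, 6, 9], [8, 9, 10, 11], [0, 2, 4, 14], [1, 2, 5, 7, 8], [0, 12, 13], [1, 14, 15], [3, 5, 10], [2, 11, 12], [2, 4, 5, 9, 16], [3, 4], [7, 8, 12], [15], [11, 13, 16], [0, 1, 6, 12], [11, 13], [3, 11, 12], [6, 9, 10, 11], [4, 8, 11], [7, 9, 14], [11, 13, 14], [4, 7, 11], [5, 8, 12], [4, 7, 12], [2, 4, 6, 8], [2, 3, 5, 8, 10], [0, 1, 2, 5, 9], [1, 3, 8, 11], [1, 2, 4, 5, 11], [0, 2, 5, 11], [1, 7, 8], [1, 8, 11, 12], [0, 1, 2, 4, 7, 8], [0, 8, 10, 14], [6, 7, 8, 12], [4, 14], [2, 3, 4, 12], [1, 6, 14], [1, 2, 9, 14], [8, 11, 12], [4, 11, 13], [0, 6, 11], [0, 2, 4, 5, 9], [1, 5, 6], [8, 10, 11], [2, 3, 4, 10, 14], [2, 4, 5, 12], [0, 1, 2, 5, 7], [2, 3, 11, 14], [1, 3, 6], [3, 5, 6, 10], [0, 2, 6, 8], [0, 3, 6, 10], [4, 9, 14], [1,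 6, 7], [0, 12], [1, 3, 5, 6], [0, 1, 6, 8], [4, 5, 10], [2, 7, 9, 14], [0, 1, 5, 9], [0, 2, 6, 8, 11], [0, 8, 10, 12], [2, 4, 7, 10], [4, 5, 6, 10], [0, 4, 6, 9, 13], [4, 16], [4, 7, 9], [1, 2, 9, 11, 12], [4, 5, 9], [2, 16], [2, 15], [1, 4, 9, 11], [1, 2, 3, 7, 11], [2], [5, 6, 13], [2, 10], [5, 7, 10, 11], [1, 3, 8], [0, 3, 8, 9], [1, 4, 9], [0, 5, 7, 8], [0, 1, 4, 7], [2, 5, 8, 9, 12], [1], [5, 9, 10, 11], [0, 6, 9, 10], [0, 10], [1, 11], [4, 5, 7, 8], [6, 8, 12], [11], [0, 1, 9, 10], [7, 9, 11], [10, 11, 12], [3, 6, 9], [11, 14], [6, 9], [11, 14, 16], [6, 7, 15], [13, 14], [6, 7], [1, 7, 9], [8, 9, 10], [1, 2, 7, 12], [4, 6, 12], [1, 7, 12], [3, 4, 5, 13], [2, 4, 7], [0, 2, 5, 6], [0, 6, 8, 14], [2, 4, 6, 8, 13], [2, 7, 9, 11], [1, 6, 8, 10], [0, 4, 7], [1, 2, 5, 8, 10], [0, 4, 14], [1, 3, 8, 14], [0, 8, 9, 11], [4, 5, 8], [1, 2, 3, 9, 14], [1, 5, 7, 10], [4, 11, 16], [2, 7, 8, 11, 13],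 [0, 1, 2, 7, 11, 13], [2, 11, 14], [2, 10, 11, 14], [3, 5, 7], [0, 1, 2, 7, 13], [2, 3, 8, 14], [2, 11, 14, 16], [0, 1, 2, 5, 6], [0, 1, 2, 6, 10], [0, 2, 4, 9, 11], [0, 2, 8, 9, 10], [2, 3, 5, 7, 8, 9], [0, 4, 5, 7], [1, 3], [5, 6], [1, 7, 9, 11], [1, 13, 16], [3, 4, 12], [0, 1, 5, 11], [5, 8, 11], [1, 3, 4, 9], [0, 1, 8, 9], [0, 6, 16], [1, 4, 16], [0, 4, 12], [2, 3, 8, 12, 14], [4, 5, 6, 14], [1, 8, 9], [0, 9, 10, 11], [2, 13, 16], [2, 13, 15], [0, 8], [1, 4, 6], [6], [1, 4, 9, 13], [2, 3, 5, 12, 13], [0, 2, 12, 15], [1, 13], [0, 3, 11], [0, 12, 14], [5, 6, 12], [0, 3, 4, 9], [0, 3, 9], [3, 6, 7, 8, 12], [1, 5, 6, 9], [0, 8, 9, 13], [3, 8], [5, 7], [0, 14, 15], [3, 5, 10, 11], [1, 6, 9, 10], [0, 5], [1, 4, 5], [3, 15], [14], [3], [2, 8, 9, 10], [14, 15], [1, 3, 7, 12], [3, 6, 8, 10], [12, 14], [3, 12, 14], [1, 4, 8], [0, 8, 9], [1, 3, 11, 14], [0, 4, 9, 11], [2, 4, 6, 12], [4, 9, 10], [1,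 6, 12], [3, 4, 5], [1, 2, 3, 7], [5, 8, 12, 15], [2, 6, 11, 14], [0, 1, 4], [3, 4, 9], [2, 3, 8, 11], [5, 16], [0, 2, 3, 8, 11], [5, 8, 15], [3, 8, 9, 13], [4, 7], [2, 4, 7, 13], [0, 4, 6, 10], [2, 9, 10, 14], [5, 8, 10, 14], [1, 7, 8, 11], [2, 3, 5, 12], [8, 9, 11], [0, 1, 2, 7], [2, 7, 8, 11], [2, 11, 13, 14], [1, 2, 4, 9, 14], [1, 2, 3, 5, 8], [2, 5, 8, 12], [0, 2, 7, 8, 11], [0, 9], [2, 4, 5, 14], [0, 1, 2, 7, 12], [5, 11, 14], [0, 2, 4, 8], [5, 6, 14], [1, 16], [1, 5], [2, 7, 8, 12], [4, 5, 15], [1, 3, 8, 9], [3, 8, 14], [0, 7, 10], [4, 5, 7, 9], [7, 8, 11, 13], [0, 1, 2, 6, 9], [1, 6, 13], [1, 8, 10], [5, 6, 9], [2, 5, 8, 15], [1, 4, 13], [1, 2, 4, 5, 8], [6, 13], [0, 8, 10, 11], [7, 16], [4, 6, 8], [1, 9, 10, 14], [5, 7, 8, 10], [7, 10], [6, 14], [1, 2, 3, 5, 9], [0, 6, 7], [1, 12, 14], [0, 9, 16], [8, 9, 11, 16], [4, 6, 7, 12], [5, 7, 13], [4, 5, 14], [3, 4, 10], [0, 4, 8], [1, 2,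 9, 10], [13, 14, 15], [1, 9, 10], [8, 11, 14], [6, 7, 12], [6, 9, 10], [3, 8, 9], [2, 6, 8, 10], [5, 13], [0, 2, 6, 8, 10], [1, 3, 5], [2, 14, 15], [0, 3], [0, 4, 9], [5, 6, 7, 8], [1, 4, 14], [2, 7, 11], [3, 4, 9, 13], [1, 2, 7, 10], [5, 13, 16], [0, 1, 2, 7, 10], [4, 5, 11], [4, 7, 13], [2, 6, 8, 14], [2, 6, 16], [1, 4, 7, 9], [2, 9, 10, 11], [4, 6, 10], [2, 7, 11, 16], [1, 2, 4, 12], [2, 3], [4, 10, 14], [2, 3, 15], [0, 4, 10, 14], [4, 12, 14], [2, 4, 5, 7, 9], [4, 14, 15], [2, 14], [1, 4, 6, 10], [6, 8, 16], [2, 5, 7, 14], [4, 9, 11], [4, 5, 7, 8, 9], [1, 5, 11], [0, 2, 3, 8, 14], [2, 5, 6, 8, 9], [1, 2, 5, 12], [6, 16], [5, 14, 15], [0, 2, 13, 15], [7, 14], [2, 3, 5, 10, 14], [3, 6, 11, 13], [0, 4, 5, 14], [0, 2, 7, 9], [2, 4, 9, 14], [6, 8, 11], [2, 6, 8, 12], [6, 10], [0, 6, 8], [7, 8, 11], [0, 2, 8, 14], [1, 6, 16], [0, 6], [2, 5, 8, 10, 13], [2, 3, 4, 5, 7, 11], [3, 7, 13], [0, 2,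 8, 14, 16], [1, 6], [0, 1, 2, 6, 11], [1, 4], [0, 2, 4, 6], [4, 6, 8, 13], [7, 13], [6, 12, 14], [0, 2, 3, 15], [4, 7, 8], [1, 2, 5, 16], [3, 6, 10], [9], [2, 3, 11, 16], [0, 7, 9], [5, 7, 11], [1, 2, 6], [5], [0, 1, 2, 6], [2, 6, 7], [8, 14, 16], [2, 6, 7, 15], [1, 4, 6, 11], [4, 6, 9, 10], [0, 2, 3, 4, 6, 9], [2, 13, 14, 15], [0, 2, 13, 14], [3, 7, 10], [3, 9], [7, 8, 10, 12], [2, 6, 13], [5, 8, 10], [0, 1, 2, 5], [6, 8, 14], [2, 7, 11, 13], [2, 9, 10, 11, 13], [8, 14], [2, 13, 14], [0, 8, 14], [2, 5, 8, 11, 12], [1, 4, 7], [2, 9], [2, 7, 10], [2, 9, 16], [2, 6, 8, 12, 13], [2, 11, 16], [2, 10, 11], [4, 5, 6, 16], [2, 11], [6, 8, 13], [5, 7, 8], [7, 8, 10], [1, 5, 11, 13], [7], [9, 10, 14], [1, 14], [2, 5, 7, 10], [0, 2, 15], [0, 2, 10], [0, 2, 11, 14], [3, 6, 11], [1, 2, 5, 10, 13], [3, 6, 13], [2, 3, 5, 6, 7], [6, 10, 11], [1, 2, 12, 14], [2, 10, 11, 16], [9, 14], [1, 3, 15], [0, 8, 11],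 [0, 2, 4, 7, 9, 11], [0, 2, 4, 10, 14], [1, 7, 10], [2, 3, 5, 8, 13], [2, 5, 8, 10], [0, 2, 4, 10, 11, 12], [1, 2, 13, 14], [3, 7], [2, 4, 10], [0, 2, 3, 4, 7, 9], [1, 2, 16], [0, 2, 6, 9, 13], [2, 5, 7], [0, 1, 2, 6, 7], [2, 3, 5], [1, 2, 5, 12, 14], [9, 14, 16], [1, 2, 5, 13], [2, 5, 9, 13], [6, 12], [0, 2], [6, 12, 15], [0, 11, 13], [1, 2], [4, 5, 9, 14], [2, 4, 5, 12, 15], [2, 11, 13, 16], [2, 3, 11], [0, 6, 8, 9], [4, 8], [0, 4, 5, 6], [0], [0, 2, 14], [3, 6], [9, 16], [2, 5, 6], [2, 6, 12, 15], [2, 6], [2, 3, 9], [2, 11, 13], [0, 4, 7, 9], [1, 4, 7, 13], [2, 4, 5, 7, 13], [1, 2, 5, 15], [0, 2, 3, 7, 8], [6, 8], [2, 4, 11, 13], [0, 11], [6, 9, 14], [0, 7, 9, 11], [0, 11, 16], [0, 16], [2, 5, 6, 16], [0, 2, 11, 13, 14], [6, 10, 11, 13], [2, 4, 14], [2, 5, 9], [7, 11, 14], [3, 9, 14], [1, 2, 5], [0, 2, 10, 11], [6, 11, 13], [1, 2, 5, 10], [9, 10], [2, 3, 5, 14, 16], [2, 8, 11, 12, 16],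 [2, 4, 14, 16], [1, 8, 9, 10], [1, 2, 13], [1, 4, 6, 12], [2, 5, 6, 10], [0, 2, 8, 11, 12], [1, 2, 14], [2, 8], [2, 3, 5, 8], [1, 2, 13, 16], [0, 2, 8, 12], [2, 3, 7, 8, 13], [2, 8, 10, 12], [7, 12], [0, 2, 13], [1, 2, 12], [0, 1, 2, 3], [2, 3, 4, 9], [2, 5, 7, 13], [7, 11, 13], [0, 2, 13, 16], [2, 8, 10, 11], [4, 5, 6], [7, 9], [6, 9, 11], [12, 15], [3, 5], [0, 13], [3, 11], [2, 5, 9, 14], [2, 4, 7, 9, 11], [1, 2, 11], [2, 5, 6, 13], [1, 12], [2, 4, 5, 7, 16], [2, 4, 5, 7], [1, 2, 11, 16], [0, 2, 4, 7, 9], [0, 2, 12, 14], [0, 1, 2, 13, 16], [5, 8, 9], [11, 12, 13], [2, 3, 8, 9], [2, 5, 7, 16], [7, 11, 16], [1, 2, 4, 5, 7], [7, 11], [0, 1, 12], [6, 11, 16], [6, 11], [2, 8, 10, 14], [2, 5, 6, 8], [3, 7, 11], [0, 5, 7], [0, 2, 10, 11, 14], [0, 2, 3, 4, 5], [0, 1, 6], [2, 3, 7, 8], [2, 8, 11, 14], [2, 4, 12], [2, 8, 13], [2, 4, 5, 7, 12], [0, 2, 16], [0, 1, 2, 13], [1, 2, 6, 9, 11], [0, 2, 8,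 13], [0, 2, 8, 11, 13], [11, 12, 16], [10, 11, 16], [11, 12], [10, 11], [2, 3, 5, 14], [2, 8, 11, 12], [9, 11, 12, 13], [6, 11, 14], [0, 1, 2, 16], [0, 5, 9, 11], [2, 3, 8, 9, 13], [0, 2, 3, 4, 6], [1, 2, 11, 14], [0, 1, 2], [2, 3, 5, 6, 8], [2, 4, 5, 6, 12], [2, 3, 7, 11], [0, 2, 8], [0, 1, 2, 12], [2, 9, 11, 16], [2, 7, 13], [2, 9, 11], [2, 6, 12], [2, 9, 11, 12], [0, 2, 8, 11], [2, 7, 16], [0, 1, 2, 10, 11], [2, 9, 11, 12, 13], [1, 2, 8, 12], [0, 1, 2, 5, 10], [2, 4, 8, 9, 11], [2, 7], [2, 7, 12], [2, 9, 10], [2, 6, 10], [2, 3, 7, 12]]), (258, [[1, 3, 5, 6, 7, 8, 11, 13, 14, 15], [1, 3, 4, 5, 6, 7, 15], [4, 8, 12, 13, 15, 16], [0, 1, 3, 6, 11, 12, 16], [], [1, 4, 5, 7, 9, 11, 14, 15], [0, 1, 3, 4, 6, 8, 11, 13, 14, 16], [3, 7, 9, 10, 12, 14, 15, 16], [0, 1, 3, 7, 10, 11, 12, 13, 14, 16], [0, 4, 5, 7, 8, 9, 11, 12, 13, 15, 16], [1, 3, 5, 8, 10, 11, 14], [0, 4, 5, 6, 8, 9, 10, 11, 12], [4,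 6, 7, 8, 10, 12, 14], [1, 5, 6, 7, 8, 12, 15], [1, 5, 8, 10, 12, 13, 14, 16], [0, 1, 3, 4, 7, 8, 10, 11, 15], [0, 5, 7, 9, 14], [1, 4, 5, 6, 9, 10, 11, 13, 14, 15], [1, 3, 4, 5, 10, 13, 14, 15], [3, 4, 6, 7, 8, 10, 12, 15, 16], [3, 4, 8, 12, 13, 14], [0, 5, 6, 9, 10, 13, 15], [3, 6, 9, 12, 13, 15], [6, 7, 10, 13, 14], [1, 3, 4, 5, 6, 9, 12, 16], [0, 1, 4, 8, 9, 11, 12], [7, 9, 10, 12, 16], [0, 3, 5, 9, 12, 14, 15], [1, 3, 5, 6, 8, 9, 10, 11, 12, 13, 16], [1, 3, 5, 6, 8, 9, 11, 12, 13, 15, 16], [4, 7, 8, 9, 13, 14, 15], [4, 7, 8, 9, 10, 13, 14, 16], [0, 1, 3, 6, 10, 11, 12, 15, 16], [1, 3, 4, 5, 6, 9, 10, 12, 15], [0, 1, 3, 4, 6, 7, 8, 9, 11, 12, 13, 16], [0, 1, 6, 11, 12, 14, 16], [0, 1, 7, 10, 11, 12, 13, 16], [0, 1, 4, 6, 7, 8, 9, 10, 11, 12, 13, 14, 15], [0, 4, 5, 7, 8, 9, 10, 11, 12, 13, 16], [7, 9, 12, 15], [0, 5, 10, 12, 14], [0, 3, 4, 5, 6, 8, 11, 12, 14, 15], [0, 3, 4, 5, 7, 8, 10,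 11, 12, 13, 15], [0, 3, 5, 6, 7, 9, 10, 12, 13, 14, 15], [0, 1, 3, 4, 6, 8, 10, 11, 13, 14, 15, 16], [0, 1, 3, 6, 7, 9, 10, 11], [0, 1, 3, 6, 7, 9, 11, 15], [0, 5, 7, 9, 10, 14, 15, 16], [0, 4, 5, 8, 11, 13, 14, 15, 16], [0, 4, 5, 8, 10, 11, 13, 14, 16], [1, 3, 5, 6, 7, 8, 10, 11, 13, 14], [0, 1, 3, 4, 6, 7, 8, 9, 10, 11, 12, 13, 15, 16], [4, 8, 10, 12, 13], [0, 5, 12, 14, 15, 16], [1, 3, 4, 5, 6, 7, 10, 16], [10, 15, 16], [0, 1, 4, 6, 8, 11, 13], [0, 3, 5, 6, 10, 13, 14], [0, 1, 4, 7, 8, 11, 14, 16], [1, 4, 5, 6, 7, 11, 12, 13, 14, 15], [3, 6, 7, 13, 16], [1, 3, 5, 7, 8, 9, 10, 11, 12], [4, 6, 8, 9, 15, 16], [1, 4, 5, 6, 9, 11, 13, 14], [3, 6, 9, 10, 12, 13, 16], [1, 5, 7, 8, 9, 10, 13], [3, 4, 7, 8, 9, 10, 13, 15], [1, 3, 4, 5, 7, 9, 10, 12, 13, 14], [6, 9, 12, 13, 14], [0, 1, 4, 6, 7, 8, 9, 11, 12, 13, 14], [0, 3, 5, 6, 7, 9, 12, 13, 14, 16], [0, 1, 9, 10, 11, 13, 15, 16], [1, 3, 4, 5,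 7, 9, 12, 13, 14, 15, 16], [0, 3, 4, 5, 8, 9, 11, 13, 14], [0, 3, 5, 7, 10, 14, 15], [6, 9, 10, 12, 13, 14, 15, 16], [0, 1, 6, 7, 9, 10, 11, 14], [0, 3, 4, 5, 6, 7, 8, 9, 11, 15, 16], [1, 4, 5, 11, 12, 14, 16], [1, 3, 5, 7, 8, 9, 11, 12, 15], [3, 14, 15], [4, 6, 8, 9, 10], [1, 5, 6, 8, 9, 10, 14, 16], [3, 4, 6, 8, 9, 10, 14, 15, 16], [0, 1, 3, 9, 10, 11, 13, 14, 15, 16], [1, 5, 6, 7, 8, 10, 12, 16], [1, 4, 5, 7, 9, 10, 11, 14], [1, 5, 8, 12, 13, 14, 15], [3, 4, 6, 7, 8, 12], [3, 7, 9, 12, 14], [3, 4, 8, 10, 12, 13, 14, 15, 16], [0, 1, 6, 10, 11, 12, 14, 15, 16], [0, 1, 3, 4, 8, 9, 10, 11, 12, 14, 15, 16], [0, 1, 7, 11, 12, 13, 15, 16], [0, 1, 4, 8, 9, 10, 11, 12, 15], [0, 3, 4, 5, 6, 8, 10, 11, 12, 14], [0, 3, 4, 5, 7, 8, 11, 12, 13], [0, 3, 5, 9, 10, 12, 14, 16], [0, 5, 6, 7, 12, 13, 15, 16], [0, 1, 3, 4, 8, 9, 11, 12, 14, 16], [0, 1, 6, 7, 9, 11, 14, 15], [0, 3, 4, 5, 6, 7, 8, 9, 10, 11,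 16], [0, 1, 4, 6, 8, 10, 11, 13, 15], [0, 3, 5, 6, 13, 14, 15, 16], [0, 4, 5, 6, 7, 8, 11, 14, 15, 16], [0, 1, 3, 9, 11, 13, 14, 16], [0, 4, 5, 6, 7, 8, 10, 11, 14, 16], [1, 5, 6, 8, 9, 14, 15], [0, 1, 3, 4, 7, 8, 11], [3, 4, 6, 8, 9, 14], [0, 5, 6, 9, 13, 16], [0, 5, 6, 7, 10, 12, 13], [3, 6, 7, 10, 13, 15], [1, 4, 5, 6, 7, 10, 11, 12, 13, 14], [1, 3, 4, 5, 13, 14, 16], [6, 7, 13, 14, 15, 16], [3, 10, 14, 16], [0, 1, 9, 11, 13, 16], [0, 1, 4, 7, 8, 10, 11, 14, 15, 16], [0, 1, 3, 7, 11, 12, 13, 14, 15, 16], [0, 3, 4, 5, 8, 9, 10, 11, 13, 14, 15], [0, 3, 5, 7, 14, 16], [0, 4, 5, 6, 8, 9, 11, 12, 15], [1, 3, 5, 8, 11, 14, 15], [4, 6, 7, 8, 12, 14, 15, 16], [1, 5, 7, 8, 9, 13, 15, 16], [1, 4, 5, 10, 11, 12, 14, 15, 16], [3, 4, 7, 8, 9, 13, 16]])]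

theorem ck_tb : C.chkTable = true := by decide +kernel

theorem ck_df : C.chkDefs = true := by decide +kernel

theorem ck_ov : C.chkOvs = true := by decide +kernel

theorem ck_fr0 : decide (fusVec C.sys C.fuel (C.lett fr_0.1) (C.letb fr_0.1) (Cert.foff fr_0.1) fr_0.2.1 fr_0.2.2.1 = some fr_0.2.2.2) = true := by decide +kernel

theorem ck_fr1 : decide (fusVec C.sys C.fuel (C.lett fr_1.1) (C.letb fr_1.1) (Cert.foff fr_1.1) fr_1.2.1 fr_1.2.2.1 = some fr_1.2.2.2) = true := by decide +kernel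

theorem ck_fr2 : decide (fusVec C.sys C.fuel (C.lett fr_2.1) (C.letb fr_2.1) (Cert.foff fr_2.1) fr_2.2.1 fr_2.2.2.1 = some fr_2.2.2.2) = true := by decide +kernel

theorem ck_fr3 : decide (fusVec C.sys C.fuel (C.lett fr_3.1) (C.letb fr_3.1) (Cert.foff fr_3.1) fr_3.2.1 fr_3.2.2.1 = some fr_3.2.2.2) = true := by decide +kernel

theorem ck_fr4 : decide (fusVec C.sys C.fuel (C.lett fr_4.1) (C.letb fr_4.1) (Cert.foff fr_4.1) fr_4.2.1 fr_4.2.2.1 = some fr_4.2.2.2) = true := by decide +kernel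

theorem ck_fr5 : decide (fusVec C.sys C.fuel (C.lett fr_5.1) (C.letb fr_5.1) (Cert.foff fr_5.1) fr_5.2.1 fr_5.2.2.1 = some fr_5.2.2.2) = true := by decide +kernel

theorem ck_fr6 : decide (fusVec C.sys C.fuel (C.lett fr_6.1) (C.letb fr_6.1) (Cert.foff fr_6.1) fr_6.2.1 fr_6.2.2.1 = some fr_6.2.2.2) = true := by decide +kernel

theorem ck_fr7 : decide (fusVec C.sys C.fuel (C.lett fr_7.1) (C.letb fr_7.1) (Cert.foff fr_7.1) fr_7.2.1 fr_7.2.2.1 = some fr_7.2.2.2) = true := by decide +kernel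

theorem ck_fr8 : decide (fusVec C.sys C.fuel (C.lett fr_8.1) (C.letb fr_8.1) (Cert.foff fr_8.1) fr_8.2.1 fr_8.2.2.1 = some fr_8.2.2.2) = true := by decide +kernel

theorem ck_fr9 : decide (fusVec C.sys C.fuel (C.lett fr_9.1) (C.letb fr_9.1) (Cert.foff fr_9.1) fr_9.2.1 fr_9.2.2.1 = some fr_9.2.2.2) = true := by decide +kernel

theorem ck_fr10 : decide (fusVec C.sys C.fuel (C.lett fr_10.1) (C.letb fr_10.1) (Cert.foff fr_10.1) fr_10.2.1 fr_10.2.2.1 = some fr_10.2.2.2) = true := by decide +kernel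

theorem ck_fr11 : decide (fusVec C.sys C.fuel (C.lett fr_11.1) (C.letb fr_11.1) (Cert.foff fr_11.1) fr_11.2.1 fr_11.2.2.1 = some fr_11.2.2.2) = true := by decide +kernel

theorem ck_fr12 : decide (fusVec C.sys C.fuel (C.lett fr_12.1) (C.letb fr_12.1) (Cert.foff fr_12.1) fr_12.2.1 fr_12.2.2.1 = some fr_12.2.2.2) = true := by decide +kernel

theorem ck_fr13 : decide (fusVec C.sys C.fuel (C.lett fr_13.1) (C.letb fr_13.1) (Cert.foff fr_13.1) fr_13.2.1 fr_13.2.2.1 = some fr_13.2.2.2) = true := by decide +kernel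

theorem ck_fr14 : decide (fusVec C.sys C.fuel (C.lett fr_14.1) (C.letb fr_14.1) (Cert.foff fr_14.1) fr_14.2.1 fr_14.2.2.1 = some fr_14.2.2.2) = true := by decide +kernel

theorem ck_fr15 : decide (fusVec C.sys C.fuel (C.lett fr_15.1) (C.letb fr_15.1) (Cert.foff fr_15.1) fr_15.2.1 fr_15.2.2.1 = some fr_15.2.2.2) = true := by decide +kernel

theorem ck_fr16 : decide (fusVec C.sys C.fuel (C.lett fr_16.1) (C.letb fr_16.1) (Cert.foff fr_16.1) fr_16.2.1 fr_16.2.2.1 = some fr_16.2.2.2) = true := by decide +kernel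

theorem ck_fr17 : decide (fusVec C.sys C.fuel (C.lett fr_17.1) (C.letb fr_17.1) (Cert.foff fr_17.1) fr_17.2.1 fr_17.2.2.1 = some fr_17.2.2.2) = true := by decide +kernel

theorem ck_fr18 : decide (fusVec C.sys C.fuel (C.lett fr_18.1) (C.letb fr_18.1) (Cert.foff fr_18.1) fr_18.2.1 fr_18.2.2.1 = some fr_18.2.2.2) = true := by decide +kernel

theorem ck_fr19 : decide (fusVec C.sys C.fuel (C.lett fr_19.1) (C.letb fr_19.1) (Cert.foff fr_19.1) fr_19.2.1 fr_19.2.2.1 = some fr_19.2.2.2) = true := by decide +kernel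

theorem ck_fr20 : decide (fusVec C.sys C.fuel (C.lett fr_20.1) (C.letb fr_20.1) (Cert.foff fr_20.1) fr_20.2.1 fr_20.2.2.1 = some fr_20.2.2.2) = true := by decide +kernel

theorem ck_fr21 : decide (fusVec C.sys C.fuel (C.lett fr_21.1) (C.letb fr_21.1) (Cert.foff fr_21.1) fr_21.2.1 fr_21.2.2.1 = some fr_21.2.2.2) = true := by decide +kernel

theorem ck_fr22 : decide (fusVec C.sys C.fuel (C.lett fr_22.1) (C.letb fr_22.1) (Cert.foff fr_22.1) fr_22.2.1 fr_22.2.2.1 = some fr_22.2.2.2) = true := by decide +kernel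

theorem ck_fr23 : decide (fusVec C.sys C.fuel (C.lett fr_23.1) (C.letb fr_23.1) (Cert.foff fr_23.1) fr_23.2.1 fr_23.2.2.1 = some fr_23.2.2.2) = true := by decide +kernel

theorem ck_fr24 : decide (fusVec C.sys C.fuel (C.lett fr_24.1) (C.letb fr_24.1) (Cert.foff fr_24.1) fr_24.2.1 fr_24.2.2.1 = some fr_24.2.2.2) = true := by decide +kernel

theorem ck_fr25 : decide (fusVec C.sys C.fuel (C.lett fr_25.1) (C.letb fr_25.1) (Cert.foff fr_25.1) fr_25.2.1 fr_25.2.2.1 = some fr_25.2.2.2) = true := by decide +kernel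

theorem ck_fr26 : decide (fusVec C.sys C.fuel (C.lett fr_26.1) (C.letb fr_26.1) (Cert.foff fr_26.1) fr_26.2.1 fr_26.2.2.1 = some fr_26.2.2.2) = true := by decide +kernel

theorem ck_fr27 : decide (fusVec C.sys C.fuel (C.lett fr_27.1) (C.letb fr_27.1) (Cert.foff fr_27.1) fr_27.2.1 fr_27.2.2.1 = some fr_27.2.2.2) = true := by decide +kernel

theorem ck_fr28 : decide (fusVec C.sys C.fuel (C.lett fr_28.1) (C.letb fr_28.1) (Cert.foff fr_28.1) fr_28.2.1 fr_28.2.2.1 = some fr_28.2.2.2) = true := by decide +kernel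

theorem ck_fr29 : decide (fusVec C.sys C.fuel (C.lett fr_29.1) (C.letb fr_29.1) (Cert.foff fr_29.1) fr_29.2.1 fr_29.2.2.1 = some fr_29.2.2.2) = true := by decide +kernel

theorem ck_fr30 : decide (fusVec C.sys C.fuel (C.lett fr_30.1) (C.letb fr_30.1) (Cert.foff fr_30.1) fr_30.2.1 fr_30.2.2.1 = some fr_30.2.2.2) = true := by decide +kernel

theorem ck_fr31 : decide (fusVec C.sys C.fuel (C.lett fr_31.1) (C.letb fr_31.1) (Cert.foff fr_31.1) fr_31.2.1 fr_31.2.2.1 = some fr_31.2.2.2) = true := by decide +kernel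

theorem ck_fr32 : decide (fusVec C.sys C.fuel (C.lett fr_32.1) (C.letb fr_32.1) (Cert.foff fr_32.1) fr_32.2.1 fr_32.2.2.1 = some fr_32.2.2.2) = true := by decide +kernel

theorem ck_fr33 : decide (fusVec C.sys C.fuel (C.lett fr_33.1) (C.letb fr_33.1) (Cert.foff fr_33.1) fr_33.2.1 fr_33.2.2.1 = some fr_33.2.2.2) = true := by decide +kernel

theorem ck_fr34 : decide (fusVec C.sys C.fuel (C.lett fr_34.1) (C.letb fr_34.1) (Cert.foff fr_34.1) fr_34.2.1 fr_34.2.2.1 = some fr_34.2.2.2) = true := by decide +kernel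

theorem ck_frs : C.chkFrs = true := by
  refine frs_of_parts ?_
  show ∀ q ∈ [fr_0,fr_1,fr_2,fr_3,fr_4,fr_5,fr_6,fr_7,fr_8,fr_9,fr_10,fr_11,fr_12,fr_13,fr_14,fr_15,fr_16,fr_17,fr_18,fr_19,fr_20,fr_21,fr_22,fr_23,fr_24,fr_25,fr_26,fr_27,fr_28,fr_29,fr_30,fr_31,fr_32,fr_33,fr_34], _
  intro q hq
  simp only [List.mem_cons, List.not_mem_nil, or_false] at hq
  rcases hq with rfl | rfl | rfl | rfl | rfl | rfl | rfl | rfl | rfl | rfl | rfl | rfl | rfl | rfl | rfl | rfl | rfl | rfl | rfl | rfl | rfl | rfl | rfl | rfl | rfl | rfl | rfl | rfl | rfl | rfl | rfl | rfl | rfl | rfl | rfl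
  · exact ck_fr0
  · exact ck_fr1
  · exact ck_fr2
  · exact ck_fr3
  · exact ck_fr4
  · exact ck_fr5
  · exact ck_fr6
  · exact ck_fr7
  · exact ck_fr8
  · exact ck_fr9
  · exact ck_fr10
  · exact ck_fr11
  · exact ck_fr12
  · exact ck_fr13
  · exact ck_fr14
  · exact ck_fr15
  · exact ck_fr16
  · exact ck_fr17
  · exact ck_fr18
  · exact ck_fr19
  · exact ck_fr20
  · exact ck_fr21
  · exact ck_fr22
  · exact ck_fr23
  · exact ck_fr24
  · exact ck_fr25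
  · exact ck_fr26
  · exact ck_fr27
  · exact ck_fr28
  · exact ck_fr29
  · exact ck_fr30
  · exact ck_fr31
  · exact ck_fr32
  · exact ck_fr33
  · exact ck_fr34

def tS_0 : List ℕ := []

theorem ck_tg0 : decide ((C.combo tg_0.2.2).filter (fun q => !(tS_0.contains q.1)) = normS [(tg_0.1, (1 : ℤ)), (C.k0, tg_0.2.1)]) = true := by decide +kernel

def tS_1 : List ℕ := [1000]

theorem ck_tg1 : decide ((C.combo tg_1.2.2).filter (fun q => !(tS_1.contains q.1)) = normS [(tg_1.1, (1 : ℤ)), (C.k0, tg_1.2.1)]) = true := by decide +kernel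

def tS_2 : List ℕ := [2001, 1000]

theorem ck_tg2 : decide ((C.combo tg_2.2.2).filter (fun q => !(tS_2.contains q.1)) = normS [(tg_2.1, (1 : ℤ)), (C.k0, tg_2.2.1)]) = true := by decide +kernel

def tS_3 : List ℕ := [3001, 2001, 1000]

theorem ck_tg3 : decide ((C.combo tg_3.2.2).filter (fun q => !(tS_3.contains q.1)) = normS [(tg_3.1, (1 : ℤ)), (C.k0, tg_3.2.1)]) = true := by decide +kernel

def tS_4 : List ℕ := [4001, 3001, 2001, 1000]

theorem ck_tg4 : decide ((C.combo tg_4.2.2).filter (fun q => !(tS_4.contains q.1)) = normS [(tg_4.1, (1 : ℤ)), (C.k0, tg_4.2.1)]) = true := by decide +kernel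

def tS_5 : List ℕ := [5001, 4001, 3001, 2001, 1000]

theorem ck_tg5 : decide ((C.combo tg_5.2.2).filter (fun q => !(tS_5.contains q.1)) = normS [(tg_5.1, (1 : ℤ)), (C.k0, tg_5.2.1)]) = true := by decide +kernel

def tS_6 : List ℕ := [3000, 5001, 4001, 3001, 2001, 1000]

theorem ck_tg6 : decide ((C.combo tg_6.2.2).filter (fun q => !(tS_6.contains q.1)) = normS [(tg_6.1, (1 : ℤ)), (C.k0, tg_6.2.1)]) = true := by decide +kernel

def tS_7 : List ℕ := [4000, 3000, 5001, 4001, 3001, 2001, 1000]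

theorem ck_tg7 : decide ((C.combo tg_7.2.2).filter (fun q => !(tS_7.contains q.1)) = normS [(tg_7.1, (1 : ℤ)), (C.k0, tg_7.2.1)]) = true := by decide +kernel

def tS_8 : List ℕ := [5004, 4000, 3000, 5001, 4001, 3001, 2001, 1000]

theorem ck_tg8 : decide ((C.combo tg_8.2.2).filter (fun q => !(tS_8.contains q.1)) = normS [(tg_8.1, (1 : ℤ)), (C.k0, tg_8.2.1)]) = true := by decide +kernel

def tS_9 : List ℕ := [5002, 5004, 4000, 3000, 5001, 4001, 3001, 2001, 1000]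

theorem ck_tg9 : decide ((C.combo tg_9.2.2).filter (fun q => !(tS_9.contains q.1)) = normS [(tg_9.1, (1 : ℤ)), (C.k0, tg_9.2.1)]) = true := by decide +kernel

def tS_10 : List ℕ := [7003, 5002, 5004, 4000, 3000, 5001, 4001, 3001, 2001, 1000]

theorem ck_tg10 : decide ((C.combo tg_10.2.2).filter (fun q => !(tS_10.contains q.1)) = normS [(tg_10.1, (1 : ℤ)), (C.k0, tg_10.2.1)]) = true := by decide +kernel

def tS_11 : List ℕ := [7004, 7003, 5002, 5004, 4000, 3000, 5001, 4001, 3001, 2001, 1000]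

theorem ck_tg11 : decide ((C.combo tg_11.2.2).filter (fun q => !(tS_11.contains q.1)) = normS [(tg_11.1, (1 : ℤ)), (C.k0, tg_11.2.1)]) = true := by decide +kernel

def tS_12 : List ℕ := [8005, 7004, 7003, 5002, 5004, 4000, 3000, 5001, 4001, 3001, 2001, 1000]

theorem ck_tg12 : decide ((C.combo tg_12.2.2).filter (fun q => !(tS_12.contains q.1)) = normS [(tg_12.1, (1 : ℤ)), (C.k0, tg_12.2.1)]) = true := by decide +kernel

def tS_13 : List ℕ := [7000, 8005, 7004, 7003, 5002, 5004, 4000, 3000, 5001, 4001, 3001, 2001, 1000]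

theorem ck_tg13 : decide ((C.combo tg_13.2.2).filter (fun q => !(tS_13.contains q.1)) = normS [(tg_13.1, (1 : ℤ)), (C.k0, tg_13.2.1)]) = true := by decide +kernel

def tS_14 : List ℕ := [15012, 7000, 8005, 7004, 7003, 5002, 5004, 4000, 3000, 5001, 4001, 3001, 2001, 1000]

theorem ck_tg14 : decide ((C.combo tg_14.2.2).filter (fun q => !(tS_14.contains q.1)) = normS [(tg_14.1, (1 : ℤ)), (C.k0, tg_14.2.1)]) = true := by decide +kernel

def tS_15 : List ℕ := [16009, 15012, 7000, 8005, 7004, 7003, 5002, 5004, 4000, 3000, 5001, 4001, 3001, 2001, 1000]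

theorem ck_tg15 : decide ((C.combo tg_15.2.2).filter (fun q => !(tS_15.contains q.1)) = normS [(tg_15.1, (1 : ℤ)), (C.k0, tg_15.2.1)]) = true := by decide +kernel

def tS_16 : List ℕ := [16012, 16009, 15012, 7000, 8005, 7004, 7003, 5002, 5004, 4000, 3000, 5001, 4001, 3001, 2001, 1000]

theorem ck_tg16 : decide ((C.combo tg_16.2.2).filter (fun q => !(tS_16.contains q.1)) = normS [(tg_16.1, (1 : ℤ)), (C.k0, tg_16.2.1)]) = true := by decide +kernel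

def tS_17 : List ℕ := [13009, 16012, 16009, 15012, 7000, 8005, 7004, 7003, 5002, 5004, 4000, 3000, 5001, 4001, 3001, 2001, 1000]

theorem ck_tg17 : decide ((C.combo tg_17.2.2).filter (fun q => !(tS_17.contains q.1)) = normS [(tg_17.1, (1 : ℤ)), (C.k0, tg_17.2.1)]) = true := by decide +kernel

def tS_18 : List ℕ := [13010, 13009, 16012, 16009, 15012, 7000, 8005, 7004, 7003, 5002, 5004, 4000, 3000, 5001, 4001, 3001, 2001, 1000]

theorem ck_tg18 : decide ((C.combo tg_18.2.2).filter (fun q => !(tS_18.contains q.1)) = normS [(tg_18.1, (1 : ℤ)), (C.k0, tg_18.2.1)]) = true := by decide +kernel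

def tS_19 : List ℕ := [13011, 13010, 13009, 16012, 16009, 15012, 7000, 8005, 7004, 7003, 5002, 5004, 4000, 3000, 5001, 4001, 3001, 2001, 1000]

theorem ck_tg19 : decide ((C.combo tg_19.2.2).filter (fun q => !(tS_19.contains q.1)) = normS [(tg_19.1, (1 : ℤ)), (C.k0, tg_19.2.1)]) = true := by decide +kernel

def tS_20 : List ℕ := [16013, 13011, 13010, 13009, 16012, 16009, 15012, 7000, 8005, 7004, 7003, 5002, 5004, 4000, 3000, 5001, 4001, 3001, 2001, 1000]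

theorem ck_tg20 : decide ((C.combo tg_20.2.2).filter (fun q => !(tS_20.contains q.1)) = normS [(tg_20.1, (1 : ℤ)), (C.k0, tg_20.2.1)]) = true := by decide +kernel

def tS_21 : List ℕ := [14013, 16013, 13011, 13010, 13009, 16012, 16009, 15012, 7000, 8005, 7004, 7003, 5002, 5004, 4000, 3000, 5001, 4001, 3001, 2001, 1000]

theorem ck_tg21 : decide ((C.combo tg_21.2.2).filter (fun q => !(tS_21.contains q.1)) = normS [(tg_21.1, (1 : ℤ)), (C.k0, tg_21.2.1)]) = true := by decide +kernel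

def tS_22 : List ℕ := [15013, 14013, 16013, 13011, 13010, 13009, 16012, 16009, 15012, 7000, 8005, 7004, 7003, 5002, 5004, 4000, 3000, 5001, 4001, 3001, 2001, 1000]

theorem ck_tg22 : decide ((C.combo tg_22.2.2).filter (fun q => !(tS_22.contains q.1)) = normS [(tg_22.1, (1 : ℤ)), (C.k0, tg_22.2.1)]) = true := by decide +kernel

def tS_23 : List ℕ := [15014, 15013, 14013, 16013, 13011, 13010, 13009, 16012, 16009, 15012, 7000, 8005, 7004, 7003, 5002, 5004, 4000, 3000, 5001, 4001, 3001, 2001, 1000]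

theorem ck_tg23 : decide ((C.combo tg_23.2.2).filter (fun q => !(tS_23.contains q.1)) = normS [(tg_23.1, (1 : ℤ)), (C.k0, tg_23.2.1)]) = true := by decide +kernel

def tS_24 : List ℕ := [16014, 15014, 15013, 14013, 16013, 13011, 13010, 13009, 16012, 16009, 15012, 7000, 8005, 7004, 7003, 5002, 5004, 4000, 3000, 5001, 4001, 3001, 2001, 1000]

theorem ck_tg24 : decide ((C.combo tg_24.2.2).filter (fun q => !(tS_24.contains q.1)) = normS [(tg_24.1, (1 : ℤ)), (C.k0, tg_24.2.1)]) = true := by decide +kernel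

def tS_25 : List ℕ := [16010, 16014, 15014, 15013, 14013, 16013, 13011, 13010, 13009, 16012, 16009, 15012, 7000, 8005, 7004, 7003, 5002, 5004, 4000, 3000, 5001, 4001, 3001, 2001, 1000]

theorem ck_tg25 : decide ((C.combo tg_25.2.2).filter (fun q => !(tS_25.contains q.1)) = normS [(tg_25.1, (1 : ℤ)), (C.k0, tg_25.2.1)]) = true := by decide +kernel

def tS_26 : List ℕ := [15005, 16010, 16014, 15014, 15013, 14013, 16013, 13011, 13010, 13009, 16012, 16009, 15012, 7000, 8005, 7004, 7003, 5002, 5004, 4000, 3000, 5001, 4001, 3001, 2001, 1000]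

theorem ck_tg26 : decide ((C.combo tg_26.2.2).filter (fun q => !(tS_26.contains q.1)) = normS [(tg_26.1, (1 : ℤ)), (C.k0, tg_26.2.1)]) = true := by decide +kernel

def tS_27 : List ℕ := [15006, 15005, 16010, 16014, 15014, 15013, 14013, 16013, 13011, 13010, 13009, 16012, 16009, 15012, 7000, 8005, 7004, 7003, 5002, 5004, 4000, 3000, 5001, 4001, 3001, 2001, 1000]

theorem ck_tg27 : decide ((C.combo tg_27.2.2).filter (fun q => !(tS_27.contains q.1)) = normS [(tg_27.1, (1 : ℤ)), (C.k0, tg_27.2.1)]) = true := by decide +kernel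

def tS_28 : List ℕ := [15007, 15006, 15005, 16010, 16014, 15014, 15013, 14013, 16013, 13011, 13010, 13009, 16012, 16009, 15012, 7000, 8005, 7004, 7003, 5002, 5004, 4000, 3000, 5001, 4001, 3001, 2001, 1000]

theorem ck_tg28 : decide ((C.combo tg_28.2.2).filter (fun q => !(tS_28.contains q.1)) = normS [(tg_28.1, (1 : ℤ)), (C.k0, tg_28.2.1)]) = true := by decide +kernel

def tS_29 : List ℕ := [15008, 15007, 15006, 15005, 16010, 16014, 15014, 15013, 14013, 16013, 13011, 13010, 13009, 16012, 16009, 15012, 7000, 8005, 7004, 7003, 5002, 5004, 4000, 3000, 5001, 4001, 3001, 2001, 1000]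

theorem ck_tg29 : decide ((C.combo tg_29.2.2).filter (fun q => !(tS_29.contains q.1)) = normS [(tg_29.1, (1 : ℤ)), (C.k0, tg_29.2.1)]) = true := by decide +kernel

def tS_30 : List ℕ := [15011, 15008, 15007, 15006, 15005, 16010, 16014, 15014, 15013, 14013, 16013, 13011, 13010, 13009, 16012, 16009, 15012, 7000, 8005, 7004, 7003, 5002, 5004, 4000, 3000, 5001, 4001, 3001, 2001, 1000]

theorem ck_tg30 : decide ((C.combo tg_30.2.2).filter (fun q => !(tS_30.contains q.1)) = normS [(tg_30.1, (1 : ℤ)), (C.k0, tg_30.2.1)]) = true := by decide +kernel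

def tS_31 : List ℕ := [16015, 15011, 15008, 15007, 15006, 15005, 16010, 16014, 15014, 15013, 14013, 16013, 13011, 13010, 13009, 16012, 16009, 15012, 7000, 8005, 7004, 7003, 5002, 5004, 4000, 3000, 5001, 4001, 3001, 2001, 1000]

theorem ck_tg31 : decide ((C.combo tg_31.2.2).filter (fun q => !(tS_31.contains q.1)) = normS [(tg_31.1, (1 : ℤ)), (C.k0, tg_31.2.1)]) = true := by decide +kernel

def tS_32 : List ℕ := [16004, 16015, 15011, 15008, 15007, 15006, 15005, 16010, 16014, 15014, 15013, 14013, 16013, 13011, 13010, 13009, 16012, 16009, 15012, 7000, 8005, 7004, 7003, 5002, 5004, 4000, 3000, 5001, 4001, 3001, 2001, 1000]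

theorem ck_tg32 : decide ((C.combo tg_32.2.2).filter (fun q => !(tS_32.contains q.1)) = normS [(tg_32.1, (1 : ℤ)), (C.k0, tg_32.2.1)]) = true := by decide +kernel

def tS_33 : List ℕ := [16005, 16004, 16015, 15011, 15008, 15007, 15006, 15005, 16010, 16014, 15014, 15013, 14013, 16013, 13011, 13010, 13009, 16012, 16009, 15012, 7000, 8005, 7004, 7003, 5002, 5004, 4000, 3000, 5001, 4001, 3001, 2001, 1000]

theorem ck_tg33 : decide ((C.combo tg_33.2.2).filter (fun q => !(tS_33.contains q.1)) = normS [(tg_33.1, (1 : ℤ)), (C.k0, tg_33.2.1)]) = true := by decide +kernel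

def tS_34 : List ℕ := [16006, 16005, 16004, 16015, 15011, 15008, 15007, 15006, 15005, 16010, 16014, 15014, 15013, 14013, 16013, 13011, 13010, 13009, 16012, 16009, 15012, 7000, 8005, 7004, 7003, 5002, 5004, 4000, 3000, 5001, 4001, 3001, 2001, 1000]

theorem ck_tg34 : decide ((C.combo tg_34.2.2).filter (fun q => !(tS_34.contains q.1)) = normS [(tg_34.1, (1 : ℤ)), (C.k0, tg_34.2.1)]) = true := by decide +kernel

def tS_35 : List ℕ := [16007, 16006, 16005, 16004, 16015, 15011, 15008, 15007, 15006, 15005, 16010, 16014, 15014, 15013, 14013, 16013, 13011, 13010, 13009, 16012, 16009, 15012, 7000, 8005, 7004, 7003, 5002, 5004, 4000, 3000, 5001, 4001, 3001, 2001, 1000]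

theorem ck_tg35 : decide ((C.combo tg_35.2.2).filter (fun q => !(tS_35.contains q.1)) = normS [(tg_35.1, (1 : ℤ)), (C.k0, tg_35.2.1)]) = true := by decide +kernel

def tS_36 : List ℕ := [16008, 16007, 16006, 16005, 16004, 16015, 15011, 15008, 15007, 15006, 15005, 16010, 16014, 15014, 15013, 14013, 16013, 13011, 13010, 13009, 16012, 16009, 15012, 7000, 8005, 7004, 7003, 5002, 5004, 4000, 3000, 5001, 4001, 3001, 2001, 1000]

theorem ck_tg36 : decide ((C.combo tg_36.2.2).filter (fun q => !(tS_36.contains q.1)) = normS [(tg_36.1, (1 : ℤ)), (C.k0, tg_36.2.1)]) = true := by decide +kernel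

def tS_37 : List ℕ := [16011, 16008, 16007, 16006, 16005, 16004, 16015, 15011, 15008, 15007, 15006, 15005, 16010, 16014, 15014, 15013, 14013, 16013, 13011, 13010, 13009, 16012, 16009, 15012, 7000, 8005, 7004, 7003, 5002, 5004, 4000, 3000, 5001, 4001, 3001, 2001, 1000]

theorem ck_tg37 : decide ((C.combo tg_37.2.2).filter (fun q => !(tS_37.contains q.1)) = normS [(tg_37.1, (1 : ℤ)), (C.k0, tg_37.2.1)]) = true := by decide +kernel

def tS_38 : List ℕ := [15002, 16011, 16008, 16007, 16006, 16005, 16004, 16015, 15011, 15008, 15007, 15006, 15005, 16010, 16014, 15014, 15013, 14013, 16013, 13011, 13010, 13009, 16012, 16009, 15012, 7000, 8005, 7004, 7003, 5002, 5004, 4000, 3000, 5001, 4001, 3001, 2001, 1000]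

theorem ck_tg38 : decide ((C.combo tg_38.2.2).filter (fun q => !(tS_38.contains q.1)) = normS [(tg_38.1, (1 : ℤ)), (C.k0, tg_38.2.1)]) = true := by decide +kernel

def tS_39 : List ℕ := [15010, 15002, 16011, 16008, 16007, 16006, 16005, 16004, 16015, 15011, 15008, 15007, 15006, 15005, 16010, 16014, 15014, 15013, 14013, 16013, 13011, 13010, 13009, 16012, 16009, 15012, 7000, 8005, 7004, 7003, 5002, 5004, 4000, 3000, 5001, 4001, 3001, 2001, 1000]

theorem ck_tg39 : decide ((C.combo tg_39.2.2).filter (fun q => !(tS_39.contains q.1)) = normS [(tg_39.1, (1 : ℤ)), (C.k0, tg_39.2.1)]) = true := by decide +kernel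

def tS_40 : List ℕ := [14010, 15010, 15002, 16011, 16008, 16007, 16006, 16005, 16004, 16015, 15011, 15008, 15007, 15006, 15005, 16010, 16014, 15014, 15013, 14013, 16013, 13011, 13010, 13009, 16012, 16009, 15012, 7000, 8005, 7004, 7003, 5002, 5004, 4000, 3000, 5001, 4001, 3001, 2001, 1000]

theorem ck_tg40 : decide ((C.combo tg_40.2.2).filter (fun q => !(tS_40.contains q.1)) = normS [(tg_40.1, (1 : ℤ)), (C.k0, tg_40.2.1)]) = true := by decide +kernel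

def tS_41 : List ℕ := [13012, 14010, 15010, 15002, 16011, 16008, 16007, 16006, 16005, 16004, 16015, 15011, 15008, 15007, 15006, 15005, 16010, 16014, 15014, 15013, 14013, 16013, 13011, 13010, 13009, 16012, 16009, 15012, 7000, 8005, 7004, 7003, 5002, 5004, 4000, 3000, 5001, 4001, 3001, 2001, 1000]

theorem ck_tg41 : decide ((C.combo tg_41.2.2).filter (fun q => !(tS_41.contains q.1)) = normS [(tg_41.1, (1 : ℤ)), (C.k0, tg_41.2.1)]) = true := by decide +kernel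

def tS_42 : List ℕ := [12004, 13012, 14010, 15010, 15002, 16011, 16008, 16007, 16006, 16005, 16004, 16015, 15011, 15008, 15007, 15006, 15005, 16010, 16014, 15014, 15013, 14013, 16013, 13011, 13010, 13009, 16012, 16009, 15012, 7000, 8005, 7004, 7003, 5002, 5004, 4000, 3000, 5001, 4001, 3001, 2001, 1000]

theorem ck_tg42 : decide ((C.combo tg_42.2.2).filter (fun q => !(tS_42.contains q.1)) = normS [(tg_42.1, (1 : ℤ)), (C.k0, tg_42.2.1)]) = true := by decide +kernel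

def tS_43 : List ℕ := [14006, 12004, 13012, 14010, 15010, 15002, 16011, 16008, 16007, 16006, 16005, 16004, 16015, 15011, 15008, 15007, 15006, 15005, 16010, 16014, 15014, 15013, 14013, 16013, 13011, 13010, 13009, 16012, 16009, 15012, 7000, 8005, 7004, 7003, 5002, 5004, 4000, 3000, 5001, 4001, 3001, 2001, 1000]

theorem ck_tg43 : decide ((C.combo tg_43.2.2).filter (fun q => !(tS_43.contains q.1)) = normS [(tg_43.1, (1 : ℤ)), (C.k0, tg_43.2.1)]) = true := by decide +kernel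

def tS_44 : List ℕ := [13007, 14006, 12004, 13012, 14010, 15010, 15002, 16011, 16008, 16007, 16006, 16005, 16004, 16015, 15011, 15008, 15007, 15006, 15005, 16010, 16014, 15014, 15013, 14013, 16013, 13011, 13010, 13009, 16012, 16009, 15012, 7000, 8005, 7004, 7003, 5002, 5004, 4000, 3000, 5001, 4001, 3001, 2001, 1000]

theorem ck_tg44 : decide ((C.combo tg_44.2.2).filter (fun q => !(tS_44.contains q.1)) = normS [(tg_44.1, (1 : ℤ)), (C.k0, tg_44.2.1)]) = true := by decide +kernel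

def tS_45 : List ℕ := [14009, 13007, 14006, 12004, 13012, 14010, 15010, 15002, 16011, 16008, 16007, 16006, 16005, 16004, 16015, 15011, 15008, 15007, 15006, 15005, 16010, 16014, 15014, 15013, 14013, 16013, 13011, 13010, 13009, 16012, 16009, 15012, 7000, 8005, 7004, 7003, 5002, 5004, 4000, 3000, 5001, 4001, 3001, 2001, 1000]

theorem ck_tg45 : decide ((C.combo tg_45.2.2).filter (fun q => !(tS_45.contains q.1)) = normS [(tg_45.1, (1 : ℤ)), (C.k0, tg_45.2.1)]) = true := by decide +kernel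

def tS_46 : List ℕ := [16003, 14009, 13007, 14006, 12004, 13012, 14010, 15010, 15002, 16011, 16008, 16007, 16006, 16005, 16004, 16015, 15011, 15008, 15007, 15006, 15005, 16010, 16014, 15014, 15013, 14013, 16013, 13011, 13010, 13009, 16012, 16009, 15012, 7000, 8005, 7004, 7003, 5002, 5004, 4000, 3000, 5001, 4001, 3001, 2001, 1000]

theorem ck_tg46 : decide ((C.combo tg_46.2.2).filter (fun q => !(tS_46.contains q.1)) = normS [(tg_46.1, (1 : ℤ)), (C.k0, tg_46.2.1)]) = true := by decide +kernel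

def tS_47 : List ℕ := [16000, 16003, 14009, 13007, 14006, 12004, 13012, 14010, 15010, 15002, 16011, 16008, 16007, 16006, 16005, 16004, 16015, 15011, 15008, 15007, 15006, 15005, 16010, 16014, 15014, 15013, 14013, 16013, 13011, 13010, 13009, 16012, 16009, 15012, 7000, 8005, 7004, 7003, 5002, 5004, 4000, 3000, 5001, 4001, 3001, 2001, 1000]

theorem ck_tg47 : decide ((C.combo tg_47.2.2).filter (fun q => !(tS_47.contains q.1)) = normS [(tg_47.1, (1 : ℤ)), (C.k0, tg_47.2.1)]) = true := by decide +kernel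

def tS_48 : List ℕ := [15009, 16000, 16003, 14009, 13007, 14006, 12004, 13012, 14010, 15010, 15002, 16011, 16008, 16007, 16006, 16005, 16004, 16015, 15011, 15008, 15007, 15006, 15005, 16010, 16014, 15014, 15013, 14013, 16013, 13011, 13010, 13009, 16012, 16009, 15012, 7000, 8005, 7004, 7003, 5002, 5004, 4000, 3000, 5001, 4001, 3001, 2001, 1000]

theorem ck_tg48 : decide ((C.combo tg_48.2.2).filter (fun q => !(tS_48.contains q.1)) = normS [(tg_48.1, (1 : ℤ)), (C.k0, tg_48.2.1)]) = true := by decide +kernel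

def tS_49 : List ℕ := [14012, 15009, 16000, 16003, 14009, 13007, 14006, 12004, 13012, 14010, 15010, 15002, 16011, 16008, 16007, 16006, 16005, 16004, 16015, 15011, 15008, 15007, 15006, 15005, 16010, 16014, 15014, 15013, 14013, 16013, 13011, 13010, 13009, 16012, 16009, 15012, 7000, 8005, 7004, 7003, 5002, 5004, 4000, 3000, 5001, 4001, 3001, 2001, 1000]

theorem ck_tg49 : decide ((C.combo tg_49.2.2).filter (fun q => !(tS_49.contains q.1)) = normS [(tg_49.1, (1 : ℤ)), (C.k0, tg_49.2.1)]) = true := by decide +kernel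

def tS_50 : List ℕ := [13004, 14012, 15009, 16000, 16003, 14009, 13007, 14006, 12004, 13012, 14010, 15010, 15002, 16011, 16008, 16007, 16006, 16005, 16004, 16015, 15011, 15008, 15007, 15006, 15005, 16010, 16014, 15014, 15013, 14013, 16013, 13011, 13010, 13009, 16012, 16009, 15012, 7000, 8005, 7004, 7003, 5002, 5004, 4000, 3000, 5001, 4001, 3001, 2001, 1000]

theorem ck_tg50 : decide ((C.combo tg_50.2.2).filter (fun q => !(tS_50.contains q.1)) = normS [(tg_50.1, (1 : ℤ)), (C.k0, tg_50.2.1)]) = true := by decide +kernel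

def tS_51 : List ℕ := [13006, 13004, 14012, 15009, 16000, 16003, 14009, 13007, 14006, 12004, 13012, 14010, 15010, 15002, 16011, 16008, 16007, 16006, 16005, 16004, 16015, 15011, 15008, 15007, 15006, 15005, 16010, 16014, 15014, 15013, 14013, 16013, 13011, 13010, 13009, 16012, 16009, 15012, 7000, 8005, 7004, 7003, 5002, 5004, 4000, 3000, 5001, 4001, 3001, 2001, 1000]

theorem ck_tg51 : decide ((C.combo tg_51.2.2).filter (fun q => !(tS_51.contains q.1)) = normS [(tg_51.1, (1 : ℤ)), (C.k0, tg_51.2.1)]) = true := by decide +kernel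

def tS_52 : List ℕ := [13008, 13006, 13004, 14012, 15009, 16000, 16003, 14009, 13007, 14006, 12004, 13012, 14010, 15010, 15002, 16011, 16008, 16007, 16006, 16005, 16004, 16015, 15011, 15008, 15007, 15006, 15005, 16010, 16014, 15014, 15013, 14013, 16013, 13011, 13010, 13009, 16012, 16009, 15012, 7000, 8005, 7004, 7003, 5002, 5004, 4000, 3000, 5001, 4001, 3001, 2001, 1000]

theorem ck_tg52 : decide ((C.combo tg_52.2.2).filter (fun q => !(tS_52.contains q.1)) = normS [(tg_52.1, (1 : ℤ)), (C.k0, tg_52.2.1)]) = true := by decide +kernel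

def tS_53 : List ℕ := [14011, 13008, 13006, 13004, 14012, 15009, 16000, 16003, 14009, 13007, 14006, 12004, 13012, 14010, 15010, 15002, 16011, 16008, 16007, 16006, 16005, 16004, 16015, 15011, 15008, 15007, 15006, 15005, 16010, 16014, 15014, 15013, 14013, 16013, 13011, 13010, 13009, 16012, 16009, 15012, 7000, 8005, 7004, 7003, 5002, 5004, 4000, 3000, 5001, 4001, 3001, 2001, 1000]

theorem ck_tg53 : decide ((C.combo tg_53.2.2).filter (fun q => !(tS_53.contains q.1)) = normS [(tg_53.1, (1 : ℤ)), (C.k0, tg_53.2.1)]) = true := by decide +kernel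

def tS_54 : List ℕ := [16016, 14011, 13008, 13006, 13004, 14012, 15009, 16000, 16003, 14009, 13007, 14006, 12004, 13012, 14010, 15010, 15002, 16011, 16008, 16007, 16006, 16005, 16004, 16015, 15011, 15008, 15007, 15006, 15005, 16010, 16014, 15014, 15013, 14013, 16013, 13011, 13010, 13009, 16012, 16009, 15012, 7000, 8005, 7004, 7003, 5002, 5004, 4000, 3000, 5001, 4001, 3001, 2001, 1000]

theorem ck_tg54 : decide ((C.combo tg_54.2.2).filter (fun q => !(tS_54.contains q.1)) = normS [(tg_54.1, (1 : ℤ)), (C.k0, tg_54.2.1)]) = true := by decide +kernel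

def tS_55 : List ℕ := [15004, 16016, 14011, 13008, 13006, 13004, 14012, 15009, 16000, 16003, 14009, 13007, 14006, 12004, 13012, 14010, 15010, 15002, 16011, 16008, 16007, 16006, 16005, 16004, 16015, 15011, 15008, 15007, 15006, 15005, 16010, 16014, 15014, 15013, 14013, 16013, 13011, 13010, 13009, 16012, 16009, 15012, 7000, 8005, 7004, 7003, 5002, 5004, 4000, 3000, 5001, 4001, 3001, 2001, 1000]

theorem ck_tg55 : decide ((C.combo tg_55.2.2).filter (fun q => !(tS_55.contains q.1)) = normS [(tg_55.1, (1 : ℤ)), (C.k0, tg_55.2.1)]) = true := by decide +kernel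

def tS_56 : List ℕ := [14008, 15004, 16016, 14011, 13008, 13006, 13004, 14012, 15009, 16000, 16003, 14009, 13007, 14006, 12004, 13012, 14010, 15010, 15002, 16011, 16008, 16007, 16006, 16005, 16004, 16015, 15011, 15008, 15007, 15006, 15005, 16010, 16014, 15014, 15013, 14013, 16013, 13011, 13010, 13009, 16012, 16009, 15012, 7000, 8005, 7004, 7003, 5002, 5004, 4000, 3000, 5001, 4001, 3001, 2001, 1000]

theorem ck_tg56 : decide ((C.combo tg_56.2.2).filter (fun q => !(tS_56.contains q.1)) = normS [(tg_56.1, (1 : ℤ)), (C.k0, tg_56.2.1)]) = true := by decide +kernel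

def tS_57 : List ℕ := [12010, 14008, 15004, 16016, 14011, 13008, 13006, 13004, 14012, 15009, 16000, 16003, 14009, 13007, 14006, 12004, 13012, 14010, 15010, 15002, 16011, 16008, 16007, 16006, 16005, 16004, 16015, 15011, 15008, 15007, 15006, 15005, 16010, 16014, 15014, 15013, 14013, 16013, 13011, 13010, 13009, 16012, 16009, 15012, 7000, 8005, 7004, 7003, 5002, 5004, 4000, 3000, 5001, 4001, 3001, 2001, 1000]

theorem ck_tg57 : decide ((C.combo tg_57.2.2).filter (fun q => !(tS_57.contains q.1)) = normS [(tg_57.1, (1 : ℤ)), (C.k0, tg_57.2.1)]) = true := by decide +kernel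

def tS_58 : List ℕ := [13013, 12010, 14008, 15004, 16016, 14011, 13008, 13006, 13004, 14012, 15009, 16000, 16003, 14009, 13007, 14006, 12004, 13012, 14010, 15010, 15002, 16011, 16008, 16007, 16006, 16005, 16004, 16015, 15011, 15008, 15007, 15006, 15005, 16010, 16014, 15014, 15013, 14013, 16013, 13011, 13010, 13009, 16012, 16009, 15012, 7000, 8005, 7004, 7003, 5002, 5004, 4000, 3000, 5001, 4001, 3001, 2001, 1000]

theorem ck_tg58 : decide ((C.combo tg_58.2.2).filter (fun q => !(tS_58.contains q.1)) = normS [(tg_58.1, (1 : ℤ)), (C.k0, tg_58.2.1)]) = true := by decide +kernel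

def tS_59 : List ℕ := [14007, 13013, 12010, 14008, 15004, 16016, 14011, 13008, 13006, 13004, 14012, 15009, 16000, 16003, 14009, 13007, 14006, 12004, 13012, 14010, 15010, 15002, 16011, 16008, 16007, 16006, 16005, 16004, 16015, 15011, 15008, 15007, 15006, 15005, 16010, 16014, 15014, 15013, 14013, 16013, 13011, 13010, 13009, 16012, 16009, 15012, 7000, 8005, 7004, 7003, 5002, 5004, 4000, 3000, 5001, 4001, 3001, 2001, 1000]

theorem ck_tg59 : decide ((C.combo tg_59.2.2).filter (fun q => !(tS_59.contains q.1)) = normS [(tg_59.1, (1 : ℤ)), (C.k0, tg_59.2.1)]) = true := by decide +kernel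

def tS_60 : List ℕ := [16002, 14007, 13013, 12010, 14008, 15004, 16016, 14011, 13008, 13006, 13004, 14012, 15009, 16000, 16003, 14009, 13007, 14006, 12004, 13012, 14010, 15010, 15002, 16011, 16008, 16007, 16006, 16005, 16004, 16015, 15011, 15008, 15007, 15006, 15005, 16010, 16014, 15014, 15013, 14013, 16013, 13011, 13010, 13009, 16012, 16009, 15012, 7000, 8005, 7004, 7003, 5002, 5004, 4000, 3000, 5001, 4001, 3001, 2001, 1000]

theorem ck_tg60 : decide ((C.combo tg_60.2.2).filter (fun q => !(tS_60.contains q.1)) = normS [(tg_60.1, (1 : ℤ)), (C.k0, tg_60.2.1)]) = true := by decide +kernel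

def tS_61 : List ℕ := [12011, 16002, 14007, 13013, 12010, 14008, 15004, 16016, 14011, 13008, 13006, 13004, 14012, 15009, 16000, 16003, 14009, 13007, 14006, 12004, 13012, 14010, 15010, 15002, 16011, 16008, 16007, 16006, 16005, 16004, 16015, 15011, 15008, 15007, 15006, 15005, 16010, 16014, 15014, 15013, 14013, 16013, 13011, 13010, 13009, 16012, 16009, 15012, 7000, 8005, 7004, 7003, 5002, 5004, 4000, 3000, 5001, 4001, 3001, 2001, 1000]

theorem ck_tg61 : decide ((C.combo tg_61.2.2).filter (fun q => !(tS_61.contains q.1)) = normS [(tg_61.1, (1 : ℤ)), (C.k0, tg_61.2.1)]) = true := by decide +kernel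

def tS_62 : List ℕ := [12009, 12011, 16002, 14007, 13013, 12010, 14008, 15004, 16016, 14011, 13008, 13006, 13004, 14012, 15009, 16000, 16003, 14009, 13007, 14006, 12004, 13012, 14010, 15010, 15002, 16011, 16008, 16007, 16006, 16005, 16004, 16015, 15011, 15008, 15007, 15006, 15005, 16010, 16014, 15014, 15013, 14013, 16013, 13011, 13010, 13009, 16012, 16009, 15012, 7000, 8005, 7004, 7003, 5002, 5004, 4000, 3000, 5001, 4001, 3001, 2001, 1000]

theorem ck_tg62 : decide ((C.combo tg_62.2.2).filter (fun q => !(tS_62.contains q.1)) = normS [(tg_62.1, (1 : ℤ)), (C.k0, tg_62.2.1)]) = true := by decide +kernel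

def tS_63 : List ℕ := [16001, 12009, 12011, 16002, 14007, 13013, 12010, 14008, 15004, 16016, 14011, 13008, 13006, 13004, 14012, 15009, 16000, 16003, 14009, 13007, 14006, 12004, 13012, 14010, 15010, 15002, 16011, 16008, 16007, 16006, 16005, 16004, 16015, 15011, 15008, 15007, 15006, 15005, 16010, 16014, 15014, 15013, 14013, 16013, 13011, 13010, 13009, 16012, 16009, 15012, 7000, 8005, 7004, 7003, 5002, 5004, 4000, 3000, 5001, 4001, 3001, 2001, 1000]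

theorem ck_tg63 : decide ((C.combo tg_63.2.2).filter (fun q => !(tS_63.contains q.1)) = normS [(tg_63.1, (1 : ℤ)), (C.k0, tg_63.2.1)]) = true := by decide +kernel

def tS_64 : List ℕ := [15015, 16001, 12009, 12011, 16002, 14007, 13013, 12010, 14008, 15004, 16016, 14011, 13008, 13006, 13004, 14012, 15009, 16000, 16003, 14009, 13007, 14006, 12004, 13012, 14010, 15010, 15002, 16011, 16008, 16007, 16006, 16005, 16004, 16015, 15011, 15008, 15007, 15006, 15005, 16010, 16014, 15014, 15013, 14013, 16013, 13011, 13010, 13009, 16012, 16009, 15012, 7000, 8005, 7004, 7003, 5002, 5004, 4000, 3000, 5001, 4001, 3001, 2001, 1000]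

theorem ck_tg64 : decide ((C.combo tg_64.2.2).filter (fun q => !(tS_64.contains q.1)) = normS [(tg_64.1, (1 : ℤ)), (C.k0, tg_64.2.1)]) = true := by decide +kernel

def tS_65 : List ℕ := [12008, 15015, 16001, 12009, 12011, 16002, 14007, 13013, 12010, 14008, 15004, 16016, 14011, 13008, 13006, 13004, 14012, 15009, 16000, 16003, 14009, 13007, 14006, 12004, 13012, 14010, 15010, 15002, 16011, 16008, 16007, 16006, 16005, 16004, 16015, 15011, 15008, 15007, 15006, 15005, 16010, 16014, 15014, 15013, 14013, 16013, 13011, 13010, 13009, 16012, 16009, 15012, 7000, 8005, 7004, 7003, 5002, 5004, 4000, 3000, 5001, 4001, 3001, 2001, 1000]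

theorem ck_tg65 : decide ((C.combo tg_65.2.2).filter (fun q => !(tS_65.contains q.1)) = normS [(tg_65.1, (1 : ℤ)), (C.k0, tg_65.2.1)]) = true := by decide +kernel

def tS_66 : List ℕ := [15003, 12008, 15015, 16001, 12009, 12011, 16002, 14007, 13013, 12010, 14008, 15004, 16016, 14011, 13008, 13006, 13004, 14012, 15009, 16000, 16003, 14009, 13007, 14006, 12004, 13012, 14010, 15010, 15002, 16011, 16008, 16007, 16006, 16005, 16004, 16015, 15011, 15008, 15007, 15006, 15005, 16010, 16014, 15014, 15013, 14013, 16013, 13011, 13010, 13009, 16012, 16009, 15012, 7000, 8005, 7004, 7003, 5002, 5004, 4000, 3000, 5001, 4001, 3001, 2001, 1000]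

theorem ck_tg66 : decide ((C.combo tg_66.2.2).filter (fun q => !(tS_66.contains q.1)) = normS [(tg_66.1, (1 : ℤ)), (C.k0, tg_66.2.1)]) = true := by decide +kernel

def tS_67 : List ℕ := [14005, 15003, 12008, 15015, 16001, 12009, 12011, 16002, 14007, 13013, 12010, 14008, 15004, 16016, 14011, 13008, 13006, 13004, 14012, 15009, 16000, 16003, 14009, 13007, 14006, 12004, 13012, 14010, 15010, 15002, 16011, 16008, 16007, 16006, 16005, 16004, 16015, 15011, 15008, 15007, 15006, 15005, 16010, 16014, 15014, 15013, 14013, 16013, 13011, 13010, 13009, 16012, 16009, 15012, 7000, 8005, 7004, 7003, 5002, 5004, 4000, 3000, 5001, 4001, 3001, 2001, 1000]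

theorem ck_tg67 : decide ((C.combo tg_67.2.2).filter (fun q => !(tS_67.contains q.1)) = normS [(tg_67.1, (1 : ℤ)), (C.k0, tg_67.2.1)]) = true := by decide +kernel

def tS_68 : List ℕ := [15001, 14005, 15003, 12008, 15015, 16001, 12009, 12011, 16002, 14007, 13013, 12010, 14008, 15004, 16016, 14011, 13008, 13006, 13004, 14012, 15009, 16000, 16003, 14009, 13007, 14006, 12004, 13012, 14010, 15010, 15002, 16011, 16008, 16007, 16006, 16005, 16004, 16015, 15011, 15008, 15007, 15006, 15005, 16010, 16014, 15014, 15013, 14013, 16013, 13011, 13010, 13009, 16012, 16009, 15012, 7000, 8005, 7004, 7003, 5002, 5004, 4000, 3000, 5001, 4001, 3001, 2001, 1000]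

theorem ck_tg68 : decide ((C.combo tg_68.2.2).filter (fun q => !(tS_68.contains q.1)) = normS [(tg_68.1, (1 : ℤ)), (C.k0, tg_68.2.1)]) = true := by decide +kernel

def tS_69 : List ℕ := [13005, 15001, 14005, 15003, 12008, 15015, 16001, 12009, 12011, 16002, 14007, 13013, 12010, 14008, 15004, 16016, 14011, 13008, 13006, 13004, 14012, 15009, 16000, 16003, 14009, 13007, 14006, 12004, 13012, 14010, 15010, 15002, 16011, 16008, 16007, 16006, 16005, 16004, 16015, 15011, 15008, 15007, 15006, 15005, 16010, 16014, 15014, 15013, 14013, 16013, 13011, 13010, 13009, 16012, 16009, 15012, 7000, 8005, 7004, 7003, 5002, 5004, 4000, 3000, 5001, 4001, 3001, 2001, 1000]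

theorem ck_tg69 : decide ((C.combo tg_69.2.2).filter (fun q => !(tS_69.contains q.1)) = normS [(tg_69.1, (1 : ℤ)), (C.k0, tg_69.2.1)]) = true := by decide +kernel

def tS_70 : List ℕ := [13000, 13005, 15001, 14005, 15003, 12008, 15015, 16001, 12009, 12011, 16002, 14007, 13013, 12010, 14008, 15004, 16016, 14011, 13008, 13006, 13004, 14012, 15009, 16000, 16003, 14009, 13007, 14006, 12004, 13012, 14010, 15010, 15002, 16011, 16008, 16007, 16006, 16005, 16004, 16015, 15011, 15008, 15007, 15006, 15005, 16010, 16014, 15014, 15013, 14013, 16013, 13011, 13010, 13009, 16012, 16009, 15012, 7000, 8005, 7004, 7003, 5002, 5004, 4000, 3000, 5001, 4001, 3001, 2001, 1000]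

theorem ck_tg70 : decide ((C.combo tg_70.2.2).filter (fun q => !(tS_70.contains q.1)) = normS [(tg_70.1, (1 : ℤ)), (C.k0, tg_70.2.1)]) = true := by decide +kernel

def tS_71 : List ℕ := [13003, 13000, 13005, 15001, 14005, 15003, 12008, 15015, 16001, 12009, 12011, 16002, 14007, 13013, 12010, 14008, 15004, 16016, 14011, 13008, 13006, 13004, 14012, 15009, 16000, 16003, 14009, 13007, 14006, 12004, 13012, 14010, 15010, 15002, 16011, 16008, 16007, 16006, 16005, 16004, 16015, 15011, 15008, 15007, 15006, 15005, 16010, 16014, 15014, 15013, 14013, 16013, 13011, 13010, 13009, 16012, 16009, 15012, 7000, 8005, 7004, 7003, 5002, 5004, 4000, 3000, 5001, 4001, 3001, 2001, 1000]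

theorem ck_tg71 : decide ((C.combo tg_71.2.2).filter (fun q => !(tS_71.contains q.1)) = normS [(tg_71.1, (1 : ℤ)), (C.k0, tg_71.2.1)]) = true := by decide +kernel

def tS_72 : List ℕ := [14014, 13003, 13000, 13005, 15001, 14005, 15003, 12008, 15015, 16001, 12009, 12011, 16002, 14007, 13013, 12010, 14008, 15004, 16016, 14011, 13008, 13006, 13004, 14012, 15009, 16000, 16003, 14009, 13007, 14006, 12004, 13012, 14010, 15010, 15002, 16011, 16008, 16007, 16006, 16005, 16004, 16015, 15011, 15008, 15007, 15006, 15005, 16010, 16014, 15014, 15013, 14013, 16013, 13011, 13010, 13009, 16012, 16009, 15012, 7000, 8005, 7004, 7003, 5002, 5004, 4000, 3000, 5001, 4001, 3001, 2001, 1000]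

theorem ck_tg72 : decide ((C.combo tg_72.2.2).filter (fun q => !(tS_72.contains q.1)) = normS [(tg_72.1, (1 : ℤ)), (C.k0, tg_72.2.1)]) = true := by decide +kernel

def tS_73 : List ℕ := [9007, 14014, 13003, 13000, 13005, 15001, 14005, 15003, 12008, 15015, 16001, 12009, 12011, 16002, 14007, 13013, 12010, 14008, 15004, 16016, 14011, 13008, 13006, 13004, 14012, 15009, 16000, 16003, 14009, 13007, 14006, 12004, 13012, 14010, 15010, 15002, 16011, 16008, 16007, 16006, 16005, 16004, 16015, 15011, 15008, 15007, 15006, 15005, 16010, 16014, 15014, 15013, 14013, 16013, 13011, 13010, 13009, 16012, 16009, 15012, 7000, 8005, 7004, 7003, 5002, 5004, 4000, 3000, 5001, 4001, 3001, 2001, 1000]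

theorem ck_tg73 : decide ((C.combo tg_73.2.2).filter (fun q => !(tS_73.contains q.1)) = normS [(tg_73.1, (1 : ℤ)), (C.k0, tg_73.2.1)]) = true := by decide +kernel

def tS_74 : List ℕ := [15000, 9007, 14014, 13003, 13000, 13005, 15001, 14005, 15003, 12008, 15015, 16001, 12009, 12011, 16002, 14007, 13013, 12010, 14008, 15004, 16016, 14011, 13008, 13006, 13004, 14012, 15009, 16000, 16003, 14009, 13007, 14006, 12004, 13012, 14010, 15010, 15002, 16011, 16008, 16007, 16006, 16005, 16004, 16015, 15011, 15008, 15007, 15006, 15005, 16010, 16014, 15014, 15013, 14013, 16013, 13011, 13010, 13009, 16012, 16009, 15012, 7000, 8005, 7004, 7003, 5002, 5004, 4000, 3000, 5001, 4001, 3001, 2001, 1000]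

theorem ck_tg74 : decide ((C.combo tg_74.2.2).filter (fun q => !(tS_74.contains q.1)) = normS [(tg_74.1, (1 : ℤ)), (C.k0, tg_74.2.1)]) = true := by decide +kernel

def tS_75 : List ℕ := [14004, 15000, 9007, 14014, 13003, 13000, 13005, 15001, 14005, 15003, 12008, 15015, 16001, 12009, 12011, 16002, 14007, 13013, 12010, 14008, 15004, 16016, 14011, 13008, 13006, 13004, 14012, 15009, 16000, 16003, 14009, 13007, 14006, 12004, 13012, 14010, 15010, 15002, 16011, 16008, 16007, 16006, 16005, 16004, 16015, 15011, 15008, 15007, 15006, 15005, 16010, 16014, 15014, 15013, 14013, 16013, 13011, 13010, 13009, 16012, 16009, 15012, 7000, 8005, 7004, 7003, 5002, 5004, 4000, 3000, 5001, 4001, 3001, 2001, 1000]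

theorem ck_tg75 : decide ((C.combo tg_75.2.2).filter (fun q => !(tS_75.contains q.1)) = normS [(tg_75.1, (1 : ℤ)), (C.k0, tg_75.2.1)]) = true := by decide +kernel

def tS_76 : List ℕ := [12007, 14004, 15000, 9007, 14014, 13003, 13000, 13005, 15001, 14005, 15003, 12008, 15015, 16001, 12009, 12011, 16002, 14007, 13013, 12010, 14008, 15004, 16016, 14011, 13008, 13006, 13004, 14012, 15009, 16000, 16003, 14009, 13007, 14006, 12004, 13012, 14010, 15010, 15002, 16011, 16008, 16007, 16006, 16005, 16004, 16015, 15011, 15008, 15007, 15006, 15005, 16010, 16014, 15014, 15013, 14013, 16013, 13011, 13010, 13009, 16012, 16009, 15012, 7000, 8005, 7004, 7003, 5002, 5004, 4000, 3000, 5001, 4001, 3001, 2001, 1000]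

theorem ck_tg76 : decide ((C.combo tg_76.2.2).filter (fun q => !(tS_76.contains q.1)) = normS [(tg_76.1, (1 : ℤ)), (C.k0, tg_76.2.1)]) = true := by decide +kernel

def tS_77 : List ℕ := [10009, 12007, 14004, 15000, 9007, 14014, 13003, 13000, 13005, 15001, 14005, 15003, 12008, 15015, 16001, 12009, 12011, 16002, 14007, 13013, 12010, 14008, 15004, 16016, 14011, 13008, 13006, 13004, 14012, 15009, 16000, 16003, 14009, 13007, 14006, 12004, 13012, 14010, 15010, 15002, 16011, 16008, 16007, 16006, 16005, 16004, 16015, 15011, 15008, 15007, 15006, 15005, 16010, 16014, 15014, 15013, 14013, 16013, 13011, 13010, 13009, 16012, 16009, 15012, 7000, 8005, 7004, 7003, 5002, 5004, 4000, 3000, 5001, 4001, 3001, 2001, 1000]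

theorem ck_tg77 : decide ((C.combo tg_77.2.2).filter (fun q => !(tS_77.contains q.1)) = normS [(tg_77.1, (1 : ℤ)), (C.k0, tg_77.2.1)]) = true := by decide +kernel

def tS_78 : List ℕ := [11009, 10009, 12007, 14004, 15000, 9007, 14014, 13003, 13000, 13005, 15001, 14005, 15003, 12008, 15015, 16001, 12009, 12011, 16002, 14007, 13013, 12010, 14008, 15004, 16016, 14011, 13008, 13006, 13004, 14012, 15009, 16000, 16003, 14009, 13007, 14006, 12004, 13012, 14010, 15010, 15002, 16011, 16008, 16007, 16006, 16005, 16004, 16015, 15011, 15008, 15007, 15006, 15005, 16010, 16014, 15014, 15013, 14013, 16013, 13011, 13010, 13009, 16012, 16009, 15012, 7000, 8005, 7004, 7003, 5002, 5004, 4000, 3000, 5001, 4001, 3001, 2001, 1000]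

theorem ck_tg78 : decide ((C.combo tg_78.2.2).filter (fun q => !(tS_78.contains q.1)) = normS [(tg_78.1, (1 : ℤ)), (C.k0, tg_78.2.1)]) = true := by decide +kernel

def tS_79 : List ℕ := [14003, 11009, 10009, 12007, 14004, 15000, 9007, 14014, 13003, 13000, 13005, 15001, 14005, 15003, 12008, 15015, 16001, 12009, 12011, 16002, 14007, 13013, 12010, 14008, 15004, 16016, 14011, 13008, 13006, 13004, 14012, 15009, 16000, 16003, 14009, 13007, 14006, 12004, 13012, 14010, 15010, 15002, 16011, 16008, 16007, 16006, 16005, 16004, 16015, 15011, 15008, 15007, 15006, 15005, 16010, 16014, 15014, 15013, 14013, 16013, 13011, 13010, 13009, 16012, 16009, 15012, 7000, 8005, 7004, 7003, 5002, 5004, 4000, 3000, 5001, 4001, 3001, 2001, 1000]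

theorem ck_tg79 : decide ((C.combo tg_79.2.2).filter (fun q => !(tS_79.contains q.1)) = normS [(tg_79.1, (1 : ℤ)), (C.k0, tg_79.2.1)]) = true := by decide +kernel

def tS_80 : List ℕ := [11010, 14003, 11009, 10009, 12007, 14004, 15000, 9007, 14014, 13003, 13000, 13005, 15001, 14005, 15003, 12008, 15015, 16001, 12009, 12011, 16002, 14007, 13013, 12010, 14008, 15004, 16016, 14011, 13008, 13006, 13004, 14012, 15009, 16000, 16003, 14009, 13007, 14006, 12004, 13012, 14010, 15010, 15002, 16011, 16008, 16007, 16006, 16005, 16004, 16015, 15011, 15008, 15007, 15006, 15005, 16010, 16014, 15014, 15013, 14013, 16013, 13011, 13010, 13009, 16012, 16009, 15012, 7000, 8005, 7004, 7003, 5002, 5004, 4000, 3000, 5001, 4001, 3001, 2001, 1000]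

theorem ck_tg80 : decide ((C.combo tg_80.2.2).filter (fun q => !(tS_80.contains q.1)) = normS [(tg_80.1, (1 : ℤ)), (C.k0, tg_80.2.1)]) = true := by decide +kernel

def tS_81 : List ℕ := [10006, 11010, 14003, 11009, 10009, 12007, 14004, 15000, 9007, 14014, 13003, 13000, 13005, 15001, 14005, 15003, 12008, 15015, 16001, 12009, 12011, 16002, 14007, 13013, 12010, 14008, 15004, 16016, 14011, 13008, 13006, 13004, 14012, 15009, 16000, 16003, 14009, 13007, 14006, 12004, 13012, 14010, 15010, 15002, 16011, 16008, 16007, 16006, 16005, 16004, 16015, 15011, 15008, 15007, 15006, 15005, 16010, 16014, 15014, 15013, 14013, 16013, 13011, 13010, 13009, 16012, 16009, 15012, 7000, 8005, 7004, 7003, 5002, 5004, 4000, 3000, 5001, 4001, 3001, 2001, 1000]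

theorem ck_tg81 : decide ((C.combo tg_81.2.2).filter (fun q => !(tS_81.contains q.1)) = normS [(tg_81.1, (1 : ℤ)), (C.k0, tg_81.2.1)]) = true := by decide +kernel

def tS_82 : List ℕ := [10007, 10006, 11010, 14003, 11009, 10009, 12007, 14004, 15000, 9007, 14014, 13003, 13000, 13005, 15001, 14005, 15003, 12008, 15015, 16001, 12009, 12011, 16002, 14007, 13013, 12010, 14008, 15004, 16016, 14011, 13008, 13006, 13004, 14012, 15009, 16000, 16003, 14009, 13007, 14006, 12004, 13012, 14010, 15010, 15002, 16011, 16008, 16007, 16006, 16005, 16004, 16015, 15011, 15008, 15007, 15006, 15005, 16010, 16014, 15014, 15013, 14013, 16013, 13011, 13010, 13009, 16012, 16009, 15012, 7000, 8005, 7004, 7003, 5002, 5004, 4000, 3000, 5001, 4001, 3001, 2001, 1000]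

theorem ck_tg82 : decide ((C.combo tg_82.2.2).filter (fun q => !(tS_82.contains q.1)) = normS [(tg_82.1, (1 : ℤ)), (C.k0, tg_82.2.1)]) = true := by decide +kernel

def tS_83 : List ℕ := [14000, 10007, 10006, 11010, 14003, 11009, 10009, 12007, 14004, 15000, 9007, 14014, 13003, 13000, 13005, 15001, 14005, 15003, 12008, 15015, 16001, 12009, 12011, 16002, 14007, 13013, 12010, 14008, 15004, 16016, 14011, 13008, 13006, 13004, 14012, 15009, 16000, 16003, 14009, 13007, 14006, 12004, 13012, 14010, 15010, 15002, 16011, 16008, 16007, 16006, 16005, 16004, 16015, 15011, 15008, 15007, 15006, 15005, 16010, 16014, 15014, 15013, 14013, 16013, 13011, 13010, 13009, 16012, 16009, 15012, 7000, 8005, 7004, 7003, 5002, 5004, 4000, 3000, 5001, 4001, 3001, 2001, 1000]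

theorem ck_tg83 : decide ((C.combo tg_83.2.2).filter (fun q => !(tS_83.contains q.1)) = normS [(tg_83.1, (1 : ℤ)), (C.k0, tg_83.2.1)]) = true := by decide +kernel

def tS_84 : List ℕ := [11007, 14000, 10007, 10006, 11010, 14003, 11009, 10009, 12007, 14004, 15000, 9007, 14014, 13003, 13000, 13005, 15001, 14005, 15003, 12008, 15015, 16001, 12009, 12011, 16002, 14007, 13013, 12010, 14008, 15004, 16016, 14011, 13008, 13006, 13004, 14012, 15009, 16000, 16003, 14009, 13007, 14006, 12004, 13012, 14010, 15010, 15002, 16011, 16008, 16007, 16006, 16005, 16004, 16015, 15011, 15008, 15007, 15006, 15005, 16010, 16014, 15014, 15013, 14013, 16013, 13011, 13010, 13009, 16012, 16009, 15012, 7000, 8005, 7004, 7003, 5002, 5004, 4000, 3000, 5001, 4001, 3001, 2001, 1000]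

theorem ck_tg84 : decide ((C.combo tg_84.2.2).filter (fun q => !(tS_84.contains q.1)) = normS [(tg_84.1, (1 : ℤ)), (C.k0, tg_84.2.1)]) = true := by decide +kernel

def tS_85 : List ℕ := [7007, 11007, 14000, 10007, 10006, 11010, 14003, 11009, 10009, 12007, 14004, 15000, 9007, 14014, 13003, 13000, 13005, 15001, 14005, 15003, 12008, 15015, 16001, 12009, 12011, 16002, 14007, 13013, 12010, 14008, 15004, 16016, 14011, 13008, 13006, 13004, 14012, 15009, 16000, 16003, 14009, 13007, 14006, 12004, 13012, 14010, 15010, 15002, 16011, 16008, 16007, 16006, 16005, 16004, 16015, 15011, 15008, 15007, 15006, 15005, 16010, 16014, 15014, 15013, 14013, 16013, 13011, 13010, 13009, 16012, 16009, 15012, 7000, 8005, 7004, 7003, 5002, 5004, 4000, 3000, 5001, 4001, 3001, 2001, 1000]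

theorem ck_tg85 : decide ((C.combo tg_85.2.2).filter (fun q => !(tS_85.contains q.1)) = normS [(tg_85.1, (1 : ℤ)), (C.k0, tg_85.2.1)]) = true := by decide +kernel

def tS_86 : List ℕ := [12001, 7007, 11007, 14000, 10007, 10006, 11010, 14003, 11009, 10009, 12007, 14004, 15000, 9007, 14014, 13003, 13000, 13005, 15001, 14005, 15003, 12008, 15015, 16001, 12009, 12011, 16002, 14007, 13013, 12010, 14008, 15004, 16016, 14011, 13008, 13006, 13004, 14012, 15009, 16000, 16003, 14009, 13007, 14006, 12004, 13012, 14010, 15010, 15002, 16011, 16008, 16007, 16006, 16005, 16004, 16015, 15011, 15008, 15007, 15006, 15005, 16010, 16014, 15014, 15013, 14013, 16013, 13011, 13010, 13009, 16012, 16009, 15012, 7000, 8005, 7004, 7003, 5002, 5004, 4000, 3000, 5001, 4001, 3001, 2001, 1000]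

theorem ck_tg86 : decide ((C.combo tg_86.2.2).filter (fun q => !(tS_86.contains q.1)) = normS [(tg_86.1, (1 : ℤ)), (C.k0, tg_86.2.1)]) = true := by decide +kernel

def tS_87 : List ℕ := [7002, 12001, 7007, 11007, 14000, 10007, 10006, 11010, 14003, 11009, 10009, 12007, 14004, 15000, 9007, 14014, 13003, 13000, 13005, 15001, 14005, 15003, 12008, 15015, 16001, 12009, 12011, 16002, 14007, 13013, 12010, 14008, 15004, 16016, 14011, 13008, 13006, 13004, 14012, 15009, 16000, 16003, 14009, 13007, 14006, 12004, 13012, 14010, 15010, 15002, 16011, 16008, 16007, 16006, 16005, 16004, 16015, 15011, 15008, 15007, 15006, 15005, 16010, 16014, 15014, 15013, 14013, 16013, 13011, 13010, 13009, 16012, 16009, 15012, 7000, 8005, 7004, 7003, 5002, 5004, 4000, 3000, 5001, 4001, 3001, 2001, 1000]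

theorem ck_tg87 : decide ((C.combo tg_87.2.2).filter (fun q => !(tS_87.contains q.1)) = normS [(tg_87.1, (1 : ℤ)), (C.k0, tg_87.2.1)]) = true := by decide +kernel

def tS_88 : List ℕ := [11011, 7002, 12001, 7007, 11007, 14000, 10007, 10006, 11010, 14003, 11009, 10009, 12007, 14004, 15000, 9007, 14014, 13003, 13000, 13005, 15001, 14005, 15003, 12008, 15015, 16001, 12009, 12011, 16002, 14007, 13013, 12010, 14008, 15004, 16016, 14011, 13008, 13006, 13004, 14012, 15009, 16000, 16003, 14009, 13007, 14006, 12004, 13012, 14010, 15010, 15002, 16011, 16008, 16007, 16006, 16005, 16004, 16015, 15011, 15008, 15007, 15006, 15005, 16010, 16014, 15014, 15013, 14013, 16013, 13011, 13010, 13009, 16012, 16009, 15012, 7000, 8005, 7004, 7003, 5002, 5004, 4000, 3000, 5001, 4001, 3001, 2001, 1000]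

theorem ck_tg88 : decide ((C.combo tg_88.2.2).filter (fun q => !(tS_88.contains q.1)) = normS [(tg_88.1, (1 : ℤ)), (C.k0, tg_88.2.1)]) = true := by decide +kernel

def tS_89 : List ℕ := [7005, 11011, 7002, 12001, 7007, 11007, 14000, 10007, 10006, 11010, 14003, 11009, 10009, 12007, 14004, 15000, 9007, 14014, 13003, 13000, 13005, 15001, 14005, 15003, 12008, 15015, 16001, 12009, 12011, 16002, 14007, 13013, 12010, 14008, 15004, 16016, 14011, 13008, 13006, 13004, 14012, 15009, 16000, 16003, 14009, 13007, 14006, 12004, 13012, 14010, 15010, 15002, 16011, 16008, 16007, 16006, 16005, 16004, 16015, 15011, 15008, 15007, 15006, 15005, 16010, 16014, 15014, 15013, 14013, 16013, 13011, 13010, 13009, 16012, 16009, 15012, 7000, 8005, 7004, 7003, 5002, 5004, 4000, 3000, 5001, 4001, 3001, 2001, 1000]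

theorem ck_tg89 : decide ((C.combo tg_89.2.2).filter (fun q => !(tS_89.contains q.1)) = normS [(tg_89.1, (1 : ℤ)), (C.k0, tg_89.2.1)]) = true := by decide +kernel

def tS_90 : List ℕ := [6001, 7005, 11011, 7002, 12001, 7007, 11007, 14000, 10007, 10006, 11010, 14003, 11009, 10009, 12007, 14004, 15000, 9007, 14014, 13003, 13000, 13005, 15001, 14005, 15003, 12008, 15015, 16001, 12009, 12011, 16002, 14007, 13013, 12010, 14008, 15004, 16016, 14011, 13008, 13006, 13004, 14012, 15009, 16000, 16003, 14009, 13007, 14006, 12004, 13012, 14010, 15010, 15002, 16011, 16008, 16007, 16006, 16005, 16004, 16015, 15011, 15008, 15007, 15006, 15005, 16010, 16014, 15014, 15013, 14013, 16013, 13011, 13010, 13009, 16012, 16009, 15012, 7000, 8005, 7004, 7003, 5002, 5004, 4000, 3000, 5001, 4001, 3001, 2001, 1000]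

theorem ck_tg90 : decide ((C.combo tg_90.2.2).filter (fun q => !(tS_90.contains q.1)) = normS [(tg_90.1, (1 : ℤ)), (C.k0, tg_90.2.1)]) = true := by decide +kernel

def tS_91 : List ℕ := [6004, 6001, 7005, 11011, 7002, 12001, 7007, 11007, 14000, 10007, 10006, 11010, 14003, 11009, 10009, 12007, 14004, 15000, 9007, 14014, 13003, 13000, 13005, 15001, 14005, 15003, 12008, 15015, 16001, 12009, 12011, 16002, 14007, 13013, 12010, 14008, 15004, 16016, 14011, 13008, 13006, 13004, 14012, 15009, 16000, 16003, 14009, 13007, 14006, 12004, 13012, 14010, 15010, 15002, 16011, 16008, 16007, 16006, 16005, 16004, 16015, 15011, 15008, 15007, 15006, 15005, 16010, 16014, 15014, 15013, 14013, 16013, 13011, 13010, 13009, 16012, 16009, 15012, 7000, 8005, 7004, 7003, 5002, 5004, 4000, 3000, 5001, 4001, 3001, 2001, 1000]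

theorem ck_tg91 : decide ((C.combo tg_91.2.2).filter (fun q => !(tS_91.contains q.1)) = normS [(tg_91.1, (1 : ℤ)), (C.k0, tg_91.2.1)]) = true := by decide +kernel

def tS_92 : List ℕ := [10010, 6004, 6001, 7005, 11011, 7002, 12001, 7007, 11007, 14000, 10007, 10006, 11010, 14003, 11009, 10009, 12007, 14004, 15000, 9007, 14014, 13003, 13000, 13005, 15001, 14005, 15003, 12008, 15015, 16001, 12009, 12011, 16002, 14007, 13013, 12010, 14008, 15004, 16016, 14011, 13008, 13006, 13004, 14012, 15009, 16000, 16003, 14009, 13007, 14006, 12004, 13012, 14010, 15010, 15002, 16011, 16008, 16007, 16006, 16005, 16004, 16015, 15011, 15008, 15007, 15006, 15005, 16010, 16014, 15014, 15013, 14013, 16013, 13011, 13010, 13009, 16012, 16009, 15012, 7000, 8005, 7004, 7003, 5002, 5004, 4000, 3000, 5001, 4001, 3001, 2001, 1000]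

theorem ck_tg92 : decide ((C.combo tg_92.2.2).filter (fun q => !(tS_92.contains q.1)) = normS [(tg_92.1, (1 : ℤ)), (C.k0, tg_92.2.1)]) = true := by decide +kernel

def tS_93 : List ℕ := [10000, 10010, 6004, 6001, 7005, 11011, 7002, 12001, 7007, 11007, 14000, 10007, 10006, 11010, 14003, 11009, 10009, 12007, 14004, 15000, 9007, 14014, 13003, 13000, 13005, 15001, 14005, 15003, 12008, 15015, 16001, 12009, 12011, 16002, 14007, 13013, 12010, 14008, 15004, 16016, 14011, 13008, 13006, 13004, 14012, 15009, 16000, 16003, 14009, 13007, 14006, 12004, 13012, 14010, 15010, 15002, 16011, 16008, 16007, 16006, 16005, 16004, 16015, 15011, 15008, 15007, 15006, 15005, 16010, 16014, 15014, 15013, 14013, 16013, 13011, 13010, 13009, 16012, 16009, 15012, 7000, 8005, 7004, 7003, 5002, 5004, 4000, 3000, 5001, 4001, 3001, 2001, 1000]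

theorem ck_tg93 : decide ((C.combo tg_93.2.2).filter (fun q => !(tS_93.contains q.1)) = normS [(tg_93.1, (1 : ℤ)), (C.k0, tg_93.2.1)]) = true := by decide +kernel

def tS_94 : List ℕ := [8000, 10000, 10010, 6004, 6001, 7005, 11011, 7002, 12001, 7007, 11007, 14000, 10007, 10006, 11010, 14003, 11009, 10009, 12007, 14004, 15000, 9007, 14014, 13003, 13000, 13005, 15001, 14005, 15003, 12008, 15015, 16001, 12009, 12011, 16002, 14007, 13013, 12010, 14008, 15004, 16016, 14011, 13008, 13006, 13004, 14012, 15009, 16000, 16003, 14009, 13007, 14006, 12004, 13012, 14010, 15010, 15002, 16011, 16008, 16007, 16006, 16005, 16004, 16015, 15011, 15008, 15007, 15006, 15005, 16010, 16014, 15014, 15013, 14013, 16013, 13011, 13010, 13009, 16012, 16009, 15012, 7000, 8005, 7004, 7003, 5002, 5004, 4000, 3000, 5001, 4001, 3001, 2001, 1000]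

theorem ck_tg94 : decide ((C.combo tg_94.2.2).filter (fun q => !(tS_94.contains q.1)) = normS [(tg_94.1, (1 : ℤ)), (C.k0, tg_94.2.1)]) = true := by decide +kernel

def tS_95 : List ℕ := [8006, 8000, 10000, 10010, 6004, 6001, 7005, 11011, 7002, 12001, 7007, 11007, 14000, 10007, 10006, 11010, 14003, 11009, 10009, 12007, 14004, 15000, 9007, 14014, 13003, 13000, 13005, 15001, 14005, 15003, 12008, 15015, 16001, 12009, 12011, 16002, 14007, 13013, 12010, 14008, 15004, 16016, 14011, 13008, 13006, 13004, 14012, 15009, 16000, 16003, 14009, 13007, 14006, 12004, 13012, 14010, 15010, 15002, 16011, 16008, 16007, 16006, 16005, 16004, 16015, 15011, 15008, 15007, 15006, 15005, 16010, 16014, 15014, 15013, 14013, 16013, 13011, 13010, 13009, 16012, 16009, 15012, 7000, 8005, 7004, 7003, 5002, 5004, 4000, 3000, 5001, 4001, 3001, 2001, 1000]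

theorem ck_tg95 : decide ((C.combo tg_95.2.2).filter (fun q => !(tS_95.contains q.1)) = normS [(tg_95.1, (1 : ℤ)), (C.k0, tg_95.2.1)]) = true := by decide +kernel

def tS_96 : List ℕ := [8007, 8006, 8000, 10000, 10010, 6004, 6001, 7005, 11011, 7002, 12001, 7007, 11007, 14000, 10007, 10006, 11010, 14003, 11009, 10009, 12007, 14004, 15000, 9007, 14014, 13003, 13000, 13005, 15001, 14005, 15003, 12008, 15015, 16001, 12009, 12011, 16002, 14007, 13013, 12010, 14008, 15004, 16016, 14011, 13008, 13006, 13004, 14012, 15009, 16000, 16003, 14009, 13007, 14006, 12004, 13012, 14010, 15010, 15002, 16011, 16008, 16007, 16006, 16005, 16004, 16015, 15011, 15008, 15007, 15006, 15005, 16010, 16014, 15014, 15013, 14013, 16013, 13011, 13010, 13009, 16012, 16009, 15012, 7000, 8005, 7004, 7003, 5002, 5004, 4000, 3000, 5001, 4001, 3001, 2001, 1000]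

theorem ck_tg96 : decide ((C.combo tg_96.2.2).filter (fun q => !(tS_96.contains q.1)) = normS [(tg_96.1, (1 : ℤ)), (C.k0, tg_96.2.1)]) = true := by decide +kernel

def tS_97 : List ℕ := [11000, 8007, 8006, 8000, 10000, 10010, 6004, 6001, 7005, 11011, 7002, 12001, 7007, 11007, 14000, 10007, 10006, 11010, 14003, 11009, 10009, 12007, 14004, 15000, 9007, 14014, 13003, 13000, 13005, 15001, 14005, 15003, 12008, 15015, 16001, 12009, 12011, 16002, 14007, 13013, 12010, 14008, 15004, 16016, 14011, 13008, 13006, 13004, 14012, 15009, 16000, 16003, 14009, 13007, 14006, 12004, 13012, 14010, 15010, 15002, 16011, 16008, 16007, 16006, 16005, 16004, 16015, 15011, 15008, 15007, 15006, 15005, 16010, 16014, 15014, 15013, 14013, 16013, 13011, 13010, 13009, 16012, 16009, 15012, 7000, 8005, 7004, 7003, 5002, 5004, 4000, 3000, 5001, 4001, 3001, 2001, 1000]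

theorem ck_tg97 : decide ((C.combo tg_97.2.2).filter (fun q => !(tS_97.contains q.1)) = normS [(tg_97.1, (1 : ℤ)), (C.k0, tg_97.2.1)]) = true := by decide +kernel

def tS_98 : List ℕ := [9009, 11000, 8007, 8006, 8000, 10000, 10010, 6004, 6001, 7005, 11011, 7002, 12001, 7007, 11007, 14000, 10007, 10006, 11010, 14003, 11009, 10009, 12007, 14004, 15000, 9007, 14014, 13003, 13000, 13005, 15001, 14005, 15003, 12008, 15015, 16001, 12009, 12011, 16002, 14007, 13013, 12010, 14008, 15004, 16016, 14011, 13008, 13006, 13004, 14012, 15009, 16000, 16003, 14009, 13007, 14006, 12004, 13012, 14010, 15010, 15002, 16011, 16008, 16007, 16006, 16005, 16004, 16015, 15011, 15008, 15007, 15006, 15005, 16010, 16014, 15014, 15013, 14013, 16013, 13011, 13010, 13009, 16012, 16009, 15012, 7000, 8005, 7004, 7003, 5002, 5004, 4000, 3000, 5001, 4001, 3001, 2001, 1000]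

theorem ck_tg98 : decide ((C.combo tg_98.2.2).filter (fun q => !(tS_98.contains q.1)) = normS [(tg_98.1, (1 : ℤ)), (C.k0, tg_98.2.1)]) = true := by decide +kernel

def tS_99 : List ℕ := [9000, 9009, 11000, 8007, 8006, 8000, 10000, 10010, 6004, 6001, 7005, 11011, 7002, 12001, 7007, 11007, 14000, 10007, 10006, 11010, 14003, 11009, 10009, 12007, 14004, 15000, 9007, 14014, 13003, 13000, 13005, 15001, 14005, 15003, 12008, 15015, 16001, 12009, 12011, 16002, 14007, 13013, 12010, 14008, 15004, 16016, 14011, 13008, 13006, 13004, 14012, 15009, 16000, 16003, 14009, 13007, 14006, 12004, 13012, 14010, 15010, 15002, 16011, 16008, 16007, 16006, 16005, 16004, 16015, 15011, 15008, 15007, 15006, 15005, 16010, 16014, 15014, 15013, 14013, 16013, 13011, 13010, 13009, 16012, 16009, 15012, 7000, 8005, 7004, 7003, 5002, 5004, 4000, 3000, 5001, 4001, 3001, 2001, 1000]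

theorem ck_tg99 : decide ((C.combo tg_99.2.2).filter (fun q => !(tS_99.contains q.1)) = normS [(tg_99.1, (1 : ℤ)), (C.k0, tg_99.2.1)]) = true := by decide +kernel

def tS_100 : List ℕ := [5005, 9000, 9009, 11000, 8007, 8006, 8000, 10000, 10010, 6004, 6001, 7005, 11011, 7002, 12001, 7007, 11007, 14000, 10007, 10006, 11010, 14003, 11009, 10009, 12007, 14004, 15000, 9007, 14014, 13003, 13000, 13005, 15001, 14005, 15003, 12008, 15015, 16001, 12009, 12011, 16002, 14007, 13013, 12010, 14008, 15004, 16016, 14011, 13008, 13006, 13004, 14012, 15009, 16000, 16003, 14009, 13007, 14006, 12004, 13012, 14010, 15010, 15002, 16011, 16008, 16007, 16006, 16005, 16004, 16015, 15011, 15008, 15007, 15006, 15005, 16010, 16014, 15014, 15013, 14013, 16013, 13011, 13010, 13009, 16012, 16009, 15012, 7000, 8005, 7004, 7003, 5002, 5004, 4000, 3000, 5001, 4001, 3001, 2001, 1000]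

theorem ck_tg100 : decide ((C.combo tg_100.2.2).filter (fun q => !(tS_100.contains q.1)) = normS [(tg_100.1, (1 : ℤ)), (C.k0, tg_100.2.1)]) = true := by decide +kernel

def tS_101 : List ℕ := [6003, 5005, 9000, 9009, 11000, 8007, 8006, 8000, 10000, 10010, 6004, 6001, 7005, 11011, 7002, 12001, 7007, 11007, 14000, 10007, 10006, 11010, 14003, 11009, 10009, 12007, 14004, 15000, 9007, 14014, 13003, 13000, 13005, 15001, 14005, 15003, 12008, 15015, 16001, 12009, 12011, 16002, 14007, 13013, 12010, 14008, 15004, 16016, 14011, 13008, 13006, 13004, 14012, 15009, 16000, 16003, 14009, 13007, 14006, 12004, 13012, 14010, 15010, 15002, 16011, 16008, 16007, 16006, 16005, 16004, 16015, 15011, 15008, 15007, 15006, 15005, 16010, 16014, 15014, 15013, 14013, 16013, 13011, 13010, 13009, 16012, 16009, 15012, 7000, 8005, 7004, 7003, 5002, 5004, 4000, 3000, 5001, 4001, 3001, 2001, 1000]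

theorem ck_tg101 : decide ((C.combo tg_101.2.2).filter (fun q => !(tS_101.contains q.1)) = normS [(tg_101.1, (1 : ℤ)), (C.k0, tg_101.2.1)]) = true := by decide +kernel

def tS_102 : List ℕ := [9004, 6003, 5005, 9000, 9009, 11000, 8007, 8006, 8000, 10000, 10010, 6004, 6001, 7005, 11011, 7002, 12001, 7007, 11007, 14000, 10007, 10006, 11010, 14003, 11009, 10009, 12007, 14004, 15000, 9007, 14014, 13003, 13000, 13005, 15001, 14005, 15003, 12008, 15015, 16001, 12009, 12011, 16002, 14007, 13013, 12010, 14008, 15004, 16016, 14011, 13008, 13006, 13004, 14012, 15009, 16000, 16003, 14009, 13007, 14006, 12004, 13012, 14010, 15010, 15002, 16011, 16008, 16007, 16006, 16005, 16004, 16015, 15011, 15008, 15007, 15006, 15005, 16010, 16014, 15014, 15013, 14013, 16013, 13011, 13010, 13009, 16012, 16009, 15012, 7000, 8005, 7004, 7003, 5002, 5004, 4000, 3000, 5001, 4001, 3001, 2001, 1000]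

theorem ck_tg102 : decide ((C.combo tg_102.2.2).filter (fun q => !(tS_102.contains q.1)) = normS [(tg_102.1, (1 : ℤ)), (C.k0, tg_102.2.1)]) = true := by decide +kernel

def tS_103 : List ℕ := [10003, 9004, 6003, 5005, 9000, 9009, 11000, 8007, 8006, 8000, 10000, 10010, 6004, 6001, 7005, 11011, 7002, 12001, 7007, 11007, 14000, 10007, 10006, 11010, 14003, 11009, 10009, 12007, 14004, 15000, 9007, 14014, 13003, 13000, 13005, 15001, 14005, 15003, 12008, 15015, 16001, 12009, 12011, 16002, 14007, 13013, 12010, 14008, 15004, 16016, 14011, 13008, 13006, 13004, 14012, 15009, 16000, 16003, 14009, 13007, 14006, 12004, 13012, 14010, 15010, 15002, 16011, 16008, 16007, 16006, 16005, 16004, 16015, 15011, 15008, 15007, 15006, 15005, 16010, 16014, 15014, 15013, 14013, 16013, 13011, 13010, 13009, 16012, 16009, 15012, 7000, 8005, 7004, 7003, 5002, 5004, 4000, 3000, 5001, 4001, 3001, 2001, 1000]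

theorem ck_tg103 : decide ((C.combo tg_103.2.2).filter (fun q => !(tS_103.contains q.1)) = normS [(tg_103.1, (1 : ℤ)), (C.k0, tg_103.2.1)]) = true := by decide +kernel

def tS_104 : List ℕ := [9005, 10003, 9004, 6003, 5005, 9000, 9009, 11000, 8007, 8006, 8000, 10000, 10010, 6004, 6001, 7005, 11011, 7002, 12001, 7007, 11007, 14000, 10007, 10006, 11010, 14003, 11009, 10009, 12007, 14004, 15000, 9007, 14014, 13003, 13000, 13005, 15001, 14005, 15003, 12008, 15015, 16001, 12009, 12011, 16002, 14007, 13013, 12010, 14008, 15004, 16016, 14011, 13008, 13006, 13004, 14012, 15009, 16000, 16003, 14009, 13007, 14006, 12004, 13012, 14010, 15010, 15002, 16011, 16008, 16007, 16006, 16005, 16004, 16015, 15011, 15008, 15007, 15006, 15005, 16010, 16014, 15014, 15013, 14013, 16013, 13011, 13010, 13009, 16012, 16009, 15012, 7000, 8005, 7004, 7003, 5002, 5004, 4000, 3000, 5001, 4001, 3001, 2001, 1000]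

theorem ck_tg104 : decide ((C.combo tg_104.2.2).filter (fun q => !(tS_104.contains q.1)) = normS [(tg_104.1, (1 : ℤ)), (C.k0, tg_104.2.1)]) = true := by decide +kernel

def tS_105 : List ℕ := [9006, 9005, 10003, 9004, 6003, 5005, 9000, 9009, 11000, 8007, 8006, 8000, 10000, 10010, 6004, 6001, 7005, 11011, 7002, 12001, 7007, 11007, 14000, 10007, 10006, 11010, 14003, 11009, 10009, 12007, 14004, 15000, 9007, 14014, 13003, 13000, 13005, 15001, 14005, 15003, 12008, 15015, 16001, 12009, 12011, 16002, 14007, 13013, 12010, 14008, 15004, 16016, 14011, 13008, 13006, 13004, 14012, 15009, 16000, 16003, 14009, 13007, 14006, 12004, 13012, 14010, 15010, 15002, 16011, 16008, 16007, 16006, 16005, 16004, 16015, 15011, 15008, 15007, 15006, 15005, 16010, 16014, 15014, 15013, 14013, 16013, 13011, 13010, 13009, 16012, 16009, 15012, 7000, 8005, 7004, 7003, 5002, 5004, 4000, 3000, 5001, 4001, 3001, 2001, 1000]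

theorem ck_tg105 : decide ((C.combo tg_105.2.2).filter (fun q => !(tS_105.contains q.1)) = normS [(tg_105.1, (1 : ℤ)), (C.k0, tg_105.2.1)]) = true := by decide +kernel

def tS_106 : List ℕ := [11006, 9006, 9005, 10003, 9004, 6003, 5005, 9000, 9009, 11000, 8007, 8006, 8000, 10000, 10010, 6004, 6001, 7005, 11011, 7002, 12001, 7007, 11007, 14000, 10007, 10006, 11010, 14003, 11009, 10009, 12007, 14004, 15000, 9007, 14014, 13003, 13000, 13005, 15001, 14005, 15003, 12008, 15015, 16001, 12009, 12011, 16002, 14007, 13013, 12010, 14008, 15004, 16016, 14011, 13008, 13006, 13004, 14012, 15009, 16000, 16003, 14009, 13007, 14006, 12004, 13012, 14010, 15010, 15002, 16011, 16008, 16007, 16006, 16005, 16004, 16015, 15011, 15008, 15007, 15006, 15005, 16010, 16014, 15014, 15013, 14013, 16013, 13011, 13010, 13009, 16012, 16009, 15012, 7000, 8005, 7004, 7003, 5002, 5004, 4000, 3000, 5001, 4001, 3001, 2001, 1000]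

theorem ck_tg106 : decide ((C.combo tg_106.2.2).filter (fun q => !(tS_106.contains q.1)) = normS [(tg_106.1, (1 : ℤ)), (C.k0, tg_106.2.1)]) = true := by decide +kernel

def tS_107 : List ℕ := [9008, 11006, 9006, 9005, 10003, 9004, 6003, 5005, 9000, 9009, 11000, 8007, 8006, 8000, 10000, 10010, 6004, 6001, 7005, 11011, 7002, 12001, 7007, 11007, 14000, 10007, 10006, 11010, 14003, 11009, 10009, 12007, 14004, 15000, 9007, 14014, 13003, 13000, 13005, 15001, 14005, 15003, 12008, 15015, 16001, 12009, 12011, 16002, 14007, 13013, 12010, 14008, 15004, 16016, 14011, 13008, 13006, 13004, 14012, 15009, 16000, 16003, 14009, 13007, 14006, 12004, 13012, 14010, 15010, 15002, 16011, 16008, 16007, 16006, 16005, 16004, 16015, 15011, 15008, 15007, 15006, 15005, 16010, 16014, 15014, 15013, 14013, 16013, 13011, 13010, 13009, 16012, 16009, 15012, 7000, 8005, 7004, 7003, 5002, 5004, 4000, 3000, 5001, 4001, 3001, 2001,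 1000]

theorem ck_tg107 : decide ((C.combo tg_107.2.2).filter (fun q => !(tS_107.contains q.1)) = normS [(tg_107.1, (1 : ℤ)), (C.k0, tg_107.2.1)]) = true := by decide +kernel

def tS_108 : List ℕ := [10002, 9008, 11006, 9006, 9005, 10003, 9004, 6003, 5005, 9000, 9009, 11000, 8007, 8006, 8000, 10000, 10010, 6004, 6001, 7005, 11011, 7002, 12001, 7007, 11007, 14000, 10007, 10006, 11010, 14003, 11009, 10009, 12007, 14004, 15000, 9007, 14014, 13003, 13000, 13005, 15001, 14005, 15003, 12008, 15015, 16001, 12009, 12011, 16002, 14007, 13013, 12010, 14008, 15004, 16016, 14011, 13008, 13006, 13004, 14012, 15009, 16000, 16003, 14009, 13007, 14006, 12004, 13012, 14010, 15010, 15002, 16011, 16008, 16007, 16006, 16005, 16004, 16015, 15011, 15008, 15007, 15006, 15005, 16010, 16014, 15014, 15013, 14013, 16013, 13011, 13010, 13009, 16012, 16009, 15012, 7000, 8005, 7004, 7003, 5002, 5004, 4000, 3000, 5001,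 4001, 3001, 2001, 1000]

theorem ck_tg108 : decide ((C.combo tg_108.2.2).filter (fun q => !(tS_108.contains q.1)) = normS [(tg_108.1, (1 : ℤ)), (C.k0, tg_108.2.1)]) = true := by decide +kernel

def tS_109 : List ℕ := [12012, 10002, 9008, 11006, 9006, 9005, 10003, 9004, 6003, 5005, 9000, 9009, 11000, 8007, 8006, 8000, 10000, 10010, 6004, 6001, 7005, 11011, 7002, 12001, 7007, 11007, 14000, 10007, 10006, 11010, 14003, 11009, 10009, 12007, 14004, 15000, 9007, 14014, 13003, 13000, 13005, 15001, 14005, 15003, 12008, 15015, 16001, 12009, 12011, 16002, 14007, 13013, 12010, 14008, 15004, 16016, 14011, 13008, 13006, 13004, 14012, 15009, 16000, 16003, 14009, 13007, 14006, 12004, 13012, 14010, 15010, 15002, 16011, 16008, 16007, 16006, 16005, 16004, 16015, 15011, 15008, 15007, 15006, 15005, 16010, 16014, 15014, 15013, 14013, 16013, 13011, 13010, 13009, 16012, 16009, 15012, 7000, 8005, 7004, 7003, 5002,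 5004, 4000, 3000, 5001, 4001, 3001, 2001, 1000]

theorem ck_tg109 : decide ((C.combo tg_109.2.2).filter (fun q => !(tS_109.contains q.1)) = normS [(tg_109.1, (1 : ℤ)), (C.k0, tg_109.2.1)]) = true := by decide +kernel

def tS_110 : List ℕ := [10005, 12012, 10002, 9008, 11006, 9006, 9005, 10003, 9004, 6003, 5005, 9000, 9009, 11000, 8007, 8006, 8000, 10000, 10010, 6004, 6001, 7005, 11011, 7002, 12001, 7007, 11007, 14000, 10007, 10006, 11010, 14003, 11009, 10009, 12007, 14004, 15000, 9007, 14014, 13003, 13000, 13005, 15001, 14005, 15003, 12008, 15015, 16001, 12009, 12011, 16002, 14007, 13013, 12010, 14008, 15004, 16016, 14011, 13008, 13006, 13004, 14012, 15009, 16000, 16003, 14009, 13007, 14006, 12004, 13012, 14010, 15010, 15002, 16011, 16008, 16007, 16006, 16005, 16004, 16015, 15011, 15008, 15007, 15006, 15005, 16010, 16014, 15014, 15013, 14013, 16013, 13011, 13010, 13009, 16012, 16009, 15012,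 7000, 8005, 7004, 7003, 5002, 5004, 4000, 3000, 5001, 4001, 3001, 2001, 1000]

theorem ck_tg110 : decide ((C.combo tg_110.2.2).filter (fun q => !(tS_110.contains q.1)) = normS [(tg_110.1, (1 : ℤ)), (C.k0, tg_110.2.1)]) = true := by decide +kernel

def tS_111 : List ℕ := [11002, 10005, 12012, 10002, 9008, 11006, 9006, 9005, 10003, 9004, 6003, 5005, 9000, 9009, 11000, 8007, 8006, 8000, 10000, 10010, 6004, 6001, 7005, 11011, 7002, 12001, 7007, 11007, 14000, 10007, 10006, 11010, 14003, 11009, 10009, 12007, 14004, 15000, 9007, 14014, 13003, 13000, 13005, 15001, 14005, 15003, 12008, 15015, 16001, 12009, 12011, 16002, 14007, 13013, 12010, 14008, 15004, 16016, 14011, 13008, 13006, 13004, 14012, 15009, 16000, 16003, 14009, 13007, 14006, 12004, 13012, 14010, 15010, 15002, 16011, 16008, 16007, 16006, 16005, 16004, 16015, 15011, 15008, 15007, 15006, 15005, 16010, 16014, 15014, 15013, 14013, 16013, 13011,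 13010, 13009, 16012, 16009, 15012, 7000, 8005, 7004, 7003, 5002, 5004, 4000, 3000, 5001, 4001, 3001, 2001, 1000]

theorem ck_tg111 : decide ((C.combo tg_111.2.2).filter (fun q => !(tS_111.contains q.1)) = normS [(tg_111.1, (1 : ℤ)), (C.k0, tg_111.2.1)]) = true := by decide +kernel

def tS_112 : List ℕ := [11005, 11002, 10005, 12012, 10002, 9008, 11006, 9006, 9005, 10003, 9004, 6003, 5005, 9000, 9009, 11000, 8007, 8006, 8000, 10000, 10010, 6004, 6001, 7005, 11011, 7002, 12001, 7007, 11007, 14000, 10007, 10006, 11010, 14003, 11009, 10009, 12007, 14004, 15000, 9007, 14014, 13003, 13000, 13005, 15001, 14005, 15003, 12008, 15015, 16001, 12009, 12011, 16002, 14007, 13013, 12010, 14008, 15004, 16016, 14011, 13008, 13006, 13004, 14012, 15009, 16000, 16003, 14009, 13007, 14006, 12004, 13012, 14010, 15010, 15002, 16011, 16008, 16007, 16006, 16005, 16004, 16015, 15011, 15008, 15007, 15006, 15005, 16010,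 16014, 15014, 15013, 14013, 16013, 13011, 13010, 13009, 16012, 16009, 15012, 7000, 8005, 7004, 7003, 5002, 5004, 4000, 3000, 5001, 4001, 3001, 2001, 1000]

theorem ck_tg112 : decide ((C.combo tg_112.2.2).filter (fun q => !(tS_112.contains q.1)) = normS [(tg_112.1, (1 : ℤ)), (C.k0, tg_112.2.1)]) = true := by decide +kernel

def tS_113 : List ℕ := [9002, 11005, 11002, 10005, 12012, 10002, 9008, 11006, 9006, 9005, 10003, 9004, 6003, 5005, 9000, 9009, 11000, 8007, 8006, 8000, 10000, 10010, 6004, 6001, 7005, 11011, 7002, 12001, 7007, 11007, 14000, 10007, 10006, 11010, 14003, 11009, 10009, 12007, 14004, 15000, 9007, 14014, 13003, 13000, 13005, 15001, 14005, 15003, 12008, 15015, 16001, 12009, 12011, 16002, 14007, 13013, 12010, 14008, 15004, 16016, 14011, 13008, 13006, 13004, 14012, 15009, 16000, 16003, 14009, 13007, 14006, 12004, 13012, 14010, 15010, 15002, 16011, 16008, 16007, 16006, 16005, 16004,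 16015, 15011, 15008, 15007, 15006, 15005, 16010, 16014, 15014, 15013, 14013, 16013, 13011, 13010, 13009, 16012, 16009, 15012, 7000, 8005, 7004, 7003, 5002, 5004, 4000, 3000, 5001, 4001, 3001, 2001, 1000]

theorem ck_tg113 : decide ((C.combo tg_113.2.2).filter (fun q => !(tS_113.contains q.1)) = normS [(tg_113.1, (1 : ℤ)), (C.k0, tg_113.2.1)]) = true := by decide +kernel

def tS_114 : List ℕ := [8004, 9002, 11005, 11002, 10005, 12012, 10002, 9008, 11006, 9006, 9005, 10003, 9004, 6003, 5005, 9000, 9009, 11000, 8007, 8006, 8000, 10000, 10010, 6004, 6001, 7005, 11011, 7002, 12001, 7007, 11007, 14000, 10007, 10006, 11010, 14003, 11009, 10009, 12007, 14004, 15000, 9007, 14014, 13003, 13000, 13005, 15001, 14005, 15003, 12008, 15015, 16001, 12009, 12011, 16002, 14007, 13013, 12010, 14008, 15004, 16016, 14011, 13008, 13006, 13004, 14012, 15009, 16000, 16003, 14009, 13007, 14006, 12004, 13012, 14010,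 15010, 15002, 16011, 16008, 16007, 16006, 16005, 16004, 16015, 15011, 15008, 15007, 15006, 15005, 16010, 16014, 15014, 15013, 14013, 16013, 13011, 13010, 13009, 16012, 16009, 15012, 7000, 8005, 7004, 7003, 5002, 5004, 4000, 3000, 5001, 4001, 3001, 2001, 1000]

theorem ck_tg114 : decide ((C.combo tg_114.2.2).filter (fun q => !(tS_114.contains q.1)) = normS [(tg_114.1, (1 : ℤ)), (C.k0, tg_114.2.1)]) = true := by decide +kernel

def tS_115 : List ℕ := [7001, 8004, 9002, 11005, 11002, 10005, 12012, 10002, 9008, 11006, 9006, 9005, 10003, 9004, 6003, 5005, 9000, 9009, 11000, 8007, 8006, 8000, 10000, 10010, 6004, 6001, 7005, 11011, 7002, 12001, 7007, 11007, 14000, 10007, 10006, 11010, 14003, 11009, 10009, 12007, 14004, 15000, 9007, 14014, 13003, 13000, 13005, 15001, 14005, 15003, 12008, 15015, 16001, 12009, 12011, 16002, 14007, 13013, 12010, 14008, 15004, 16016, 14011, 13008, 13006, 13004, 14012,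 15009, 16000, 16003, 14009, 13007, 14006, 12004, 13012, 14010, 15010, 15002, 16011, 16008, 16007, 16006, 16005, 16004, 16015, 15011, 15008, 15007, 15006, 15005, 16010, 16014, 15014, 15013, 14013, 16013, 13011, 13010, 13009, 16012, 16009, 15012, 7000, 8005, 7004, 7003, 5002, 5004, 4000, 3000, 5001, 4001, 3001, 2001, 1000]

theorem ck_tg115 : decide ((C.combo tg_115.2.2).filter (fun q => !(tS_115.contains q.1)) = normS [(tg_115.1, (1 : ℤ)), (C.k0, tg_115.2.1)]) = true := by decide +kernel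

def tS_116 : List ℕ := [9001, 7001, 8004, 9002, 11005, 11002, 10005, 12012, 10002, 9008, 11006, 9006, 9005, 10003, 9004, 6003, 5005, 9000, 9009, 11000, 8007, 8006, 8000, 10000, 10010, 6004, 6001, 7005, 11011, 7002, 12001, 7007, 11007, 14000, 10007, 10006, 11010, 14003, 11009, 10009, 12007, 14004, 15000, 9007, 14014, 13003, 13000, 13005, 15001, 14005, 15003, 12008, 15015, 16001, 12009, 12011, 16002, 14007, 13013, 12010, 14008, 15004, 16016, 14011, 13008, 13006, 13004, 14012, 15009, 16000, 16003, 14009, 13007, 14006, 12004, 13012, 14010, 15010, 15002, 16011, 16008, 16007, 16006, 16005, 16004, 16015, 15011, 15008, 15007, 15006, 15005, 16010, 16014, 15014, 15013, 14013, 16013, 13011, 13010, 13009, 16012, 16009, 15012, 7000, 8005, 7004, 7003, 5002, 5004, 4000, 3000, 5001, 4001, 3001, 2001, 1000]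

theorem ck_tg116 : decide ((C.combo tg_116.2.2).filter (fun q => !(tS_116.contains q.1)) = normS [(tg_116.1, (1 : ℤ)), (C.k0, tg_116.2.1)]) = true := by decide +kernel

def tS_117 : List ℕ := [8001, 9001, 7001, 8004, 9002, 11005, 11002, 10005, 12012, 10002, 9008, 11006, 9006, 9005, 10003, 9004, 6003, 5005, 9000, 9009, 11000, 8007, 8006, 8000, 10000, 10010, 6004, 6001, 7005, 11011, 7002, 12001, 7007, 11007, 14000, 10007, 10006, 11010, 14003, 11009, 10009, 12007, 14004, 15000, 9007, 14014, 13003, 13000, 13005, 15001, 14005, 15003, 12008, 15015, 16001, 12009, 12011, 16002, 14007, 13013, 12010, 14008, 15004, 16016, 14011, 13008, 13006, 13004, 14012, 15009, 16000, 16003, 14009, 13007, 14006, 12004, 13012, 14010, 15010, 15002, 16011, 16008, 16007, 16006, 16005, 16004, 16015, 15011, 15008, 15007, 15006, 15005, 16010, 16014, 15014, 15013, 14013, 16013, 13011, 13010, 13009, 16012, 16009, 15012, 7000,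 8005, 7004, 7003, 5002, 5004, 4000, 3000, 5001, 4001, 3001, 2001, 1000]

theorem ck_tg117 : decide ((C.combo tg_117.2.2).filter (fun q => !(tS_117.contains q.1)) = normS [(tg_117.1, (1 : ℤ)), (C.k0, tg_117.2.1)]) = true := by decide +kernel

def tS_118 : List ℕ := [8003, 8001, 9001, 7001, 8004, 9002, 11005, 11002, 10005, 12012, 10002, 9008, 11006, 9006, 9005, 10003, 9004, 6003, 5005, 9000, 9009, 11000, 8007, 8006, 8000, 10000, 10010, 6004, 6001, 7005, 11011, 7002, 12001, 7007, 11007, 14000, 10007, 10006, 11010, 14003, 11009, 10009, 12007, 14004, 15000, 9007, 14014, 13003, 13000, 13005, 15001, 14005, 15003, 12008, 15015, 16001, 12009, 12011, 16002, 14007, 13013, 12010, 14008, 15004, 16016, 14011, 13008, 13006, 13004, 14012, 15009, 16000, 16003, 14009, 13007, 14006, 12004, 13012, 14010, 15010, 15002, 16011, 16008, 16007, 16006, 16005, 16004, 16015, 15011, 15008, 15007, 15006, 15005, 16010, 16014,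 15014, 15013, 14013, 16013, 13011, 13010, 13009, 16012, 16009, 15012, 7000, 8005, 7004, 7003, 5002, 5004, 4000, 3000, 5001, 4001, 3001, 2001, 1000]

theorem ck_tg118 : decide ((C.combo tg_118.2.2).filter (fun q => !(tS_118.contains q.1)) = normS [(tg_118.1, (1 : ℤ)), (C.k0, tg_118.2.1)]) = true := by decide +kernel

def tS_119 : List ℕ := [5003, 8003, 8001, 9001, 7001, 8004, 9002, 11005, 11002, 10005, 12012, 10002, 9008, 11006, 9006, 9005, 10003, 9004, 6003, 5005, 9000, 9009, 11000, 8007, 8006, 8000, 10000, 10010, 6004, 6001, 7005, 11011, 7002, 12001, 7007, 11007, 14000, 10007, 10006, 11010, 14003, 11009, 10009, 12007, 14004, 15000, 9007, 14014, 13003, 13000, 13005, 15001, 14005, 15003, 12008, 15015, 16001, 12009, 12011, 16002, 14007, 13013, 12010, 14008, 15004, 16016, 14011, 13008, 13006, 13004, 14012, 15009, 16000, 16003, 14009, 13007, 14006, 12004, 13012, 14010, 15010, 15002, 16011, 16008,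 16007, 16006, 16005, 16004, 16015, 15011, 15008, 15007, 15006, 15005, 16010, 16014, 15014, 15013, 14013, 16013, 13011, 13010, 13009, 16012, 16009, 15012, 7000, 8005, 7004, 7003, 5002, 5004, 4000, 3000, 5001, 4001, 3001, 2001, 1000]

theorem ck_tg119 : decide ((C.combo tg_119.2.2).filter (fun q => !(tS_119.contains q.1)) = normS [(tg_119.1, (1 : ℤ)), (C.k0, tg_119.2.1)]) = true := by decide +kernel

def tS_120 : List ℕ := [6002, 5003, 8003, 8001, 9001, 7001, 8004, 9002, 11005, 11002, 10005, 12012, 10002, 9008, 11006, 9006, 9005, 10003, 9004, 6003, 5005, 9000, 9009, 11000, 8007, 8006, 8000, 10000, 10010, 6004, 6001, 7005, 11011, 7002, 12001, 7007, 11007, 14000, 10007, 10006, 11010, 14003, 11009, 10009, 12007, 14004, 15000, 9007, 14014, 13003, 13000, 13005, 15001, 14005, 15003, 12008, 15015, 16001, 12009, 12011, 16002, 14007, 13013, 12010, 14008, 15004, 16016, 14011, 13008, 13006, 13004, 14012,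 15009, 16000, 16003, 14009, 13007, 14006, 12004, 13012, 14010, 15010, 15002, 16011, 16008, 16007, 16006, 16005, 16004, 16015, 15011, 15008, 15007, 15006, 15005, 16010, 16014, 15014, 15013, 14013, 16013, 13011, 13010, 13009, 16012, 16009, 15012, 7000, 8005, 7004, 7003, 5002, 5004, 4000, 3000, 5001, 4001, 3001, 2001, 1000]

theorem ck_tg120 : decide ((C.combo tg_120.2.2).filter (fun q => !(tS_120.contains q.1)) = normS [(tg_120.1, (1 : ℤ)), (C.k0, tg_120.2.1)]) = true := by decide +kernel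

def tS_121 : List ℕ := [4003, 6002, 5003, 8003, 8001, 9001, 7001, 8004, 9002, 11005, 11002, 10005, 12012, 10002, 9008, 11006, 9006, 9005, 10003, 9004, 6003, 5005, 9000, 9009, 11000, 8007, 8006, 8000, 10000, 10010, 6004, 6001, 7005, 11011, 7002, 12001, 7007, 11007, 14000, 10007, 10006, 11010, 14003, 11009, 10009, 12007, 14004, 15000, 9007, 14014, 13003, 13000, 13005, 15001, 14005, 15003, 12008, 15015, 16001, 12009, 12011, 16002, 14007, 13013, 12010, 14008, 15004, 16016, 14011, 13008, 13006, 13004, 14012, 15009, 16000, 16003, 14009, 13007, 14006, 12004, 13012, 14010, 15010, 15002, 16011, 16008, 16007, 16006, 16005, 16004, 16015, 15011, 15008, 15007, 15006, 15005, 16010, 16014, 15014, 15013, 14013, 16013, 13011, 13010, 13009, 16012, 16009, 15012, 7000, 8005, 7004, 7003, 5002, 5004, 4000, 3000, 5001, 4001, 3001, 2001, 1000]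

theorem ck_tg121 : decide ((C.combo tg_121.2.2).filter (fun q => !(tS_121.contains q.1)) = normS [(tg_121.1, (1 : ℤ)), (C.k0, tg_121.2.1)]) = true := by decide +kernel

def tS_122 : List ℕ := [2000, 4003, 6002, 5003, 8003, 8001, 9001, 7001, 8004, 9002, 11005, 11002, 10005, 12012, 10002, 9008, 11006, 9006, 9005, 10003, 9004, 6003, 5005, 9000, 9009, 11000, 8007, 8006, 8000, 10000, 10010, 6004, 6001, 7005, 11011, 7002, 12001, 7007, 11007, 14000, 10007, 10006, 11010, 14003, 11009, 10009, 12007, 14004, 15000, 9007, 14014, 13003, 13000, 13005, 15001, 14005, 15003, 12008, 15015, 16001, 12009, 12011, 16002, 14007, 13013, 12010, 14008, 15004, 16016, 14011, 13008, 13006, 13004, 14012, 15009, 16000, 16003, 14009, 13007, 14006, 12004, 13012, 14010, 15010, 15002, 16011, 16008, 16007, 16006, 16005, 16004, 16015, 15011, 15008, 15007, 15006, 15005, 16010, 16014, 15014, 15013, 14013, 16013, 13011, 13010,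 13009, 16012, 16009, 15012, 7000, 8005, 7004, 7003, 5002, 5004, 4000, 3000, 5001, 4001, 3001, 2001, 1000]

theorem ck_tg122 : decide ((C.combo tg_122.2.2).filter (fun q => !(tS_122.contains q.1)) = normS [(tg_122.1, (1 : ℤ)), (C.k0, tg_122.2.1)]) = true := by decide +kernel

def tS_123 : List ℕ := [4002, 2000, 4003, 6002, 5003, 8003, 8001, 9001, 7001, 8004, 9002, 11005, 11002, 10005, 12012, 10002, 9008, 11006, 9006, 9005, 10003, 9004, 6003, 5005, 9000, 9009, 11000, 8007, 8006, 8000, 10000, 10010, 6004, 6001, 7005, 11011, 7002, 12001, 7007, 11007, 14000, 10007, 10006, 11010, 14003, 11009, 10009, 12007, 14004, 15000, 9007, 14014, 13003, 13000, 13005, 15001, 14005, 15003, 12008, 15015, 16001, 12009, 12011, 16002, 14007, 13013, 12010, 14008, 15004, 16016, 14011, 13008, 13006, 13004, 14012, 15009, 16000, 16003, 14009, 13007, 14006, 12004, 13012, 14010, 15010, 15002, 16011, 16008, 16007, 16006,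 16005, 16004, 16015, 15011, 15008, 15007, 15006, 15005, 16010, 16014, 15014, 15013, 14013, 16013, 13011, 13010, 13009, 16012, 16009, 15012, 7000, 8005, 7004, 7003, 5002, 5004, 4000, 3000, 5001, 4001, 3001, 2001, 1000]

theorem ck_tg123 : decide ((C.combo tg_123.2.2).filter (fun q => !(tS_123.contains q.1)) = normS [(tg_123.1, (1 : ℤ)), (C.k0, tg_123.2.1)]) = true := by decide +kernel

def tS_124 : List ℕ := [4002, 2000, 4003, 6002, 5003, 8003, 8001, 9001, 7001, 8004, 9002, 11005, 11002, 10005, 12012, 10002, 9008, 11006, 9006, 9005, 10003, 9004, 6003, 5005, 9000, 9009, 11000, 8007, 8006, 8000, 10000, 10010, 6004, 6001, 7005, 11011, 7002, 12001, 7007, 11007, 14000, 10007, 10006, 11010, 14003, 11009, 10009, 12007, 14004, 15000, 9007, 14014, 13003, 13000, 13005, 15001, 14005, 15003, 12008, 15015, 16001, 12009, 12011, 16002, 14007, 13013, 12010, 14008, 15004, 16016, 14011, 13008, 13006, 13004,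 14012, 15009, 16000, 16003, 14009, 13007, 14006, 12004, 13012, 14010, 15010, 15002, 16011, 16008, 16007, 16006, 16005, 16004, 16015, 15011, 15008, 15007, 15006, 15005, 16010, 16014, 15014, 15013, 14013, 16013, 13011, 13010, 13009, 16012, 16009, 15012, 7000, 8005, 7004, 7003, 5002, 5004, 4000, 3000, 5001, 4001, 3001, 2001, 1000]

theorem ck_tg124 : decide ((C.combo tg_124.2.2).filter (fun q => !(tS_124.contains q.1)) = normS [(tg_124.1, (1 : ℤ)), (C.k0, tg_124.2.1)]) = true := by decide +kernel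

def tS_125 : List ℕ := [4002, 2000, 4003, 6002, 5003, 8003, 8001, 9001, 7001, 8004, 9002, 11005, 11002, 10005, 12012, 10002, 9008, 11006, 9006, 9005, 10003, 9004, 6003, 5005, 9000, 9009, 11000, 8007, 8006, 8000, 10000, 10010, 6004, 6001, 7005, 11011, 7002, 12001, 7007, 11007, 14000, 10007, 10006, 11010, 14003, 11009, 10009, 12007, 14004, 15000, 9007, 14014, 13003, 13000, 13005, 15001, 14005, 15003, 12008, 15015, 16001, 12009, 12011, 16002, 14007, 13013, 12010, 14008, 15004, 16016, 14011, 13008, 13006, 13004, 14012, 15009, 16000, 16003, 14009, 13007, 14006, 12004, 13012, 14010, 15010, 15002, 16011, 16008, 16007, 16006, 16005, 16004, 16015, 15011, 15008, 15007, 15006, 15005, 16010, 16014, 15014, 15013, 14013, 16013, 13011, 13010, 13009, 16012, 16009, 15012, 7000, 8005, 7004, 7003, 5002, 5004, 4000, 3000, 5001, 4001, 3001, 2001, 1000]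

theorem ck_tg125 : decide ((C.combo tg_125.2.2).filter (fun q => !(tS_125.contains q.1)) = normS [(tg_125.1, (1 : ℤ)), (C.k0, tg_125.2.1)]) = true := by decide +kernel

def tS_126 : List ℕ := [4002, 2000, 4003, 6002, 5003, 8003, 8001, 9001, 7001, 8004, 9002, 11005, 11002, 10005, 12012, 10002, 9008, 11006, 9006, 9005, 10003, 9004, 6003, 5005, 9000, 9009, 11000, 8007, 8006, 8000, 10000, 10010, 6004, 6001, 7005, 11011, 7002, 12001, 7007, 11007, 14000, 10007, 10006, 11010, 14003, 11009, 10009, 12007, 14004, 15000, 9007, 14014, 13003, 13000, 13005, 15001, 14005, 15003, 12008, 15015, 16001, 12009, 12011, 16002, 14007, 13013, 12010, 14008, 15004, 16016, 14011, 13008, 13006, 13004, 14012, 15009, 16000, 16003, 14009, 13007, 14006, 12004, 13012, 14010, 15010, 15002, 16011, 16008, 16007, 16006, 16005, 16004, 16015, 15011, 15008, 15007, 15006, 15005, 16010, 16014, 15014, 15013, 14013, 16013, 13011, 13010,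 13009, 16012, 16009, 15012, 7000, 8005, 7004, 7003, 5002, 5004, 4000, 3000, 5001, 4001, 3001, 2001, 1000]

theorem ck_tg126 : decide ((C.combo tg_126.2.2).filter (fun q => !(tS_126.contains q.1)) = normS [(tg_126.1, (1 : ℤ)), (C.k0, tg_126.2.1)]) = true := by decide +kernel

def tS_127 : List ℕ := [4002, 2000, 4003, 6002, 5003, 8003, 8001, 9001, 7001, 8004, 9002, 11005, 11002, 10005, 12012, 10002, 9008, 11006, 9006, 9005, 10003, 9004, 6003, 5005, 9000, 9009, 11000, 8007, 8006, 8000, 10000, 10010, 6004, 6001, 7005, 11011, 7002, 12001, 7007, 11007, 14000, 10007, 10006, 11010, 14003, 11009, 10009, 12007, 14004, 15000, 9007, 14014, 13003, 13000, 13005, 15001, 14005, 15003, 12008, 15015, 16001, 12009, 12011, 16002, 14007, 13013, 12010, 14008, 15004, 16016, 14011, 13008, 13006, 13004, 14012, 15009, 16000, 16003, 14009, 13007, 14006, 12004, 13012, 14010, 15010, 15002, 16011, 16008, 16007, 16006,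 16005, 16004, 16015, 15011, 15008, 15007, 15006, 15005, 16010, 16014, 15014, 15013, 14013, 16013, 13011, 13010, 13009, 16012, 16009, 15012, 7000, 8005, 7004, 7003, 5002, 5004, 4000, 3000, 5001, 4001, 3001, 2001, 1000]

theorem ck_tg127 : decide ((C.combo tg_127.2.2).filter (fun q => !(tS_127.contains q.1)) = normS [(tg_127.1, (1 : ℤ)), (C.k0, tg_127.2.1)]) = true := by decide +kernel

def tS_128 : List ℕ := [4002, 2000, 4003, 6002, 5003, 8003, 8001, 9001, 7001, 8004, 9002, 11005, 11002, 10005, 12012, 10002, 9008, 11006, 9006, 9005, 10003, 9004, 6003, 5005, 9000, 9009, 11000, 8007, 8006, 8000, 10000, 10010, 6004, 6001, 7005, 11011, 7002, 12001, 7007, 11007, 14000, 10007, 10006, 11010, 14003, 11009, 10009, 12007, 14004, 15000, 9007, 14014, 13003, 13000, 13005, 15001, 14005, 15003, 12008, 15015, 16001, 12009, 12011, 16002, 14007, 13013, 12010, 14008, 15004, 16016, 14011, 13008, 13006, 13004,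 14012, 15009, 16000, 16003, 14009, 13007, 14006, 12004, 13012, 14010, 15010, 15002, 16011, 16008, 16007, 16006, 16005, 16004, 16015, 15011, 15008, 15007, 15006, 15005, 16010, 16014, 15014, 15013, 14013, 16013, 13011, 13010, 13009, 16012, 16009, 15012, 7000, 8005, 7004, 7003, 5002, 5004, 4000, 3000, 5001, 4001, 3001, 2001, 1000]

theorem ck_tg128 : decide ((C.combo tg_128.2.2).filter (fun q => !(tS_128.contains q.1)) = normS [(tg_128.1, (1 : ℤ)), (C.k0, tg_128.2.1)]) = true := by decide +kernel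

def tS_129 : List ℕ := [4002, 2000, 4003, 6002, 5003, 8003, 8001, 9001, 7001, 8004, 9002, 11005, 11002, 10005, 12012, 10002, 9008, 11006, 9006, 9005, 10003, 9004, 6003, 5005, 9000, 9009, 11000, 8007, 8006, 8000, 10000, 10010, 6004, 6001, 7005, 11011, 7002, 12001, 7007, 11007, 14000, 10007, 10006, 11010, 14003, 11009, 10009, 12007, 14004, 15000, 9007, 14014, 13003, 13000, 13005, 15001, 14005, 15003, 12008, 15015, 16001, 12009, 12011, 16002, 14007, 13013, 12010, 14008, 15004, 16016, 14011, 13008, 13006, 13004, 14012, 15009, 16000, 16003, 14009, 13007, 14006, 12004, 13012, 14010, 15010, 15002, 16011, 16008, 16007, 16006, 16005, 16004, 16015, 15011, 15008, 15007, 15006, 15005, 16010, 16014, 15014, 15013, 14013, 16013, 13011, 13010, 13009, 16012, 16009, 15012, 7000, 8005, 7004, 7003, 5002, 5004, 4000, 3000, 5001, 4001, 3001, 2001, 1000]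

theorem ck_tg129 : decide ((C.combo tg_129.2.2).filter (fun q => !(tS_129.contains q.1)) = normS [(tg_129.1, (1 : ℤ)), (C.k0, tg_129.2.1)]) = true := by decide +kernel

def tS_130 : List ℕ := [4002, 2000, 4003, 6002, 5003, 8003, 8001, 9001, 7001, 8004, 9002, 11005, 11002, 10005, 12012, 10002, 9008, 11006, 9006, 9005, 10003, 9004, 6003, 5005, 9000, 9009, 11000, 8007, 8006, 8000, 10000, 10010, 6004, 6001, 7005, 11011, 7002, 12001, 7007, 11007, 14000, 10007, 10006, 11010, 14003, 11009, 10009, 12007, 14004, 15000, 9007, 14014, 13003, 13000, 13005, 15001, 14005, 15003, 12008, 15015, 16001, 12009, 12011, 16002, 14007, 13013, 12010, 14008, 15004, 16016, 14011, 13008, 13006, 13004, 14012, 15009, 16000, 16003, 14009, 13007, 14006, 12004, 13012, 14010, 15010, 15002, 16011, 16008, 16007, 16006, 16005, 16004, 16015, 15011, 15008, 15007, 15006, 15005, 16010, 16014, 15014, 15013, 14013, 16013, 13011, 13010,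 13009, 16012, 16009, 15012, 7000, 8005, 7004, 7003, 5002, 5004, 4000, 3000, 5001, 4001, 3001, 2001, 1000]

theorem ck_tg130 : decide ((C.combo tg_130.2.2).filter (fun q => !(tS_130.contains q.1)) = normS [(tg_130.1, (1 : ℤ)), (C.k0, tg_130.2.1)]) = true := by decide +kernel

def tS_131 : List ℕ := [4002, 2000, 4003, 6002, 5003, 8003, 8001, 9001, 7001, 8004, 9002, 11005, 11002, 10005, 12012, 10002, 9008, 11006, 9006, 9005, 10003, 9004, 6003, 5005, 9000, 9009, 11000, 8007, 8006, 8000, 10000, 10010, 6004, 6001, 7005, 11011, 7002, 12001, 7007, 11007, 14000, 10007, 10006, 11010, 14003, 11009, 10009, 12007, 14004, 15000, 9007, 14014, 13003, 13000, 13005, 15001, 14005, 15003, 12008, 15015, 16001, 12009, 12011, 16002, 14007, 13013, 12010, 14008, 15004, 16016, 14011, 13008, 13006, 13004, 14012, 15009, 16000, 16003, 14009, 13007, 14006, 12004, 13012, 14010, 15010, 15002, 16011, 16008, 16007, 16006,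 16005, 16004, 16015, 15011, 15008, 15007, 15006, 15005, 16010, 16014, 15014, 15013, 14013, 16013, 13011, 13010, 13009, 16012, 16009, 15012, 7000, 8005, 7004, 7003, 5002, 5004, 4000, 3000, 5001, 4001, 3001, 2001, 1000]

theorem ck_tg131 : decide ((C.combo tg_131.2.2).filter (fun q => !(tS_131.contains q.1)) = normS [(tg_131.1, (1 : ℤ)), (C.k0, tg_131.2.1)]) = true := by decide +kernel

def tS_132 : List ℕ := [4002, 2000, 4003, 6002, 5003, 8003, 8001, 9001, 7001, 8004, 9002, 11005, 11002, 10005, 12012, 10002, 9008, 11006, 9006, 9005, 10003, 9004, 6003, 5005, 9000, 9009, 11000, 8007, 8006, 8000, 10000, 10010, 6004, 6001, 7005, 11011, 7002, 12001, 7007, 11007, 14000, 10007, 10006, 11010, 14003, 11009, 10009, 12007, 14004, 15000, 9007, 14014, 13003, 13000, 13005, 15001, 14005, 15003, 12008, 15015, 16001, 12009, 12011, 16002, 14007, 13013, 12010, 14008, 15004, 16016, 14011, 13008, 13006, 13004,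 14012, 15009, 16000, 16003, 14009, 13007, 14006, 12004, 13012, 14010, 15010, 15002, 16011, 16008, 16007, 16006, 16005, 16004, 16015, 15011, 15008, 15007, 15006, 15005, 16010, 16014, 15014, 15013, 14013, 16013, 13011, 13010, 13009, 16012, 16009, 15012, 7000, 8005, 7004, 7003, 5002, 5004, 4000, 3000, 5001, 4001, 3001, 2001, 1000]

theorem ck_tg132 : decide ((C.combo tg_132.2.2).filter (fun q => !(tS_132.contains q.1)) = normS [(tg_132.1, (1 : ℤ)), (C.k0, tg_132.2.1)]) = true := by decide +kernel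

def tS_133 : List ℕ := [4002, 2000, 4003, 6002, 5003, 8003, 8001, 9001, 7001, 8004, 9002, 11005, 11002, 10005, 12012, 10002, 9008, 11006, 9006, 9005, 10003, 9004, 6003, 5005, 9000, 9009, 11000, 8007, 8006, 8000, 10000, 10010, 6004, 6001, 7005, 11011, 7002, 12001, 7007, 11007, 14000, 10007, 10006, 11010, 14003, 11009, 10009, 12007, 14004, 15000, 9007, 14014, 13003, 13000, 13005, 15001, 14005, 15003, 12008, 15015, 16001, 12009, 12011, 16002, 14007, 13013, 12010, 14008, 15004, 16016, 14011, 13008, 13006, 13004, 14012, 15009, 16000, 16003, 14009, 13007, 14006, 12004, 13012, 14010, 15010, 15002, 16011, 16008, 16007, 16006, 16005, 16004, 16015, 15011, 15008, 15007, 15006, 15005, 16010, 16014, 15014, 15013, 14013, 16013, 13011, 13010, 13009, 16012, 16009, 15012, 7000, 8005, 7004, 7003, 5002, 5004, 4000, 3000, 5001, 4001, 3001, 2001, 1000]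

theorem ck_tg133 : decide ((C.combo tg_133.2.2).filter (fun q => !(tS_133.contains q.1)) = normS [(tg_133.1, (1 : ℤ)), (C.k0, tg_133.2.1)]) = true := by decide +kernel

def tS_134 : List ℕ := [4002, 2000, 4003, 6002, 5003, 8003, 8001, 9001, 7001, 8004, 9002, 11005, 11002, 10005, 12012, 10002, 9008, 11006, 9006, 9005, 10003, 9004, 6003, 5005, 9000, 9009, 11000, 8007, 8006, 8000, 10000, 10010, 6004, 6001, 7005, 11011, 7002, 12001, 7007, 11007, 14000, 10007, 10006, 11010, 14003, 11009, 10009, 12007, 14004, 15000, 9007, 14014, 13003, 13000, 13005, 15001, 14005, 15003, 12008, 15015, 16001, 12009, 12011, 16002, 14007, 13013, 12010, 14008, 15004, 16016, 14011, 13008, 13006, 13004, 14012, 15009, 16000, 16003, 14009, 13007, 14006, 12004, 13012, 14010, 15010, 15002, 16011, 16008, 16007, 16006, 16005, 16004, 16015, 15011, 15008, 15007, 15006, 15005, 16010, 16014, 15014, 15013, 14013, 16013, 13011, 13010,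 13009, 16012, 16009, 15012, 7000, 8005, 7004, 7003, 5002, 5004, 4000, 3000, 5001, 4001, 3001, 2001, 1000]

theorem ck_tg134 : decide ((C.combo tg_134.2.2).filter (fun q => !(tS_134.contains q.1)) = normS [(tg_134.1, (1 : ℤ)), (C.k0, tg_134.2.1)]) = true := by decide +kernel

def tS_135 : List ℕ := [4002, 2000, 4003, 6002, 5003, 8003, 8001, 9001, 7001, 8004, 9002, 11005, 11002, 10005, 12012, 10002, 9008, 11006, 9006, 9005, 10003, 9004, 6003, 5005, 9000, 9009, 11000, 8007, 8006, 8000, 10000, 10010, 6004, 6001, 7005, 11011, 7002, 12001, 7007, 11007, 14000, 10007, 10006, 11010, 14003, 11009, 10009, 12007, 14004, 15000, 9007, 14014, 13003, 13000, 13005, 15001, 14005, 15003, 12008, 15015, 16001, 12009, 12011, 16002, 14007, 13013, 12010, 14008, 15004, 16016, 14011, 13008, 13006, 13004, 14012, 15009, 16000, 16003, 14009, 13007, 14006, 12004, 13012, 14010, 15010, 15002, 16011, 16008, 16007, 16006,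 16005, 16004, 16015, 15011, 15008, 15007, 15006, 15005, 16010, 16014, 15014, 15013, 14013, 16013, 13011, 13010, 13009, 16012, 16009, 15012, 7000, 8005, 7004, 7003, 5002, 5004, 4000, 3000, 5001, 4001, 3001, 2001, 1000]

theorem ck_tg135 : decide ((C.combo tg_135.2.2).filter (fun q => !(tS_135.contains q.1)) = normS [(tg_135.1, (1 : ℤ)), (C.k0, tg_135.2.1)]) = true := by decide +kernel

def tS_136 : List ℕ := [4002, 2000, 4003, 6002, 5003, 8003, 8001, 9001, 7001, 8004, 9002, 11005, 11002, 10005, 12012, 10002, 9008, 11006, 9006, 9005, 10003, 9004, 6003, 5005, 9000, 9009, 11000, 8007, 8006, 8000, 10000, 10010, 6004, 6001, 7005, 11011, 7002, 12001, 7007, 11007, 14000, 10007, 10006, 11010, 14003, 11009, 10009, 12007, 14004, 15000, 9007, 14014, 13003, 13000, 13005, 15001, 14005, 15003, 12008, 15015, 16001, 12009, 12011, 16002, 14007, 13013, 12010, 14008, 15004, 16016, 14011, 13008, 13006, 13004,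 14012, 15009, 16000, 16003, 14009, 13007, 14006, 12004, 13012, 14010, 15010, 15002, 16011, 16008, 16007, 16006, 16005, 16004, 16015, 15011, 15008, 15007, 15006, 15005, 16010, 16014, 15014, 15013, 14013, 16013, 13011, 13010, 13009, 16012, 16009, 15012, 7000, 8005, 7004, 7003, 5002, 5004, 4000, 3000, 5001, 4001, 3001, 2001, 1000]

theorem ck_tg136 : decide ((C.combo tg_136.2.2).filter (fun q => !(tS_136.contains q.1)) = normS [(tg_136.1, (1 : ℤ)), (C.k0, tg_136.2.1)]) = true := by decide +kernel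

def tS_137 : List ℕ := [4002, 2000, 4003, 6002, 5003, 8003, 8001, 9001, 7001, 8004, 9002, 11005, 11002, 10005, 12012, 10002, 9008, 11006, 9006, 9005, 10003, 9004, 6003, 5005, 9000, 9009, 11000, 8007, 8006, 8000, 10000, 10010, 6004, 6001, 7005, 11011, 7002, 12001, 7007, 11007, 14000, 10007, 10006, 11010, 14003, 11009, 10009, 12007, 14004, 15000, 9007, 14014, 13003, 13000, 13005, 15001, 14005, 15003, 12008, 15015, 16001, 12009, 12011, 16002, 14007, 13013, 12010, 14008, 15004, 16016, 14011, 13008, 13006, 13004, 14012, 15009, 16000, 16003, 14009, 13007, 14006, 12004, 13012, 14010, 15010, 15002, 16011, 16008, 16007, 16006, 16005, 16004, 16015, 15011, 15008, 15007, 15006, 15005, 16010, 16014, 15014, 15013, 14013, 16013, 13011, 13010, 13009, 16012, 16009, 15012, 7000, 8005, 7004, 7003, 5002, 5004, 4000, 3000, 5001, 4001, 3001, 2001, 1000]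

theorem ck_tg137 : decide ((C.combo tg_137.2.2).filter (fun q => !(tS_137.contains q.1)) = normS [(tg_137.1, (1 : ℤ)), (C.k0, tg_137.2.1)]) = true := by decide +kernel

def tS_138 : List ℕ := [4002, 2000, 4003, 6002, 5003, 8003, 8001, 9001, 7001, 8004, 9002, 11005, 11002, 10005, 12012, 10002, 9008, 11006, 9006, 9005, 10003, 9004, 6003, 5005, 9000, 9009, 11000, 8007, 8006, 8000, 10000, 10010, 6004, 6001, 7005, 11011, 7002, 12001, 7007, 11007, 14000, 10007, 10006, 11010, 14003, 11009, 10009, 12007, 14004, 15000, 9007, 14014, 13003, 13000, 13005, 15001, 14005, 15003, 12008, 15015, 16001, 12009, 12011, 16002, 14007, 13013, 12010, 14008, 15004, 16016, 14011, 13008, 13006, 13004, 14012, 15009, 16000, 16003, 14009, 13007, 14006, 12004, 13012, 14010, 15010, 15002, 16011, 16008, 16007, 16006, 16005, 16004, 16015, 15011, 15008, 15007, 15006, 15005, 16010, 16014, 15014, 15013, 14013, 16013, 13011, 13010,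 13009, 16012, 16009, 15012, 7000, 8005, 7004, 7003, 5002, 5004, 4000, 3000, 5001, 4001, 3001, 2001, 1000]

theorem ck_tg138 : decide ((C.combo tg_138.2.2).filter (fun q => !(tS_138.contains q.1)) = normS [(tg_138.1, (1 : ℤ)), (C.k0, tg_138.2.1)]) = true := by decide +kernel

def tS_139 : List ℕ := [4002, 2000, 4003, 6002, 5003, 8003, 8001, 9001, 7001, 8004, 9002, 11005, 11002, 10005, 12012, 10002, 9008, 11006, 9006, 9005, 10003, 9004, 6003, 5005, 9000, 9009, 11000, 8007, 8006, 8000, 10000, 10010, 6004, 6001, 7005, 11011, 7002, 12001, 7007, 11007, 14000, 10007, 10006, 11010, 14003, 11009, 10009, 12007, 14004, 15000, 9007, 14014, 13003, 13000, 13005, 15001, 14005, 15003, 12008, 15015, 16001, 12009, 12011, 16002, 14007, 13013, 12010, 14008, 15004, 16016, 14011, 13008, 13006, 13004, 14012, 15009, 16000, 16003, 14009, 13007, 14006, 12004, 13012, 14010, 15010, 15002, 16011, 16008, 16007, 16006,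 16005, 16004, 16015, 15011, 15008, 15007, 15006, 15005, 16010, 16014, 15014, 15013, 14013, 16013, 13011, 13010, 13009, 16012, 16009, 15012, 7000, 8005, 7004, 7003, 5002, 5004, 4000, 3000, 5001, 4001, 3001, 2001, 1000]

theorem ck_tg139 : decide ((C.combo tg_139.2.2).filter (fun q => !(tS_139.contains q.1)) = normS [(tg_139.1, (1 : ℤ)), (C.k0, tg_139.2.1)]) = true := by decide +kernel

def tS_140 : List ℕ := [4002, 2000, 4003, 6002, 5003, 8003, 8001, 9001, 7001, 8004, 9002, 11005, 11002, 10005, 12012, 10002, 9008, 11006, 9006, 9005, 10003, 9004, 6003, 5005, 9000, 9009, 11000, 8007, 8006, 8000, 10000, 10010, 6004, 6001, 7005, 11011, 7002, 12001, 7007, 11007, 14000, 10007, 10006, 11010, 14003, 11009, 10009, 12007, 14004, 15000, 9007, 14014, 13003, 13000, 13005, 15001, 14005, 15003, 12008, 15015, 16001, 12009, 12011, 16002, 14007, 13013, 12010, 14008, 15004, 16016, 14011, 13008, 13006, 13004,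 14012, 15009, 16000, 16003, 14009, 13007, 14006, 12004, 13012, 14010, 15010, 15002, 16011, 16008, 16007, 16006, 16005, 16004, 16015, 15011, 15008, 15007, 15006, 15005, 16010, 16014, 15014, 15013, 14013, 16013, 13011, 13010, 13009, 16012, 16009, 15012, 7000, 8005, 7004, 7003, 5002, 5004, 4000, 3000, 5001, 4001, 3001, 2001, 1000]

theorem ck_tg140 : decide ((C.combo tg_140.2.2).filter (fun q => !(tS_140.contains q.1)) = normS [(tg_140.1, (1 : ℤ)), (C.k0, tg_140.2.1)]) = true := by decide +kernel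

def tS_141 : List ℕ := [4002, 2000, 4003, 6002, 5003, 8003, 8001, 9001, 7001, 8004, 9002, 11005, 11002, 10005, 12012, 10002, 9008, 11006, 9006, 9005, 10003, 9004, 6003, 5005, 9000, 9009, 11000, 8007, 8006, 8000, 10000, 10010, 6004, 6001, 7005, 11011, 7002, 12001, 7007, 11007, 14000, 10007, 10006, 11010, 14003, 11009, 10009, 12007, 14004, 15000, 9007, 14014, 13003, 13000, 13005, 15001, 14005, 15003, 12008, 15015, 16001, 12009, 12011, 16002, 14007, 13013, 12010, 14008, 15004, 16016, 14011, 13008, 13006, 13004, 14012, 15009, 16000, 16003, 14009, 13007, 14006, 12004, 13012, 14010, 15010, 15002, 16011, 16008, 16007, 16006, 16005, 16004, 16015, 15011, 15008, 15007, 15006, 15005, 16010, 16014, 15014, 15013, 14013, 16013, 13011, 13010, 13009, 16012, 16009, 15012, 7000, 8005, 7004, 7003, 5002, 5004, 4000, 3000, 5001, 4001, 3001, 2001, 1000]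

theorem ck_tg141 : decide ((C.combo tg_141.2.2).filter (fun q => !(tS_141.contains q.1)) = normS [(tg_141.1, (1 : ℤ)), (C.k0, tg_141.2.1)]) = true := by decide +kernel

def tS_142 : List ℕ := [4002, 2000, 4003, 6002, 5003, 8003, 8001, 9001, 7001, 8004, 9002, 11005, 11002, 10005, 12012, 10002, 9008, 11006, 9006, 9005, 10003, 9004, 6003, 5005, 9000, 9009, 11000, 8007, 8006, 8000, 10000, 10010, 6004, 6001, 7005, 11011, 7002, 12001, 7007, 11007, 14000, 10007, 10006, 11010, 14003, 11009, 10009, 12007, 14004, 15000, 9007, 14014, 13003, 13000, 13005, 15001, 14005, 15003, 12008, 15015, 16001, 12009, 12011, 16002, 14007, 13013, 12010, 14008, 15004, 16016, 14011, 13008, 13006, 13004, 14012, 15009, 16000, 16003, 14009, 13007, 14006, 12004, 13012, 14010, 15010, 15002, 16011, 16008, 16007, 16006, 16005, 16004, 16015, 15011, 15008, 15007, 15006, 15005, 16010, 16014, 15014, 15013, 14013, 16013, 13011, 13010,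 13009, 16012, 16009, 15012, 7000, 8005, 7004, 7003, 5002, 5004, 4000, 3000, 5001, 4001, 3001, 2001, 1000]

theorem ck_tg142 : decide ((C.combo tg_142.2.2).filter (fun q => !(tS_142.contains q.1)) = normS [(tg_142.1, (1 : ℤ)), (C.k0, tg_142.2.1)]) = true := by decide +kernel

def tS_143 : List ℕ := [4002, 2000, 4003, 6002, 5003, 8003, 8001, 9001, 7001, 8004, 9002, 11005, 11002, 10005, 12012, 10002, 9008, 11006, 9006, 9005, 10003, 9004, 6003, 5005, 9000, 9009, 11000, 8007, 8006, 8000, 10000, 10010, 6004, 6001, 7005, 11011, 7002, 12001, 7007, 11007, 14000, 10007, 10006, 11010, 14003, 11009, 10009, 12007, 14004, 15000, 9007, 14014, 13003, 13000, 13005, 15001, 14005, 15003, 12008, 15015, 16001, 12009, 12011, 16002, 14007, 13013, 12010, 14008, 15004, 16016, 14011, 13008, 13006, 13004, 14012, 15009, 16000, 16003, 14009, 13007, 14006, 12004, 13012, 14010, 15010, 15002, 16011, 16008, 16007, 16006,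 16005, 16004, 16015, 15011, 15008, 15007, 15006, 15005, 16010, 16014, 15014, 15013, 14013, 16013, 13011, 13010, 13009, 16012, 16009, 15012, 7000, 8005, 7004, 7003, 5002, 5004, 4000, 3000, 5001, 4001, 3001, 2001, 1000]

theorem ck_tg143 : decide ((C.combo tg_143.2.2).filter (fun q => !(tS_143.contains q.1)) = normS [(tg_143.1, (1 : ℤ)), (C.k0, tg_143.2.1)]) = true := by decide +kernel

def tS_144 : List ℕ := [4002, 2000, 4003, 6002, 5003, 8003, 8001, 9001, 7001, 8004, 9002, 11005, 11002, 10005, 12012, 10002, 9008, 11006, 9006, 9005, 10003, 9004, 6003, 5005, 9000, 9009, 11000, 8007, 8006, 8000, 10000, 10010, 6004, 6001, 7005, 11011, 7002, 12001, 7007, 11007, 14000, 10007, 10006, 11010, 14003, 11009, 10009, 12007, 14004, 15000, 9007, 14014, 13003, 13000, 13005, 15001, 14005, 15003, 12008, 15015, 16001, 12009, 12011, 16002, 14007, 13013, 12010, 14008, 15004, 16016, 14011, 13008, 13006, 13004,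 14012, 15009, 16000, 16003, 14009, 13007, 14006, 12004, 13012, 14010, 15010, 15002, 16011, 16008, 16007, 16006, 16005, 16004, 16015, 15011, 15008, 15007, 15006, 15005, 16010, 16014, 15014, 15013, 14013, 16013, 13011, 13010, 13009, 16012, 16009, 15012, 7000, 8005, 7004, 7003, 5002, 5004, 4000, 3000, 5001, 4001, 3001, 2001, 1000]

theorem ck_tg144 : decide ((C.combo tg_144.2.2).filter (fun q => !(tS_144.contains q.1)) = normS [(tg_144.1, (1 : ℤ)), (C.k0, tg_144.2.1)]) = true := by decide +kernel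

def tS_145 : List ℕ := [4002, 2000, 4003, 6002, 5003, 8003, 8001, 9001, 7001, 8004, 9002, 11005, 11002, 10005, 12012, 10002, 9008, 11006, 9006, 9005, 10003, 9004, 6003, 5005, 9000, 9009, 11000, 8007, 8006, 8000, 10000, 10010, 6004, 6001, 7005, 11011, 7002, 12001, 7007, 11007, 14000, 10007, 10006, 11010, 14003, 11009, 10009, 12007, 14004, 15000, 9007, 14014, 13003, 13000, 13005, 15001, 14005, 15003, 12008, 15015, 16001, 12009, 12011, 16002, 14007, 13013, 12010, 14008, 15004, 16016, 14011, 13008, 13006, 13004, 14012, 15009, 16000, 16003, 14009, 13007, 14006, 12004, 13012, 14010, 15010, 15002, 16011, 16008, 16007, 16006, 16005, 16004, 16015, 15011, 15008, 15007, 15006, 15005, 16010, 16014, 15014, 15013, 14013, 16013, 13011, 13010, 13009, 16012, 16009, 15012, 7000, 8005, 7004, 7003, 5002, 5004, 4000, 3000, 5001, 4001, 3001, 2001, 1000]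

theorem ck_tg145 : decide ((C.combo tg_145.2.2).filter (fun q => !(tS_145.contains q.1)) = normS [(tg_145.1, (1 : ℤ)), (C.k0, tg_145.2.1)]) = true := by decide +kernel

def tS_146 : List ℕ := [4002, 2000, 4003, 6002, 5003, 8003, 8001, 9001, 7001, 8004, 9002, 11005, 11002, 10005, 12012, 10002, 9008, 11006, 9006, 9005, 10003, 9004, 6003, 5005, 9000, 9009, 11000, 8007, 8006, 8000, 10000, 10010, 6004, 6001, 7005, 11011, 7002, 12001, 7007, 11007, 14000, 10007, 10006, 11010, 14003, 11009, 10009, 12007, 14004, 15000, 9007, 14014, 13003, 13000, 13005, 15001, 14005, 15003, 12008, 15015, 16001, 12009, 12011, 16002, 14007, 13013, 12010, 14008, 15004, 16016, 14011, 13008, 13006, 13004, 14012, 15009, 16000, 16003, 14009, 13007, 14006, 12004, 13012, 14010, 15010, 15002, 16011, 16008, 16007, 16006, 16005, 16004, 16015, 15011, 15008, 15007, 15006, 15005, 16010, 16014, 15014, 15013, 14013, 16013, 13011, 13010,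 13009, 16012, 16009, 15012, 7000, 8005, 7004, 7003, 5002, 5004, 4000, 3000, 5001, 4001, 3001, 2001, 1000]

theorem ck_tg146 : decide ((C.combo tg_146.2.2).filter (fun q => !(tS_146.contains q.1)) = normS [(tg_146.1, (1 : ℤ)), (C.k0, tg_146.2.1)]) = true := by decide +kernel

def tS_147 : List ℕ := [4002, 2000, 4003, 6002, 5003, 8003, 8001, 9001, 7001, 8004, 9002, 11005, 11002, 10005, 12012, 10002, 9008, 11006, 9006, 9005, 10003, 9004, 6003, 5005, 9000, 9009, 11000, 8007, 8006, 8000, 10000, 10010, 6004, 6001, 7005, 11011, 7002, 12001, 7007, 11007, 14000, 10007, 10006, 11010, 14003, 11009, 10009, 12007, 14004, 15000, 9007, 14014, 13003, 13000, 13005, 15001, 14005, 15003, 12008, 15015, 16001, 12009, 12011, 16002, 14007, 13013, 12010, 14008, 15004, 16016, 14011, 13008, 13006, 13004, 14012, 15009, 16000, 16003, 14009, 13007, 14006, 12004, 13012, 14010, 15010, 15002, 16011, 16008, 16007, 16006,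 16005, 16004, 16015, 15011, 15008, 15007, 15006, 15005, 16010, 16014, 15014, 15013, 14013, 16013, 13011, 13010, 13009, 16012, 16009, 15012, 7000, 8005, 7004, 7003, 5002, 5004, 4000, 3000, 5001, 4001, 3001, 2001, 1000]

theorem ck_tg147 : decide ((C.combo tg_147.2.2).filter (fun q => !(tS_147.contains q.1)) = normS [(tg_147.1, (1 : ℤ)), (C.k0, tg_147.2.1)]) = true := by decide +kernel

def tS_148 : List ℕ := [4002, 2000, 4003, 6002, 5003, 8003, 8001, 9001, 7001, 8004, 9002, 11005, 11002, 10005, 12012, 10002, 9008, 11006, 9006, 9005, 10003, 9004, 6003, 5005, 9000, 9009, 11000, 8007, 8006, 8000, 10000, 10010, 6004, 6001, 7005, 11011, 7002, 12001, 7007, 11007, 14000, 10007, 10006, 11010, 14003, 11009, 10009, 12007, 14004, 15000, 9007, 14014, 13003, 13000, 13005, 15001, 14005, 15003, 12008, 15015, 16001, 12009, 12011, 16002, 14007, 13013, 12010, 14008, 15004, 16016, 14011, 13008, 13006, 13004,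 14012, 15009, 16000, 16003, 14009, 13007, 14006, 12004, 13012, 14010, 15010, 15002, 16011, 16008, 16007, 16006, 16005, 16004, 16015, 15011, 15008, 15007, 15006, 15005, 16010, 16014, 15014, 15013, 14013, 16013, 13011, 13010, 13009, 16012, 16009, 15012, 7000, 8005, 7004, 7003, 5002, 5004, 4000, 3000, 5001, 4001, 3001, 2001, 1000]

theorem ck_tg148 : decide ((C.combo tg_148.2.2).filter (fun q => !(tS_148.contains q.1)) = normS [(tg_148.1, (1 : ℤ)), (C.k0, tg_148.2.1)]) = true := by decide +kernel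

def tS_149 : List ℕ := [4002, 2000, 4003, 6002, 5003, 8003, 8001, 9001, 7001, 8004, 9002, 11005, 11002, 10005, 12012, 10002, 9008, 11006, 9006, 9005, 10003, 9004, 6003, 5005, 9000, 9009, 11000, 8007, 8006, 8000, 10000, 10010, 6004, 6001, 7005, 11011, 7002, 12001, 7007, 11007, 14000, 10007, 10006, 11010, 14003, 11009, 10009, 12007, 14004, 15000, 9007, 14014, 13003, 13000, 13005, 15001, 14005, 15003, 12008, 15015, 16001, 12009, 12011, 16002, 14007, 13013, 12010, 14008, 15004, 16016, 14011, 13008, 13006, 13004, 14012, 15009, 16000, 16003, 14009, 13007, 14006, 12004, 13012, 14010, 15010, 15002, 16011, 16008, 16007, 16006, 16005, 16004, 16015, 15011, 15008, 15007, 15006, 15005, 16010, 16014, 15014, 15013, 14013, 16013, 13011, 13010, 13009, 16012, 16009, 15012, 7000, 8005, 7004, 7003, 5002, 5004, 4000, 3000, 5001, 4001, 3001, 2001, 1000]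

theorem rt_149 : C.runTargets tS_149 [] = true := rt_nil C _

theorem rt_148 : C.runTargets tS_148 (tg_148 :: []) = true :=
  rt_step ck_tg148 (by decide +kernel) rt_149

theorem rt_147 : C.runTargets tS_147 (tg_147 :: [tg_148]) = true :=
  rt_step ck_tg147 (by decide +kernel) rt_148

theorem rt_146 : C.runTargets tS_146 (tg_146 :: [tg_147,tg_148]) = true :=
  rt_step ck_tg146 (by decide +kernel) rt_147

theorem rt_145 : C.runTargets tS_145 (tg_145 :: [tg_146,tg_147,tg_148]) = true :=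
  rt_step ck_tg145 (by decide +kernel) rt_146

theorem rt_144 : C.runTargets tS_144 (tg_144 :: [tg_145,tg_146,tg_147,tg_148]) = true :=
  rt_step ck_tg144 (by decide +kernel) rt_145

theorem rt_143 : C.runTargets tS_143 (tg_143 :: [tg_144,tg_145,tg_146,tg_147,tg_148]) = true :=
  rt_step ck_tg143 (by decide +kernel) rt_144

theorem rt_142 : C.runTargets tS_142 (tg_142 :: [tg_143,tg_144,tg_145,tg_146,tg_147,tg_148]) = true :=
  rt_step ck_tg142 (by decide +kernel) rt_143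

theorem rt_141 : C.runTargets tS_141 (tg_141 :: [tg_142,tg_143,tg_144,tg_145,tg_146,tg_147,tg_148]) = true :=
  rt_step ck_tg141 (by decide +kernel) rt_142

theorem rt_140 : C.runTargets tS_140 (tg_140 :: [tg_141,tg_142,tg_143,tg_144,tg_145,tg_146,tg_147,tg_148]) = true :=
  rt_step ck_tg140 (by decide +kernel) rt_141

theorem rt_139 : C.runTargets tS_139 (tg_139 :: [tg_140,tg_141,tg_142,tg_143,tg_144,tg_145,tg_146,tg_147,tg_148]) = true :=
  rt_step ck_tg139 (by decide +kernel) rt_140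

theorem rt_138 : C.runTargets tS_138 (tg_138 :: [tg_139,tg_140,tg_141,tg_142,tg_143,tg_144,tg_145,tg_146,tg_147,tg_148]) = true :=
  rt_step ck_tg138 (by decide +kernel) rt_139

theorem rt_137 : C.runTargets tS_137 (tg_137 :: [tg_138,tg_139,tg_140,tg_141,tg_142,tg_143,tg_144,tg_145,tg_146,tg_147,tg_148]) = true :=
  rt_step ck_tg137 (by decide +kernel) rt_138

theorem rt_136 : C.runTargets tS_136 (tg_136 :: [tg_137,tg_138,tg_139,tg_140,tg_141,tg_142,tg_143,tg_144,tg_145,tg_146,tg_147,tg_148]) = true :=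
  rt_step ck_tg136 (by decide +kernel) rt_137

theorem rt_135 : C.runTargets tS_135 (tg_135 :: [tg_136,tg_137,tg_138,tg_139,tg_140,tg_141,tg_142,tg_143,tg_144,tg_145,tg_146,tg_147,tg_148]) = true :=
  rt_step ck_tg135 (by decide +kernel) rt_136

theorem rt_134 : C.runTargets tS_134 (tg_134 :: [tg_135,tg_136,tg_137,tg_138,tg_139,tg_140,tg_141,tg_142,tg_143,tg_144,tg_145,tg_146,tg_147,tg_148]) = true :=
  rt_step ck_tg134 (by decide +kernel) rt_135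

theorem rt_133 : C.runTargets tS_133 (tg_133 :: [tg_134,tg_135,tg_136,tg_137,tg_138,tg_139,tg_140,tg_141,tg_142,tg_143,tg_144,tg_145,tg_146,tg_147,tg_148]) = true :=
  rt_step ck_tg133 (by decide +kernel) rt_134

theorem rt_132 : C.runTargets tS_132 (tg_132 :: [tg_133,tg_134,tg_135,tg_136,tg_137,tg_138,tg_139,tg_140,tg_141,tg_142,tg_143,tg_144,tg_145,tg_146,tg_147,tg_148]) = true :=
  rt_step ck_tg132 (by decide +kernel) rt_133

theorem rt_131 : C.runTargets tS_131 (tg_131 :: [tg_132,tg_133,tg_134,tg_135,tg_136,tg_137,tg_138,tg_139,tg_140,tg_141,tg_142,tg_143,tg_144,tg_145,tg_146,tg_147,tg_148]) = true :=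
  rt_step ck_tg131 (by decide +kernel) rt_132

theorem rt_130 : C.runTargets tS_130 (tg_130 :: [tg_131,tg_132,tg_133,tg_134,tg_135,tg_136,tg_137,tg_138,tg_139,tg_140,tg_141,tg_142,tg_143,tg_144,tg_145,tg_146,tg_147,tg_148]) = true :=
  rt_step ck_tg130 (by decide +kernel) rt_131

theorem rt_129 : C.runTargets tS_129 (tg_129 :: [tg_130,tg_131,tg_132,tg_133,tg_134,tg_135,tg_136,tg_137,tg_138,tg_139,tg_140,tg_141,tg_142,tg_143,tg_144,tg_145,tg_146,tg_147,tg_148]) = true :=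
  rt_step ck_tg129 (by decide +kernel) rt_130

theorem rt_128 : C.runTargets tS_128 (tg_128 :: [tg_129,tg_130,tg_131,tg_132,tg_133,tg_134,tg_135,tg_136,tg_137,tg_138,tg_139,tg_140,tg_141,tg_142,tg_143,tg_144,tg_145,tg_146,tg_147,tg_148]) = true :=
  rt_step ck_tg128 (by decide +kernel) rt_129

theorem rt_127 : C.runTargets tS_127 (tg_127 :: [tg_128,tg_129,tg_130,tg_131,tg_132,tg_133,tg_134,tg_135,tg_136,tg_137,tg_138,tg_139,tg_140,tg_141,tg_142,tg_143,tg_144,tg_145,tg_146,tg_147,tg_148]) = true :=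
  rt_step ck_tg127 (by decide +kernel) rt_128

theorem rt_126 : C.runTargets tS_126 (tg_126 :: [tg_127,tg_128,tg_129,tg_130,tg_131,tg_132,tg_133,tg_134,tg_135,tg_136,tg_137,tg_138,tg_139,tg_140,tg_141,tg_142,tg_143,tg_144,tg_145,tg_146,tg_147,tg_148]) = true :=
  rt_step ck_tg126 (by decide +kernel) rt_127

theorem rt_125 : C.runTargets tS_125 (tg_125 :: [tg_126,tg_127,tg_128,tg_129,tg_130,tg_131,tg_132,tg_133,tg_134,tg_135,tg_136,tg_137,tg_138,tg_139,tg_140,tg_141,tg_142,tg_143,tg_144,tg_145,tg_146,tg_147,tg_148]) = true :=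
  rt_step ck_tg125 (by decide +kernel) rt_126

theorem rt_124 : C.runTargets tS_124 (tg_124 :: [tg_125,tg_126,tg_127,tg_128,tg_129,tg_130,tg_131,tg_132,tg_133,tg_134,tg_135,tg_136,tg_137,tg_138,tg_139,tg_140,tg_141,tg_142,tg_143,tg_144,tg_145,tg_146,tg_147,tg_148]) = true :=
  rt_step ck_tg124 (by decide +kernel) rt_125

theorem rt_123 : C.runTargets tS_123 (tg_123 :: [tg_124,tg_125,tg_126,tg_127,tg_128,tg_129,tg_130,tg_131,tg_132,tg_133,tg_134,tg_135,tg_136,tg_137,tg_138,tg_139,tg_140,tg_141,tg_142,tg_143,tg_144,tg_145,tg_146,tg_147,tg_148]) = true :=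
  rt_step ck_tg123 (by decide +kernel) rt_124

theorem rt_122 : C.runTargets tS_122 (tg_122 :: [tg_123,tg_124,tg_125,tg_126,tg_127,tg_128,tg_129,tg_130,tg_131,tg_132,tg_133,tg_134,tg_135,tg_136,tg_137,tg_138,tg_139,tg_140,tg_141,tg_142,tg_143,tg_144,tg_145,tg_146,tg_147,tg_148]) = true :=
  rt_step ck_tg122 (by decide +kernel) rt_123

theorem rt_121 : C.runTargets tS_121 (tg_121 :: [tg_122,tg_123,tg_124,tg_125,tg_126,tg_127,tg_128,tg_129,tg_130,tg_131,tg_132,tg_133,tg_134,tg_135,tg_136,tg_137,tg_138,tg_139,tg_140,tg_141,tg_142,tg_143,tg_144,tg_145,tg_146,tg_147,tg_148]) = true :=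
  rt_step ck_tg121 (by decide +kernel) rt_122

theorem rt_120 : C.runTargets tS_120 (tg_120 :: [tg_121,tg_122,tg_123,tg_124,tg_125,tg_126,tg_127,tg_128,tg_129,tg_130,tg_131,tg_132,tg_133,tg_134,tg_135,tg_136,tg_137,tg_138,tg_139,tg_140,tg_141,tg_142,tg_143,tg_144,tg_145,tg_146,tg_147,tg_148]) = true :=
  rt_step ck_tg120 (by decide +kernel) rt_121

theorem rt_119 : C.runTargets tS_119 (tg_119 :: [tg_120,tg_121,tg_122,tg_123,tg_124,tg_125,tg_126,tg_127,tg_128,tg_129,tg_130,tg_131,tg_132,tg_133,tg_134,tg_135,tg_136,tg_137,tg_138,tg_139,tg_140,tg_141,tg_142,tg_143,tg_144,tg_145,tg_146,tg_147,tg_148]) = true :=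
  rt_step ck_tg119 (by decide +kernel) rt_120

theorem rt_118 : C.runTargets tS_118 (tg_118 :: [tg_119,tg_120,tg_121,tg_122,tg_123,tg_124,tg_125,tg_126,tg_127,tg_128,tg_129,tg_130,tg_131,tg_132,tg_133,tg_134,tg_135,tg_136,tg_137,tg_138,tg_139,tg_140,tg_141,tg_142,tg_143,tg_144,tg_145,tg_146,tg_147,tg_148]) = true :=
  rt_step ck_tg118 (by decide +kernel) rt_119

theorem rt_117 : C.runTargets tS_117 (tg_117 :: [tg_118,tg_119,tg_120,tg_121,tg_122,tg_123,tg_124,tg_125,tg_126,tg_127,tg_128,tg_129,tg_130,tg_131,tg_132,tg_133,tg_134,tg_135,tg_136,tg_137,tg_138,tg_139,tg_140,tg_141,tg_142,tg_143,tg_144,tg_145,tg_146,tg_147,tg_148]) = true :=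
  rt_step ck_tg117 (by decide +kernel) rt_118

theorem rt_116 : C.runTargets tS_116 (tg_116 :: [tg_117,tg_118,tg_119,tg_120,tg_121,tg_122,tg_123,tg_124,tg_125,tg_126,tg_127,tg_128,tg_129,tg_130,tg_131,tg_132,tg_133,tg_134,tg_135,tg_136,tg_137,tg_138,tg_139,tg_140,tg_141,tg_142,tg_143,tg_144,tg_145,tg_146,tg_147,tg_148]) = true :=
  rt_step ck_tg116 (by decide +kernel) rt_117

theorem rt_115 : C.runTargets tS_115 (tg_115 :: [tg_116,tg_117,tg_118,tg_119,tg_120,tg_121,tg_122,tg_123,tg_124,tg_125,tg_126,tg_127,tg_128,tg_129,tg_130,tg_131,tg_132,tg_133,tg_134,tg_135,tg_136,tg_137,tg_138,tg_139,tg_140,tg_141,tg_142,tg_143,tg_144,tg_145,tg_146,tg_147,tg_148]) = true :=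
  rt_step ck_tg115 (by decide +kernel) rt_116

theorem rt_114 : C.runTargets tS_114 (tg_114 :: [tg_115,tg_116,tg_117,tg_118,tg_119,tg_120,tg_121,tg_122,tg_123,tg_124,tg_125,tg_126,tg_127,tg_128,tg_129,tg_130,tg_131,tg_132,tg_133,tg_134,tg_135,tg_136,tg_137,tg_138,tg_139,tg_140,tg_141,tg_142,tg_143,tg_144,tg_145,tg_146,tg_147,tg_148]) = true :=
  rt_step ck_tg114 (by decide +kernel) rt_115

theorem rt_113 : C.runTargets tS_113 (tg_113 :: [tg_114,tg_115,tg_116,tg_117,tg_118,tg_119,tg_120,tg_121,tg_122,tg_123,tg_124,tg_125,tg_126,tg_127,tg_128,tg_129,tg_130,tg_131,tg_132,tg_133,tg_134,tg_135,tg_136,tg_137,tg_138,tg_139,tg_140,tg_141,tg_142,tg_143,tg_144,tg_145,tg_146,tg_147,tg_148]) = true :=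
  rt_step ck_tg113 (by decide +kernel) rt_114

theorem rt_112 : C.runTargets tS_112 (tg_112 :: [tg_113,tg_114,tg_115,tg_116,tg_117,tg_118,tg_119,tg_120,tg_121,tg_122,tg_123,tg_124,tg_125,tg_126,tg_127,tg_128,tg_129,tg_130,tg_131,tg_132,tg_133,tg_134,tg_135,tg_136,tg_137,tg_138,tg_139,tg_140,tg_141,tg_142,tg_143,tg_144,tg_145,tg_146,tg_147,tg_148]) = true :=
  rt_step ck_tg112 (by decide +kernel) rt_113

theorem rt_111 : C.runTargets tS_111 (tg_111 :: [tg_112,tg_113,tg_114,tg_115,tg_116,tg_117,tg_118,tg_119,tg_120,tg_121,tg_122,tg_123,tg_124,tg_125,tg_126,tg_127,tg_128,tg_129,tg_130,tg_131,tg_132,tg_133,tg_134,tg_135,tg_136,tg_137,tg_138,tg_139,tg_140,tg_141,tg_142,tg_143,tg_144,tg_145,tg_146,tg_147,tg_148]) = true :=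
  rt_step ck_tg111 (by decide +kernel) rt_112

theorem rt_110 : C.runTargets tS_110 (tg_110 :: [tg_111,tg_112,tg_113,tg_114,tg_115,tg_116,tg_117,tg_118,tg_119,tg_120,tg_121,tg_122,tg_123,tg_124,tg_125,tg_126,tg_127,tg_128,tg_129,tg_130,tg_131,tg_132,tg_133,tg_134,tg_135,tg_136,tg_137,tg_138,tg_139,tg_140,tg_141,tg_142,tg_143,tg_144,tg_145,tg_146,tg_147,tg_148]) = true :=
  rt_step ck_tg110 (by decide +kernel) rt_111

theorem rt_109 : C.runTargets tS_109 (tg_109 :: [tg_110,tg_111,tg_112,tg_113,tg_114,tg_115,tg_116,tg_117,tg_118,tg_119,tg_120,tg_121,tg_122,tg_123,tg_124,tg_125,tg_126,tg_127,tg_128,tg_129,tg_130,tg_131,tg_132,tg_133,tg_134,tg_135,tg_136,tg_137,tg_138,tg_139,tg_140,tg_141,tg_142,tg_143,tg_144,tg_145,tg_146,tg_147,tg_148]) = true :=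
  rt_step ck_tg109 (by decide +kernel) rt_110

theorem rt_108 : C.runTargets tS_108 (tg_108 :: [tg_109,tg_110,tg_111,tg_112,tg_113,tg_114,tg_115,tg_116,tg_117,tg_118,tg_119,tg_120,tg_121,tg_122,tg_123,tg_124,tg_125,tg_126,tg_127,tg_128,tg_129,tg_130,tg_131,tg_132,tg_133,tg_134,tg_135,tg_136,tg_137,tg_138,tg_139,tg_140,tg_141,tg_142,tg_143,tg_144,tg_145,tg_146,tg_147,tg_148]) = true :=
  rt_step ck_tg108 (by decide +kernel) rt_109

theorem rt_107 : C.runTargets tS_107 (tg_107 :: [tg_108,tg_109,tg_110,tg_111,tg_112,tg_113,tg_114,tg_115,tg_116,tg_117,tg_118,tg_119,tg_120,tg_121,tg_122,tg_123,tg_124,tg_125,tg_126,tg_127,tg_128,tg_129,tg_130,tg_131,tg_132,tg_133,tg_134,tg_135,tg_136,tg_137,tg_138,tg_139,tg_140,tg_141,tg_142,tg_143,tg_144,tg_145,tg_146,tg_147,tg_148]) = true :=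
  rt_step ck_tg107 (by decide +kernel) rt_108

theorem rt_106 : C.runTargets tS_106 (tg_106 :: [tg_107,tg_108,tg_109,tg_110,tg_111,tg_112,tg_113,tg_114,tg_115,tg_116,tg_117,tg_118,tg_119,tg_120,tg_121,tg_122,tg_123,tg_124,tg_125,tg_126,tg_127,tg_128,tg_129,tg_130,tg_131,tg_132,tg_133,tg_134,tg_135,tg_136,tg_137,tg_138,tg_139,tg_140,tg_141,tg_142,tg_143,tg_144,tg_145,tg_146,tg_147,tg_148]) = true :=
  rt_step ck_tg106 (by decide +kernel) rt_107

theorem rt_105 : C.runTargets tS_105 (tg_105 :: [tg_106,tg_107,tg_108,tg_109,tg_110,tg_111,tg_112,tg_113,tg_114,tg_115,tg_116,tg_117,tg_118,tg_119,tg_120,tg_121,tg_122,tg_123,tg_124,tg_125,tg_126,tg_127,tg_128,tg_129,tg_130,tg_131,tg_132,tg_133,tg_134,tg_135,tg_136,tg_137,tg_138,tg_139,tg_140,tg_141,tg_142,tg_143,tg_144,tg_145,tg_146,tg_147,tg_148]) = true :=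
  rt_step ck_tg105 (by decide +kernel) rt_106

theorem rt_104 : C.runTargets tS_104 (tg_104 :: [tg_105,tg_106,tg_107,tg_108,tg_109,tg_110,tg_111,tg_112,tg_113,tg_114,tg_115,tg_116,tg_117,tg_118,tg_119,tg_120,tg_121,tg_122,tg_123,tg_124,tg_125,tg_126,tg_127,tg_128,tg_129,tg_130,tg_131,tg_132,tg_133,tg_134,tg_135,tg_136,tg_137,tg_138,tg_139,tg_140,tg_141,tg_142,tg_143,tg_144,tg_145,tg_146,tg_147,tg_148]) = true :=
  rt_step ck_tg104 (by decide +kernel) rt_105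

theorem rt_103 : C.runTargets tS_103 (tg_103 :: [tg_104,tg_105,tg_106,tg_107,tg_108,tg_109,tg_110,tg_111,tg_112,tg_113,tg_114,tg_115,tg_116,tg_117,tg_118,tg_119,tg_120,tg_121,tg_122,tg_123,tg_124,tg_125,tg_126,tg_127,tg_128,tg_129,tg_130,tg_131,tg_132,tg_133,tg_134,tg_135,tg_136,tg_137,tg_138,tg_139,tg_140,tg_141,tg_142,tg_143,tg_144,tg_145,tg_146,tg_147,tg_148]) = true :=
  rt_step ck_tg103 (by decide +kernel) rt_104

theorem rt_102 : C.runTargets tS_102 (tg_102 :: [tg_103,tg_104,tg_105,tg_106,tg_107,tg_108,tg_109,tg_110,tg_111,tg_112,tg_113,tg_114,tg_115,tg_116,tg_117,tg_118,tg_119,tg_120,tg_121,tg_122,tg_123,tg_124,tg_125,tg_126,tg_127,tg_128,tg_129,tg_130,tg_131,tg_132,tg_133,tg_134,tg_135,tg_136,tg_137,tg_138,tg_139,tg_140,tg_141,tg_142,tg_143,tg_144,tg_145,tg_146,tg_147,tg_148]) = true :=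
  rt_step ck_tg102 (by decide +kernel) rt_103

theorem rt_101 : C.runTargets tS_101 (tg_101 :: [tg_102,tg_103,tg_104,tg_105,tg_106,tg_107,tg_108,tg_109,tg_110,tg_111,tg_112,tg_113,tg_114,tg_115,tg_116,tg_117,tg_118,tg_119,tg_120,tg_121,tg_122,tg_123,tg_124,tg_125,tg_126,tg_127,tg_128,tg_129,tg_130,tg_131,tg_132,tg_133,tg_134,tg_135,tg_136,tg_137,tg_138,tg_139,tg_140,tg_141,tg_142,tg_143,tg_144,tg_145,tg_146,tg_147,tg_148]) = true :=
  rt_step ck_tg101 (by decide +kernel) rt_102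

theorem rt_100 : C.runTargets tS_100 (tg_100 :: [tg_101,tg_102,tg_103,tg_104,tg_105,tg_106,tg_107,tg_108,tg_109,tg_110,tg_111,tg_112,tg_113,tg_114,tg_115,tg_116,tg_117,tg_118,tg_119,tg_120,tg_121,tg_122,tg_123,tg_124,tg_125,tg_126,tg_127,tg_128,tg_129,tg_130,tg_131,tg_132,tg_133,tg_134,tg_135,tg_136,tg_137,tg_138,tg_139,tg_140,tg_141,tg_142,tg_143,tg_144,tg_145,tg_146,tg_147,tg_148]) = true :=
  rt_step ck_tg100 (by decide +kernel) rt_101

theorem rt_99 : C.runTargets tS_99 (tg_99 :: [tg_100,tg_101,tg_102,tg_103,tg_104,tg_105,tg_106,tg_107,tg_108,tg_109,tg_110,tg_111,tg_112,tg_113,tg_114,tg_115,tg_116,tg_117,tg_118,tg_119,tg_120,tg_121,tg_122,tg_123,tg_124,tg_125,tg_126,tg_127,tg_128,tg_129,tg_130,tg_131,tg_132,tg_133,tg_134,tg_135,tg_136,tg_137,tg_138,tg_139,tg_140,tg_141,tg_142,tg_143,tg_144,tg_145,tg_146,tg_147,tg_148]) = true :=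
  rt_step ck_tg99 (by decide +kernel) rt_100

theorem rt_98 : C.runTargets tS_98 (tg_98 :: [tg_99,tg_100,tg_101,tg_102,tg_103,tg_104,tg_105,tg_106,tg_107,tg_108,tg_109,tg_110,tg_111,tg_112,tg_113,tg_114,tg_115,tg_116,tg_117,tg_118,tg_119,tg_120,tg_121,tg_122,tg_123,tg_124,tg_125,tg_126,tg_127,tg_128,tg_129,tg_130,tg_131,tg_132,tg_133,tg_134,tg_135,tg_136,tg_137,tg_138,tg_139,tg_140,tg_141,tg_142,tg_143,tg_144,tg_145,tg_146,tg_147,tg_148]) = true :=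
  rt_step ck_tg98 (by decide +kernel) rt_99

theorem rt_97 : C.runTargets tS_97 (tg_97 :: [tg_98,tg_99,tg_100,tg_101,tg_102,tg_103,tg_104,tg_105,tg_106,tg_107,tg_108,tg_109,tg_110,tg_111,tg_112,tg_113,tg_114,tg_115,tg_116,tg_117,tg_118,tg_119,tg_120,tg_121,tg_122,tg_123,tg_124,tg_125,tg_126,tg_127,tg_128,tg_129,tg_130,tg_131,tg_132,tg_133,tg_134,tg_135,tg_136,tg_137,tg_138,tg_139,tg_140,tg_141,tg_142,tg_143,tg_144,tg_145,tg_146,tg_147,tg_148]) = true :=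
  rt_step ck_tg97 (by decide +kernel) rt_98

theorem rt_96 : C.runTargets tS_96 (tg_96 :: [tg_97,tg_98,tg_99,tg_100,tg_101,tg_102,tg_103,tg_104,tg_105,tg_106,tg_107,tg_108,tg_109,tg_110,tg_111,tg_112,tg_113,tg_114,tg_115,tg_116,tg_117,tg_118,tg_119,tg_120,tg_121,tg_122,tg_123,tg_124,tg_125,tg_126,tg_127,tg_128,tg_129,tg_130,tg_131,tg_132,tg_133,tg_134,tg_135,tg_136,tg_137,tg_138,tg_139,tg_140,tg_141,tg_142,tg_143,tg_144,tg_145,tg_146,tg_147,tg_148]) = true :=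
  rt_step ck_tg96 (by decide +kernel) rt_97

theorem rt_95 : C.runTargets tS_95 (tg_95 :: [tg_96,tg_97,tg_98,tg_99,tg_100,tg_101,tg_102,tg_103,tg_104,tg_105,tg_106,tg_107,tg_108,tg_109,tg_110,tg_111,tg_112,tg_113,tg_114,tg_115,tg_116,tg_117,tg_118,tg_119,tg_120,tg_121,tg_122,tg_123,tg_124,tg_125,tg_126,tg_127,tg_128,tg_129,tg_130,tg_131,tg_132,tg_133,tg_134,tg_135,tg_136,tg_137,tg_138,tg_139,tg_140,tg_141,tg_142,tg_143,tg_144,tg_145,tg_146,tg_147,tg_148]) = true :=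
  rt_step ck_tg95 (by decide +kernel) rt_96

theorem rt_94 : C.runTargets tS_94 (tg_94 :: [tg_95,tg_96,tg_97,tg_98,tg_99,tg_100,tg_101,tg_102,tg_103,tg_104,tg_105,tg_106,tg_107,tg_108,tg_109,tg_110,tg_111,tg_112,tg_113,tg_114,tg_115,tg_116,tg_117,tg_118,tg_119,tg_120,tg_121,tg_122,tg_123,tg_124,tg_125,tg_126,tg_127,tg_128,tg_129,tg_130,tg_131,tg_132,tg_133,tg_134,tg_135,tg_136,tg_137,tg_138,tg_139,tg_140,tg_141,tg_142,tg_143,tg_144,tg_145,tg_146,tg_147,tg_148]) = true :=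
  rt_step ck_tg94 (by decide +kernel) rt_95

theorem rt_93 : C.runTargets tS_93 (tg_93 :: [tg_94,tg_95,tg_96,tg_97,tg_98,tg_99,tg_100,tg_101,tg_102,tg_103,tg_104,tg_105,tg_106,tg_107,tg_108,tg_109,tg_110,tg_111,tg_112,tg_113,tg_114,tg_115,tg_116,tg_117,tg_118,tg_119,tg_120,tg_121,tg_122,tg_123,tg_124,tg_125,tg_126,tg_127,tg_128,tg_129,tg_130,tg_131,tg_132,tg_133,tg_134,tg_135,tg_136,tg_137,tg_138,tg_139,tg_140,tg_141,tg_142,tg_143,tg_144,tg_145,tg_146,tg_147,tg_148]) = true :=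
  rt_step ck_tg93 (by decide +kernel) rt_94

theorem rt_92 : C.runTargets tS_92 (tg_92 :: [tg_93,tg_94,tg_95,tg_96,tg_97,tg_98,tg_99,tg_100,tg_101,tg_102,tg_103,tg_104,tg_105,tg_106,tg_107,tg_108,tg_109,tg_110,tg_111,tg_112,tg_113,tg_114,tg_115,tg_116,tg_117,tg_118,tg_119,tg_120,tg_121,tg_122,tg_123,tg_124,tg_125,tg_126,tg_127,tg_128,tg_129,tg_130,tg_131,tg_132,tg_133,tg_134,tg_135,tg_136,tg_137,tg_138,tg_139,tg_140,tg_141,tg_142,tg_143,tg_144,tg_145,tg_146,tg_147,tg_148]) = true :=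
  rt_step ck_tg92 (by decide +kernel) rt_93

theorem rt_91 : C.runTargets tS_91 (tg_91 :: [tg_92,tg_93,tg_94,tg_95,tg_96,tg_97,tg_98,tg_99,tg_100,tg_101,tg_102,tg_103,tg_104,tg_105,tg_106,tg_107,tg_108,tg_109,tg_110,tg_111,tg_112,tg_113,tg_114,tg_115,tg_116,tg_117,tg_118,tg_119,tg_120,tg_121,tg_122,tg_123,tg_124,tg_125,tg_126,tg_127,tg_128,tg_129,tg_130,tg_131,tg_132,tg_133,tg_134,tg_135,tg_136,tg_137,tg_138,tg_139,tg_140,tg_141,tg_142,tg_143,tg_144,tg_145,tg_146,tg_147,tg_148]) = true :=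
  rt_step ck_tg91 (by decide +kernel) rt_92

theorem rt_90 : C.runTargets tS_90 (tg_90 :: [tg_91,tg_92,tg_93,tg_94,tg_95,tg_96,tg_97,tg_98,tg_99,tg_100,tg_101,tg_102,tg_103,tg_104,tg_105,tg_106,tg_107,tg_108,tg_109,tg_110,tg_111,tg_112,tg_113,tg_114,tg_115,tg_116,tg_117,tg_118,tg_119,tg_120,tg_121,tg_122,tg_123,tg_124,tg_125,tg_126,tg_127,tg_128,tg_129,tg_130,tg_131,tg_132,tg_133,tg_134,tg_135,tg_136,tg_137,tg_138,tg_139,tg_140,tg_141,tg_142,tg_143,tg_144,tg_145,tg_146,tg_147,tg_148]) = true :=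
  rt_step ck_tg90 (by decide +kernel) rt_91

theorem rt_89 : C.runTargets tS_89 (tg_89 :: [tg_90,tg_91,tg_92,tg_93,tg_94,tg_95,tg_96,tg_97,tg_98,tg_99,tg_100,tg_101,tg_102,tg_103,tg_104,tg_105,tg_106,tg_107,tg_108,tg_109,tg_110,tg_111,tg_112,tg_113,tg_114,tg_115,tg_116,tg_117,tg_118,tg_119,tg_120,tg_121,tg_122,tg_123,tg_124,tg_125,tg_126,tg_127,tg_128,tg_129,tg_130,tg_131,tg_132,tg_133,tg_134,tg_135,tg_136,tg_137,tg_138,tg_139,tg_140,tg_141,tg_142,tg_143,tg_144,tg_145,tg_146,tg_147,tg_148]) = true :=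
  rt_step ck_tg89 (by decide +kernel) rt_90

theorem rt_88 : C.runTargets tS_88 (tg_88 :: [tg_89,tg_90,tg_91,tg_92,tg_93,tg_94,tg_95,tg_96,tg_97,tg_98,tg_99,tg_100,tg_101,tg_102,tg_103,tg_104,tg_105,tg_106,tg_107,tg_108,tg_109,tg_110,tg_111,tg_112,tg_113,tg_114,tg_115,tg_116,tg_117,tg_118,tg_119,tg_120,tg_121,tg_122,tg_123,tg_124,tg_125,tg_126,tg_127,tg_128,tg_129,tg_130,tg_131,tg_132,tg_133,tg_134,tg_135,tg_136,tg_137,tg_138,tg_139,tg_140,tg_141,tg_142,tg_143,tg_144,tg_145,tg_146,tg_147,tg_148]) = true :=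
  rt_step ck_tg88 (by decide +kernel) rt_89

theorem rt_87 : C.runTargets tS_87 (tg_87 :: [tg_88,tg_89,tg_90,tg_91,tg_92,tg_93,tg_94,tg_95,tg_96,tg_97,tg_98,tg_99,tg_100,tg_101,tg_102,tg_103,tg_104,tg_105,tg_106,tg_107,tg_108,tg_109,tg_110,tg_111,tg_112,tg_113,tg_114,tg_115,tg_116,tg_117,tg_118,tg_119,tg_120,tg_121,tg_122,tg_123,tg_124,tg_125,tg_126,tg_127,tg_128,tg_129,tg_130,tg_131,tg_132,tg_133,tg_134,tg_135,tg_136,tg_137,tg_138,tg_139,tg_140,tg_141,tg_142,tg_143,tg_144,tg_145,tg_146,tg_147,tg_148]) = true :=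
  rt_step ck_tg87 (by decide +kernel) rt_88

theorem rt_86 : C.runTargets tS_86 (tg_86 :: [tg_87,tg_88,tg_89,tg_90,tg_91,tg_92,tg_93,tg_94,tg_95,tg_96,tg_97,tg_98,tg_99,tg_100,tg_101,tg_102,tg_103,tg_104,tg_105,tg_106,tg_107,tg_108,tg_109,tg_110,tg_111,tg_112,tg_113,tg_114,tg_115,tg_116,tg_117,tg_118,tg_119,tg_120,tg_121,tg_122,tg_123,tg_124,tg_125,tg_126,tg_127,tg_128,tg_129,tg_130,tg_131,tg_132,tg_133,tg_134,tg_135,tg_136,tg_137,tg_138,tg_139,tg_140,tg_141,tg_142,tg_143,tg_144,tg_145,tg_146,tg_147,tg_148]) = true :=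
  rt_step ck_tg86 (by decide +kernel) rt_87

theorem rt_85 : C.runTargets tS_85 (tg_85 :: [tg_86,tg_87,tg_88,tg_89,tg_90,tg_91,tg_92,tg_93,tg_94,tg_95,tg_96,tg_97,tg_98,tg_99,tg_100,tg_101,tg_102,tg_103,tg_104,tg_105,tg_106,tg_107,tg_108,tg_109,tg_110,tg_111,tg_112,tg_113,tg_114,tg_115,tg_116,tg_117,tg_118,tg_119,tg_120,tg_121,tg_122,tg_123,tg_124,tg_125,tg_126,tg_127,tg_128,tg_129,tg_130,tg_131,tg_132,tg_133,tg_134,tg_135,tg_136,tg_137,tg_138,tg_139,tg_140,tg_141,tg_142,tg_143,tg_144,tg_145,tg_146,tg_147,tg_148]) = true :=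
  rt_step ck_tg85 (by decide +kernel) rt_86

theorem rt_84 : C.runTargets tS_84 (tg_84 :: [tg_85,tg_86,tg_87,tg_88,tg_89,tg_90,tg_91,tg_92,tg_93,tg_94,tg_95,tg_96,tg_97,tg_98,tg_99,tg_100,tg_101,tg_102,tg_103,tg_104,tg_105,tg_106,tg_107,tg_108,tg_109,tg_110,tg_111,tg_112,tg_113,tg_114,tg_115,tg_116,tg_117,tg_118,tg_119,tg_120,tg_121,tg_122,tg_123,tg_124,tg_125,tg_126,tg_127,tg_128,tg_129,tg_130,tg_131,tg_132,tg_133,tg_134,tg_135,tg_136,tg_137,tg_138,tg_139,tg_140,tg_141,tg_142,tg_143,tg_144,tg_145,tg_146,tg_147,tg_148]) = true :=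
  rt_step ck_tg84 (by decide +kernel) rt_85

theorem rt_83 : C.runTargets tS_83 (tg_83 :: [tg_84,tg_85,tg_86,tg_87,tg_88,tg_89,tg_90,tg_91,tg_92,tg_93,tg_94,tg_95,tg_96,tg_97,tg_98,tg_99,tg_100,tg_101,tg_102,tg_103,tg_104,tg_105,tg_106,tg_107,tg_108,tg_109,tg_110,tg_111,tg_112,tg_113,tg_114,tg_115,tg_116,tg_117,tg_118,tg_119,tg_120,tg_121,tg_122,tg_123,tg_124,tg_125,tg_126,tg_127,tg_128,tg_129,tg_130,tg_131,tg_132,tg_133,tg_134,tg_135,tg_136,tg_137,tg_138,tg_139,tg_140,tg_141,tg_142,tg_143,tg_144,tg_145,tg_146,tg_147,tg_148]) = true :=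
  rt_step ck_tg83 (by decide +kernel) rt_84

theorem rt_82 : C.runTargets tS_82 (tg_82 :: [tg_83,tg_84,tg_85,tg_86,tg_87,tg_88,tg_89,tg_90,tg_91,tg_92,tg_93,tg_94,tg_95,tg_96,tg_97,tg_98,tg_99,tg_100,tg_101,tg_102,tg_103,tg_104,tg_105,tg_106,tg_107,tg_108,tg_109,tg_110,tg_111,tg_112,tg_113,tg_114,tg_115,tg_116,tg_117,tg_118,tg_119,tg_120,tg_121,tg_122,tg_123,tg_124,tg_125,tg_126,tg_127,tg_128,tg_129,tg_130,tg_131,tg_132,tg_133,tg_134,tg_135,tg_136,tg_137,tg_138,tg_139,tg_140,tg_141,tg_142,tg_143,tg_144,tg_145,tg_146,tg_147,tg_148]) = true :=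
  rt_step ck_tg82 (by decide +kernel) rt_83

theorem rt_81 : C.runTargets tS_81 (tg_81 :: [tg_82,tg_83,tg_84,tg_85,tg_86,tg_87,tg_88,tg_89,tg_90,tg_91,tg_92,tg_93,tg_94,tg_95,tg_96,tg_97,tg_98,tg_99,tg_100,tg_101,tg_102,tg_103,tg_104,tg_105,tg_106,tg_107,tg_108,tg_109,tg_110,tg_111,tg_112,tg_113,tg_114,tg_115,tg_116,tg_117,tg_118,tg_119,tg_120,tg_121,tg_122,tg_123,tg_124,tg_125,tg_126,tg_127,tg_128,tg_129,tg_130,tg_131,tg_132,tg_133,tg_134,tg_135,tg_136,tg_137,tg_138,tg_139,tg_140,tg_141,tg_142,tg_143,tg_144,tg_145,tg_146,tg_147,tg_148]) = true :=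
  rt_step ck_tg81 (by decide +kernel) rt_82

theorem rt_80 : C.runTargets tS_80 (tg_80 :: [tg_81,tg_82,tg_83,tg_84,tg_85,tg_86,tg_87,tg_88,tg_89,tg_90,tg_91,tg_92,tg_93,tg_94,tg_95,tg_96,tg_97,tg_98,tg_99,tg_100,tg_101,tg_102,tg_103,tg_104,tg_105,tg_106,tg_107,tg_108,tg_109,tg_110,tg_111,tg_112,tg_113,tg_114,tg_115,tg_116,tg_117,tg_118,tg_119,tg_120,tg_121,tg_122,tg_123,tg_124,tg_125,tg_126,tg_127,tg_128,tg_129,tg_130,tg_131,tg_132,tg_133,tg_134,tg_135,tg_136,tg_137,tg_138,tg_139,tg_140,tg_141,tg_142,tg_143,tg_144,tg_145,tg_146,tg_147,tg_148]) = true :=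
  rt_step ck_tg80 (by decide +kernel) rt_81

theorem rt_79 : C.runTargets tS_79 (tg_79 :: [tg_80,tg_81,tg_82,tg_83,tg_84,tg_85,tg_86,tg_87,tg_88,tg_89,tg_90,tg_91,tg_92,tg_93,tg_94,tg_95,tg_96,tg_97,tg_98,tg_99,tg_100,tg_101,tg_102,tg_103,tg_104,tg_105,tg_106,tg_107,tg_108,tg_109,tg_110,tg_111,tg_112,tg_113,tg_114,tg_115,tg_116,tg_117,tg_118,tg_119,tg_120,tg_121,tg_122,tg_123,tg_124,tg_125,tg_126,tg_127,tg_128,tg_129,tg_130,tg_131,tg_132,tg_133,tg_134,tg_135,tg_136,tg_137,tg_138,tg_139,tg_140,tg_141,tg_142,tg_143,tg_144,tg_145,tg_146,tg_147,tg_148]) = true :=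
  rt_step ck_tg79 (by decide +kernel) rt_80

theorem rt_78 : C.runTargets tS_78 (tg_78 :: [tg_79,tg_80,tg_81,tg_82,tg_83,tg_84,tg_85,tg_86,tg_87,tg_88,tg_89,tg_90,tg_91,tg_92,tg_93,tg_94,tg_95,tg_96,tg_97,tg_98,tg_99,tg_100,tg_101,tg_102,tg_103,tg_104,tg_105,tg_106,tg_107,tg_108,tg_109,tg_110,tg_111,tg_112,tg_113,tg_114,tg_115,tg_116,tg_117,tg_118,tg_119,tg_120,tg_121,tg_122,tg_123,tg_124,tg_125,tg_126,tg_127,tg_128,tg_129,tg_130,tg_131,tg_132,tg_133,tg_134,tg_135,tg_136,tg_137,tg_138,tg_139,tg_140,tg_141,tg_142,tg_143,tg_144,tg_145,tg_146,tg_147,tg_148]) = true :=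
  rt_step ck_tg78 (by decide +kernel) rt_79

theorem rt_77 : C.runTargets tS_77 (tg_77 :: [tg_78,tg_79,tg_80,tg_81,tg_82,tg_83,tg_84,tg_85,tg_86,tg_87,tg_88,tg_89,tg_90,tg_91,tg_92,tg_93,tg_94,tg_95,tg_96,tg_97,tg_98,tg_99,tg_100,tg_101,tg_102,tg_103,tg_104,tg_105,tg_106,tg_107,tg_108,tg_109,tg_110,tg_111,tg_112,tg_113,tg_114,tg_115,tg_116,tg_117,tg_118,tg_119,tg_120,tg_121,tg_122,tg_123,tg_124,tg_125,tg_126,tg_127,tg_128,tg_129,tg_130,tg_131,tg_132,tg_133,tg_134,tg_135,tg_136,tg_137,tg_138,tg_139,tg_140,tg_141,tg_142,tg_143,tg_144,tg_145,tg_146,tg_147,tg_148]) = true :=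
  rt_step ck_tg77 (by decide +kernel) rt_78

theorem rt_76 : C.runTargets tS_76 (tg_76 :: [tg_77,tg_78,tg_79,tg_80,tg_81,tg_82,tg_83,tg_84,tg_85,tg_86,tg_87,tg_88,tg_89,tg_90,tg_91,tg_92,tg_93,tg_94,tg_95,tg_96,tg_97,tg_98,tg_99,tg_100,tg_101,tg_102,tg_103,tg_104,tg_105,tg_106,tg_107,tg_108,tg_109,tg_110,tg_111,tg_112,tg_113,tg_114,tg_115,tg_116,tg_117,tg_118,tg_119,tg_120,tg_121,tg_122,tg_123,tg_124,tg_125,tg_126,tg_127,tg_128,tg_129,tg_130,tg_131,tg_132,tg_133,tg_134,tg_135,tg_136,tg_137,tg_138,tg_139,tg_140,tg_141,tg_142,tg_143,tg_144,tg_145,tg_146,tg_147,tg_148]) = true :=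
  rt_step ck_tg76 (by decide +kernel) rt_77

theorem rt_75 : C.runTargets tS_75 (tg_75 :: [tg_76,tg_77,tg_78,tg_79,tg_80,tg_81,tg_82,tg_83,tg_84,tg_85,tg_86,tg_87,tg_88,tg_89,tg_90,tg_91,tg_92,tg_93,tg_94,tg_95,tg_96,tg_97,tg_98,tg_99,tg_100,tg_101,tg_102,tg_103,tg_104,tg_105,tg_106,tg_107,tg_108,tg_109,tg_110,tg_111,tg_112,tg_113,tg_114,tg_115,tg_116,tg_117,tg_118,tg_119,tg_120,tg_121,tg_122,tg_123,tg_124,tg_125,tg_126,tg_127,tg_128,tg_129,tg_130,tg_131,tg_132,tg_133,tg_134,tg_135,tg_136,tg_137,tg_138,tg_139,tg_140,tg_141,tg_142,tg_143,tg_144,tg_145,tg_146,tg_147,tg_148]) = true :=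
  rt_step ck_tg75 (by decide +kernel) rt_76

theorem rt_74 : C.runTargets tS_74 (tg_74 :: [tg_75,tg_76,tg_77,tg_78,tg_79,tg_80,tg_81,tg_82,tg_83,tg_84,tg_85,tg_86,tg_87,tg_88,tg_89,tg_90,tg_91,tg_92,tg_93,tg_94,tg_95,tg_96,tg_97,tg_98,tg_99,tg_100,tg_101,tg_102,tg_103,tg_104,tg_105,tg_106,tg_107,tg_108,tg_109,tg_110,tg_111,tg_112,tg_113,tg_114,tg_115,tg_116,tg_117,tg_118,tg_119,tg_120,tg_121,tg_122,tg_123,tg_124,tg_125,tg_126,tg_127,tg_128,tg_129,tg_130,tg_131,tg_132,tg_133,tg_134,tg_135,tg_136,tg_137,tg_138,tg_139,tg_140,tg_141,tg_142,tg_143,tg_144,tg_145,tg_146,tg_147,tg_148]) = true :=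
  rt_step ck_tg74 (by decide +kernel) rt_75

theorem rt_73 : C.runTargets tS_73 (tg_73 :: [tg_74,tg_75,tg_76,tg_77,tg_78,tg_79,tg_80,tg_81,tg_82,tg_83,tg_84,tg_85,tg_86,tg_87,tg_88,tg_89,tg_90,tg_91,tg_92,tg_93,tg_94,tg_95,tg_96,tg_97,tg_98,tg_99,tg_100,tg_101,tg_102,tg_103,tg_104,tg_105,tg_106,tg_107,tg_108,tg_109,tg_110,tg_111,tg_112,tg_113,tg_114,tg_115,tg_116,tg_117,tg_118,tg_119,tg_120,tg_121,tg_122,tg_123,tg_124,tg_125,tg_126,tg_127,tg_128,tg_129,tg_130,tg_131,tg_132,tg_133,tg_134,tg_135,tg_136,tg_137,tg_138,tg_139,tg_140,tg_141,tg_142,tg_143,tg_144,tg_145,tg_146,tg_147,tg_148]) = true :=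
  rt_step ck_tg73 (by decide +kernel) rt_74

theorem rt_72 : C.runTargets tS_72 (tg_72 :: [tg_73,tg_74,tg_75,tg_76,tg_77,tg_78,tg_79,tg_80,tg_81,tg_82,tg_83,tg_84,tg_85,tg_86,tg_87,tg_88,tg_89,tg_90,tg_91,tg_92,tg_93,tg_94,tg_95,tg_96,tg_97,tg_98,tg_99,tg_100,tg_101,tg_102,tg_103,tg_104,tg_105,tg_106,tg_107,tg_108,tg_109,tg_110,tg_111,tg_112,tg_113,tg_114,tg_115,tg_116,tg_117,tg_118,tg_119,tg_120,tg_121,tg_122,tg_123,tg_124,tg_125,tg_126,tg_127,tg_128,tg_129,tg_130,tg_131,tg_132,tg_133,tg_134,tg_135,tg_136,tg_137,tg_138,tg_139,tg_140,tg_141,tg_142,tg_143,tg_144,tg_145,tg_146,tg_147,tg_148]) = true :=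
  rt_step ck_tg72 (by decide +kernel) rt_73

theorem rt_71 : C.runTargets tS_71 (tg_71 :: [tg_72,tg_73,tg_74,tg_75,tg_76,tg_77,tg_78,tg_79,tg_80,tg_81,tg_82,tg_83,tg_84,tg_85,tg_86,tg_87,tg_88,tg_89,tg_90,tg_91,tg_92,tg_93,tg_94,tg_95,tg_96,tg_97,tg_98,tg_99,tg_100,tg_101,tg_102,tg_103,tg_104,tg_105,tg_106,tg_107,tg_108,tg_109,tg_110,tg_111,tg_112,tg_113,tg_114,tg_115,tg_116,tg_117,tg_118,tg_119,tg_120,tg_121,tg_122,tg_123,tg_124,tg_125,tg_126,tg_127,tg_128,tg_129,tg_130,tg_131,tg_132,tg_133,tg_134,tg_135,tg_136,tg_137,tg_138,tg_139,tg_140,tg_141,tg_142,tg_143,tg_144,tg_145,tg_146,tg_147,tg_148]) = true :=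
  rt_step ck_tg71 (by decide +kernel) rt_72

theorem rt_70 : C.runTargets tS_70 (tg_70 :: [tg_71,tg_72,tg_73,tg_74,tg_75,tg_76,tg_77,tg_78,tg_79,tg_80,tg_81,tg_82,tg_83,tg_84,tg_85,tg_86,tg_87,tg_88,tg_89,tg_90,tg_91,tg_92,tg_93,tg_94,tg_95,tg_96,tg_97,tg_98,tg_99,tg_100,tg_101,tg_102,tg_103,tg_104,tg_105,tg_106,tg_107,tg_108,tg_109,tg_110,tg_111,tg_112,tg_113,tg_114,tg_115,tg_116,tg_117,tg_118,tg_119,tg_120,tg_121,tg_122,tg_123,tg_124,tg_125,tg_126,tg_127,tg_128,tg_129,tg_130,tg_131,tg_132,tg_133,tg_134,tg_135,tg_136,tg_137,tg_138,tg_139,tg_140,tg_141,tg_142,tg_143,tg_144,tg_145,tg_146,tg_147,tg_148]) = true :=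
  rt_step ck_tg70 (by decide +kernel) rt_71

theorem rt_69 : C.runTargets tS_69 (tg_69 :: [tg_70,tg_71,tg_72,tg_73,tg_74,tg_75,tg_76,tg_77,tg_78,tg_79,tg_80,tg_81,tg_82,tg_83,tg_84,tg_85,tg_86,tg_87,tg_88,tg_89,tg_90,tg_91,tg_92,tg_93,tg_94,tg_95,tg_96,tg_97,tg_98,tg_99,tg_100,tg_101,tg_102,tg_103,tg_104,tg_105,tg_106,tg_107,tg_108,tg_109,tg_110,tg_111,tg_112,tg_113,tg_114,tg_115,tg_116,tg_117,tg_118,tg_119,tg_120,tg_121,tg_122,tg_123,tg_124,tg_125,tg_126,tg_127,tg_128,tg_129,tg_130,tg_131,tg_132,tg_133,tg_134,tg_135,tg_136,tg_137,tg_138,tg_139,tg_140,tg_141,tg_142,tg_143,tg_144,tg_145,tg_146,tg_147,tg_148]) = true :=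
  rt_step ck_tg69 (by decide +kernel) rt_70

theorem rt_68 : C.runTargets tS_68 (tg_68 :: [tg_69,tg_70,tg_71,tg_72,tg_73,tg_74,tg_75,tg_76,tg_77,tg_78,tg_79,tg_80,tg_81,tg_82,tg_83,tg_84,tg_85,tg_86,tg_87,tg_88,tg_89,tg_90,tg_91,tg_92,tg_93,tg_94,tg_95,tg_96,tg_97,tg_98,tg_99,tg_100,tg_101,tg_102,tg_103,tg_104,tg_105,tg_106,tg_107,tg_108,tg_109,tg_110,tg_111,tg_112,tg_113,tg_114,tg_115,tg_116,tg_117,tg_118,tg_119,tg_120,tg_121,tg_122,tg_123,tg_124,tg_125,tg_126,tg_127,tg_128,tg_129,tg_130,tg_131,tg_132,tg_133,tg_134,tg_135,tg_136,tg_137,tg_138,tg_139,tg_140,tg_141,tg_142,tg_143,tg_144,tg_145,tg_146,tg_147,tg_148]) = true :=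
  rt_step ck_tg68 (by decide +kernel) rt_69

theorem rt_67 : C.runTargets tS_67 (tg_67 :: [tg_68,tg_69,tg_70,tg_71,tg_72,tg_73,tg_74,tg_75,tg_76,tg_77,tg_78,tg_79,tg_80,tg_81,tg_82,tg_83,tg_84,tg_85,tg_86,tg_87,tg_88,tg_89,tg_90,tg_91,tg_92,tg_93,tg_94,tg_95,tg_96,tg_97,tg_98,tg_99,tg_100,tg_101,tg_102,tg_103,tg_104,tg_105,tg_106,tg_107,tg_108,tg_109,tg_110,tg_111,tg_112,tg_113,tg_114,tg_115,tg_116,tg_117,tg_118,tg_119,tg_120,tg_121,tg_122,tg_123,tg_124,tg_125,tg_126,tg_127,tg_128,tg_129,tg_130,tg_131,tg_132,tg_133,tg_134,tg_135,tg_136,tg_137,tg_138,tg_139,tg_140,tg_141,tg_142,tg_143,tg_144,tg_145,tg_146,tg_147,tg_148]) = true :=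
  rt_step ck_tg67 (by decide +kernel) rt_68

theorem rt_66 : C.runTargets tS_66 (tg_66 :: [tg_67,tg_68,tg_69,tg_70,tg_71,tg_72,tg_73,tg_74,tg_75,tg_76,tg_77,tg_78,tg_79,tg_80,tg_81,tg_82,tg_83,tg_84,tg_85,tg_86,tg_87,tg_88,tg_89,tg_90,tg_91,tg_92,tg_93,tg_94,tg_95,tg_96,tg_97,tg_98,tg_99,tg_100,tg_101,tg_102,tg_103,tg_104,tg_105,tg_106,tg_107,tg_108,tg_109,tg_110,tg_111,tg_112,tg_113,tg_114,tg_115,tg_116,tg_117,tg_118,tg_119,tg_120,tg_121,tg_122,tg_123,tg_124,tg_125,tg_126,tg_127,tg_128,tg_129,tg_130,tg_131,tg_132,tg_133,tg_134,tg_135,tg_136,tg_137,tg_138,tg_139,tg_140,tg_141,tg_142,tg_143,tg_144,tg_145,tg_146,tg_147,tg_148]) = true :=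
  rt_step ck_tg66 (by decide +kernel) rt_67

theorem rt_65 : C.runTargets tS_65 (tg_65 :: [tg_66,tg_67,tg_68,tg_69,tg_70,tg_71,tg_72,tg_73,tg_74,tg_75,tg_76,tg_77,tg_78,tg_79,tg_80,tg_81,tg_82,tg_83,tg_84,tg_85,tg_86,tg_87,tg_88,tg_89,tg_90,tg_91,tg_92,tg_93,tg_94,tg_95,tg_96,tg_97,tg_98,tg_99,tg_100,tg_101,tg_102,tg_103,tg_104,tg_105,tg_106,tg_107,tg_108,tg_109,tg_110,tg_111,tg_112,tg_113,tg_114,tg_115,tg_116,tg_117,tg_118,tg_119,tg_120,tg_121,tg_122,tg_123,tg_124,tg_125,tg_126,tg_127,tg_128,tg_129,tg_130,tg_131,tg_132,tg_133,tg_134,tg_135,tg_136,tg_137,tg_138,tg_139,tg_140,tg_141,tg_142,tg_143,tg_144,tg_145,tg_146,tg_147,tg_148]) = true :=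
  rt_step ck_tg65 (by decide +kernel) rt_66

theorem rt_64 : C.runTargets tS_64 (tg_64 :: [tg_65,tg_66,tg_67,tg_68,tg_69,tg_70,tg_71,tg_72,tg_73,tg_74,tg_75,tg_76,tg_77,tg_78,tg_79,tg_80,tg_81,tg_82,tg_83,tg_84,tg_85,tg_86,tg_87,tg_88,tg_89,tg_90,tg_91,tg_92,tg_93,tg_94,tg_95,tg_96,tg_97,tg_98,tg_99,tg_100,tg_101,tg_102,tg_103,tg_104,tg_105,tg_106,tg_107,tg_108,tg_109,tg_110,tg_111,tg_112,tg_113,tg_114,tg_115,tg_116,tg_117,tg_118,tg_119,tg_120,tg_121,tg_122,tg_123,tg_124,tg_125,tg_126,tg_127,tg_128,tg_129,tg_130,tg_131,tg_132,tg_133,tg_134,tg_135,tg_136,tg_137,tg_138,tg_139,tg_140,tg_141,tg_142,tg_143,tg_144,tg_145,tg_146,tg_147,tg_148]) = true :=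
  rt_step ck_tg64 (by decide +kernel) rt_65

theorem rt_63 : C.runTargets tS_63 (tg_63 :: [tg_64,tg_65,tg_66,tg_67,tg_68,tg_69,tg_70,tg_71,tg_72,tg_73,tg_74,tg_75,tg_76,tg_77,tg_78,tg_79,tg_80,tg_81,tg_82,tg_83,tg_84,tg_85,tg_86,tg_87,tg_88,tg_89,tg_90,tg_91,tg_92,tg_93,tg_94,tg_95,tg_96,tg_97,tg_98,tg_99,tg_100,tg_101,tg_102,tg_103,tg_104,tg_105,tg_106,tg_107,tg_108,tg_109,tg_110,tg_111,tg_112,tg_113,tg_114,tg_115,tg_116,tg_117,tg_118,tg_119,tg_120,tg_121,tg_122,tg_123,tg_124,tg_125,tg_126,tg_127,tg_128,tg_129,tg_130,tg_131,tg_132,tg_133,tg_134,tg_135,tg_136,tg_137,tg_138,tg_139,tg_140,tg_141,tg_142,tg_143,tg_144,tg_145,tg_146,tg_147,tg_148]) = true :=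
  rt_step ck_tg63 (by decide +kernel) rt_64

theorem rt_62 : C.runTargets tS_62 (tg_62 :: [tg_63,tg_64,tg_65,tg_66,tg_67,tg_68,tg_69,tg_70,tg_71,tg_72,tg_73,tg_74,tg_75,tg_76,tg_77,tg_78,tg_79,tg_80,tg_81,tg_82,tg_83,tg_84,tg_85,tg_86,tg_87,tg_88,tg_89,tg_90,tg_91,tg_92,tg_93,tg_94,tg_95,tg_96,tg_97,tg_98,tg_99,tg_100,tg_101,tg_102,tg_103,tg_104,tg_105,tg_106,tg_107,tg_108,tg_109,tg_110,tg_111,tg_112,tg_113,tg_114,tg_115,tg_116,tg_117,tg_118,tg_119,tg_120,tg_121,tg_122,tg_123,tg_124,tg_125,tg_126,tg_127,tg_128,tg_129,tg_130,tg_131,tg_132,tg_133,tg_134,tg_135,tg_136,tg_137,tg_138,tg_139,tg_140,tg_141,tg_142,tg_143,tg_144,tg_145,tg_146,tg_147,tg_148]) = true :=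
  rt_step ck_tg62 (by decide +kernel) rt_63

theorem rt_61 : C.runTargets tS_61 (tg_61 :: [tg_62,tg_63,tg_64,tg_65,tg_66,tg_67,tg_68,tg_69,tg_70,tg_71,tg_72,tg_73,tg_74,tg_75,tg_76,tg_77,tg_78,tg_79,tg_80,tg_81,tg_82,tg_83,tg_84,tg_85,tg_86,tg_87,tg_88,tg_89,tg_90,tg_91,tg_92,tg_93,tg_94,tg_95,tg_96,tg_97,tg_98,tg_99,tg_100,tg_101,tg_102,tg_103,tg_104,tg_105,tg_106,tg_107,tg_108,tg_109,tg_110,tg_111,tg_112,tg_113,tg_114,tg_115,tg_116,tg_117,tg_118,tg_119,tg_120,tg_121,tg_122,tg_123,tg_124,tg_125,tg_126,tg_127,tg_128,tg_129,tg_130,tg_131,tg_132,tg_133,tg_134,tg_135,tg_136,tg_137,tg_138,tg_139,tg_140,tg_141,tg_142,tg_143,tg_144,tg_145,tg_146,tg_147,tg_148]) = true :=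
  rt_step ck_tg61 (by decide +kernel) rt_62

theorem rt_60 : C.runTargets tS_60 (tg_60 :: [tg_61,tg_62,tg_63,tg_64,tg_65,tg_66,tg_67,tg_68,tg_69,tg_70,tg_71,tg_72,tg_73,tg_74,tg_75,tg_76,tg_77,tg_78,tg_79,tg_80,tg_81,tg_82,tg_83,tg_84,tg_85,tg_86,tg_87,tg_88,tg_89,tg_90,tg_91,tg_92,tg_93,tg_94,tg_95,tg_96,tg_97,tg_98,tg_99,tg_100,tg_101,tg_102,tg_103,tg_104,tg_105,tg_106,tg_107,tg_108,tg_109,tg_110,tg_111,tg_112,tg_113,tg_114,tg_115,tg_116,tg_117,tg_118,tg_119,tg_120,tg_121,tg_122,tg_123,tg_124,tg_125,tg_126,tg_127,tg_128,tg_129,tg_130,tg_131,tg_132,tg_133,tg_134,tg_135,tg_136,tg_137,tg_138,tg_139,tg_140,tg_141,tg_142,tg_143,tg_144,tg_145,tg_146,tg_147,tg_148]) = true :=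
  rt_step ck_tg60 (by decide +kernel) rt_61

theorem rt_59 : C.runTargets tS_59 (tg_59 :: [tg_60,tg_61,tg_62,tg_63,tg_64,tg_65,tg_66,tg_67,tg_68,tg_69,tg_70,tg_71,tg_72,tg_73,tg_74,tg_75,tg_76,tg_77,tg_78,tg_79,tg_80,tg_81,tg_82,tg_83,tg_84,tg_85,tg_86,tg_87,tg_88,tg_89,tg_90,tg_91,tg_92,tg_93,tg_94,tg_95,tg_96,tg_97,tg_98,tg_99,tg_100,tg_101,tg_102,tg_103,tg_104,tg_105,tg_106,tg_107,tg_108,tg_109,tg_110,tg_111,tg_112,tg_113,tg_114,tg_115,tg_116,tg_117,tg_118,tg_119,tg_120,tg_121,tg_122,tg_123,tg_124,tg_125,tg_126,tg_127,tg_128,tg_129,tg_130,tg_131,tg_132,tg_133,tg_134,tg_135,tg_136,tg_137,tg_138,tg_139,tg_140,tg_141,tg_142,tg_143,tg_144,tg_145,tg_146,tg_147,tg_148]) = true :=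
  rt_step ck_tg59 (by decide +kernel) rt_60

theorem rt_58 : C.runTargets tS_58 (tg_58 :: [tg_59,tg_60,tg_61,tg_62,tg_63,tg_64,tg_65,tg_66,tg_67,tg_68,tg_69,tg_70,tg_71,tg_72,tg_73,tg_74,tg_75,tg_76,tg_77,tg_78,tg_79,tg_80,tg_81,tg_82,tg_83,tg_84,tg_85,tg_86,tg_87,tg_88,tg_89,tg_90,tg_91,tg_92,tg_93,tg_94,tg_95,tg_96,tg_97,tg_98,tg_99,tg_100,tg_101,tg_102,tg_103,tg_104,tg_105,tg_106,tg_107,tg_108,tg_109,tg_110,tg_111,tg_112,tg_113,tg_114,tg_115,tg_116,tg_117,tg_118,tg_119,tg_120,tg_121,tg_122,tg_123,tg_124,tg_125,tg_126,tg_127,tg_128,tg_129,tg_130,tg_131,tg_132,tg_133,tg_134,tg_135,tg_136,tg_137,tg_138,tg_139,tg_140,tg_141,tg_142,tg_143,tg_144,tg_145,tg_146,tg_147,tg_148]) = true :=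
  rt_step ck_tg58 (by decide +kernel) rt_59

theorem rt_57 : C.runTargets tS_57 (tg_57 :: [tg_58,tg_59,tg_60,tg_61,tg_62,tg_63,tg_64,tg_65,tg_66,tg_67,tg_68,tg_69,tg_70,tg_71,tg_72,tg_73,tg_74,tg_75,tg_76,tg_77,tg_78,tg_79,tg_80,tg_81,tg_82,tg_83,tg_84,tg_85,tg_86,tg_87,tg_88,tg_89,tg_90,tg_91,tg_92,tg_93,tg_94,tg_95,tg_96,tg_97,tg_98,tg_99,tg_100,tg_101,tg_102,tg_103,tg_104,tg_105,tg_106,tg_107,tg_108,tg_109,tg_110,tg_111,tg_112,tg_113,tg_114,tg_115,tg_116,tg_117,tg_118,tg_119,tg_120,tg_121,tg_122,tg_123,tg_124,tg_125,tg_126,tg_127,tg_128,tg_129,tg_130,tg_131,tg_132,tg_133,tg_134,tg_135,tg_136,tg_137,tg_138,tg_139,tg_140,tg_141,tg_142,tg_143,tg_144,tg_145,tg_146,tg_147,tg_148]) = true :=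
  rt_step ck_tg57 (by decide +kernel) rt_58

theorem rt_56 : C.runTargets tS_56 (tg_56 :: [tg_57,tg_58,tg_59,tg_60,tg_61,tg_62,tg_63,tg_64,tg_65,tg_66,tg_67,tg_68,tg_69,tg_70,tg_71,tg_72,tg_73,tg_74,tg_75,tg_76,tg_77,tg_78,tg_79,tg_80,tg_81,tg_82,tg_83,tg_84,tg_85,tg_86,tg_87,tg_88,tg_89,tg_90,tg_91,tg_92,tg_93,tg_94,tg_95,tg_96,tg_97,tg_98,tg_99,tg_100,tg_101,tg_102,tg_103,tg_104,tg_105,tg_106,tg_107,tg_108,tg_109,tg_110,tg_111,tg_112,tg_113,tg_114,tg_115,tg_116,tg_117,tg_118,tg_119,tg_120,tg_121,tg_122,tg_123,tg_124,tg_125,tg_126,tg_127,tg_128,tg_129,tg_130,tg_131,tg_132,tg_133,tg_134,tg_135,tg_136,tg_137,tg_138,tg_139,tg_140,tg_141,tg_142,tg_143,tg_144,tg_145,tg_146,tg_147,tg_148]) = true :=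
  rt_step ck_tg56 (by decide +kernel) rt_57

theorem rt_55 : C.runTargets tS_55 (tg_55 :: [tg_56,tg_57,tg_58,tg_59,tg_60,tg_61,tg_62,tg_63,tg_64,tg_65,tg_66,tg_67,tg_68,tg_69,tg_70,tg_71,tg_72,tg_73,tg_74,tg_75,tg_76,tg_77,tg_78,tg_79,tg_80,tg_81,tg_82,tg_83,tg_84,tg_85,tg_86,tg_87,tg_88,tg_89,tg_90,tg_91,tg_92,tg_93,tg_94,tg_95,tg_96,tg_97,tg_98,tg_99,tg_100,tg_101,tg_102,tg_103,tg_104,tg_105,tg_106,tg_107,tg_108,tg_109,tg_110,tg_111,tg_112,tg_113,tg_114,tg_115,tg_116,tg_117,tg_118,tg_119,tg_120,tg_121,tg_122,tg_123,tg_124,tg_125,tg_126,tg_127,tg_128,tg_129,tg_130,tg_131,tg_132,tg_133,tg_134,tg_135,tg_136,tg_137,tg_138,tg_139,tg_140,tg_141,tg_142,tg_143,tg_144,tg_145,tg_146,tg_147,tg_148]) = true :=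
  rt_step ck_tg55 (by decide +kernel) rt_56

theorem rt_54 : C.runTargets tS_54 (tg_54 :: [tg_55,tg_56,tg_57,tg_58,tg_59,tg_60,tg_61,tg_62,tg_63,tg_64,tg_65,tg_66,tg_67,tg_68,tg_69,tg_70,tg_71,tg_72,tg_73,tg_74,tg_75,tg_76,tg_77,tg_78,tg_79,tg_80,tg_81,tg_82,tg_83,tg_84,tg_85,tg_86,tg_87,tg_88,tg_89,tg_90,tg_91,tg_92,tg_93,tg_94,tg_95,tg_96,tg_97,tg_98,tg_99,tg_100,tg_101,tg_102,tg_103,tg_104,tg_105,tg_106,tg_107,tg_108,tg_109,tg_110,tg_111,tg_112,tg_113,tg_114,tg_115,tg_116,tg_117,tg_118,tg_119,tg_120,tg_121,tg_122,tg_123,tg_124,tg_125,tg_126,tg_127,tg_128,tg_129,tg_130,tg_131,tg_132,tg_133,tg_134,tg_135,tg_136,tg_137,tg_138,tg_139,tg_140,tg_141,tg_142,tg_143,tg_144,tg_145,tg_146,tg_147,tg_148]) = true :=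
  rt_step ck_tg54 (by decide +kernel) rt_55

theorem rt_53 : C.runTargets tS_53 (tg_53 :: [tg_54,tg_55,tg_56,tg_57,tg_58,tg_59,tg_60,tg_61,tg_62,tg_63,tg_64,tg_65,tg_66,tg_67,tg_68,tg_69,tg_70,tg_71,tg_72,tg_73,tg_74,tg_75,tg_76,tg_77,tg_78,tg_79,tg_80,tg_81,tg_82,tg_83,tg_84,tg_85,tg_86,tg_87,tg_88,tg_89,tg_90,tg_91,tg_92,tg_93,tg_94,tg_95,tg_96,tg_97,tg_98,tg_99,tg_100,tg_101,tg_102,tg_103,tg_104,tg_105,tg_106,tg_107,tg_108,tg_109,tg_110,tg_111,tg_112,tg_113,tg_114,tg_115,tg_116,tg_117,tg_118,tg_119,tg_120,tg_121,tg_122,tg_123,tg_124,tg_125,tg_126,tg_127,tg_128,tg_129,tg_130,tg_131,tg_132,tg_133,tg_134,tg_135,tg_136,tg_137,tg_138,tg_139,tg_140,tg_141,tg_142,tg_143,tg_144,tg_145,tg_146,tg_147,tg_148]) = true :=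
  rt_step ck_tg53 (by decide +kernel) rt_54

theorem rt_52 : C.runTargets tS_52 (tg_52 :: [tg_53,tg_54,tg_55,tg_56,tg_57,tg_58,tg_59,tg_60,tg_61,tg_62,tg_63,tg_64,tg_65,tg_66,tg_67,tg_68,tg_69,tg_70,tg_71,tg_72,tg_73,tg_74,tg_75,tg_76,tg_77,tg_78,tg_79,tg_80,tg_81,tg_82,tg_83,tg_84,tg_85,tg_86,tg_87,tg_88,tg_89,tg_90,tg_91,tg_92,tg_93,tg_94,tg_95,tg_96,tg_97,tg_98,tg_99,tg_100,tg_101,tg_102,tg_103,tg_104,tg_105,tg_106,tg_107,tg_108,tg_109,tg_110,tg_111,tg_112,tg_113,tg_114,tg_115,tg_116,tg_117,tg_118,tg_119,tg_120,tg_121,tg_122,tg_123,tg_124,tg_125,tg_126,tg_127,tg_128,tg_129,tg_130,tg_131,tg_132,tg_133,tg_134,tg_135,tg_136,tg_137,tg_138,tg_139,tg_140,tg_141,tg_142,tg_143,tg_144,tg_145,tg_146,tg_147,tg_148]) = true :=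
  rt_step ck_tg52 (by decide +kernel) rt_53

theorem rt_51 : C.runTargets tS_51 (tg_51 :: [tg_52,tg_53,tg_54,tg_55,tg_56,tg_57,tg_58,tg_59,tg_60,tg_61,tg_62,tg_63,tg_64,tg_65,tg_66,tg_67,tg_68,tg_69,tg_70,tg_71,tg_72,tg_73,tg_74,tg_75,tg_76,tg_77,tg_78,tg_79,tg_80,tg_81,tg_82,tg_83,tg_84,tg_85,tg_86,tg_87,tg_88,tg_89,tg_90,tg_91,tg_92,tg_93,tg_94,tg_95,tg_96,tg_97,tg_98,tg_99,tg_100,tg_101,tg_102,tg_103,tg_104,tg_105,tg_106,tg_107,tg_108,tg_109,tg_110,tg_111,tg_112,tg_113,tg_114,tg_115,tg_116,tg_117,tg_118,tg_119,tg_120,tg_121,tg_122,tg_123,tg_124,tg_125,tg_126,tg_127,tg_128,tg_129,tg_130,tg_131,tg_132,tg_133,tg_134,tg_135,tg_136,tg_137,tg_138,tg_139,tg_140,tg_141,tg_142,tg_143,tg_144,tg_145,tg_146,tg_147,tg_148]) = true :=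
  rt_step ck_tg51 (by decide +kernel) rt_52

theorem rt_50 : C.runTargets tS_50 (tg_50 :: [tg_51,tg_52,tg_53,tg_54,tg_55,tg_56,tg_57,tg_58,tg_59,tg_60,tg_61,tg_62,tg_63,tg_64,tg_65,tg_66,tg_67,tg_68,tg_69,tg_70,tg_71,tg_72,tg_73,tg_74,tg_75,tg_76,tg_77,tg_78,tg_79,tg_80,tg_81,tg_82,tg_83,tg_84,tg_85,tg_86,tg_87,tg_88,tg_89,tg_90,tg_91,tg_92,tg_93,tg_94,tg_95,tg_96,tg_97,tg_98,tg_99,tg_100,tg_101,tg_102,tg_103,tg_104,tg_105,tg_106,tg_107,tg_108,tg_109,tg_110,tg_111,tg_112,tg_113,tg_114,tg_115,tg_116,tg_117,tg_118,tg_119,tg_120,tg_121,tg_122,tg_123,tg_124,tg_125,tg_126,tg_127,tg_128,tg_129,tg_130,tg_131,tg_132,tg_133,tg_134,tg_135,tg_136,tg_137,tg_138,tg_139,tg_140,tg_141,tg_142,tg_143,tg_144,tg_145,tg_146,tg_147,tg_148]) = true :=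
  rt_step ck_tg50 (by decide +kernel) rt_51

theorem rt_49 : C.runTargets tS_49 (tg_49 :: [tg_50,tg_51,tg_52,tg_53,tg_54,tg_55,tg_56,tg_57,tg_58,tg_59,tg_60,tg_61,tg_62,tg_63,tg_64,tg_65,tg_66,tg_67,tg_68,tg_69,tg_70,tg_71,tg_72,tg_73,tg_74,tg_75,tg_76,tg_77,tg_78,tg_79,tg_80,tg_81,tg_82,tg_83,tg_84,tg_85,tg_86,tg_87,tg_88,tg_89,tg_90,tg_91,tg_92,tg_93,tg_94,tg_95,tg_96,tg_97,tg_98,tg_99,tg_100,tg_101,tg_102,tg_103,tg_104,tg_105,tg_106,tg_107,tg_108,tg_109,tg_110,tg_111,tg_112,tg_113,tg_114,tg_115,tg_116,tg_117,tg_118,tg_119,tg_120,tg_121,tg_122,tg_123,tg_124,tg_125,tg_126,tg_127,tg_128,tg_129,tg_130,tg_131,tg_132,tg_133,tg_134,tg_135,tg_136,tg_137,tg_138,tg_139,tg_140,tg_141,tg_142,tg_143,tg_144,tg_145,tg_146,tg_147,tg_148]) = true :=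
  rt_step ck_tg49 (by decide +kernel) rt_50

theorem rt_48 : C.runTargets tS_48 (tg_48 :: [tg_49,tg_50,tg_51,tg_52,tg_53,tg_54,tg_55,tg_56,tg_57,tg_58,tg_59,tg_60,tg_61,tg_62,tg_63,tg_64,tg_65,tg_66,tg_67,tg_68,tg_69,tg_70,tg_71,tg_72,tg_73,tg_74,tg_75,tg_76,tg_77,tg_78,tg_79,tg_80,tg_81,tg_82,tg_83,tg_84,tg_85,tg_86,tg_87,tg_88,tg_89,tg_90,tg_91,tg_92,tg_93,tg_94,tg_95,tg_96,tg_97,tg_98,tg_99,tg_100,tg_101,tg_102,tg_103,tg_104,tg_105,tg_106,tg_107,tg_108,tg_109,tg_110,tg_111,tg_112,tg_113,tg_114,tg_115,tg_116,tg_117,tg_118,tg_119,tg_120,tg_121,tg_122,tg_123,tg_124,tg_125,tg_126,tg_127,tg_128,tg_129,tg_130,tg_131,tg_132,tg_133,tg_134,tg_135,tg_136,tg_137,tg_138,tg_139,tg_140,tg_141,tg_142,tg_143,tg_144,tg_145,tg_146,tg_147,tg_148]) = true :=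
  rt_step ck_tg48 (by decide +kernel) rt_49

theorem rt_47 : C.runTargets tS_47 (tg_47 :: [tg_48,tg_49,tg_50,tg_51,tg_52,tg_53,tg_54,tg_55,tg_56,tg_57,tg_58,tg_59,tg_60,tg_61,tg_62,tg_63,tg_64,tg_65,tg_66,tg_67,tg_68,tg_69,tg_70,tg_71,tg_72,tg_73,tg_74,tg_75,tg_76,tg_77,tg_78,tg_79,tg_80,tg_81,tg_82,tg_83,tg_84,tg_85,tg_86,tg_87,tg_88,tg_89,tg_90,tg_91,tg_92,tg_93,tg_94,tg_95,tg_96,tg_97,tg_98,tg_99,tg_100,tg_101,tg_102,tg_103,tg_104,tg_105,tg_106,tg_107,tg_108,tg_109,tg_110,tg_111,tg_112,tg_113,tg_114,tg_115,tg_116,tg_117,tg_118,tg_119,tg_120,tg_121,tg_122,tg_123,tg_124,tg_125,tg_126,tg_127,tg_128,tg_129,tg_130,tg_131,tg_132,tg_133,tg_134,tg_135,tg_136,tg_137,tg_138,tg_139,tg_140,tg_141,tg_142,tg_143,tg_144,tg_145,tg_146,tg_147,tg_148]) = true :=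
  rt_step ck_tg47 (by decide +kernel) rt_48

theorem rt_46 : C.runTargets tS_46 (tg_46 :: [tg_47,tg_48,tg_49,tg_50,tg_51,tg_52,tg_53,tg_54,tg_55,tg_56,tg_57,tg_58,tg_59,tg_60,tg_61,tg_62,tg_63,tg_64,tg_65,tg_66,tg_67,tg_68,tg_69,tg_70,tg_71,tg_72,tg_73,tg_74,tg_75,tg_76,tg_77,tg_78,tg_79,tg_80,tg_81,tg_82,tg_83,tg_84,tg_85,tg_86,tg_87,tg_88,tg_89,tg_90,tg_91,tg_92,tg_93,tg_94,tg_95,tg_96,tg_97,tg_98,tg_99,tg_100,tg_101,tg_102,tg_103,tg_104,tg_105,tg_106,tg_107,tg_108,tg_109,tg_110,tg_111,tg_112,tg_113,tg_114,tg_115,tg_116,tg_117,tg_118,tg_119,tg_120,tg_121,tg_122,tg_123,tg_124,tg_125,tg_126,tg_127,tg_128,tg_129,tg_130,tg_131,tg_132,tg_133,tg_134,tg_135,tg_136,tg_137,tg_138,tg_139,tg_140,tg_141,tg_142,tg_143,tg_144,tg_145,tg_146,tg_147,tg_148]) = true :=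
  rt_step ck_tg46 (by decide +kernel) rt_47

theorem rt_45 : C.runTargets tS_45 (tg_45 :: [tg_46,tg_47,tg_48,tg_49,tg_50,tg_51,tg_52,tg_53,tg_54,tg_55,tg_56,tg_57,tg_58,tg_59,tg_60,tg_61,tg_62,tg_63,tg_64,tg_65,tg_66,tg_67,tg_68,tg_69,tg_70,tg_71,tg_72,tg_73,tg_74,tg_75,tg_76,tg_77,tg_78,tg_79,tg_80,tg_81,tg_82,tg_83,tg_84,tg_85,tg_86,tg_87,tg_88,tg_89,tg_90,tg_91,tg_92,tg_93,tg_94,tg_95,tg_96,tg_97,tg_98,tg_99,tg_100,tg_101,tg_102,tg_103,tg_104,tg_105,tg_106,tg_107,tg_108,tg_109,tg_110,tg_111,tg_112,tg_113,tg_114,tg_115,tg_116,tg_117,tg_118,tg_119,tg_120,tg_121,tg_122,tg_123,tg_124,tg_125,tg_126,tg_127,tg_128,tg_129,tg_130,tg_131,tg_132,tg_133,tg_134,tg_135,tg_136,tg_137,tg_138,tg_139,tg_140,tg_141,tg_142,tg_143,tg_144,tg_145,tg_146,tg_147,tg_148]) = true :=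
  rt_step ck_tg45 (by decide +kernel) rt_46

theorem rt_44 : C.runTargets tS_44 (tg_44 :: [tg_45,tg_46,tg_47,tg_48,tg_49,tg_50,tg_51,tg_52,tg_53,tg_54,tg_55,tg_56,tg_57,tg_58,tg_59,tg_60,tg_61,tg_62,tg_63,tg_64,tg_65,tg_66,tg_67,tg_68,tg_69,tg_70,tg_71,tg_72,tg_73,tg_74,tg_75,tg_76,tg_77,tg_78,tg_79,tg_80,tg_81,tg_82,tg_83,tg_84,tg_85,tg_86,tg_87,tg_88,tg_89,tg_90,tg_91,tg_92,tg_93,tg_94,tg_95,tg_96,tg_97,tg_98,tg_99,tg_100,tg_101,tg_102,tg_103,tg_104,tg_105,tg_106,tg_107,tg_108,tg_109,tg_110,tg_111,tg_112,tg_113,tg_114,tg_115,tg_116,tg_117,tg_118,tg_119,tg_120,tg_121,tg_122,tg_123,tg_124,tg_125,tg_126,tg_127,tg_128,tg_129,tg_130,tg_131,tg_132,tg_133,tg_134,tg_135,tg_136,tg_137,tg_138,tg_139,tg_140,tg_141,tg_142,tg_143,tg_144,tg_145,tg_146,tg_147,tg_148]) = true :=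
  rt_step ck_tg44 (by decide +kernel) rt_45

theorem rt_43 : C.runTargets tS_43 (tg_43 :: [tg_44,tg_45,tg_46,tg_47,tg_48,tg_49,tg_50,tg_51,tg_52,tg_53,tg_54,tg_55,tg_56,tg_57,tg_58,tg_59,tg_60,tg_61,tg_62,tg_63,tg_64,tg_65,tg_66,tg_67,tg_68,tg_69,tg_70,tg_71,tg_72,tg_73,tg_74,tg_75,tg_76,tg_77,tg_78,tg_79,tg_80,tg_81,tg_82,tg_83,tg_84,tg_85,tg_86,tg_87,tg_88,tg_89,tg_90,tg_91,tg_92,tg_93,tg_94,tg_95,tg_96,tg_97,tg_98,tg_99,tg_100,tg_101,tg_102,tg_103,tg_104,tg_105,tg_106,tg_107,tg_108,tg_109,tg_110,tg_111,tg_112,tg_113,tg_114,tg_115,tg_116,tg_117,tg_118,tg_119,tg_120,tg_121,tg_122,tg_123,tg_124,tg_125,tg_126,tg_127,tg_128,tg_129,tg_130,tg_131,tg_132,tg_133,tg_134,tg_135,tg_136,tg_137,tg_138,tg_139,tg_140,tg_141,tg_142,tg_143,tg_144,tg_145,tg_146,tg_147,tg_148]) = true :=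
  rt_step ck_tg43 (by decide +kernel) rt_44

theorem rt_42 : C.runTargets tS_42 (tg_42 :: [tg_43,tg_44,tg_45,tg_46,tg_47,tg_48,tg_49,tg_50,tg_51,tg_52,tg_53,tg_54,tg_55,tg_56,tg_57,tg_58,tg_59,tg_60,tg_61,tg_62,tg_63,tg_64,tg_65,tg_66,tg_67,tg_68,tg_69,tg_70,tg_71,tg_72,tg_73,tg_74,tg_75,tg_76,tg_77,tg_78,tg_79,tg_80,tg_81,tg_82,tg_83,tg_84,tg_85,tg_86,tg_87,tg_88,tg_89,tg_90,tg_91,tg_92,tg_93,tg_94,tg_95,tg_96,tg_97,tg_98,tg_99,tg_100,tg_101,tg_102,tg_103,tg_104,tg_105,tg_106,tg_107,tg_108,tg_109,tg_110,tg_111,tg_112,tg_113,tg_114,tg_115,tg_116,tg_117,tg_118,tg_119,tg_120,tg_121,tg_122,tg_123,tg_124,tg_125,tg_126,tg_127,tg_128,tg_129,tg_130,tg_131,tg_132,tg_133,tg_134,tg_135,tg_136,tg_137,tg_138,tg_139,tg_140,tg_141,tg_142,tg_143,tg_144,tg_145,tg_146,tg_147,tg_148]) = true :=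
  rt_step ck_tg42 (by decide +kernel) rt_43

theorem rt_41 : C.runTargets tS_41 (tg_41 :: [tg_42,tg_43,tg_44,tg_45,tg_46,tg_47,tg_48,tg_49,tg_50,tg_51,tg_52,tg_53,tg_54,tg_55,tg_56,tg_57,tg_58,tg_59,tg_60,tg_61,tg_62,tg_63,tg_64,tg_65,tg_66,tg_67,tg_68,tg_69,tg_70,tg_71,tg_72,tg_73,tg_74,tg_75,tg_76,tg_77,tg_78,tg_79,tg_80,tg_81,tg_82,tg_83,tg_84,tg_85,tg_86,tg_87,tg_88,tg_89,tg_90,tg_91,tg_92,tg_93,tg_94,tg_95,tg_96,tg_97,tg_98,tg_99,tg_100,tg_101,tg_102,tg_103,tg_104,tg_105,tg_106,tg_107,tg_108,tg_109,tg_110,tg_111,tg_112,tg_113,tg_114,tg_115,tg_116,tg_117,tg_118,tg_119,tg_120,tg_121,tg_122,tg_123,tg_124,tg_125,tg_126,tg_127,tg_128,tg_129,tg_130,tg_131,tg_132,tg_133,tg_134,tg_135,tg_136,tg_137,tg_138,tg_139,tg_140,tg_141,tg_142,tg_143,tg_144,tg_145,tg_146,tg_147,tg_148]) = true :=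
  rt_step ck_tg41 (by decide +kernel) rt_42

theorem rt_40 : C.runTargets tS_40 (tg_40 :: [tg_41,tg_42,tg_43,tg_44,tg_45,tg_46,tg_47,tg_48,tg_49,tg_50,tg_51,tg_52,tg_53,tg_54,tg_55,tg_56,tg_57,tg_58,tg_59,tg_60,tg_61,tg_62,tg_63,tg_64,tg_65,tg_66,tg_67,tg_68,tg_69,tg_70,tg_71,tg_72,tg_73,tg_74,tg_75,tg_76,tg_77,tg_78,tg_79,tg_80,tg_81,tg_82,tg_83,tg_84,tg_85,tg_86,tg_87,tg_88,tg_89,tg_90,tg_91,tg_92,tg_93,tg_94,tg_95,tg_96,tg_97,tg_98,tg_99,tg_100,tg_101,tg_102,tg_103,tg_104,tg_105,tg_106,tg_107,tg_108,tg_109,tg_110,tg_111,tg_112,tg_113,tg_114,tg_115,tg_116,tg_117,tg_118,tg_119,tg_120,tg_121,tg_122,tg_123,tg_124,tg_125,tg_126,tg_127,tg_128,tg_129,tg_130,tg_131,tg_132,tg_133,tg_134,tg_135,tg_136,tg_137,tg_138,tg_139,tg_140,tg_141,tg_142,tg_143,tg_144,tg_145,tg_146,tg_147,tg_148]) = true :=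
  rt_step ck_tg40 (by decide +kernel) rt_41

theorem rt_39 : C.runTargets tS_39 (tg_39 :: [tg_40,tg_41,tg_42,tg_43,tg_44,tg_45,tg_46,tg_47,tg_48,tg_49,tg_50,tg_51,tg_52,tg_53,tg_54,tg_55,tg_56,tg_57,tg_58,tg_59,tg_60,tg_61,tg_62,tg_63,tg_64,tg_65,tg_66,tg_67,tg_68,tg_69,tg_70,tg_71,tg_72,tg_73,tg_74,tg_75,tg_76,tg_77,tg_78,tg_79,tg_80,tg_81,tg_82,tg_83,tg_84,tg_85,tg_86,tg_87,tg_88,tg_89,tg_90,tg_91,tg_92,tg_93,tg_94,tg_95,tg_96,tg_97,tg_98,tg_99,tg_100,tg_101,tg_102,tg_103,tg_104,tg_105,tg_106,tg_107,tg_108,tg_109,tg_110,tg_111,tg_112,tg_113,tg_114,tg_115,tg_116,tg_117,tg_118,tg_119,tg_120,tg_121,tg_122,tg_123,tg_124,tg_125,tg_126,tg_127,tg_128,tg_129,tg_130,tg_131,tg_132,tg_133,tg_134,tg_135,tg_136,tg_137,tg_138,tg_139,tg_140,tg_141,tg_142,tg_143,tg_144,tg_145,tg_146,tg_147,tg_148]) = true :=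
  rt_step ck_tg39 (by decide +kernel) rt_40

theorem rt_38 : C.runTargets tS_38 (tg_38 :: [tg_39,tg_40,tg_41,tg_42,tg_43,tg_44,tg_45,tg_46,tg_47,tg_48,tg_49,tg_50,tg_51,tg_52,tg_53,tg_54,tg_55,tg_56,tg_57,tg_58,tg_59,tg_60,tg_61,tg_62,tg_63,tg_64,tg_65,tg_66,tg_67,tg_68,tg_69,tg_70,tg_71,tg_72,tg_73,tg_74,tg_75,tg_76,tg_77,tg_78,tg_79,tg_80,tg_81,tg_82,tg_83,tg_84,tg_85,tg_86,tg_87,tg_88,tg_89,tg_90,tg_91,tg_92,tg_93,tg_94,tg_95,tg_96,tg_97,tg_98,tg_99,tg_100,tg_101,tg_102,tg_103,tg_104,tg_105,tg_106,tg_107,tg_108,tg_109,tg_110,tg_111,tg_112,tg_113,tg_114,tg_115,tg_116,tg_117,tg_118,tg_119,tg_120,tg_121,tg_122,tg_123,tg_124,tg_125,tg_126,tg_127,tg_128,tg_129,tg_130,tg_131,tg_132,tg_133,tg_134,tg_135,tg_136,tg_137,tg_138,tg_139,tg_140,tg_141,tg_142,tg_143,tg_144,tg_145,tg_146,tg_147,tg_148]) = true :=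
  rt_step ck_tg38 (by decide +kernel) rt_39

theorem rt_37 : C.runTargets tS_37 (tg_37 :: [tg_38,tg_39,tg_40,tg_41,tg_42,tg_43,tg_44,tg_45,tg_46,tg_47,tg_48,tg_49,tg_50,tg_51,tg_52,tg_53,tg_54,tg_55,tg_56,tg_57,tg_58,tg_59,tg_60,tg_61,tg_62,tg_63,tg_64,tg_65,tg_66,tg_67,tg_68,tg_69,tg_70,tg_71,tg_72,tg_73,tg_74,tg_75,tg_76,tg_77,tg_78,tg_79,tg_80,tg_81,tg_82,tg_83,tg_84,tg_85,tg_86,tg_87,tg_88,tg_89,tg_90,tg_91,tg_92,tg_93,tg_94,tg_95,tg_96,tg_97,tg_98,tg_99,tg_100,tg_101,tg_102,tg_103,tg_104,tg_105,tg_106,tg_107,tg_108,tg_109,tg_110,tg_111,tg_112,tg_113,tg_114,tg_115,tg_116,tg_117,tg_118,tg_119,tg_120,tg_121,tg_122,tg_123,tg_124,tg_125,tg_126,tg_127,tg_128,tg_129,tg_130,tg_131,tg_132,tg_133,tg_134,tg_135,tg_136,tg_137,tg_138,tg_139,tg_140,tg_141,tg_142,tg_143,tg_144,tg_145,tg_146,tg_147,tg_148]) = true :=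
  rt_step ck_tg37 (by decide +kernel) rt_38

theorem rt_36 : C.runTargets tS_36 (tg_36 :: [tg_37,tg_38,tg_39,tg_40,tg_41,tg_42,tg_43,tg_44,tg_45,tg_46,tg_47,tg_48,tg_49,tg_50,tg_51,tg_52,tg_53,tg_54,tg_55,tg_56,tg_57,tg_58,tg_59,tg_60,tg_61,tg_62,tg_63,tg_64,tg_65,tg_66,tg_67,tg_68,tg_69,tg_70,tg_71,tg_72,tg_73,tg_74,tg_75,tg_76,tg_77,tg_78,tg_79,tg_80,tg_81,tg_82,tg_83,tg_84,tg_85,tg_86,tg_87,tg_88,tg_89,tg_90,tg_91,tg_92,tg_93,tg_94,tg_95,tg_96,tg_97,tg_98,tg_99,tg_100,tg_101,tg_102,tg_103,tg_104,tg_105,tg_106,tg_107,tg_108,tg_109,tg_110,tg_111,tg_112,tg_113,tg_114,tg_115,tg_116,tg_117,tg_118,tg_119,tg_120,tg_121,tg_122,tg_123,tg_124,tg_125,tg_126,tg_127,tg_128,tg_129,tg_130,tg_131,tg_132,tg_133,tg_134,tg_135,tg_136,tg_137,tg_138,tg_139,tg_140,tg_141,tg_142,tg_143,tg_144,tg_145,tg_146,tg_147,tg_148]) = true :=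
  rt_step ck_tg36 (by decide +kernel) rt_37

theorem rt_35 : C.runTargets tS_35 (tg_35 :: [tg_36,tg_37,tg_38,tg_39,tg_40,tg_41,tg_42,tg_43,tg_44,tg_45,tg_46,tg_47,tg_48,tg_49,tg_50,tg_51,tg_52,tg_53,tg_54,tg_55,tg_56,tg_57,tg_58,tg_59,tg_60,tg_61,tg_62,tg_63,tg_64,tg_65,tg_66,tg_67,tg_68,tg_69,tg_70,tg_71,tg_72,tg_73,tg_74,tg_75,tg_76,tg_77,tg_78,tg_79,tg_80,tg_81,tg_82,tg_83,tg_84,tg_85,tg_86,tg_87,tg_88,tg_89,tg_90,tg_91,tg_92,tg_93,tg_94,tg_95,tg_96,tg_97,tg_98,tg_99,tg_100,tg_101,tg_102,tg_103,tg_104,tg_105,tg_106,tg_107,tg_108,tg_109,tg_110,tg_111,tg_112,tg_113,tg_114,tg_115,tg_116,tg_117,tg_118,tg_119,tg_120,tg_121,tg_122,tg_123,tg_124,tg_125,tg_126,tg_127,tg_128,tg_129,tg_130,tg_131,tg_132,tg_133,tg_134,tg_135,tg_136,tg_137,tg_138,tg_139,tg_140,tg_141,tg_142,tg_143,tg_144,tg_145,tg_146,tg_147,tg_148]) = true :=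
  rt_step ck_tg35 (by decide +kernel) rt_36

theorem rt_34 : C.runTargets tS_34 (tg_34 :: [tg_35,tg_36,tg_37,tg_38,tg_39,tg_40,tg_41,tg_42,tg_43,tg_44,tg_45,tg_46,tg_47,tg_48,tg_49,tg_50,tg_51,tg_52,tg_53,tg_54,tg_55,tg_56,tg_57,tg_58,tg_59,tg_60,tg_61,tg_62,tg_63,tg_64,tg_65,tg_66,tg_67,tg_68,tg_69,tg_70,tg_71,tg_72,tg_73,tg_74,tg_75,tg_76,tg_77,tg_78,tg_79,tg_80,tg_81,tg_82,tg_83,tg_84,tg_85,tg_86,tg_87,tg_88,tg_89,tg_90,tg_91,tg_92,tg_93,tg_94,tg_95,tg_96,tg_97,tg_98,tg_99,tg_100,tg_101,tg_102,tg_103,tg_104,tg_105,tg_106,tg_107,tg_108,tg_109,tg_110,tg_111,tg_112,tg_113,tg_114,tg_115,tg_116,tg_117,tg_118,tg_119,tg_120,tg_121,tg_122,tg_123,tg_124,tg_125,tg_126,tg_127,tg_128,tg_129,tg_130,tg_131,tg_132,tg_133,tg_134,tg_135,tg_136,tg_137,tg_138,tg_139,tg_140,tg_141,tg_142,tg_143,tg_144,tg_145,tg_146,tg_147,tg_148]) = true :=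
  rt_step ck_tg34 (by decide +kernel) rt_35

theorem rt_33 : C.runTargets tS_33 (tg_33 :: [tg_34,tg_35,tg_36,tg_37,tg_38,tg_39,tg_40,tg_41,tg_42,tg_43,tg_44,tg_45,tg_46,tg_47,tg_48,tg_49,tg_50,tg_51,tg_52,tg_53,tg_54,tg_55,tg_56,tg_57,tg_58,tg_59,tg_60,tg_61,tg_62,tg_63,tg_64,tg_65,tg_66,tg_67,tg_68,tg_69,tg_70,tg_71,tg_72,tg_73,tg_74,tg_75,tg_76,tg_77,tg_78,tg_79,tg_80,tg_81,tg_82,tg_83,tg_84,tg_85,tg_86,tg_87,tg_88,tg_89,tg_90,tg_91,tg_92,tg_93,tg_94,tg_95,tg_96,tg_97,tg_98,tg_99,tg_100,tg_101,tg_102,tg_103,tg_104,tg_105,tg_106,tg_107,tg_108,tg_109,tg_110,tg_111,tg_112,tg_113,tg_114,tg_115,tg_116,tg_117,tg_118,tg_119,tg_120,tg_121,tg_122,tg_123,tg_124,tg_125,tg_126,tg_127,tg_128,tg_129,tg_130,tg_131,tg_132,tg_133,tg_134,tg_135,tg_136,tg_137,tg_138,tg_139,tg_140,tg_141,tg_142,tg_143,tg_144,tg_145,tg_146,tg_147,tg_148]) = true :=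
  rt_step ck_tg33 (by decide +kernel) rt_34

theorem rt_32 : C.runTargets tS_32 (tg_32 :: [tg_33,tg_34,tg_35,tg_36,tg_37,tg_38,tg_39,tg_40,tg_41,tg_42,tg_43,tg_44,tg_45,tg_46,tg_47,tg_48,tg_49,tg_50,tg_51,tg_52,tg_53,tg_54,tg_55,tg_56,tg_57,tg_58,tg_59,tg_60,tg_61,tg_62,tg_63,tg_64,tg_65,tg_66,tg_67,tg_68,tg_69,tg_70,tg_71,tg_72,tg_73,tg_74,tg_75,tg_76,tg_77,tg_78,tg_79,tg_80,tg_81,tg_82,tg_83,tg_84,tg_85,tg_86,tg_87,tg_88,tg_89,tg_90,tg_91,tg_92,tg_93,tg_94,tg_95,tg_96,tg_97,tg_98,tg_99,tg_100,tg_101,tg_102,tg_103,tg_104,tg_105,tg_106,tg_107,tg_108,tg_109,tg_110,tg_111,tg_112,tg_113,tg_114,tg_115,tg_116,tg_117,tg_118,tg_119,tg_120,tg_121,tg_122,tg_123,tg_124,tg_125,tg_126,tg_127,tg_128,tg_129,tg_130,tg_131,tg_132,tg_133,tg_134,tg_135,tg_136,tg_137,tg_138,tg_139,tg_140,tg_141,tg_142,tg_143,tg_144,tg_145,tg_146,tg_147,tg_148]) = true :=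
  rt_step ck_tg32 (by decide +kernel) rt_33

theorem rt_31 : C.runTargets tS_31 (tg_31 :: [tg_32,tg_33,tg_34,tg_35,tg_36,tg_37,tg_38,tg_39,tg_40,tg_41,tg_42,tg_43,tg_44,tg_45,tg_46,tg_47,tg_48,tg_49,tg_50,tg_51,tg_52,tg_53,tg_54,tg_55,tg_56,tg_57,tg_58,tg_59,tg_60,tg_61,tg_62,tg_63,tg_64,tg_65,tg_66,tg_67,tg_68,tg_69,tg_70,tg_71,tg_72,tg_73,tg_74,tg_75,tg_76,tg_77,tg_78,tg_79,tg_80,tg_81,tg_82,tg_83,tg_84,tg_85,tg_86,tg_87,tg_88,tg_89,tg_90,tg_91,tg_92,tg_93,tg_94,tg_95,tg_96,tg_97,tg_98,tg_99,tg_100,tg_101,tg_102,tg_103,tg_104,tg_105,tg_106,tg_107,tg_108,tg_109,tg_110,tg_111,tg_112,tg_113,tg_114,tg_115,tg_116,tg_117,tg_118,tg_119,tg_120,tg_121,tg_122,tg_123,tg_124,tg_125,tg_126,tg_127,tg_128,tg_129,tg_130,tg_131,tg_132,tg_133,tg_134,tg_135,tg_136,tg_137,tg_138,tg_139,tg_140,tg_141,tg_142,tg_143,tg_144,tg_145,tg_146,tg_147,tg_148]) = true :=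
  rt_step ck_tg31 (by decide +kernel) rt_32

theorem rt_30 : C.runTargets tS_30 (tg_30 :: [tg_31,tg_32,tg_33,tg_34,tg_35,tg_36,tg_37,tg_38,tg_39,tg_40,tg_41,tg_42,tg_43,tg_44,tg_45,tg_46,tg_47,tg_48,tg_49,tg_50,tg_51,tg_52,tg_53,tg_54,tg_55,tg_56,tg_57,tg_58,tg_59,tg_60,tg_61,tg_62,tg_63,tg_64,tg_65,tg_66,tg_67,tg_68,tg_69,tg_70,tg_71,tg_72,tg_73,tg_74,tg_75,tg_76,tg_77,tg_78,tg_79,tg_80,tg_81,tg_82,tg_83,tg_84,tg_85,tg_86,tg_87,tg_88,tg_89,tg_90,tg_91,tg_92,tg_93,tg_94,tg_95,tg_96,tg_97,tg_98,tg_99,tg_100,tg_101,tg_102,tg_103,tg_104,tg_105,tg_106,tg_107,tg_108,tg_109,tg_110,tg_111,tg_112,tg_113,tg_114,tg_115,tg_116,tg_117,tg_118,tg_119,tg_120,tg_121,tg_122,tg_123,tg_124,tg_125,tg_126,tg_127,tg_128,tg_129,tg_130,tg_131,tg_132,tg_133,tg_134,tg_135,tg_136,tg_137,tg_138,tg_139,tg_140,tg_141,tg_142,tg_143,tg_144,tg_145,tg_146,tg_147,tg_148]) = true :=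
  rt_step ck_tg30 (by decide +kernel) rt_31

theorem rt_29 : C.runTargets tS_29 (tg_29 :: [tg_30,tg_31,tg_32,tg_33,tg_34,tg_35,tg_36,tg_37,tg_38,tg_39,tg_40,tg_41,tg_42,tg_43,tg_44,tg_45,tg_46,tg_47,tg_48,tg_49,tg_50,tg_51,tg_52,tg_53,tg_54,tg_55,tg_56,tg_57,tg_58,tg_59,tg_60,tg_61,tg_62,tg_63,tg_64,tg_65,tg_66,tg_67,tg_68,tg_69,tg_70,tg_71,tg_72,tg_73,tg_74,tg_75,tg_76,tg_77,tg_78,tg_79,tg_80,tg_81,tg_82,tg_83,tg_84,tg_85,tg_86,tg_87,tg_88,tg_89,tg_90,tg_91,tg_92,tg_93,tg_94,tg_95,tg_96,tg_97,tg_98,tg_99,tg_100,tg_101,tg_102,tg_103,tg_104,tg_105,tg_106,tg_107,tg_108,tg_109,tg_110,tg_111,tg_112,tg_113,tg_114,tg_115,tg_116,tg_117,tg_118,tg_119,tg_120,tg_121,tg_122,tg_123,tg_124,tg_125,tg_126,tg_127,tg_128,tg_129,tg_130,tg_131,tg_132,tg_133,tg_134,tg_135,tg_136,tg_137,tg_138,tg_139,tg_140,tg_141,tg_142,tg_143,tg_144,tg_145,tg_146,tg_147,tg_148]) = true :=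
  rt_step ck_tg29 (by decide +kernel) rt_30

theorem rt_28 : C.runTargets tS_28 (tg_28 :: [tg_29,tg_30,tg_31,tg_32,tg_33,tg_34,tg_35,tg_36,tg_37,tg_38,tg_39,tg_40,tg_41,tg_42,tg_43,tg_44,tg_45,tg_46,tg_47,tg_48,tg_49,tg_50,tg_51,tg_52,tg_53,tg_54,tg_55,tg_56,tg_57,tg_58,tg_59,tg_60,tg_61,tg_62,tg_63,tg_64,tg_65,tg_66,tg_67,tg_68,tg_69,tg_70,tg_71,tg_72,tg_73,tg_74,tg_75,tg_76,tg_77,tg_78,tg_79,tg_80,tg_81,tg_82,tg_83,tg_84,tg_85,tg_86,tg_87,tg_88,tg_89,tg_90,tg_91,tg_92,tg_93,tg_94,tg_95,tg_96,tg_97,tg_98,tg_99,tg_100,tg_101,tg_102,tg_103,tg_104,tg_105,tg_106,tg_107,tg_108,tg_109,tg_110,tg_111,tg_112,tg_113,tg_114,tg_115,tg_116,tg_117,tg_118,tg_119,tg_120,tg_121,tg_122,tg_123,tg_124,tg_125,tg_126,tg_127,tg_128,tg_129,tg_130,tg_131,tg_132,tg_133,tg_134,tg_135,tg_136,tg_137,tg_138,tg_139,tg_140,tg_141,tg_142,tg_143,tg_144,tg_145,tg_146,tg_147,tg_148]) = true :=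
  rt_step ck_tg28 (by decide +kernel) rt_29

theorem rt_27 : C.runTargets tS_27 (tg_27 :: [tg_28,tg_29,tg_30,tg_31,tg_32,tg_33,tg_34,tg_35,tg_36,tg_37,tg_38,tg_39,tg_40,tg_41,tg_42,tg_43,tg_44,tg_45,tg_46,tg_47,tg_48,tg_49,tg_50,tg_51,tg_52,tg_53,tg_54,tg_55,tg_56,tg_57,tg_58,tg_59,tg_60,tg_61,tg_62,tg_63,tg_64,tg_65,tg_66,tg_67,tg_68,tg_69,tg_70,tg_71,tg_72,tg_73,tg_74,tg_75,tg_76,tg_77,tg_78,tg_79,tg_80,tg_81,tg_82,tg_83,tg_84,tg_85,tg_86,tg_87,tg_88,tg_89,tg_90,tg_91,tg_92,tg_93,tg_94,tg_95,tg_96,tg_97,tg_98,tg_99,tg_100,tg_101,tg_102,tg_103,tg_104,tg_105,tg_106,tg_107,tg_108,tg_109,tg_110,tg_111,tg_112,tg_113,tg_114,tg_115,tg_116,tg_117,tg_118,tg_119,tg_120,tg_121,tg_122,tg_123,tg_124,tg_125,tg_126,tg_127,tg_128,tg_129,tg_130,tg_131,tg_132,tg_133,tg_134,tg_135,tg_136,tg_137,tg_138,tg_139,tg_140,tg_141,tg_142,tg_143,tg_144,tg_145,tg_146,tg_147,tg_148]) = true :=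
  rt_step ck_tg27 (by decide +kernel) rt_28

theorem rt_26 : C.runTargets tS_26 (tg_26 :: [tg_27,tg_28,tg_29,tg_30,tg_31,tg_32,tg_33,tg_34,tg_35,tg_36,tg_37,tg_38,tg_39,tg_40,tg_41,tg_42,tg_43,tg_44,tg_45,tg_46,tg_47,tg_48,tg_49,tg_50,tg_51,tg_52,tg_53,tg_54,tg_55,tg_56,tg_57,tg_58,tg_59,tg_60,tg_61,tg_62,tg_63,tg_64,tg_65,tg_66,tg_67,tg_68,tg_69,tg_70,tg_71,tg_72,tg_73,tg_74,tg_75,tg_76,tg_77,tg_78,tg_79,tg_80,tg_81,tg_82,tg_83,tg_84,tg_85,tg_86,tg_87,tg_88,tg_89,tg_90,tg_91,tg_92,tg_93,tg_94,tg_95,tg_96,tg_97,tg_98,tg_99,tg_100,tg_101,tg_102,tg_103,tg_104,tg_105,tg_106,tg_107,tg_108,tg_109,tg_110,tg_111,tg_112,tg_113,tg_114,tg_115,tg_116,tg_117,tg_118,tg_119,tg_120,tg_121,tg_122,tg_123,tg_124,tg_125,tg_126,tg_127,tg_128,tg_129,tg_130,tg_131,tg_132,tg_133,tg_134,tg_135,tg_136,tg_137,tg_138,tg_139,tg_140,tg_141,tg_142,tg_143,tg_144,tg_145,tg_146,tg_147,tg_148]) = true :=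
  rt_step ck_tg26 (by decide +kernel) rt_27

theorem rt_25 : C.runTargets tS_25 (tg_25 :: [tg_26,tg_27,tg_28,tg_29,tg_30,tg_31,tg_32,tg_33,tg_34,tg_35,tg_36,tg_37,tg_38,tg_39,tg_40,tg_41,tg_42,tg_43,tg_44,tg_45,tg_46,tg_47,tg_48,tg_49,tg_50,tg_51,tg_52,tg_53,tg_54,tg_55,tg_56,tg_57,tg_58,tg_59,tg_60,tg_61,tg_62,tg_63,tg_64,tg_65,tg_66,tg_67,tg_68,tg_69,tg_70,tg_71,tg_72,tg_73,tg_74,tg_75,tg_76,tg_77,tg_78,tg_79,tg_80,tg_81,tg_82,tg_83,tg_84,tg_85,tg_86,tg_87,tg_88,tg_89,tg_90,tg_91,tg_92,tg_93,tg_94,tg_95,tg_96,tg_97,tg_98,tg_99,tg_100,tg_101,tg_102,tg_103,tg_104,tg_105,tg_106,tg_107,tg_108,tg_109,tg_110,tg_111,tg_112,tg_113,tg_114,tg_115,tg_116,tg_117,tg_118,tg_119,tg_120,tg_121,tg_122,tg_123,tg_124,tg_125,tg_126,tg_127,tg_128,tg_129,tg_130,tg_131,tg_132,tg_133,tg_134,tg_135,tg_136,tg_137,tg_138,tg_139,tg_140,tg_141,tg_142,tg_143,tg_144,tg_145,tg_146,tg_147,tg_148]) = true :=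
  rt_step ck_tg25 (by decide +kernel) rt_26

theorem rt_24 : C.runTargets tS_24 (tg_24 :: [tg_25,tg_26,tg_27,tg_28,tg_29,tg_30,tg_31,tg_32,tg_33,tg_34,tg_35,tg_36,tg_37,tg_38,tg_39,tg_40,tg_41,tg_42,tg_43,tg_44,tg_45,tg_46,tg_47,tg_48,tg_49,tg_50,tg_51,tg_52,tg_53,tg_54,tg_55,tg_56,tg_57,tg_58,tg_59,tg_60,tg_61,tg_62,tg_63,tg_64,tg_65,tg_66,tg_67,tg_68,tg_69,tg_70,tg_71,tg_72,tg_73,tg_74,tg_75,tg_76,tg_77,tg_78,tg_79,tg_80,tg_81,tg_82,tg_83,tg_84,tg_85,tg_86,tg_87,tg_88,tg_89,tg_90,tg_91,tg_92,tg_93,tg_94,tg_95,tg_96,tg_97,tg_98,tg_99,tg_100,tg_101,tg_102,tg_103,tg_104,tg_105,tg_106,tg_107,tg_108,tg_109,tg_110,tg_111,tg_112,tg_113,tg_114,tg_115,tg_116,tg_117,tg_118,tg_119,tg_120,tg_121,tg_122,tg_123,tg_124,tg_125,tg_126,tg_127,tg_128,tg_129,tg_130,tg_131,tg_132,tg_133,tg_134,tg_135,tg_136,tg_137,tg_138,tg_139,tg_140,tg_141,tg_142,tg_143,tg_144,tg_145,tg_146,tg_147,tg_148]) = true :=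
  rt_step ck_tg24 (by decide +kernel) rt_25

theorem rt_23 : C.runTargets tS_23 (tg_23 :: [tg_24,tg_25,tg_26,tg_27,tg_28,tg_29,tg_30,tg_31,tg_32,tg_33,tg_34,tg_35,tg_36,tg_37,tg_38,tg_39,tg_40,tg_41,tg_42,tg_43,tg_44,tg_45,tg_46,tg_47,tg_48,tg_49,tg_50,tg_51,tg_52,tg_53,tg_54,tg_55,tg_56,tg_57,tg_58,tg_59,tg_60,tg_61,tg_62,tg_63,tg_64,tg_65,tg_66,tg_67,tg_68,tg_69,tg_70,tg_71,tg_72,tg_73,tg_74,tg_75,tg_76,tg_77,tg_78,tg_79,tg_80,tg_81,tg_82,tg_83,tg_84,tg_85,tg_86,tg_87,tg_88,tg_89,tg_90,tg_91,tg_92,tg_93,tg_94,tg_95,tg_96,tg_97,tg_98,tg_99,tg_100,tg_101,tg_102,tg_103,tg_104,tg_105,tg_106,tg_107,tg_108,tg_109,tg_110,tg_111,tg_112,tg_113,tg_114,tg_115,tg_116,tg_117,tg_118,tg_119,tg_120,tg_121,tg_122,tg_123,tg_124,tg_125,tg_126,tg_127,tg_128,tg_129,tg_130,tg_131,tg_132,tg_133,tg_134,tg_135,tg_136,tg_137,tg_138,tg_139,tg_140,tg_141,tg_142,tg_143,tg_144,tg_145,tg_146,tg_147,tg_148]) = true :=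
  rt_step ck_tg23 (by decide +kernel) rt_24

theorem rt_22 : C.runTargets tS_22 (tg_22 :: [tg_23,tg_24,tg_25,tg_26,tg_27,tg_28,tg_29,tg_30,tg_31,tg_32,tg_33,tg_34,tg_35,tg_36,tg_37,tg_38,tg_39,tg_40,tg_41,tg_42,tg_43,tg_44,tg_45,tg_46,tg_47,tg_48,tg_49,tg_50,tg_51,tg_52,tg_53,tg_54,tg_55,tg_56,tg_57,tg_58,tg_59,tg_60,tg_61,tg_62,tg_63,tg_64,tg_65,tg_66,tg_67,tg_68,tg_69,tg_70,tg_71,tg_72,tg_73,tg_74,tg_75,tg_76,tg_77,tg_78,tg_79,tg_80,tg_81,tg_82,tg_83,tg_84,tg_85,tg_86,tg_87,tg_88,tg_89,tg_90,tg_91,tg_92,tg_93,tg_94,tg_95,tg_96,tg_97,tg_98,tg_99,tg_100,tg_101,tg_102,tg_103,tg_104,tg_105,tg_106,tg_107,tg_108,tg_109,tg_110,tg_111,tg_112,tg_113,tg_114,tg_115,tg_116,tg_117,tg_118,tg_119,tg_120,tg_121,tg_122,tg_123,tg_124,tg_125,tg_126,tg_127,tg_128,tg_129,tg_130,tg_131,tg_132,tg_133,tg_134,tg_135,tg_136,tg_137,tg_138,tg_139,tg_140,tg_141,tg_142,tg_143,tg_144,tg_145,tg_146,tg_147,tg_148]) = true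 :=
  rt_step ck_tg22 (by decide +kernel) rt_23

theorem rt_21 : C.runTargets tS_21 (tg_21 :: [tg_22,tg_23,tg_24,tg_25,tg_26,tg_27,tg_28,tg_29,tg_30,tg_31,tg_32,tg_33,tg_34,tg_35,tg_36,tg_37,tg_38,tg_39,tg_40,tg_41,tg_42,tg_43,tg_44,tg_45,tg_46,tg_47,tg_48,tg_49,tg_50,tg_51,tg_52,tg_53,tg_54,tg_55,tg_56,tg_57,tg_58,tg_59,tg_60,tg_61,tg_62,tg_63,tg_64,tg_65,tg_66,tg_67,tg_68,tg_69,tg_70,tg_71,tg_72,tg_73,tg_74,tg_75,tg_76,tg_77,tg_78,tg_79,tg_80,tg_81,tg_82,tg_83,tg_84,tg_85,tg_86,tg_87,tg_88,tg_89,tg_90,tg_91,tg_92,tg_93,tg_94,tg_95,tg_96,tg_97,tg_98,tg_99,tg_100,tg_101,tg_102,tg_103,tg_104,tg_105,tg_106,tg_107,tg_108,tg_109,tg_110,tg_111,tg_112,tg_113,tg_114,tg_115,tg_116,tg_117,tg_118,tg_119,tg_120,tg_121,tg_122,tg_123,tg_124,tg_125,tg_126,tg_127,tg_128,tg_129,tg_130,tg_131,tg_132,tg_133,tg_134,tg_135,tg_136,tg_137,tg_138,tg_139,tg_140,tg_141,tg_142,tg_143,tg_144,tg_145,tg_146,tg_147,tg_148])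 = true :=
  rt_step ck_tg21 (by decide +kernel) rt_22

theorem rt_20 : C.runTargets tS_20 (tg_20 :: [tg_21,tg_22,tg_23,tg_24,tg_25,tg_26,tg_27,tg_28,tg_29,tg_30,tg_31,tg_32,tg_33,tg_34,tg_35,tg_36,tg_37,tg_38,tg_39,tg_40,tg_41,tg_42,tg_43,tg_44,tg_45,tg_46,tg_47,tg_48,tg_49,tg_50,tg_51,tg_52,tg_53,tg_54,tg_55,tg_56,tg_57,tg_58,tg_59,tg_60,tg_61,tg_62,tg_63,tg_64,tg_65,tg_66,tg_67,tg_68,tg_69,tg_70,tg_71,tg_72,tg_73,tg_74,tg_75,tg_76,tg_77,tg_78,tg_79,tg_80,tg_81,tg_82,tg_83,tg_84,tg_85,tg_86,tg_87,tg_88,tg_89,tg_90,tg_91,tg_92,tg_93,tg_94,tg_95,tg_96,tg_97,tg_98,tg_99,tg_100,tg_101,tg_102,tg_103,tg_104,tg_105,tg_106,tg_107,tg_108,tg_109,tg_110,tg_111,tg_112,tg_113,tg_114,tg_115,tg_116,tg_117,tg_118,tg_119,tg_120,tg_121,tg_122,tg_123,tg_124,tg_125,tg_126,tg_127,tg_128,tg_129,tg_130,tg_131,tg_132,tg_133,tg_134,tg_135,tg_136,tg_137,tg_138,tg_139,tg_140,tg_141,tg_142,tg_143,tg_144,tg_145,tg_146,tg_147,tg_148])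 = true :=
  rt_step ck_tg20 (by decide +kernel) rt_21

theorem rt_19 : C.runTargets tS_19 (tg_19 :: [tg_20,tg_21,tg_22,tg_23,tg_24,tg_25,tg_26,tg_27,tg_28,tg_29,tg_30,tg_31,tg_32,tg_33,tg_34,tg_35,tg_36,tg_37,tg_38,tg_39,tg_40,tg_41,tg_42,tg_43,tg_44,tg_45,tg_46,tg_47,tg_48,tg_49,tg_50,tg_51,tg_52,tg_53,tg_54,tg_55,tg_56,tg_57,tg_58,tg_59,tg_60,tg_61,tg_62,tg_63,tg_64,tg_65,tg_66,tg_67,tg_68,tg_69,tg_70,tg_71,tg_72,tg_73,tg_74,tg_75,tg_76,tg_77,tg_78,tg_79,tg_80,tg_81,tg_82,tg_83,tg_84,tg_85,tg_86,tg_87,tg_88,tg_89,tg_90,tg_91,tg_92,tg_93,tg_94,tg_95,tg_96,tg_97,tg_98,tg_99,tg_100,tg_101,tg_102,tg_103,tg_104,tg_105,tg_106,tg_107,tg_108,tg_109,tg_110,tg_111,tg_112,tg_113,tg_114,tg_115,tg_116,tg_117,tg_118,tg_119,tg_120,tg_121,tg_122,tg_123,tg_124,tg_125,tg_126,tg_127,tg_128,tg_129,tg_130,tg_131,tg_132,tg_133,tg_134,tg_135,tg_136,tg_137,tg_138,tg_139,tg_140,tg_141,tg_142,tg_143,tg_144,tg_145,tg_146,tg_147,tg_148])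 = true :=
  rt_step ck_tg19 (by decide +kernel) rt_20

theorem rt_18 : C.runTargets tS_18 (tg_18 :: [tg_19,tg_20,tg_21,tg_22,tg_23,tg_24,tg_25,tg_26,tg_27,tg_28,tg_29,tg_30,tg_31,tg_32,tg_33,tg_34,tg_35,tg_36,tg_37,tg_38,tg_39,tg_40,tg_41,tg_42,tg_43,tg_44,tg_45,tg_46,tg_47,tg_48,tg_49,tg_50,tg_51,tg_52,tg_53,tg_54,tg_55,tg_56,tg_57,tg_58,tg_59,tg_60,tg_61,tg_62,tg_63,tg_64,tg_65,tg_66,tg_67,tg_68,tg_69,tg_70,tg_71,tg_72,tg_73,tg_74,tg_75,tg_76,tg_77,tg_78,tg_79,tg_80,tg_81,tg_82,tg_83,tg_84,tg_85,tg_86,tg_87,tg_88,tg_89,tg_90,tg_91,tg_92,tg_93,tg_94,tg_95,tg_96,tg_97,tg_98,tg_99,tg_100,tg_101,tg_102,tg_103,tg_104,tg_105,tg_106,tg_107,tg_108,tg_109,tg_110,tg_111,tg_112,tg_113,tg_114,tg_115,tg_116,tg_117,tg_118,tg_119,tg_120,tg_121,tg_122,tg_123,tg_124,tg_125,tg_126,tg_127,tg_128,tg_129,tg_130,tg_131,tg_132,tg_133,tg_134,tg_135,tg_136,tg_137,tg_138,tg_139,tg_140,tg_141,tg_142,tg_143,tg_144,tg_145,tg_146,tg_147,tg_148])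 = true :=
  rt_step ck_tg18 (by decide +kernel) rt_19

theorem rt_17 : C.runTargets tS_17 (tg_17 :: [tg_18,tg_19,tg_20,tg_21,tg_22,tg_23,tg_24,tg_25,tg_26,tg_27,tg_28,tg_29,tg_30,tg_31,tg_32,tg_33,tg_34,tg_35,tg_36,tg_37,tg_38,tg_39,tg_40,tg_41,tg_42,tg_43,tg_44,tg_45,tg_46,tg_47,tg_48,tg_49,tg_50,tg_51,tg_52,tg_53,tg_54,tg_55,tg_56,tg_57,tg_58,tg_59,tg_60,tg_61,tg_62,tg_63,tg_64,tg_65,tg_66,tg_67,tg_68,tg_69,tg_70,tg_71,tg_72,tg_73,tg_74,tg_75,tg_76,tg_77,tg_78,tg_79,tg_80,tg_81,tg_82,tg_83,tg_84,tg_85,tg_86,tg_87,tg_88,tg_89,tg_90,tg_91,tg_92,tg_93,tg_94,tg_95,tg_96,tg_97,tg_98,tg_99,tg_100,tg_101,tg_102,tg_103,tg_104,tg_105,tg_106,tg_107,tg_108,tg_109,tg_110,tg_111,tg_112,tg_113,tg_114,tg_115,tg_116,tg_117,tg_118,tg_119,tg_120,tg_121,tg_122,tg_123,tg_124,tg_125,tg_126,tg_127,tg_128,tg_129,tg_130,tg_131,tg_132,tg_133,tg_134,tg_135,tg_136,tg_137,tg_138,tg_139,tg_140,tg_141,tg_142,tg_143,tg_144,tg_145,tg_146,tg_147,tg_148])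 = true :=
  rt_step ck_tg17 (by decide +kernel) rt_18

theorem rt_16 : C.runTargets tS_16 (tg_16 :: [tg_17,tg_18,tg_19,tg_20,tg_21,tg_22,tg_23,tg_24,tg_25,tg_26,tg_27,tg_28,tg_29,tg_30,tg_31,tg_32,tg_33,tg_34,tg_35,tg_36,tg_37,tg_38,tg_39,tg_40,tg_41,tg_42,tg_43,tg_44,tg_45,tg_46,tg_47,tg_48,tg_49,tg_50,tg_51,tg_52,tg_53,tg_54,tg_55,tg_56,tg_57,tg_58,tg_59,tg_60,tg_61,tg_62,tg_63,tg_64,tg_65,tg_66,tg_67,tg_68,tg_69,tg_70,tg_71,tg_72,tg_73,tg_74,tg_75,tg_76,tg_77,tg_78,tg_79,tg_80,tg_81,tg_82,tg_83,tg_84,tg_85,tg_86,tg_87,tg_88,tg_89,tg_90,tg_91,tg_92,tg_93,tg_94,tg_95,tg_96,tg_97,tg_98,tg_99,tg_100,tg_101,tg_102,tg_103,tg_104,tg_105,tg_106,tg_107,tg_108,tg_109,tg_110,tg_111,tg_112,tg_113,tg_114,tg_115,tg_116,tg_117,tg_118,tg_119,tg_120,tg_121,tg_122,tg_123,tg_124,tg_125,tg_126,tg_127,tg_128,tg_129,tg_130,tg_131,tg_132,tg_133,tg_134,tg_135,tg_136,tg_137,tg_138,tg_139,tg_140,tg_141,tg_142,tg_143,tg_144,tg_145,tg_146,tg_147,tg_148])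 = true :=
  rt_step ck_tg16 (by decide +kernel) rt_17

theorem rt_15 : C.runTargets tS_15 (tg_15 :: [tg_16,tg_17,tg_18,tg_19,tg_20,tg_21,tg_22,tg_23,tg_24,tg_25,tg_26,tg_27,tg_28,tg_29,tg_30,tg_31,tg_32,tg_33,tg_34,tg_35,tg_36,tg_37,tg_38,tg_39,tg_40,tg_41,tg_42,tg_43,tg_44,tg_45,tg_46,tg_47,tg_48,tg_49,tg_50,tg_51,tg_52,tg_53,tg_54,tg_55,tg_56,tg_57,tg_58,tg_59,tg_60,tg_61,tg_62,tg_63,tg_64,tg_65,tg_66,tg_67,tg_68,tg_69,tg_70,tg_71,tg_72,tg_73,tg_74,tg_75,tg_76,tg_77,tg_78,tg_79,tg_80,tg_81,tg_82,tg_83,tg_84,tg_85,tg_86,tg_87,tg_88,tg_89,tg_90,tg_91,tg_92,tg_93,tg_94,tg_95,tg_96,tg_97,tg_98,tg_99,tg_100,tg_101,tg_102,tg_103,tg_104,tg_105,tg_106,tg_107,tg_108,tg_109,tg_110,tg_111,tg_112,tg_113,tg_114,tg_115,tg_116,tg_117,tg_118,tg_119,tg_120,tg_121,tg_122,tg_123,tg_124,tg_125,tg_126,tg_127,tg_128,tg_129,tg_130,tg_131,tg_132,tg_133,tg_134,tg_135,tg_136,tg_137,tg_138,tg_139,tg_140,tg_141,tg_142,tg_143,tg_144,tg_145,tg_146,tg_147,tg_148])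 = true :=
  rt_step ck_tg15 (by decide +kernel) rt_16

theorem rt_14 : C.runTargets tS_14 (tg_14 :: [tg_15,tg_16,tg_17,tg_18,tg_19,tg_20,tg_21,tg_22,tg_23,tg_24,tg_25,tg_26,tg_27,tg_28,tg_29,tg_30,tg_31,tg_32,tg_33,tg_34,tg_35,tg_36,tg_37,tg_38,tg_39,tg_40,tg_41,tg_42,tg_43,tg_44,tg_45,tg_46,tg_47,tg_48,tg_49,tg_50,tg_51,tg_52,tg_53,tg_54,tg_55,tg_56,tg_57,tg_58,tg_59,tg_60,tg_61,tg_62,tg_63,tg_64,tg_65,tg_66,tg_67,tg_68,tg_69,tg_70,tg_71,tg_72,tg_73,tg_74,tg_75,tg_76,tg_77,tg_78,tg_79,tg_80,tg_81,tg_82,tg_83,tg_84,tg_85,tg_86,tg_87,tg_88,tg_89,tg_90,tg_91,tg_92,tg_93,tg_94,tg_95,tg_96,tg_97,tg_98,tg_99,tg_100,tg_101,tg_102,tg_103,tg_104,tg_105,tg_106,tg_107,tg_108,tg_109,tg_110,tg_111,tg_112,tg_113,tg_114,tg_115,tg_116,tg_117,tg_118,tg_119,tg_120,tg_121,tg_122,tg_123,tg_124,tg_125,tg_126,tg_127,tg_128,tg_129,tg_130,tg_131,tg_132,tg_133,tg_134,tg_135,tg_136,tg_137,tg_138,tg_139,tg_140,tg_141,tg_142,tg_143,tg_144,tg_145,tg_146,tg_147,tg_148])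 = true :=
  rt_step ck_tg14 (by decide +kernel) rt_15

theorem rt_13 : C.runTargets tS_13 (tg_13 :: [tg_14,tg_15,tg_16,tg_17,tg_18,tg_19,tg_20,tg_21,tg_22,tg_23,tg_24,tg_25,tg_26,tg_27,tg_28,tg_29,tg_30,tg_31,tg_32,tg_33,tg_34,tg_35,tg_36,tg_37,tg_38,tg_39,tg_40,tg_41,tg_42,tg_43,tg_44,tg_45,tg_46,tg_47,tg_48,tg_49,tg_50,tg_51,tg_52,tg_53,tg_54,tg_55,tg_56,tg_57,tg_58,tg_59,tg_60,tg_61,tg_62,tg_63,tg_64,tg_65,tg_66,tg_67,tg_68,tg_69,tg_70,tg_71,tg_72,tg_73,tg_74,tg_75,tg_76,tg_77,tg_78,tg_79,tg_80,tg_81,tg_82,tg_83,tg_84,tg_85,tg_86,tg_87,tg_88,tg_89,tg_90,tg_91,tg_92,tg_93,tg_94,tg_95,tg_96,tg_97,tg_98,tg_99,tg_100,tg_101,tg_102,tg_103,tg_104,tg_105,tg_106,tg_107,tg_108,tg_109,tg_110,tg_111,tg_112,tg_113,tg_114,tg_115,tg_116,tg_117,tg_118,tg_119,tg_120,tg_121,tg_122,tg_123,tg_124,tg_125,tg_126,tg_127,tg_128,tg_129,tg_130,tg_131,tg_132,tg_133,tg_134,tg_135,tg_136,tg_137,tg_138,tg_139,tg_140,tg_141,tg_142,tg_143,tg_144,tg_145,tg_146,tg_147,tg_148])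 = true :=
  rt_step ck_tg13 (by decide +kernel) rt_14

theorem rt_12 : C.runTargets tS_12 (tg_12 :: [tg_13,tg_14,tg_15,tg_16,tg_17,tg_18,tg_19,tg_20,tg_21,tg_22,tg_23,tg_24,tg_25,tg_26,tg_27,tg_28,tg_29,tg_30,tg_31,tg_32,tg_33,tg_34,tg_35,tg_36,tg_37,tg_38,tg_39,tg_40,tg_41,tg_42,tg_43,tg_44,tg_45,tg_46,tg_47,tg_48,tg_49,tg_50,tg_51,tg_52,tg_53,tg_54,tg_55,tg_56,tg_57,tg_58,tg_59,tg_60,tg_61,tg_62,tg_63,tg_64,tg_65,tg_66,tg_67,tg_68,tg_69,tg_70,tg_71,tg_72,tg_73,tg_74,tg_75,tg_76,tg_77,tg_78,tg_79,tg_80,tg_81,tg_82,tg_83,tg_84,tg_85,tg_86,tg_87,tg_88,tg_89,tg_90,tg_91,tg_92,tg_93,tg_94,tg_95,tg_96,tg_97,tg_98,tg_99,tg_100,tg_101,tg_102,tg_103,tg_104,tg_105,tg_106,tg_107,tg_108,tg_109,tg_110,tg_111,tg_112,tg_113,tg_114,tg_115,tg_116,tg_117,tg_118,tg_119,tg_120,tg_121,tg_122,tg_123,tg_124,tg_125,tg_126,tg_127,tg_128,tg_129,tg_130,tg_131,tg_132,tg_133,tg_134,tg_135,tg_136,tg_137,tg_138,tg_139,tg_140,tg_141,tg_142,tg_143,tg_144,tg_145,tg_146,tg_147,tg_148])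 = true :=
  rt_step ck_tg12 (by decide +kernel) rt_13

theorem rt_11 : C.runTargets tS_11 (tg_11 :: [tg_12,tg_13,tg_14,tg_15,tg_16,tg_17,tg_18,tg_19,tg_20,tg_21,tg_22,tg_23,tg_24,tg_25,tg_26,tg_27,tg_28,tg_29,tg_30,tg_31,tg_32,tg_33,tg_34,tg_35,tg_36,tg_37,tg_38,tg_39,tg_40,tg_41,tg_42,tg_43,tg_44,tg_45,tg_46,tg_47,tg_48,tg_49,tg_50,tg_51,tg_52,tg_53,tg_54,tg_55,tg_56,tg_57,tg_58,tg_59,tg_60,tg_61,tg_62,tg_63,tg_64,tg_65,tg_66,tg_67,tg_68,tg_69,tg_70,tg_71,tg_72,tg_73,tg_74,tg_75,tg_76,tg_77,tg_78,tg_79,tg_80,tg_81,tg_82,tg_83,tg_84,tg_85,tg_86,tg_87,tg_88,tg_89,tg_90,tg_91,tg_92,tg_93,tg_94,tg_95,tg_96,tg_97,tg_98,tg_99,tg_100,tg_101,tg_102,tg_103,tg_104,tg_105,tg_106,tg_107,tg_108,tg_109,tg_110,tg_111,tg_112,tg_113,tg_114,tg_115,tg_116,tg_117,tg_118,tg_119,tg_120,tg_121,tg_122,tg_123,tg_124,tg_125,tg_126,tg_127,tg_128,tg_129,tg_130,tg_131,tg_132,tg_133,tg_134,tg_135,tg_136,tg_137,tg_138,tg_139,tg_140,tg_141,tg_142,tg_143,tg_144,tg_145,tg_146,tg_147,tg_148])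 = true :=
  rt_step ck_tg11 (by decide +kernel) rt_12

theorem rt_10 : C.runTargets tS_10 (tg_10 :: [tg_11,tg_12,tg_13,tg_14,tg_15,tg_16,tg_17,tg_18,tg_19,tg_20,tg_21,tg_22,tg_23,tg_24,tg_25,tg_26,tg_27,tg_28,tg_29,tg_30,tg_31,tg_32,tg_33,tg_34,tg_35,tg_36,tg_37,tg_38,tg_39,tg_40,tg_41,tg_42,tg_43,tg_44,tg_45,tg_46,tg_47,tg_48,tg_49,tg_50,tg_51,tg_52,tg_53,tg_54,tg_55,tg_56,tg_57,tg_58,tg_59,tg_60,tg_61,tg_62,tg_63,tg_64,tg_65,tg_66,tg_67,tg_68,tg_69,tg_70,tg_71,tg_72,tg_73,tg_74,tg_75,tg_76,tg_77,tg_78,tg_79,tg_80,tg_81,tg_82,tg_83,tg_84,tg_85,tg_86,tg_87,tg_88,tg_89,tg_90,tg_91,tg_92,tg_93,tg_94,tg_95,tg_96,tg_97,tg_98,tg_99,tg_100,tg_101,tg_102,tg_103,tg_104,tg_105,tg_106,tg_107,tg_108,tg_109,tg_110,tg_111,tg_112,tg_113,tg_114,tg_115,tg_116,tg_117,tg_118,tg_119,tg_120,tg_121,tg_122,tg_123,tg_124,tg_125,tg_126,tg_127,tg_128,tg_129,tg_130,tg_131,tg_132,tg_133,tg_134,tg_135,tg_136,tg_137,tg_138,tg_139,tg_140,tg_141,tg_142,tg_143,tg_144,tg_145,tg_146,tg_147,tg_148])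 = true :=
  rt_step ck_tg10 (by decide +kernel) rt_11

theorem rt_9 : C.runTargets tS_9 (tg_9 :: [tg_10,tg_11,tg_12,tg_13,tg_14,tg_15,tg_16,tg_17,tg_18,tg_19,tg_20,tg_21,tg_22,tg_23,tg_24,tg_25,tg_26,tg_27,tg_28,tg_29,tg_30,tg_31,tg_32,tg_33,tg_34,tg_35,tg_36,tg_37,tg_38,tg_39,tg_40,tg_41,tg_42,tg_43,tg_44,tg_45,tg_46,tg_47,tg_48,tg_49,tg_50,tg_51,tg_52,tg_53,tg_54,tg_55,tg_56,tg_57,tg_58,tg_59,tg_60,tg_61,tg_62,tg_63,tg_64,tg_65,tg_66,tg_67,tg_68,tg_69,tg_70,tg_71,tg_72,tg_73,tg_74,tg_75,tg_76,tg_77,tg_78,tg_79,tg_80,tg_81,tg_82,tg_83,tg_84,tg_85,tg_86,tg_87,tg_88,tg_89,tg_90,tg_91,tg_92,tg_93,tg_94,tg_95,tg_96,tg_97,tg_98,tg_99,tg_100,tg_101,tg_102,tg_103,tg_104,tg_105,tg_106,tg_107,tg_108,tg_109,tg_110,tg_111,tg_112,tg_113,tg_114,tg_115,tg_116,tg_117,tg_118,tg_119,tg_120,tg_121,tg_122,tg_123,tg_124,tg_125,tg_126,tg_127,tg_128,tg_129,tg_130,tg_131,tg_132,tg_133,tg_134,tg_135,tg_136,tg_137,tg_138,tg_139,tg_140,tg_141,tg_142,tg_143,tg_144,tg_145,tg_146,tg_147,tg_148])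 = true :=
  rt_step ck_tg9 (by decide +kernel) rt_10

theorem rt_8 : C.runTargets tS_8 (tg_8 :: [tg_9,tg_10,tg_11,tg_12,tg_13,tg_14,tg_15,tg_16,tg_17,tg_18,tg_19,tg_20,tg_21,tg_22,tg_23,tg_24,tg_25,tg_26,tg_27,tg_28,tg_29,tg_30,tg_31,tg_32,tg_33,tg_34,tg_35,tg_36,tg_37,tg_38,tg_39,tg_40,tg_41,tg_42,tg_43,tg_44,tg_45,tg_46,tg_47,tg_48,tg_49,tg_50,tg_51,tg_52,tg_53,tg_54,tg_55,tg_56,tg_57,tg_58,tg_59,tg_60,tg_61,tg_62,tg_63,tg_64,tg_65,tg_66,tg_67,tg_68,tg_69,tg_70,tg_71,tg_72,tg_73,tg_74,tg_75,tg_76,tg_77,tg_78,tg_79,tg_80,tg_81,tg_82,tg_83,tg_84,tg_85,tg_86,tg_87,tg_88,tg_89,tg_90,tg_91,tg_92,tg_93,tg_94,tg_95,tg_96,tg_97,tg_98,tg_99,tg_100,tg_101,tg_102,tg_103,tg_104,tg_105,tg_106,tg_107,tg_108,tg_109,tg_110,tg_111,tg_112,tg_113,tg_114,tg_115,tg_116,tg_117,tg_118,tg_119,tg_120,tg_121,tg_122,tg_123,tg_124,tg_125,tg_126,tg_127,tg_128,tg_129,tg_130,tg_131,tg_132,tg_133,tg_134,tg_135,tg_136,tg_137,tg_138,tg_139,tg_140,tg_141,tg_142,tg_143,tg_144,tg_145,tg_146,tg_147,tg_148])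 = true :=
  rt_step ck_tg8 (by decide +kernel) rt_9

theorem rt_7 : C.runTargets tS_7 (tg_7 :: [tg_8,tg_9,tg_10,tg_11,tg_12,tg_13,tg_14,tg_15,tg_16,tg_17,tg_18,tg_19,tg_20,tg_21,tg_22,tg_23,tg_24,tg_25,tg_26,tg_27,tg_28,tg_29,tg_30,tg_31,tg_32,tg_33,tg_34,tg_35,tg_36,tg_37,tg_38,tg_39,tg_40,tg_41,tg_42,tg_43,tg_44,tg_45,tg_46,tg_47,tg_48,tg_49,tg_50,tg_51,tg_52,tg_53,tg_54,tg_55,tg_56,tg_57,tg_58,tg_59,tg_60,tg_61,tg_62,tg_63,tg_64,tg_65,tg_66,tg_67,tg_68,tg_69,tg_70,tg_71,tg_72,tg_73,tg_74,tg_75,tg_76,tg_77,tg_78,tg_79,tg_80,tg_81,tg_82,tg_83,tg_84,tg_85,tg_86,tg_87,tg_88,tg_89,tg_90,tg_91,tg_92,tg_93,tg_94,tg_95,tg_96,tg_97,tg_98,tg_99,tg_100,tg_101,tg_102,tg_103,tg_104,tg_105,tg_106,tg_107,tg_108,tg_109,tg_110,tg_111,tg_112,tg_113,tg_114,tg_115,tg_116,tg_117,tg_118,tg_119,tg_120,tg_121,tg_122,tg_123,tg_124,tg_125,tg_126,tg_127,tg_128,tg_129,tg_130,tg_131,tg_132,tg_133,tg_134,tg_135,tg_136,tg_137,tg_138,tg_139,tg_140,tg_141,tg_142,tg_143,tg_144,tg_145,tg_146,tg_147,tg_148])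 = true :=
  rt_step ck_tg7 (by decide +kernel) rt_8

theorem rt_6 : C.runTargets tS_6 (tg_6 :: [tg_7,tg_8,tg_9,tg_10,tg_11,tg_12,tg_13,tg_14,tg_15,tg_16,tg_17,tg_18,tg_19,tg_20,tg_21,tg_22,tg_23,tg_24,tg_25,tg_26,tg_27,tg_28,tg_29,tg_30,tg_31,tg_32,tg_33,tg_34,tg_35,tg_36,tg_37,tg_38,tg_39,tg_40,tg_41,tg_42,tg_43,tg_44,tg_45,tg_46,tg_47,tg_48,tg_49,tg_50,tg_51,tg_52,tg_53,tg_54,tg_55,tg_56,tg_57,tg_58,tg_59,tg_60,tg_61,tg_62,tg_63,tg_64,tg_65,tg_66,tg_67,tg_68,tg_69,tg_70,tg_71,tg_72,tg_73,tg_74,tg_75,tg_76,tg_77,tg_78,tg_79,tg_80,tg_81,tg_82,tg_83,tg_84,tg_85,tg_86,tg_87,tg_88,tg_89,tg_90,tg_91,tg_92,tg_93,tg_94,tg_95,tg_96,tg_97,tg_98,tg_99,tg_100,tg_101,tg_102,tg_103,tg_104,tg_105,tg_106,tg_107,tg_108,tg_109,tg_110,tg_111,tg_112,tg_113,tg_114,tg_115,tg_116,tg_117,tg_118,tg_119,tg_120,tg_121,tg_122,tg_123,tg_124,tg_125,tg_126,tg_127,tg_128,tg_129,tg_130,tg_131,tg_132,tg_133,tg_134,tg_135,tg_136,tg_137,tg_138,tg_139,tg_140,tg_141,tg_142,tg_143,tg_144,tg_145,tg_146,tg_147,tg_148])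 = true :=
  rt_step ck_tg6 (by decide +kernel) rt_7

theorem rt_5 : C.runTargets tS_5 (tg_5 :: [tg_6,tg_7,tg_8,tg_9,tg_10,tg_11,tg_12,tg_13,tg_14,tg_15,tg_16,tg_17,tg_18,tg_19,tg_20,tg_21,tg_22,tg_23,tg_24,tg_25,tg_26,tg_27,tg_28,tg_29,tg_30,tg_31,tg_32,tg_33,tg_34,tg_35,tg_36,tg_37,tg_38,tg_39,tg_40,tg_41,tg_42,tg_43,tg_44,tg_45,tg_46,tg_47,tg_48,tg_49,tg_50,tg_51,tg_52,tg_53,tg_54,tg_55,tg_56,tg_57,tg_58,tg_59,tg_60,tg_61,tg_62,tg_63,tg_64,tg_65,tg_66,tg_67,tg_68,tg_69,tg_70,tg_71,tg_72,tg_73,tg_74,tg_75,tg_76,tg_77,tg_78,tg_79,tg_80,tg_81,tg_82,tg_83,tg_84,tg_85,tg_86,tg_87,tg_88,tg_89,tg_90,tg_91,tg_92,tg_93,tg_94,tg_95,tg_96,tg_97,tg_98,tg_99,tg_100,tg_101,tg_102,tg_103,tg_104,tg_105,tg_106,tg_107,tg_108,tg_109,tg_110,tg_111,tg_112,tg_113,tg_114,tg_115,tg_116,tg_117,tg_118,tg_119,tg_120,tg_121,tg_122,tg_123,tg_124,tg_125,tg_126,tg_127,tg_128,tg_129,tg_130,tg_131,tg_132,tg_133,tg_134,tg_135,tg_136,tg_137,tg_138,tg_139,tg_140,tg_141,tg_142,tg_143,tg_144,tg_145,tg_146,tg_147,tg_148])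 = true :=
  rt_step ck_tg5 (by decide +kernel) rt_6

theorem rt_4 : C.runTargets tS_4 (tg_4 :: [tg_5,tg_6,tg_7,tg_8,tg_9,tg_10,tg_11,tg_12,tg_13,tg_14,tg_15,tg_16,tg_17,tg_18,tg_19,tg_20,tg_21,tg_22,tg_23,tg_24,tg_25,tg_26,tg_27,tg_28,tg_29,tg_30,tg_31,tg_32,tg_33,tg_34,tg_35,tg_36,tg_37,tg_38,tg_39,tg_40,tg_41,tg_42,tg_43,tg_44,tg_45,tg_46,tg_47,tg_48,tg_49,tg_50,tg_51,tg_52,tg_53,tg_54,tg_55,tg_56,tg_57,tg_58,tg_59,tg_60,tg_61,tg_62,tg_63,tg_64,tg_65,tg_66,tg_67,tg_68,tg_69,tg_70,tg_71,tg_72,tg_73,tg_74,tg_75,tg_76,tg_77,tg_78,tg_79,tg_80,tg_81,tg_82,tg_83,tg_84,tg_85,tg_86,tg_87,tg_88,tg_89,tg_90,tg_91,tg_92,tg_93,tg_94,tg_95,tg_96,tg_97,tg_98,tg_99,tg_100,tg_101,tg_102,tg_103,tg_104,tg_105,tg_106,tg_107,tg_108,tg_109,tg_110,tg_111,tg_112,tg_113,tg_114,tg_115,tg_116,tg_117,tg_118,tg_119,tg_120,tg_121,tg_122,tg_123,tg_124,tg_125,tg_126,tg_127,tg_128,tg_129,tg_130,tg_131,tg_132,tg_133,tg_134,tg_135,tg_136,tg_137,tg_138,tg_139,tg_140,tg_141,tg_142,tg_143,tg_144,tg_145,tg_146,tg_147,tg_148])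 = true :=
  rt_step ck_tg4 (by decide +kernel) rt_5

theorem rt_3 : C.runTargets tS_3 (tg_3 :: [tg_4,tg_5,tg_6,tg_7,tg_8,tg_9,tg_10,tg_11,tg_12,tg_13,tg_14,tg_15,tg_16,tg_17,tg_18,tg_19,tg_20,tg_21,tg_22,tg_23,tg_24,tg_25,tg_26,tg_27,tg_28,tg_29,tg_30,tg_31,tg_32,tg_33,tg_34,tg_35,tg_36,tg_37,tg_38,tg_39,tg_40,tg_41,tg_42,tg_43,tg_44,tg_45,tg_46,tg_47,tg_48,tg_49,tg_50,tg_51,tg_52,tg_53,tg_54,tg_55,tg_56,tg_57,tg_58,tg_59,tg_60,tg_61,tg_62,tg_63,tg_64,tg_65,tg_66,tg_67,tg_68,tg_69,tg_70,tg_71,tg_72,tg_73,tg_74,tg_75,tg_76,tg_77,tg_78,tg_79,tg_80,tg_81,tg_82,tg_83,tg_84,tg_85,tg_86,tg_87,tg_88,tg_89,tg_90,tg_91,tg_92,tg_93,tg_94,tg_95,tg_96,tg_97,tg_98,tg_99,tg_100,tg_101,tg_102,tg_103,tg_104,tg_105,tg_106,tg_107,tg_108,tg_109,tg_110,tg_111,tg_112,tg_113,tg_114,tg_115,tg_116,tg_117,tg_118,tg_119,tg_120,tg_121,tg_122,tg_123,tg_124,tg_125,tg_126,tg_127,tg_128,tg_129,tg_130,tg_131,tg_132,tg_133,tg_134,tg_135,tg_136,tg_137,tg_138,tg_139,tg_140,tg_141,tg_142,tg_143,tg_144,tg_145,tg_146,tg_147,tg_148])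 = true :=
  rt_step ck_tg3 (by decide +kernel) rt_4

theorem rt_2 : C.runTargets tS_2 (tg_2 :: [tg_3,tg_4,tg_5,tg_6,tg_7,tg_8,tg_9,tg_10,tg_11,tg_12,tg_13,tg_14,tg_15,tg_16,tg_17,tg_18,tg_19,tg_20,tg_21,tg_22,tg_23,tg_24,tg_25,tg_26,tg_27,tg_28,tg_29,tg_30,tg_31,tg_32,tg_33,tg_34,tg_35,tg_36,tg_37,tg_38,tg_39,tg_40,tg_41,tg_42,tg_43,tg_44,tg_45,tg_46,tg_47,tg_48,tg_49,tg_50,tg_51,tg_52,tg_53,tg_54,tg_55,tg_56,tg_57,tg_58,tg_59,tg_60,tg_61,tg_62,tg_63,tg_64,tg_65,tg_66,tg_67,tg_68,tg_69,tg_70,tg_71,tg_72,tg_73,tg_74,tg_75,tg_76,tg_77,tg_78,tg_79,tg_80,tg_81,tg_82,tg_83,tg_84,tg_85,tg_86,tg_87,tg_88,tg_89,tg_90,tg_91,tg_92,tg_93,tg_94,tg_95,tg_96,tg_97,tg_98,tg_99,tg_100,tg_101,tg_102,tg_103,tg_104,tg_105,tg_106,tg_107,tg_108,tg_109,tg_110,tg_111,tg_112,tg_113,tg_114,tg_115,tg_116,tg_117,tg_118,tg_119,tg_120,tg_121,tg_122,tg_123,tg_124,tg_125,tg_126,tg_127,tg_128,tg_129,tg_130,tg_131,tg_132,tg_133,tg_134,tg_135,tg_136,tg_137,tg_138,tg_139,tg_140,tg_141,tg_142,tg_143,tg_144,tg_145,tg_146,tg_147,tg_148])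 = true :=
  rt_step ck_tg2 (by decide +kernel) rt_3

theorem rt_1 : C.runTargets tS_1 (tg_1 :: [tg_2,tg_3,tg_4,tg_5,tg_6,tg_7,tg_8,tg_9,tg_10,tg_11,tg_12,tg_13,tg_14,tg_15,tg_16,tg_17,tg_18,tg_19,tg_20,tg_21,tg_22,tg_23,tg_24,tg_25,tg_26,tg_27,tg_28,tg_29,tg_30,tg_31,tg_32,tg_33,tg_34,tg_35,tg_36,tg_37,tg_38,tg_39,tg_40,tg_41,tg_42,tg_43,tg_44,tg_45,tg_46,tg_47,tg_48,tg_49,tg_50,tg_51,tg_52,tg_53,tg_54,tg_55,tg_56,tg_57,tg_58,tg_59,tg_60,tg_61,tg_62,tg_63,tg_64,tg_65,tg_66,tg_67,tg_68,tg_69,tg_70,tg_71,tg_72,tg_73,tg_74,tg_75,tg_76,tg_77,tg_78,tg_79,tg_80,tg_81,tg_82,tg_83,tg_84,tg_85,tg_86,tg_87,tg_88,tg_89,tg_90,tg_91,tg_92,tg_93,tg_94,tg_95,tg_96,tg_97,tg_98,tg_99,tg_100,tg_101,tg_102,tg_103,tg_104,tg_105,tg_106,tg_107,tg_108,tg_109,tg_110,tg_111,tg_112,tg_113,tg_114,tg_115,tg_116,tg_117,tg_118,tg_119,tg_120,tg_121,tg_122,tg_123,tg_124,tg_125,tg_126,tg_127,tg_128,tg_129,tg_130,tg_131,tg_132,tg_133,tg_134,tg_135,tg_136,tg_137,tg_138,tg_139,tg_140,tg_141,tg_142,tg_143,tg_144,tg_145,tg_146,tg_147,tg_148])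 = true :=
  rt_step ck_tg1 (by decide +kernel) rt_2

theorem rt_0 : C.runTargets tS_0 (tg_0 :: [tg_1,tg_2,tg_3,tg_4,tg_5,tg_6,tg_7,tg_8,tg_9,tg_10,tg_11,tg_12,tg_13,tg_14,tg_15,tg_16,tg_17,tg_18,tg_19,tg_20,tg_21,tg_22,tg_23,tg_24,tg_25,tg_26,tg_27,tg_28,tg_29,tg_30,tg_31,tg_32,tg_33,tg_34,tg_35,tg_36,tg_37,tg_38,tg_39,tg_40,tg_41,tg_42,tg_43,tg_44,tg_45,tg_46,tg_47,tg_48,tg_49,tg_50,tg_51,tg_52,tg_53,tg_54,tg_55,tg_56,tg_57,tg_58,tg_59,tg_60,tg_61,tg_62,tg_63,tg_64,tg_65,tg_66,tg_67,tg_68,tg_69,tg_70,tg_71,tg_72,tg_73,tg_74,tg_75,tg_76,tg_77,tg_78,tg_79,tg_80,tg_81,tg_82,tg_83,tg_84,tg_85,tg_86,tg_87,tg_88,tg_89,tg_90,tg_91,tg_92,tg_93,tg_94,tg_95,tg_96,tg_97,tg_98,tg_99,tg_100,tg_101,tg_102,tg_103,tg_104,tg_105,tg_106,tg_107,tg_108,tg_109,tg_110,tg_111,tg_112,tg_113,tg_114,tg_115,tg_116,tg_117,tg_118,tg_119,tg_120,tg_121,tg_122,tg_123,tg_124,tg_125,tg_126,tg_127,tg_128,tg_129,tg_130,tg_131,tg_132,tg_133,tg_134,tg_135,tg_136,tg_137,tg_138,tg_139,tg_140,tg_141,tg_142,tg_143,tg_144,tg_145,tg_146,tg_147,tg_148])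 = true :=
  rt_step ck_tg0 (by decide +kernel) rt_1

theorem ck_z : decide (C.combo C.zcomb = normS [(C.k0, (C.zm : ℤ))]) = true := by decide +kernel

theorem ck_all : ((List.range C.n).all fun j =>
      (decide (j < C.r) || decide (tidx j j ∈ C.targets.map (·.1))) &&
      (List.range j).all fun i => decide (tidx j i ∈ C.targets.map (·.1))) = true := by decide +kernel

theorem ck_tgs : C.chkTargets = true := targets_of_parts rt_0 ck_z ck_all

theorem check_ok : C.check = true := check_of_parts ck_tb ck_df ck_ov ck_frs ck_tgs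


abbrev base : List ℕ := Cfsg.Agent.Lib.TC.Iso.allBase [0] Cfsg.Agent.Lib.TC.D.Fi22Chain.Lev.levels

theorem hrules : chkRules Cfsg.Agent.Lib.TC.D.Fi22b.Tab.pt C wE base = true := by decide +kernel

theorem hitems : ∀ f < C.items.length, chkItem Cfsg.Agent.Lib.TC.D.Fi22b.Tab.pt C wE wY base f = true := by decide +kernel

theorem hlev : chkLev Cfsg.Agent.Lib.TC.D.Fi22b.Tab.pt wE [] lv = true := by decide +kernel

theorem hwE : ∀ l ∈ wE, ∀ z ∈ l, z < 9 := by decide +kernel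

theorem hwY : ∀ l ∈ wY, ∀ z ∈ l, z < 9 := by decide +kernel

theorem hlvn : ∀ t ∈ lv, ∀ u ∈ t.2, ∀ y ∈ u, y < C.n := by decide +kernel

theorem hprod : (lv.map fun t => t.2.length).prod = C.p ^ C.n := by decide +kernel

end Cfsg.Agent.Lib.Schur.Cert.Fi22p2
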