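import Cfsg.Agent.Lib.Schur.PcBase
import Cfsg.Agent.Lib.TC.D.Fi22Chain.Lev

/-!
# A tail certificate for a Sylow subgroup, with words in the columns of a table
-/

set_option autoImplicit false
set_option maxRecDepth 100000
set_option maxHeartbeats 0

namespace Cfsg.Agent.Lib.Schur.Cert.Fi22p3

open Cfsg.Agent.Lib.Schur.PcMain Cfsg.Agent.Lib.Schur.PcBase

def rule_0 : List (List ℕ) := [[5, 5, 6, 7, 8]]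

def rule_1 : List (List ℕ) := [[1, 3], []]

def rule_2 : List (List ℕ) := [[2, 4], [2, 3, 3, 6, 6, 7, 8], []]

def rule_3 : List (List ℕ) := [[3, 5], [3, 6], [3], []]

def rule_4 : List (List ℕ) := [[4, 5, 5, 6, 8], [4, 5, 5, 7, 7, 8], [4], [4, 8], []]

def rule_5 : List (List ℕ) := [[5, 7], [5, 7, 8, 8], [5], [5, 8, 8], [5, 8], []]

def rule_6 : List (List ℕ) := [[6, 7, 8], [6], [6], [6], [6, 8], [6], []]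

def rule_7 : List (List ℕ) := [[7, 8, 8], [7], [7, 8, 8], [7], [7], [7], [7], []]

def rule_8 : List (List ℕ) := [[8], [8], [8], [8], [8], [8], [8], [8], []]

def item_0 : List (List ℕ) × List (List ℕ) := ([[0, 1, 1, 2, 2, 3, 3, 4, 5, 5, 6, 6], [1, 3, 3, 5, 6, 6, 7, 7], [2, 3, 4, 5, 5, 6, 6, 7, 7, 8], [3, 4, 4, 5, 6, 7, 7, 8], [4, 5, 5, 6, 7, 8, 8], [5, 6, 7, 8, 8], [6, 7], [7, 8, 8], [8]], [[0, 1, 1, 2, 2, 3, 3, 4], [1, 3, 3, 5, 5, 7], [2, 2, 3, 3, 5, 5, 6, 7], [3, 3, 4, 5, 6, 7, 7, 8, 8], [4, 4, 7, 7, 8, 8], [5, 5, 6, 6, 7, 8, 8], [6, 6], [7, 7, 8, 8], [8]])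

def item_1 : List (List ℕ) × List (List ℕ) := ([[0, 1, 1, 2, 2, 3, 3, 4, 5, 5, 6, 6], [1, 3, 3, 5, 6, 6, 7, 7], [2, 3, 4, 5, 5, 6, 6, 7, 7, 8], [3, 4, 4, 5, 6, 7, 7, 8], [4, 5, 5, 6, 7, 8, 8], [5, 6, 7, 8, 8], [6, 7], [7, 8, 8], [8]], [[0, 0, 1, 2, 3, 3, 4, 5, 5, 7], [1, 1, 3, 5, 7, 7, 8, 8], [2, 3, 5, 6, 6, 7, 7, 8, 8], [3, 3, 4, 5, 5, 6, 6, 7, 8], [4, 4, 6, 7, 7, 8, 8], [5, 6, 7, 7], [6], [7, 7, 8], [8, 8]])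

def item_2 : List (List ℕ) × List (List ℕ) := ([[0, 1, 1, 2, 2, 3, 3, 4, 5, 5, 6, 6], [1, 3, 3, 5, 6, 6, 7, 7], [3, 4, 4, 5, 6, 7, 7, 8], [4, 5, 5, 6, 7, 8, 8], [5, 6, 7, 8, 8], [6, 7], [7, 8, 8], [8]], [[0, 1, 1, 2, 2, 3, 3, 4, 5, 5, 6, 6], [1, 3, 3, 5, 6, 6, 7], [0, 1, 2, 2, 3, 4, 4, 6, 7, 7, 8], [0, 0, 2, 3, 6, 6, 8], [5, 5, 6, 6, 8, 8], [6, 6, 7, 7, 8], [7, 8, 8], [7, 8]])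

def ov_0 : List ℕ × ℕ × ℕ × List (ℕ × ℤ) := ([2, 1, 0], 0, 1, [(3000, 2), (3002, 1), (4001, -1), (4003, 1), (5003, -1), (6000, 2), (6003, -2), (6004, -2), (6005, -4), (7000, 1), (7004, -1), (7005, -2), (7006, 1), (8000, 1), (8004, -1), (8005, 2), (8006, -2), (8007, 1)])

def ov_1 : List ℕ × ℕ × ℕ × List (ℕ × ℤ) := ([3, 1, 0], 0, 1, [(5001, -1), (5003, -1), (6000, 1), (6003, -1), (6005, -1), (7003, -1), (8003, -2), (8006, -2), (8007, -2), (8008, -1)])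

def ov_2 : List ℕ × ℕ × ℕ × List (ℕ × ℤ) := ([3, 2, 0], 0, 1, [(4003, 1), (5002, -1), (5004, -1), (8005, 1)])

def ov_3 : List ℕ × ℕ × ℕ × List (ℕ × ℤ) := ([3, 2, 1], 0, 1, [(6002, -1), (7003, 1), (7006, 1), (8003, 1), (8006, 1)])

def ov_4 : List ℕ × ℕ × ℕ × List (ℕ × ℤ) := ([4, 1, 0], 0, 1, [(4003, -1), (5000, 2), (5001, -2), (5003, -1), (6001, -1), (6003, -1), (6005, 2), (7000, 2), (7003, -1), (7005, -1), (7006, -1), (8000, 1), (8001, -1), (8006, -2), (8007, 2), (8008, -1)])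

def ov_5 : List ℕ × ℕ × ℕ × List (ℕ × ℤ) := ([4, 2, 0], 0, 1, [(5002, -2), (5004, -2), (6002, -1), (6004, -1), (8002, -1), (8004, -1), (8005, -1), (8006, -2), (8008, -1)])

def ov_6 : List ℕ × ℕ × ℕ × List (ℕ × ℤ) := ([4, 2, 1], 0, 1, [(4003, -2), (5002, -2), (5003, -4), (6004, 2), (6005, 4), (7002, -2), (7003, -4), (7004, 1), (7005, 2), (7006, -4), (8002, -1), (8003, -3), (8004, 1), (8005, -2), (8006, 1), (8007, -8), (8008, -4)])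

def ov_7 : List ℕ × ℕ × ℕ × List (ℕ × ℤ) := ([4, 3, 0], 0, 1, [(5003, -2), (5004, 1), (6003, -1), (6005, -1), (8000, 1), (8003, -1), (8005, 1), (8006, -1), (8008, -1)])

def ov_8 : List ℕ × ℕ × ℕ × List (ℕ × ℤ) := ([4, 3, 1], 0, 1, [(5003, -2), (6004, 1), (6005, 2), (7003, -2), (7006, -2), (8001, 1), (8003, -1), (8005, 1), (8007, -2), (8008, -1)])

def ov_9 : List ℕ × ℕ × ℕ × List (ℕ × ℤ) := ([4, 3, 2], 0, 1, [(8002, 1)])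

def ov_10 : List ℕ × ℕ × ℕ × List (ℕ × ℤ) := ([5, 1, 0], 0, 1, [(5003, -1), (7000, 1), (7001, -1), (7003, -2), (8000, 2), (8003, -2), (8007, -6)])

def ov_11 : List ℕ × ℕ × ℕ × List (ℕ × ℤ) := ([5, 2, 0], 0, 1, [(5004, -1), (7002, -1), (7004, -1), (8004, -2), (8007, -1), (8008, -1)])

def ov_12 : List ℕ × ℕ × ℕ × List (ℕ × ℤ) := ([5, 2, 1], 0, 1, [(5003, -2), (6005, 2), (7002, -1), (7003, -2), (7005, 1), (7006, -2), (8002, -2), (8003, -1), (8005, 1), (8006, -4), (8007, -5), (8008, -2)])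

def ov_13 : List ℕ × ℕ × ℕ × List (ℕ × ℤ) := ([5, 3, 0], 0, 1, [(7003, -1), (7005, -1), (8000, 2), (8005, -2), (8007, -2)])

def ov_14 : List ℕ × ℕ × ℕ × List (ℕ × ℤ) := ([5, 3, 1], 0, 1, [(6005, 1), (7003, -1), (7006, -1), (8001, 2), (8003, -2), (8006, -1), (8007, -2)])

def ov_15 : List ℕ × ℕ × ℕ × List (ℕ × ℤ) := ([5, 4, 0], 0, 1, [(6005, 1), (7004, -1), (7005, -2), (7006, -1), (8000, 1), (8005, -1), (8006, -1)])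

def ov_16 : List ℕ × ℕ × ℕ × List (ℕ × ℤ) := ([5, 4, 1], 0, 1, [(7004, -1), (8001, 1), (8004, -2), (8005, 1)])

def ov_17 : List ℕ × ℕ × ℕ × List (ℕ × ℤ) := ([5, 4, 3], 0, 1, [(8003, 1), (8004, -2), (8005, 1)])

def ov_18 : List ℕ × ℕ × ℕ × List (ℕ × ℤ) := ([6, 1, 0], 0, 1, [(6003, -1), (7001, -1), (7003, -1), (8001, -1), (8003, -1)])

def ov_19 : List ℕ × ℕ × ℕ × List (ℕ × ℤ) := ([6, 2, 0], 0, 1, [(6004, -1), (7002, -1), (7004, -1), (8002, -1), (8007, -1), (8008, -1)])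

def ov_20 : List ℕ × ℕ × ℕ × List (ℕ × ℤ) := ([6, 2, 1], 0, 1, [(6003, -2), (7006, 1), (8006, 1)])

def ov_21 : List ℕ × ℕ × ℕ × List (ℕ × ℤ) := ([6, 3, 0], 0, 1, [(6005, -1), (7003, -1), (7005, -1), (8003, -1), (8005, -1)])

def ov_22 : List ℕ × ℕ × ℕ × List (ℕ × ℤ) := ([6, 4, 0], 0, 1, [(6005, -2), (7004, -1), (7005, -2), (7006, -1), (8000, 1), (8004, -1), (8005, -4), (8006, -1)])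

def ov_23 : List ℕ × ℕ × ℕ × List (ℕ × ℤ) := ([6, 4, 1], 0, 1, [(6005, -2), (7006, 2), (8001, 1), (8005, -2), (8006, 1), (8007, -2)])

def ov_24 : List ℕ × ℕ × ℕ × List (ℕ × ℤ) := ([6, 4, 3], 0, 1, [(8003, 1), (8006, 1)])

def ov_25 : List ℕ × ℕ × ℕ × List (ℕ × ℤ) := ([6, 5, 0], 0, 1, [(7005, -1), (7006, 1), (8005, -1), (8007, -1)])

def ov_26 : List ℕ × ℕ × ℕ × List (ℕ × ℤ) := ([6, 5, 1], 0, 1, [(7006, 1), (8006, 2)])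

def ov_27 : List ℕ × ℕ × ℕ × List (ℕ × ℤ) := ([7, 1, 0], 0, 1, [(7003, -1), (8001, -2), (8003, -2)])

def ov_28 : List ℕ × ℕ × ℕ × List (ℕ × ℤ) := ([7, 2, 0], 0, 1, [(7004, -1), (8000, 2), (8002, -2), (8004, -1)])

def ov_29 : List ℕ × ℕ × ℕ × List (ℕ × ℤ) := ([7, 3, 0], 0, 1, [(7005, -1), (8003, -2), (8005, -2)])

def ov_30 : List ℕ × ℕ × ℕ × List (ℕ × ℤ) := ([7, 3, 1], 0, 1, [(7006, -1)])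

def ov_31 : List ℕ × ℕ × ℕ × List (ℕ × ℤ) := ([7, 4, 3], 0, 1, [(8007, 1)])

def ov_32 : List ℕ × ℕ × ℕ × List (ℕ × ℤ) := ([8, 1, 0], 0, 1, [(8003, -1)])

def ov_33 : List ℕ × ℕ × ℕ × List (ℕ × ℤ) := ([8, 2, 0], 0, 1, [(8004, -1)])

def ov_34 : List ℕ × ℕ × ℕ × List (ℕ × ℤ) := ([8, 3, 0], 0, 1, [(8005, -1)])

def ov_35 : List ℕ × ℕ × ℕ × List (ℕ × ℤ) := ([8, 3, 1], 0, 1, [(8006, -1)])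

def ov_36 : List ℕ × ℕ × ℕ × List (ℕ × ℤ) := ([1, 1, 1, 0], 0, 2, [(1000, -3), (3001, -3), (3003, -1), (6001, -1), (6003, -2), (6006, -1)])

def ov_37 : List ℕ × ℕ × ℕ × List (ℕ × ℤ) := ([1, 0, 0, 0], 0, 1, [(1000, 3), (3000, 3), (3003, 1), (5000, 1), (5001, 2), (5003, 4), (5005, 1), (6001, 1), (6003, 3), (6005, 3), (7001, 1), (7005, 1), (7006, 2), (7007, 1), (8001, 1), (8003, 3), (8005, 9), (8006, 3), (8007, 4), (8008, 4)])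

def ov_38 : List ℕ × ℕ × ℕ × List (ℕ × ℤ) := ([2, 2, 2, 0], 0, 2, [(2000, -3), (4002, -3), (4004, -1)])

def ov_39 : List ℕ × ℕ × ℕ × List (ℕ × ℤ) := ([3, 3, 3, 0], 0, 2, [(3000, -3), (5003, -3), (5005, -1), (8003, -2), (8005, -4), (8008, -2)])

def ov_40 : List ℕ × ℕ × ℕ × List (ℕ × ℤ) := ([3, 0, 0, 0], 0, 1, [(3000, 3), (5000, 3), (5003, 2), (5005, 1), (6003, 1), (6005, 3), (7000, 1), (7003, 1), (7005, 4), (7007, 1), (8003, 1), (8005, 8), (8006, 1), (8007, 7), (8008, 2)])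

def ov_41 : List ℕ × ℕ × ℕ × List (ℕ × ℤ) := ([3, 3, 3, 1], 0, 2, [(3001, -3), (6003, -3), (6006, -1)])

def ov_42 : List ℕ × ℕ × ℕ × List (ℕ × ℤ) := ([3, 1, 1, 1], 0, 1, [(3001, 3), (6001, 3), (6006, 1)])

def ov_43 : List ℕ × ℕ × ℕ × List (ℕ × ℤ) := ([4, 4, 4, 0], 0, 2, [(4000, -3), (5004, -3), (5005, -2), (6004, -3), (6005, -6), (6006, -1), (8004, -3), (8005, -7), (8006, -8), (8008, -3)])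

def ov_44 : List ℕ × ℕ × ℕ × List (ℕ × ℤ) := ([4, 0, 0, 0], 0, 1, [(4000, 3), (5000, 3), (5004, 2), (5005, 2), (6000, 3), (6004, 1), (6005, 6), (6006, 1), (7004, 1), (7005, 4), (7006, 5), (7007, 2), (8000, 1), (8004, 1), (8005, 7), (8006, 6), (8007, 7), (8008, 3)])

def ov_45 : List ℕ × ℕ × ℕ × List (ℕ × ℤ) := ([4, 4, 4, 2], 0, 2, [(4002, -3)])

def ov_46 : List ℕ × ℕ × ℕ × List (ℕ × ℤ) := ([4, 4, 4, 3], 0, 2, [(4003, -3), (8004, -3), (8008, -1)])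

def ov_47 : List ℕ × ℕ × ℕ × List (ℕ × ℤ) := ([5, 5, 5, 0], 0, 2, [(5000, -3), (7005, -3), (7007, -1)])

def ov_48 : List ℕ × ℕ × ℕ × List (ℕ × ℤ) := ([5, 5, 5, 3], 0, 2, [(5003, -3), (8005, -3), (8008, -2)])

def ov_49 : List ℕ × ℕ × ℕ × List (ℕ × ℤ) := ([6, 6, 6, 3], 0, 2, [(6003, -3)])

def ov_50 : List ℕ × ℕ × ℕ × List (ℕ × ℤ) := ([7, 7, 7, 0], 0, 2, [(7000, -3), (8007, -3), (8008, -2)])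

def ov_51 : List ℕ × ℕ × ℕ × List (ℕ × ℤ) := ([8, 8, 8, 0], 0, 2, [(8000, -3)])

def ov_52 : List ℕ × ℕ × ℕ × List (ℕ × ℤ) := ([8, 8, 8, 1], 0, 2, [(8001, -3)])

def ov_53 : List ℕ × ℕ × ℕ × List (ℕ × ℤ) := ([0, 0, 0, 0], 0, 1, [(5000, 2), (6000, 1), (7000, 1), (7005, 1), (7006, 2), (7007, 1), (8000, 1), (8007, 1), (8008, 1)])

def fr_0 : ℕ × List ℕ × List ℕ × List (ℕ × ℤ) := (0, [3, 1], [1, 3, 5, 7, 8, 8], [(3001, 1), (4001, -1), (4003, -2), (5003, -7), (5004, -2), (5005, -1), (6003, -1), (6004, 4), (6005, -1), (7003, 2), (7004, 1), (7005, 2), (7006, -2), (7007, -1), (8001, 1), (8003, 2), (8004, -2), (8005, -13), (8006, 10), (8007, 2), (8008, -5), (1000005, -1), (1000007, -1), (1000008, -2)])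

def fr_1 : ℕ × List ℕ × List ℕ × List (ℕ × ℤ) := (0, [4, 0], [0, 4, 6, 7, 8], [(4000, 1), (4001, 2), (4002, 2), (4003, 2), (5000, -2), (5001, 2), (5002, -4), (5003, -4), (5004, 6), (5005, 2), (6000, -1), (6004, 3), (7000, 1), (7001, 1), (7002, 2), (7003, 2), (7004, 5), (7005, 9), (7006, -5), (7007, 1), (8001, 4), (8002, -1), (8003, 2), (8004, 3), (8005, 4), (8006, 2), (8007, 11), (8008, 5), (1000006, -1), (1000007, -1), (1000008, -1)])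

def fr_2 : ℕ × List ℕ × List ℕ × List (ℕ × ℤ) := (0, [4, 1], [1, 4, 5, 5, 6, 7, 8, 8], [(4001, 1), (4003, 2), (5001, -2), (5004, -1), (6001, -1), (6003, -2), (6004, 2), (6006, -1), (7001, 1), (7003, -4), (7004, 2), (7005, 3), (7006, -6), (8003, -1), (8004, 1), (8005, 2), (8006, -4), (8007, -4), (1000005, -2), (1000006, -1), (1000007, -1), (1000008, -2)])

def fr_3 : ℕ × List ℕ × List ℕ × List (ℕ × ℤ) := (0, [5, 1], [1, 5, 7, 8], [(5001, 1), (5003, 2), (6001, 1), (6003, 2), (6005, 5), (7003, -4), (7005, -1), (7006, -1), (8005, 8), (8006, -4), (8007, -11), (8008, 2), (1000007, -1), (1000008, -1)])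

def fr_4 : ℕ × List ℕ × List ℕ × List (ℕ × ℤ) := (0, [5, 4], [4, 5, 8, 8], [(5004, 3), (6004, 3), (6005, -1), (7004, 1), (7005, -5), (7006, -4), (8005, -2), (8007, 1), (8008, 2), (1000008, -2)])

def fr_5 : ℕ × List ℕ × List ℕ × List (ℕ × ℤ) := (0, [6, 1], [1, 6], [(6001, 1), (6003, 2), (6005, 3), (7001, -1), (7003, -2), (7005, -1), (7006, -2)])

def fr_6 : ℕ × List ℕ × List ℕ × List (ℕ × ℤ) := (0, [8, 8, 8], [], [(1000008, 3)])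

def fr_7 : ℕ × List ℕ × List ℕ × List (ℕ × ℤ) := (1, [3, 2], [2, 3], [(3002, 1), (4002, -1), (5002, 1), (5003, 1), (5004, 2), (6002, 1), (6003, -1), (6004, 1), (6005, -2), (7002, -1), (7003, -3), (7005, -5), (7006, -4), (8003, -4), (8005, 2), (8006, 1), (8007, -2), (8008, 1)])

def fr_8 : ℕ × List ℕ × List ℕ × List (ℕ × ℤ) := (1, [4, 2], [2, 4], [(4002, 1), (4003, 1), (5002, -2), (5003, -2), (5004, -2), (6004, -3), (6005, 3), (7002, 1), (7003, 1), (7004, -3), (7005, 4), (7006, 2), (8003, -1), (8004, -2), (8005, 5), (8006, -2), (8007, 8), (8008, -2)])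

def fr_9 : ℕ × List ℕ × List ℕ × List (ℕ × ℤ) := (2, [3, 2], [2, 3], [(1000, -2), (2000, -3), (2001, 1), (3000, -2), (3001, 1), (3002, -4), (4000, -3), (4001, 1), (4003, -5), (4004, -1), (5000, -2), (5001, -2), (5003, -4), (5004, -3), (5005, -2), (6000, 1), (6001, -1), (6002, -3), (6003, -3), (6004, -4), (6005, -8), (7000, -2), (7001, -1), (7002, -1), (7003, -1), (7004, 2), (7005, 4), (7006, -1), (8001, 1), (8002, 1), (8003, -2), (8004, -6), (8005, -20), (8006, -14), (8007, -4), (8008, -10)])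

def tg_0 : ℕ × ℤ × List (ℕ × ℤ) := (1000, 0, [(0, 1)])

def tg_1 : ℕ × ℤ × List (ℕ × ℤ) := (2000, 0, [(1, 1)])

def tg_2 : ℕ × ℤ × List (ℕ × ℤ) := (3000, 0, [(2, 1)])

def tg_3 : ℕ × ℤ × List (ℕ × ℤ) := (3001, 0, [(3, 1)])

def tg_4 : ℕ × ℤ × List (ℕ × ℤ) := (5000, 0, [(4, 1)])

def tg_5 : ℕ × ℤ × List (ℕ × ℤ) := (4003, 0, [(5, 1)])

def tg_6 : ℕ × ℤ × List (ℕ × ℤ) := (8002, 0, [(15, 1)])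

def tg_7 : ℕ × ℤ × List (ℕ × ℤ) := (7006, 0, [(36, -1)])

def tg_8 : ℕ × ℤ × List (ℕ × ℤ) := (8007, 0, [(37, 1)])

def tg_9 : ℕ × ℤ × List (ℕ × ℤ) := (8003, 0, [(38, -1)])

def tg_10 : ℕ × ℤ × List (ℕ × ℤ) := (8004, 0, [(39, -1)])

def tg_11 : ℕ × ℤ × List (ℕ × ℤ) := (8005, 0, [(40, -1)])

def tg_12 : ℕ × ℤ × List (ℕ × ℤ) := (8006, 0, [(41, -1)])

def tg_13 : ℕ × ℤ × List (ℕ × ℤ) := (7005, 0, [(35, -1)])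

def tg_14 : ℕ × ℤ × List (ℕ × ℤ) := (8008, 0, [(52, -1)])

def tg_15 : ℕ × ℤ × List (ℕ × ℤ) := (7007, 0, [(53, -1)])

def tg_16 : ℕ × ℤ × List (ℕ × ℤ) := (4004, 0, [(44, -1), (51, 1)])

def tg_17 : ℕ × ℤ × List (ℕ × ℤ) := (5005, 0, [(45, -1), (54, 1)])

def tg_18 : ℕ × ℤ × List (ℕ × ℤ) := (6003, 0, [(26, 1), (55, -1)])

def tg_19 : ℕ × ℤ × List (ℕ × ℤ) := (6006, 0, [(47, -1)])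

def tg_20 : ℕ × ℤ × List (ℕ × ℤ) := (6001, 0, [(24, -1), (27, 3), (33, -4), (58, 3), (65, 1)])

def tg_21 : ℕ × ℤ × List (ℕ × ℤ) := (3003, 0, [(42, -1)])

def tg_22 : ℕ × ℤ × List (ℕ × ℤ) := (7002, 0, [(8, -2), (9, -1), (11, 1), (22, 1), (25, -1), (33, -1), (58, 1)])

def tg_23 : ℕ × ℤ × List (ℕ × ℤ) := (7000, 0, [(13, 1), (16, -2), (17, 1), (22, -7), (24, 2), (27, -1), (33, 3), (34, 6), (56, -1), (57, 3), (58, -5)])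

def tg_24 : ℕ × ℤ × List (ℕ × ℤ) := (5001, 0, [(7, -1), (16, 1), (22, 6), (24, -1), (27, 1), (33, -1), (34, -6), (57, -3), (58, 3), (59, 1)])

def tg_25 : ℕ × ℤ × List (ℕ × ℤ) := (2001, 0, [(6, -2), (8, -6), (9, 3), (16, -62), (17, 6), (22, -248), (24, 61), (25, 15), (27, -42), (33, 143), (34, 240), (57, 120), (58, -192), (59, 6), (60, 6), (61, 3), (62, -3), (63, -6), (64, -6), (66, -3), (67, 6), (69, 1)])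

def tg_26 : ℕ × ℤ × List (ℕ × ℤ) := (3002, 2, [(8, -3), (9, 3), (16, -3), (17, 3), (22, -18), (24, 3), (25, -6), (27, 3), (33, -3), (34, 12), (57, 6), (58, -5), (67, 3), (68, 3)])

def tg_27 : ℕ × ℤ × List (ℕ × ℤ) := (4000, 1, [(6, -1), (8, -2), (9, 2), (16, -19), (17, 3), (22, -78), (24, 19), (25, 7), (27, -10), (33, 43), (34, 72), (57, 36), (58, -59), (59, 3), (60, 2), (61, 1), (62, -1), (63, -2), (64, -2), (66, -1), (67, 2)])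

def tg_28 : ℕ × ℤ × List (ℕ × ℤ) := (4001, 1, [(6, -1), (8, -2), (9, 2), (16, -1), (17, 2), (22, -7), (24, 1), (25, -2), (27, 6), (33, -7), (34, 2), (57, 1), (58, 2), (59, 2), (67, 2), (68, 2)])

def tg_29 : ℕ × ℤ × List (ℕ × ℤ) := (4002, 1, [(8, -3), (9, 1), (16, -3), (17, 1), (22, -14), (24, 3), (25, -5), (27, 4), (33, -1), (34, 12), (57, 6), (58, -5), (67, 1), (68, 2)])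

def tg_30 : ℕ × ℤ × List (ℕ × ℤ) := (5002, 1, [(8, -2), (9, 1), (16, -1), (17, 2), (22, -7), (24, 1), (25, -2), (27, 1), (33, -1), (34, 4), (57, 2), (58, -2), (67, 1), (68, 1)])

def tg_31 : ℕ × ℤ × List (ℕ × ℤ) := (5003, 1, [(8, -1), (9, 1), (16, -2), (17, 1), (22, -10), (24, 2), (25, -2), (27, 1), (34, 8), (57, 4), (58, -4), (67, 1), (68, 1)])

def tg_32 : ℕ × ℤ × List (ℕ × ℤ) := (5004, 2, [(8, -2), (9, 2), (16, -2), (17, 1), (22, -11), (24, 2), (25, -4), (27, 2), (33, -2), (34, 8), (57, 4), (58, -3), (67, 2), (68, 2)])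

def tg_33 : ℕ × ℤ × List (ℕ × ℤ) := (6000, 1, [(8, -1), (9, 1), (16, -1), (17, 1), (22, -4), (24, 1), (25, -2), (27, 1), (33, -1), (34, 2), (57, 1), (58, -1), (59, 1), (67, 1), (68, 1)])

def tg_34 : ℕ × ℤ × List (ℕ × ℤ) := (6002, 1, [(8, -1), (16, -1), (17, 1), (22, -6), (24, 1), (25, -2), (27, 1), (33, -2), (34, 4), (57, 2), (58, -1), (67, 1), (68, 1)])

def tg_35 : ℕ × ℤ × List (ℕ × ℤ) := (6004, 2, [(8, -2), (9, 2), (16, -2), (17, 2), (22, -11), (24, 2), (25, -5), (27, 2), (33, -2), (34, 8), (57, 4), (58, -3), (67, 2), (68, 2)])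

def tg_36 : ℕ × ℤ × List (ℕ × ℤ) := (6005, 2, [(8, -2), (9, 2), (16, -2), (17, 2), (22, -12), (24, 2), (25, -4), (27, 1), (33, -1), (34, 8), (57, 4), (58, -4), (67, 2), (68, 2)])

def tg_37 : ℕ × ℤ × List (ℕ × ℤ) := (7001, 1, [(8, -1), (9, 1), (16, -1), (17, 1), (22, -6), (25, -2), (27, 1), (34, 4), (57, 2), (58, -2), (67, 1), (68, 1)])

def tg_38 : ℕ × ℤ × List (ℕ × ℤ) := (7003, 1, [(8, -1), (9, 1), (16, -1), (17, 1), (22, -6), (24, 1), (25, -2), (27, 1), (33, -2), (34, 4), (57, 2), (58, -1), (67, 1), (68, 1)])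

def tg_39 : ℕ × ℤ × List (ℕ × ℤ) := (7004, 1, [(8, -1), (9, 1), (16, -1), (17, 1), (22, -7), (24, 1), (25, -2), (27, 1), (33, -1), (34, 4), (57, 2), (58, -2), (67, 1), (68, 1)])

def tg_40 : ℕ × ℤ × List (ℕ × ℤ) := (8000, 2, [(8, -2), (9, 2), (16, -2), (17, 2), (22, -14), (24, 2), (25, -4), (27, 2), (33, -2), (34, 10), (57, 5), (58, -4), (67, 2), (68, 2)])

def tg_41 : ℕ × ℤ × List (ℕ × ℤ) := (8001, 1, [(8, -1), (9, 1), (16, -1), (17, 1), (22, -6), (24, 1), (25, -2), (27, 1), (33, -1), (34, 4), (57, 2), (58, -2), (67, 1), (68, 1)])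

def C : Cert where
  p := 3
  n := 9
  r := 3
  fuel := 182
  rules := [rule_0, rule_1, rule_2, rule_3, rule_4, rule_5, rule_6, rule_7, rule_8]
  defs := [(1, 0), (2, 0), (3, 0), (3, 1), (5, 0), (4, 3)]
  items := [item_0, item_1, item_2]
  ovs := [ov_0, ov_1, ov_2, ov_3, ov_4, ov_5, ov_6, ov_7, ov_8, ov_9, ov_10, ov_11, ov_12, ov_13, ov_14, ov_15, ov_16, ov_17, ov_18, ov_19, ov_20, ov_21, ov_22, ov_23, ov_24, ov_25, ov_26, ov_27, ov_28, ov_29, ov_30, ov_31, ov_32, ov_33, ov_34, ov_35, ov_36, ov_37, ov_38, ov_39, ov_40, ov_41, ov_42, ov_43, ov_44, ov_45, ov_46, ov_47, ov_48, ov_49, ov_50, ov_51, ov_52, ov_53]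
  frs := [fr_0, fr_1, fr_2, fr_3, fr_4, fr_5, fr_6, fr_7, fr_8, fr_9]
  k0 := 3002
  zm := 3
  zcomb := [(7, 270), (8, -311085810073587555124403271), (9, -63), (10, -622171620147175110248806404), (11, 66), (12, 155542905036793777562201568), (13, -810597366246472408178335084881448677164458249534758), (14, 1341345641764996008771294177101256045739237563132813), (15, 279849090727948807585374592775495977445680876122363), (16, 622171620147175110248806359), (17, -810597366246472408178334773795638603576903125131529), (18, -530748275518523600592960025477237589337444686807664), (19, -424598620414818880474363322986057960297873370956807), (20, -820247334892263746370935619383501113516498930057037), (21, 2103693164782511725986626433929537504349714847853216),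 (22, -2190542882594633769720020667530466929541206742845207), (23, 3223089527694306956328138181721354578397308701683108), (24, -1244343240294350220497612628), (25, 1341345641764996008771294488187066119326792687536057), (26, 405298683123236204089167853526534412169784249170647), (27, -376348777185862189511368738706857691814103202830302), (28, -443898557706401556859565325247593053764620105211068), (29, 2489691910614165253690596484852972816484746542213705), (30, -5239932974664696638581377381480689313275521953618963), (31, -3049390092070062868861347381375920176107661478676147), (32, 125449592395287396503781595033160675190786207926424), (42, -622171620147175110248806269), (43, -622171620147175110248806269), (45, 180), (46,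 622171620147175110248806449), (47, 414781080098116740165870801), (48, -207390540049058370082935468), (49, -90), (50, -90), (67, 3), (68, 3)]
  targets := [tg_0, tg_1, tg_2, tg_3, tg_4, tg_5, tg_6, tg_7, tg_8, tg_9, tg_10, tg_11, tg_12, tg_13, tg_14, tg_15, tg_16, tg_17, tg_18, tg_19, tg_20, tg_21, tg_22, tg_23, tg_24, tg_25, tg_26, tg_27, tg_28, tg_29, tg_30, tg_31, tg_32, tg_33, tg_34, tg_35, tg_36, tg_37, tg_38, tg_39, tg_40, tg_41]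

def wE : List (List ℕ) := [[2, 3, 2, 5, 4, 6, 5, 4, 3, 7, 3, 2, 4, 3, 5, 6, 7, 8, 7, 3, 2, 4, 3, 5, 4, 7, 3, 2, 8, 1, 2, 3, 4, 5, 6, 7, 3, 2, 1, 4, 3, 2, 5, 4, 8, 7, 3, 2, 1, 4, 3, 2, 5, 4, 3, 6, 7, 3, 2, 8, 7, 0, 1, 2, 3, 4, 5, 6, 7, 3, 2, 1, 4, 3, 5, 7, 8, 7, 3, 2, 1, 0, 4, 3, 2, 1, 5, 4, 7, 3, 2, 4, 3, 7, 8, 7], [2, 3, 4, 6, 5, 4, 3, 7, 3, 2, 4, 3, 5, 8, 7, 3, 2, 4, 3, 5, 4, 7, 3, 8, 7, 1, 2, 3, 4, 5, 6, 7, 3, 2, 1, 4, 3, 5, 8, 7, 3, 2, 1, 4, 3, 2, 5, 4, 7, 3, 2, 1, 4, 0, 1, 2, 3, 4, 5, 6, 7, 3, 2, 1, 4, 3, 2, 5, 8, 7, 3, 2, 1, 4, 3, 2, 5, 4, 7, 3, 2, 1, 8], [5, 4, 3, 6, 7, 3, 2, 4, 3, 5, 4, 6, 8, 7, 3, 2, 4, 3, 5, 4, 6, 5, 7, 3, 2, 8, 7, 3, 4, 1, 2, 3, 4, 5, 6, 7, 3, 2, 1, 4, 3, 2, 5, 8, 7, 3, 2, 1, 4, 3, 2, 5,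 4, 7, 3, 4, 8, 0, 1, 2, 3, 4, 5, 6, 7, 3, 2, 1, 4, 3, 5, 8, 7, 3, 2, 1, 0, 4, 3, 2, 1, 5, 4, 3, 2, 7, 3, 2, 4, 8, 7, 3, 2, 1, 4, 5], [3, 6, 7, 3, 2, 4, 3, 5, 8, 7, 3, 2, 4, 3, 5, 4, 6, 1, 2, 3, 4, 5, 6, 7, 3, 2, 1, 4, 3, 2, 5, 4, 8, 7, 3, 2, 1, 4, 3, 2, 7, 3, 4, 5, 8, 7, 0, 1, 2, 3, 4, 5, 6, 7, 3, 2, 1, 4, 3, 2, 5, 8, 7, 3, 2, 1, 0, 4, 3, 2, 1, 5, 7, 3, 2, 4, 3, 5, 7, 8, 7, 3, 2], [2, 6, 5, 7, 3, 2, 4, 8, 7, 3, 2, 4, 3, 5, 4, 6, 5, 7, 3, 2, 4, 3, 8, 7, 3, 1, 2, 3, 4, 5, 6, 7, 3, 2, 4, 3, 5, 4, 8, 7, 3, 2, 1, 4, 3, 2, 7, 3, 4, 8, 7, 3, 0, 1, 2, 3, 4, 5, 6, 7, 3, 2, 1, 4, 3, 2, 5, 4, 8, 7, 3, 2, 1, 0, 4, 3, 2, 1, 5, 4, 3, 2, 7, 3, 2, 1, 8, 7, 3, 2, 4, 3, 5, 6], [3, 2, 5, 6, 5, 4, 3, 2, 7, 3, 4, 5, 8, 7, 3, 2, 4, 3, 5,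 4, 6, 5, 7, 3, 4, 8, 7, 1, 2, 3, 4, 5, 6, 7, 3, 2, 1, 4, 5, 8, 7, 3, 2, 1, 4, 3, 2, 5, 7, 3, 4, 5, 6, 8, 7, 0, 1, 2, 3, 4, 5, 6, 7, 3, 2, 1, 4, 3, 5, 4, 8, 7, 3, 2, 1, 4, 3, 2, 5], [3, 4, 5, 6, 5, 4, 3, 8, 7, 3, 2, 4, 3, 7, 8, 1, 2, 3, 4, 5, 6, 7, 3, 2, 4, 3, 5, 7, 8, 7, 3, 2, 1, 4, 3, 2, 7, 3, 8, 0, 1, 2, 3, 4, 5, 6, 7, 3, 2, 1, 4, 3, 2, 5, 8, 7, 3, 2, 1, 0, 4, 3, 2, 1, 5, 6, 7, 3, 2, 4, 5, 8], [3, 4, 3, 2, 5, 4, 3, 2, 6, 5, 8, 7, 3, 2, 4, 3, 5, 4, 6, 5, 7, 3, 2, 4, 3, 8, 7, 3, 2, 4, 1, 2, 3, 4, 5, 6, 7, 3, 2, 1, 4, 5, 8, 7, 3, 2, 1, 4, 3, 2, 5, 6, 7, 3, 4, 5, 0, 1, 2, 3, 4, 5, 6, 7, 3, 2, 4, 3, 5, 4, 8, 7, 3, 2, 4, 5], [2, 3, 2, 4, 3, 2, 6, 5, 4, 3, 7, 3, 2, 8, 7, 3, 2, 4, 3, 5, 4, 6, 5, 1, 2, 3, 4, 5, 6, 7, 3, 2,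 1, 4, 5, 8, 7, 3, 2, 1, 4, 3, 2, 5, 7, 3, 4, 5, 8, 7, 0, 1, 2]]

def wY : List (List ℕ) := [[2, 3, 5, 6, 5, 4, 7, 3, 2, 4, 3, 5, 4, 6, 5, 7, 3, 2, 4, 3, 8, 7, 3, 2, 1, 2, 3, 4, 5, 6, 7, 3, 2, 4, 3, 5, 8, 7, 3, 2, 1, 4, 3, 2, 5, 4, 3, 7, 3, 4, 5, 6, 0, 1, 2, 3, 4, 5, 6, 7, 3, 2, 4, 3, 5, 8, 7, 3, 2, 1, 0, 4, 3, 2, 1, 5, 7, 3, 2, 4, 3, 5, 6], [3, 6, 5, 4, 7, 3, 2, 4, 3, 5, 7, 8, 7, 3, 2, 4, 3, 5, 4, 6, 5, 7, 3, 2, 4, 3, 7, 8, 7, 3, 2, 1, 2, 3, 4, 5, 7, 3, 2, 1, 4, 8, 7, 3, 2, 1, 4, 3, 0, 1, 2, 3, 4, 5, 6, 7, 3, 2, 1, 0, 4, 5, 8, 7, 3, 2, 1, 0, 4, 3, 2, 1, 5, 7, 3, 4, 5], [2, 5, 4, 3, 6, 5, 4, 3, 2, 7, 3, 2, 4, 3, 7, 8, 7, 3, 2, 4, 3, 5, 4, 7, 3, 2, 8, 7, 1, 2, 3, 4, 5, 6, 7, 3, 2, 1, 4, 3, 2, 5, 8, 7, 3, 2, 1, 4, 3, 2,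 7, 0, 1, 2, 3, 4, 5, 6, 7, 3, 2, 4, 3, 5, 8, 7, 3, 2, 1, 0, 4, 3, 2, 1, 5, 4, 3, 7, 3, 2, 4, 3, 8]]

def lv : List (ℕ × List (List ℕ)) := [(0, [[], [4, 5, 5, 6, 7, 8], [1, 3, 4, 4, 5, 8], [1, 4, 7, 7, 8], [0, 2, 2, 4, 5], [1, 2, 2, 3, 5, 5], [4, 4, 5, 5], [4, 4, 5, 7, 8], [0, 1, 1, 4, 4, 6], [1, 3, 3], [0, 0, 1, 6, 8], [4, 6, 6, 7, 8, 8], [1, 4, 5, 6, 7], [0, 0, 4, 4, 5, 7, 8], [2, 3, 3, 6, 7], [0, 0, 6, 8], [1, 3, 4, 4, 6, 6, 7], [4, 4, 6, 8, 8], [0, 3, 4, 8], [3, 3, 4, 8, 8], [2, 2, 3, 8, 8], [0, 2, 2, 3, 5], [4, 4, 5, 8, 8], [3, 5, 5, 6, 7, 8], [4, 4, 5, 7, 7], [0, 2, 3, 3, 6], [0, 2, 2, 4, 5, 7], [0, 2, 3, 3, 6, 7, 7], [4, 4, 6, 6, 7, 7], [3, 3, 4, 7], [3, 5, 7], [0, 3, 3, 4, 7, 8], [3, 4, 4, 7], [0, 4, 4, 5, 5,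 7, 7, 8], [4, 6, 6, 7, 8], [4, 5, 7], [0, 0, 1, 3, 4, 4, 5], [0, 1, 1, 2, 4, 4, 7, 8], [1, 3, 5, 6], [1, 3, 4, 4, 6], [0, 0, 3, 4, 6, 6, 7], [0, 2, 3, 3, 5, 5, 8], [1, 3, 4, 6, 6, 7], [4, 4, 5, 6, 8, 8], [3, 5, 5, 7, 7, 8], [4, 4, 6, 8], [0, 2, 2, 4, 5, 8], [0, 1, 2, 3, 6, 7], [1, 4], [0, 2, 3, 4, 4], [3, 5, 8], [0, 0, 1, 1, 4, 6], [2, 3, 3, 5, 5, 7], [0, 2, 3, 4, 4, 7, 7], [7, 7], [0, 0, 1, 5, 5], [8, 8], [3, 4, 5, 8, 8], [4, 4, 6, 6, 8, 8], [1, 2, 2, 4, 5, 6, 6], [3, 5, 5, 6, 6, 7, 7], [2, 3, 4, 5, 6, 6, 7], [2, 2, 3, 5], [2, 2, 4, 5], [0, 1, 3, 3, 4, 7], [4, 4, 5, 5, 6, 7, 7], [7, 8], [1, 2, 3, 5, 7], [0, 0, 3, 4, 4, 5], [1, 3, 3, 7, 8, 8], [0, 0, 1, 4, 4, 5, 8], [3, 3, 4, 8], [0, 1, 1, 4, 8, 8], [4, 4, 5, 6, 6,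 8], [2, 3, 3, 4, 4, 5, 5], [4, 5, 5, 6, 7], [0, 0, 2, 3], [0, 0, 4, 4, 7, 7], [5, 6, 7, 7], [2, 3, 3, 4, 4, 5, 7, 7], [7, 7, 8], [4, 4, 6], [0, 0, 4, 5, 6, 6], [0, 1, 2, 3, 6], [0, 0, 3, 6, 7, 7], [3, 4, 4, 7, 8], [0, 2, 4, 7, 7, 8, 8], [1, 5, 6, 6], [0, 0, 4, 6, 7, 7, 8], [3, 5, 6, 6, 8], [2, 3, 5, 7, 7], [4, 4, 5, 6, 6], [3, 5], [3, 3, 4, 7, 7, 8], [0, 6, 6, 7, 7, 8], [2, 2, 3, 4], [0, 0, 4, 4, 5, 5, 6], [0, 3, 6, 8, 8], [1, 1, 2, 2, 6, 7, 7], [1, 1, 2, 4, 4, 7, 7, 8], [0, 2, 2, 4, 4, 7], [2, 2, 6, 8], [2, 2, 3, 3, 4, 6], [4, 6, 6, 7, 7, 8], [0, 0, 2, 2, 7], [0, 1, 1, 5, 6], [0, 0, 2, 4, 4], [0, 3, 6, 7], [1, 4, 4, 7, 8, 8], [1, 4, 4, 5, 6], [2, 2, 6, 7, 8], [1, 1, 2, 2, 4, 5], [4, 4, 5, 5, 6, 7, 8], [2, 2, 3, 3,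 5, 5], [0, 5, 6, 7, 8], [1, 1, 5, 6, 6, 7], [5, 6, 8, 8], [1, 1, 2, 4, 4, 5, 6, 7], [0, 2, 4, 5, 6, 8], [4, 5, 5, 8, 8], [0, 0, 1, 1, 4, 4, 6, 6], [4, 4, 6, 7, 8], [0, 2, 2, 5, 5, 6, 6, 8], [3, 8, 8], [3, 5, 5, 6, 6, 7], [1, 3, 4, 4, 6, 6], [0, 3, 4, 4, 5, 6, 7], [1, 1, 3, 3, 4, 7, 7], [2, 2, 4, 5, 6, 7], [1, 3, 5, 5, 6, 6, 7], [4, 4, 6, 6, 7, 8], [3, 4, 4, 7, 7], [1, 5, 5, 8, 8], [1, 3, 4, 4, 6, 6, 7, 7], [1, 2, 3, 4, 5], [2, 2, 3, 4, 5, 5, 7], [2, 3, 3, 4, 4, 6, 7, 7], [0, 0, 1, 3, 3, 7, 8], [3, 3, 5, 5, 6], [0, 2, 4, 5, 6, 6], [0, 2, 5], [4, 5, 6, 7], [0, 4, 8], [3, 4, 6, 6, 7, 8], [1, 3, 4, 7], [3, 3, 4, 7, 8, 8], [0, 2, 2, 3, 3, 4, 8], [0, 0, 1, 6], [1, 3, 4, 6, 7], [1, 2, 5, 5, 7, 8, 8], [1, 1, 2, 3, 5], [4, 4,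 5, 7], [3, 5, 5, 7, 7], [4, 6, 7, 7, 8, 8], [2, 5, 8, 8], [4, 4, 5, 5, 7], [1, 1, 4, 4, 6], [1, 2, 4, 4, 6, 7, 7], [0, 0, 1, 3, 5, 5, 8], [4, 6, 6, 8, 8], [0, 0, 3, 6, 8], [0, 0, 1, 4, 4, 5, 8, 8], [1, 3, 5, 5, 8], [0, 1, 1, 3, 3, 4, 4], [2, 3, 3, 7, 8, 8], [0, 1, 2, 3, 4, 5], [4, 6, 6], [2, 2, 3, 3, 6], [0, 1, 2, 5, 8], [2, 2, 4, 5, 6], [4, 4, 5, 5, 8], [0, 2, 3, 3, 6, 8], [0, 2, 4, 7], [1, 3, 5, 5, 7], [0, 4, 4, 6, 6, 7], [0, 1, 1, 4], [0, 2, 7, 8, 8], [1, 2, 2, 6, 6], [1, 2, 3], [0, 0, 4, 5, 5], [1, 2, 3, 3, 4, 4, 8], [1, 1, 2, 2, 7], [4, 4, 5, 7, 7, 8], [4, 5, 6], [5, 5, 6, 6], [0, 4, 4, 6, 6], [2, 2, 3, 3, 6, 6, 7], [1, 3, 3, 8, 8], [1, 3, 4, 4], [3, 4, 4], [3, 5, 6, 8], [3, 6, 7, 8], [1, 2, 4, 5, 6], [0, 1, 1,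 2, 2, 3, 4, 5], [1, 2, 3, 3, 4, 4], [0, 0, 1, 3, 3, 7], [1, 4, 6, 7, 7, 8, 8], [2, 2, 6, 7], [0, 4, 5, 5, 6], [1, 2, 8, 8], [0, 0, 1, 2, 4], [2, 3, 4, 6, 7], [0, 1, 2, 2, 4], [1, 1, 3, 3, 5, 5], [1, 5, 5, 6], [1, 3, 3, 4, 4, 5, 6], [2, 2, 3, 4, 5, 6], [5, 8], [4, 8], [1, 4, 4, 5, 5, 6, 6], [0, 1, 2, 5, 7, 8], [1, 6, 7], [1, 3, 4, 7, 7], [0, 0, 3, 4, 6, 6], [2, 2, 4, 5, 6, 7, 7], [0, 1, 3, 4, 6, 6, 7, 7], [0, 2, 8], [3, 5, 6, 8, 8], [1, 1, 3, 4, 4, 5, 8], [0, 1, 1, 2, 2, 6, 7], [2, 3, 5, 8], [0, 6, 6, 7, 7, 8, 8], [2, 2, 3, 7, 7], [0, 0, 1, 4, 6], [0, 0, 1, 1, 5, 7], [2, 2, 4, 6, 6, 7], [0, 0, 2, 6], [2, 2, 4, 4, 5, 6], [0, 2, 4, 6, 7, 7], [1, 2, 2, 3, 3, 4, 8], [1, 2, 2, 5, 6, 8], [3, 3, 7, 7, 8], [4, 4, 7, 8, 8], [2,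 5, 7, 7], [0, 2, 4, 5, 6], [0, 2, 4, 5, 5, 7, 7], [0, 2, 2], [0, 2, 3], [1, 3, 4, 4, 7], [3, 5, 5, 7, 8], [1, 1, 2, 5, 6], [1, 1, 2, 4, 5, 8], [0, 2, 3, 5, 6, 6, 7], [1, 2, 3, 4, 4, 6, 7], [3, 4, 4, 5, 6, 7, 8], [2, 2, 3, 5, 7, 7], [1, 1, 3, 4, 6], [1, 1, 5, 6], [0, 0, 2, 4, 5, 6], [0, 1, 1, 4, 8], [0, 3], [1, 3, 4, 4, 5], [1, 3, 3, 4, 5, 8, 8], [0, 3, 4, 4, 5, 5, 6], [4, 4, 8, 8], [0, 3, 5, 6, 7, 7], [1, 3, 5, 5, 6, 6], [4, 7, 7, 8], [4, 4, 5, 6, 7, 7, 8, 8], [1, 2, 4, 6, 6], [0, 3, 6], [3, 4, 6, 8], [0, 3, 6, 7, 7, 8], [0, 2, 3, 4, 5, 6, 6, 7], [0, 3, 4, 5, 5, 6, 7], [1, 1, 3, 3, 4, 4, 8], [0, 0, 1, 2, 2, 3, 3, 5], [0, 2, 5, 7, 8], [1, 1, 2, 4, 4], [5, 6], [0, 0, 2, 2, 6, 8], [0, 0, 3, 5, 6, 8, 8], [1, 3, 4, 4, 6,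 7], [2, 4, 4, 6, 8], [0, 0, 5, 8], [0, 0, 5, 5, 6], [5, 6, 7], [0, 1, 2, 7], [0, 2, 4, 4, 6], [0, 2, 4, 6, 7], [0, 1, 1, 2, 5, 6], [0, 7], [3, 4, 4, 5, 6, 8], [0, 0, 2, 3, 4, 7], [2, 4, 6, 6, 7], [0, 0, 1, 1, 2, 2, 3], [0, 4, 5, 6, 8], [4, 5, 5, 6, 8], [0, 0, 3, 5, 5, 8], [0, 0, 7, 8, 8], [2, 2, 3, 4, 6, 6, 7, 8], [1, 2, 2, 4, 4, 5], [0, 1, 1, 2, 2, 3], [3, 6, 7, 8, 8], [5, 5, 6, 8], [0, 6, 6, 8], [0, 0, 3, 5, 6], [0, 2, 5, 6, 6], [0, 2, 3, 4, 4, 7], [1, 3, 3, 5, 6], [0, 0, 2, 2], [2, 3, 3, 4, 4, 6], [7], [1, 1, 4, 6], [0, 3, 4, 4, 7, 7], [5, 5, 6, 6, 8], [0, 3, 3, 4, 7], [2, 8, 8], [1, 3, 4, 5, 6, 6], [0, 0, 1, 1, 2, 4, 5], [0, 1, 3, 4, 4, 5, 8], [1, 4, 5, 6, 7, 7], [2, 2, 5, 5, 7, 7, 8], [0, 0, 4, 4, 5, 7], [1, 2,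 2, 3, 4, 5], [2, 2, 4, 6, 7, 7], [0, 0, 4, 4, 5, 8], [1, 1, 3, 4, 6, 7], [0, 4, 5, 6, 6, 7, 7], [2, 2, 3, 3, 4, 7], [0, 2, 3, 3, 6, 7], [2, 2, 3, 5, 5, 7], [0, 4, 6, 7], [0, 2, 2, 3, 5, 5], [1, 2, 4, 4, 5], [0, 0, 2, 3, 4, 4, 7], [0, 0, 4, 5, 6, 6, 7], [4, 5], [0, 0, 3, 5, 5, 7], [1, 4, 8], [2, 2, 3, 4, 6, 8, 8], [5, 5, 6, 7, 7], [0, 3, 3, 4, 4, 7, 8], [4, 4, 5, 6, 7, 8, 8], [2, 2, 4, 6, 6, 8], [0, 3, 6, 7, 7], [4, 5, 5, 7, 8, 8], [2, 2, 5, 8, 8], [0, 1, 3, 4, 5, 8], [4, 4, 5, 5, 6], [3, 3, 4, 7, 8], [0, 3, 3, 4, 8, 8], [0, 0, 3, 4, 4, 5, 6, 6], [1, 1, 3, 3, 5, 8], [0, 1, 1, 3, 5, 5, 7], [5, 5, 8], [0, 2, 4, 4, 6, 7], [1, 1, 4, 4, 6, 7], [0, 0, 6, 6, 8, 8], [1, 6, 7, 7, 8, 8], [2, 3, 4, 4, 6, 8], [0, 8], [1, 6, 8],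 [3, 4, 4, 5, 6, 7], [1, 2, 3, 3, 7, 7], [3, 3, 5, 8], [0, 3, 4, 4, 5, 5, 8, 8], [0, 3, 5, 5, 6], [3, 4, 6, 6, 7, 7], [1, 1, 3, 4, 4, 5], [1, 7, 8, 8], [1, 2, 2, 3, 7], [0, 0, 1, 4, 8, 8], [3, 4, 6, 6, 8, 8], [5, 5, 6, 7], [2, 3, 3], [1, 1, 2, 2, 4, 6, 6], [0, 4, 4, 6, 6, 8], [0, 1, 3, 4, 4, 7, 7], [0, 3, 5, 7, 7], [0, 1, 3, 3, 8], [3, 4, 5], [0, 3, 4, 4, 6], [1, 4, 6, 7, 8, 8], [1, 1, 3, 4, 4], [3, 7, 8, 8], [4, 5, 6, 8], [1, 1, 4], [0, 3, 4, 5, 7], [4, 5, 5, 6, 7, 7], [0, 2, 2, 3, 7, 7], [0, 2, 4, 4, 5], [0, 0, 4, 6, 7, 8], [0, 2, 5, 8, 8], [3, 5, 5, 6, 8], [0, 0, 1, 2, 4, 7], [4, 4, 8], [0, 5, 6, 7, 7], [0, 0, 4, 6, 7, 7], [0, 2, 3, 3, 4, 4, 5, 6], [1, 2, 5, 5, 7, 8], [0, 0, 6], [2, 2, 6], [2, 2, 3, 4, 6, 8], [4,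 4, 5, 6, 8], [2, 2, 4, 5, 8, 8], [5, 5, 6, 6, 7], [2, 4, 4, 7], [0, 3, 4, 4, 7, 8], [0, 1, 1, 2, 4, 4, 7], [2, 2, 4, 7, 7], [3, 6, 7], [1, 1, 3, 3, 4, 4], [1, 1, 2, 2, 4, 4], [3, 6, 8], [2, 2, 4, 8, 8], [0, 3, 4, 5, 6, 6, 7], [0, 0, 1, 3, 5, 5, 7], [3, 3, 5, 6, 8], [5, 6, 6, 7, 7], [2, 4, 4, 5], [2, 3], [0, 1, 3, 4, 5], [2, 2, 4, 6, 6], [0, 0, 5, 5], [4, 6, 8, 8], [0, 1, 1, 2, 4, 4, 5, 6], [1, 1, 3, 3, 5, 7], [3, 4, 5, 5, 8, 8], [4, 5, 6, 6, 7], [0, 0, 1, 4, 4], [1, 1, 3, 3, 4], [3, 4, 4, 8], [2, 2, 7, 7], [2, 2, 3, 5, 5, 6, 6], [0, 1, 3, 3, 5, 6], [1, 1, 5, 5], [4, 4, 5, 7, 8, 8], [0, 2, 2, 3, 3, 4], [0, 2, 4, 8], [2, 4, 4, 6, 7, 7], [1, 2, 3, 4, 4, 6, 7, 7], [5, 5, 7], [5, 7, 8, 8], [2, 4, 4, 6, 7, 7, 8], [0, 0, 2,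 4, 4, 7, 7], [0, 1, 1, 2, 5, 5], [2, 2, 3, 4, 5, 6, 6, 8], [1, 3, 3, 4, 4], [2, 2, 6, 7, 7, 8], [1, 8, 8], [1, 2, 2, 7, 7], [0, 2, 5, 5, 7], [1, 3, 3, 7, 7, 8], [1, 2, 5, 5], [0, 2, 4, 7, 8, 8], [0, 0, 3, 6], [2, 2, 5, 6, 6], [1, 3, 4, 5, 8], [0, 1, 3, 4, 4, 7], [1, 3, 4, 4, 5, 6, 8], [0, 1, 1, 2, 4, 4, 8], [0, 2, 3, 5, 5, 6, 6], [1, 4, 4], [2, 3, 3, 4, 5, 6, 8], [3, 4, 5, 6], [0, 0, 4, 7, 7], [1, 1, 2, 2, 3, 5, 7, 7], [1, 2, 3, 3, 4, 6, 8], [2, 3, 3, 4], [0, 0, 2, 5, 5], [0, 1, 1, 2, 3, 3, 5], [0, 3, 4, 4, 6, 6, 7, 7], [0, 2, 2, 3, 5, 5, 8], [2, 2, 4, 4], [1, 2, 3, 4, 5, 6, 6, 7], [0, 1, 1, 4, 4, 6, 7, 7], [1, 1, 3, 4, 4, 6], [4, 4, 6, 7, 8, 8], [2, 2, 3, 8], [0, 1, 1, 2, 4, 5], [0, 1, 2, 4, 5], [0, 2, 2, 3], [0, 4,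 6, 7, 8], [3, 4, 4, 5, 7, 7], [0, 1, 2, 3, 4, 4, 6, 7], [0, 1, 1, 2, 3, 3, 4], [0, 2, 4, 5, 5, 7], [2, 3, 6], [3, 4, 4, 8, 8], [0, 1, 6, 8], [3, 4, 5, 6, 8, 8], [0, 1, 2, 2, 6], [0, 0, 2, 2, 5, 6, 6], [2, 2, 5, 8], [1, 1, 2, 2, 6, 6], [0, 1, 3, 3], [0, 1, 1, 5, 6, 6, 7], [4, 4, 5, 5, 6, 8], [3, 7, 7, 8, 8], [4], [2, 2, 4, 7, 7, 8, 8], [0, 4, 4, 5, 5, 7, 7], [1, 4, 6, 7, 8], [1, 3, 3, 4, 8], [0, 1, 3, 3, 5, 7, 7], [0, 1, 1, 2, 5, 7], [1, 1, 3, 5, 5], [2, 2, 3, 4, 4, 6], [0, 0, 3, 4, 4, 5, 7, 7], [0, 1, 1, 2, 5, 5, 7], [5, 7], [4, 6, 6, 7, 7, 8, 8], [2, 3, 4, 7, 8], [4, 5, 6, 6, 8], [0, 1, 1, 2, 7], [0, 2, 3, 6], [2, 4, 4, 6, 7], [2, 2, 6, 7, 7, 8, 8], [2, 2, 4, 4, 6, 6], [1, 2, 2, 3, 5, 7, 7], [5, 6, 7, 8], [0, 1, 4],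 [5, 5, 7, 7], [1, 1, 2, 3, 4, 8], [0, 1, 5, 5, 6, 7], [0, 4, 4, 7, 7], [2, 3, 5, 5, 6, 6], [0, 0, 2, 3, 3, 4, 4], [3, 4, 5, 5], [2, 4, 4, 5, 5, 7], [1, 2, 5, 5, 7], [1, 2, 2], [4, 4, 7, 7], [2, 2, 4, 6, 7, 7, 8], [1, 2, 2, 3, 3, 4, 5, 7, 7], [1, 1, 4, 6, 8], [1, 3, 5, 5, 6, 7], [1, 3, 3, 5, 5], [5, 6, 7, 7, 8], [2, 4, 7, 8, 8], [4, 4, 6, 6], [1, 3, 4, 6, 6, 7, 7], [0, 1, 3, 3, 5], [4, 7, 7, 8, 8], [0, 3, 8], [0, 5, 5, 6, 8], [3, 3, 4, 5, 7, 7], [0, 2, 5, 7], [2, 2, 4, 5, 5, 8, 8], [1, 2], [1, 2, 4, 4, 7], [4, 5, 5], [1, 2, 3, 3, 4], [0, 1, 4, 4, 6, 8], [3, 4, 4, 5, 6], [2, 4, 6, 7], [2, 4, 6, 8], [0, 0, 4, 4, 5, 5, 8], [0, 0, 3, 6, 7], [2, 2, 3, 3, 4, 6, 7], [2, 2, 3, 3, 4, 4, 5], [0, 0, 2, 2, 6, 7, 8], [1, 4, 7, 8,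 8], [2, 2, 3, 4, 4, 7, 8], [0, 3, 4, 5, 6, 7, 8], [1, 2, 2, 3, 4, 6, 8], [0, 1, 2, 2], [0, 2, 4, 6], [2, 2, 4, 7, 8, 8], [0, 2, 4, 5, 5], [0, 0, 5, 6, 7, 7, 8], [1, 2, 3, 3, 5], [0, 1, 3, 3, 4, 4, 8], [3, 7, 7], [0, 0, 3, 4, 4, 5, 7], [0, 1, 2, 3, 3, 5], [1, 2, 2, 5, 8], [0, 1, 2, 2, 4, 5, 7, 7], [1, 2, 2, 4, 7, 8], [3, 3, 5, 7], [0, 2, 4, 4, 8], [1, 3, 3, 5], [1, 1, 2, 3, 7], [0, 4, 6, 6, 7, 8], [1, 2, 3, 4, 4, 7], [1, 2, 3, 4, 4, 7, 7], [1, 2, 3, 4, 4, 7, 8], [1, 2, 2, 3, 4, 6], [1, 2, 2, 3, 4, 5, 5], [2, 2, 3, 3, 5], [0, 4, 4, 5, 5, 8], [1, 1, 5], [2, 3, 8], [0, 3, 5, 5, 6, 8], [0, 1, 2, 3, 5, 6, 6], [1, 3, 4, 4, 5, 6, 6], [0, 3, 4, 4, 5, 5, 8], [3, 3, 7, 7], [0, 2], [3, 8], [1, 1, 4, 4, 5, 6, 6], [0, 0, 3, 4, 5,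 5], [1, 1, 2, 2, 3, 4, 4, 7], [0, 2, 3, 3, 5, 5], [3, 5, 5, 6, 7], [3, 5, 6, 6], [2, 2, 4, 4, 7, 8], [0, 4, 6, 8], [3, 3, 4, 5], [0, 2, 3, 5, 7], [3, 3, 4, 7, 7], [0, 2, 3, 7, 7], [1, 2, 4, 5, 6, 6], [4, 5, 8], [0, 3, 4, 6, 6, 7, 7], [0, 1, 4, 4, 6, 6], [0, 3, 5, 5, 8], [1, 3, 3, 7, 8], [1, 1, 4, 5, 5, 6], [0, 1, 2, 2, 4, 7], [0, 0, 1, 3, 4, 4], [0, 2, 2, 3, 4, 5, 5, 7], [0, 0, 2, 3, 4, 4, 7, 7], [0, 1, 2, 3, 3, 4, 4], [0, 0, 4, 4, 6, 6], [0, 3, 4, 4, 6, 8], [1, 1, 2, 2, 3, 4, 5], [2, 2, 3, 3, 4, 5, 6, 7], [1, 6, 7, 7, 8], [4, 6, 8], [2, 4, 6, 7, 7], [0, 0, 1, 2, 2, 3, 3], [4, 6, 7], [1, 2, 3, 3, 4, 6], [4, 6, 7, 8, 8], [3, 3, 5, 5], [5, 7, 7], [0, 0, 4], [0, 1, 4, 4, 6, 7], [2, 2, 3, 4, 4, 6, 7], [0, 0, 6, 8, 8], [0,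 1, 1, 2, 3, 7], [0, 1, 3, 4, 6, 6], [0, 0, 4, 4, 6, 7], [2, 4, 4, 6, 7, 8], [0, 3, 4, 4, 7, 8, 8], [0, 3, 4, 4, 5, 6, 7, 7], [1, 4, 6, 8], [0, 4, 4, 6, 6, 7, 8], [1, 2, 4, 5, 6, 7], [1, 1, 3, 5, 6], [0, 0, 1, 3, 4, 4, 7], [1, 3, 5, 5, 6, 8], [2, 2, 3, 4, 6, 6, 8], [0, 0, 2, 6, 6, 8], [4, 5, 5, 7, 7], [4, 6, 7, 7], [0, 0, 4, 8], [2, 6, 6, 7], [1, 1, 2, 2, 5, 5], [2, 4, 4, 6, 6], [0, 0, 2, 2, 4, 8], [2, 2, 4, 6, 6, 7, 7], [0, 1, 4, 6, 7], [1, 1, 2, 2, 6], [1, 2, 2, 3, 3, 4, 8, 8], [0, 0, 1, 1, 4], [0, 2, 3, 4, 7, 8], [1, 1, 2, 8], [2, 2, 6, 6, 7, 7], [0, 0, 5, 5, 7, 7], [1, 1, 4, 5, 5], [1, 3, 4, 5, 6], [0, 2, 2, 5, 5, 6, 7], [0, 1, 1, 3, 4, 6], [0, 3, 3, 4, 5, 7, 7], [3, 5, 6, 6, 7], [0, 0, 3, 3, 5, 8], [1, 1, 4, 4,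 6, 6], [0, 4, 4, 5], [0, 3, 3, 5, 8], [3, 3, 4, 4, 5], [0, 2, 5, 5, 7, 7], [0, 1, 5, 6, 6], [0, 2, 3, 8], [2, 8], [2, 3, 3, 4, 4, 7, 8], [0, 0, 4, 6, 8], [0, 2, 4], [0, 4, 6, 6, 7, 8, 8], [3, 3, 5, 6, 6, 8], [2, 2, 3, 3, 5, 5, 7], [0, 5, 6, 7, 8, 8], [0, 2, 2, 6, 7, 8], [0, 2, 7, 8], [1, 2, 2, 4, 6, 7], [0, 1, 1, 5], [3], [1, 2, 4, 4, 7, 8, 8], [0, 2, 2, 5, 7], [3, 4, 5, 7, 7], [0, 0, 1, 3, 3, 5, 8], [0, 1, 1, 2, 5], [0, 1, 2, 3, 4, 4], [2, 2, 5, 5, 6, 8], [0, 0, 4, 4, 5, 6, 7, 7], [0, 2, 2, 4, 8], [0, 3, 4, 5], [1, 2, 2, 3, 3, 4, 5], [0, 0, 1, 3, 3, 5, 6], [4, 5, 5, 6, 6, 7], [0, 0, 1, 4], [3, 5, 6, 7], [4, 4, 5, 6, 7, 8], [0, 1, 4, 5, 6], [1, 4, 6], [1, 1, 2, 4, 4, 7, 7], [3, 4, 5, 5, 8], [1, 1, 5, 8], [1, 3, 4, 4,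 5, 6, 6, 8], [0, 2, 4, 6, 7, 7, 8], [3, 5, 5, 6, 7, 7], [2, 2, 3, 4, 6, 6], [2, 3, 4, 4], [0, 0, 3, 3, 5], [0, 0, 1, 2, 6], [1, 3, 3, 4, 4, 8], [0, 2, 2, 7, 7], [1, 1, 2, 3, 3, 6], [0, 0, 4, 4, 6, 7, 7], [3, 4, 5, 5, 6], [0, 4, 4, 5, 5, 6, 6, 8], [0, 0, 2, 4, 4, 6], [2, 2, 3, 3, 7, 8], [3, 5, 5, 6, 6], [6, 8], [2, 5, 6], [4, 4, 5, 6, 7, 7, 8], [3, 3, 4, 4, 8], [2, 2, 4, 5, 5, 7, 7], [0, 1, 3, 4, 4, 5, 6, 6, 8], [4, 4, 5, 6, 7, 7], [1, 2, 3, 5], [3, 3, 5, 5, 7], [1, 1, 2, 3, 4, 7], [0, 4, 4, 6, 7, 8], [2, 3, 4, 4, 7, 8, 8], [0, 1, 3, 3, 4], [0, 5, 6, 7, 7, 8], [0, 0, 3, 4, 4, 8], [1, 3, 3, 5, 7], [5, 7, 7, 8], [1, 3, 3, 4, 5], [3, 4, 5, 6, 6], [1, 3, 3, 7], [1, 4, 4, 8], [2, 2, 5, 5, 7], [0, 0, 4, 4, 5, 5, 7, 8], [0,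 1, 1, 4, 4, 5, 6, 6], [1, 2, 4, 5], [1, 2, 2, 3, 3], [0, 1, 3, 3, 4, 4, 7], [5, 5, 6, 6, 8, 8], [0, 3, 4, 4, 6, 6], [1, 3, 4, 6, 6], [0, 3, 5, 5], [2, 2, 4, 5, 6, 7, 8], [5, 6, 6, 8], [0, 0, 2, 2, 6], [4, 5, 6, 6], [4, 4, 5, 6], [4, 4, 5, 5, 6, 6], [3, 3, 5, 6], [0, 1, 1, 5, 8], [4, 7, 7], [0, 1, 3, 4, 7], [0, 0, 4, 6, 6], [0, 0, 1, 3, 4, 6, 7], [3, 3, 4, 6, 6, 7, 7], [2, 4, 4, 5, 7], [2, 2, 5, 5, 7, 7], [0, 3, 4, 5, 6, 8], [4, 5, 6, 7, 7], [0, 0, 3, 4, 4, 6, 6], [0, 1, 3, 3, 4, 4, 5, 6], [0, 0, 7, 8], [2, 3, 3, 4, 4, 5], [0, 4, 6, 6, 7, 7], [1, 1, 2, 4], [1, 2, 2, 3, 5, 7], [2, 3, 3, 4, 4, 7, 8, 8], [0, 2, 2, 7], [2, 2, 5, 5, 8, 8], [3, 3, 4, 4, 5, 7], [0, 2, 2, 3, 4], [0, 0, 6, 6, 7, 7, 8, 8], [0, 0, 1, 3, 4, 4, 7,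 7], [0, 0, 4, 4, 5, 7, 7, 8], [1, 3, 5, 5, 6, 6, 8], [1, 1, 2, 2, 3, 4, 4], [2, 3, 3, 4, 6], [3, 4, 5, 5, 6, 7, 8], [5, 6, 8], [0, 2, 2, 5], [0, 1, 1, 2, 3, 3, 4, 7], [2, 2, 5, 7, 7, 8], [0, 0, 1, 3, 3, 5, 7], [4, 6, 6, 7], [0, 0, 1, 4, 4, 5], [2, 2, 7, 8], [1, 1, 2, 2, 4, 4, 7], [0, 1, 2, 2, 4, 8, 8], [1, 1, 2, 2, 3, 3, 4], [0, 0, 3, 4, 5, 5, 6], [1, 2, 4, 5, 6, 8], [2, 2, 4, 5, 5, 6], [0, 1, 1, 2], [3, 4, 5, 5, 6, 6, 7], [1, 2, 2, 4, 5, 5, 6], [0, 0, 6, 6, 7, 8, 8], [3, 3, 8], [1, 4, 5], [0, 0, 5, 7], [1, 4, 5, 8], [0, 4, 5], [1, 7], [2, 5, 8], [3, 4, 6], [0, 6, 7, 7, 8], [0, 0, 1, 2, 2, 3, 4, 5], [0, 0, 1, 1, 2, 2, 5, 6], [2, 2, 3, 3, 6, 6], [1, 5, 6, 7], [0, 0, 6, 6], [1, 1, 5, 6, 7], [5, 6, 6, 7], [1, 2, 2, 3,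 6], [1, 4, 7, 8], [0], [0, 4, 6, 6, 7, 7, 8, 8], [0, 1, 1, 4, 4, 5, 8, 8], [0, 1, 4, 4, 7], [1, 2, 4, 4, 8, 8], [2, 7, 8], [0, 1, 2, 3, 4, 4, 6], [0, 0, 2, 4, 5], [0, 0, 4, 4, 5, 5, 7], [0, 3, 4, 7, 8], [6, 6, 7, 7, 8], [3, 4, 4, 5, 8], [0, 1, 2, 3, 5, 8], [2, 2, 4, 4, 5], [0, 1, 1, 2, 2, 5, 6], [2, 2, 4, 4, 8], [2, 2, 3, 3, 4], [4, 4, 5, 5, 7, 7], [2, 4, 5, 5, 6], [0, 0, 1, 3, 5, 5], [1, 1, 2, 2, 4, 7, 7], [1, 5, 6, 7, 7], [0, 0, 8, 8], [2, 3, 3, 4, 4, 5, 5, 7], [0, 3, 4, 4, 5, 6], [0, 1, 2, 2, 3, 3], [0, 0, 4, 4, 7, 8], [1, 2, 3, 3, 4, 5], [1, 2, 3, 3], [0, 1, 1, 4, 4, 7], [0, 0, 2, 3, 3, 5, 6], [0, 0, 1, 1, 3, 5], [2, 2, 3, 4, 8], [2, 7, 8, 8], [1, 2, 4, 6, 7], [2, 4, 5, 6, 6], [0, 5, 5, 6, 8, 8], [1, 2, 4, 4, 6],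 [2, 2, 5, 6, 7], [0, 0, 2, 3, 4], [0, 0, 4, 4, 5, 7, 7], [1, 2, 3, 3, 5, 5], [2, 2, 6, 6, 7, 8], [1, 1, 5, 5, 6, 6, 7], [1, 4, 4, 6, 7, 7], [0, 1, 3, 3, 4, 4, 5, 7], [2, 4, 6], [1, 1, 2, 2, 4], [0, 1, 3, 3, 4, 7, 7], [0, 1, 4, 4, 5], [1, 3, 4, 6], [0, 3, 4, 6, 6], [4, 4, 7], [1, 4, 5, 6, 6], [0, 4, 4, 6, 7], [0, 3, 4, 5, 5, 8, 8], [3, 4, 4, 6, 7], [0, 4, 4, 5, 7, 8], [4, 4, 5, 8], [2, 5, 7, 8, 8], [1, 2, 3, 4, 4, 5, 5], [0, 0, 1, 2, 4, 4, 8], [0, 3, 6, 7, 8, 8], [0, 2, 5, 5], [0, 4, 4, 5, 7, 7], [1, 5, 6, 6, 7], [1, 2, 4, 4, 7, 7], [1, 1, 3, 4, 4, 5, 6, 6], [4, 5, 5, 7, 8], [2, 4, 5, 8, 8], [0, 0, 8], [5], [0, 0, 5, 5, 7], [3, 3, 7, 8], [0, 0, 2, 2, 4, 5, 6, 6], [2, 3, 3, 4, 5, 6], [0, 3, 5, 6, 8], [0, 1, 1, 4, 6, 8],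 [0, 2, 4, 7, 8], [0, 1, 2, 3, 5], [3, 3, 4, 5, 8], [3, 3, 5, 6, 6, 7], [0, 0, 3, 3], [0, 3, 4, 5, 5, 6], [0, 2, 3, 4, 6], [0, 4, 4, 5, 7, 7, 8], [1, 1, 5, 6, 8], [2, 3, 3, 4, 4, 5, 7], [1, 2, 3, 3, 6], [0, 3, 4, 4, 7, 7, 8], [1, 3, 5, 5, 6], [3, 6, 8, 8], [2, 4, 5, 5, 7], [0, 0, 4, 5, 6], [0, 2, 3, 4, 6, 7], [3, 4, 4, 5, 6, 7, 7], [2, 4, 4, 5, 5, 7, 8], [0, 0, 1, 2, 2, 4, 7], [3, 4, 4, 7, 8, 8], [1, 1, 3, 3, 4, 4, 5], [1, 1, 5, 5, 6, 6], [0, 3, 4, 4, 7], [2, 3, 4, 4, 7], [0, 0, 1, 1, 2, 2], [1, 2, 4, 7], [1, 3, 3, 7, 7, 8, 8], [1, 4, 4, 6, 6, 8], [2, 2, 4, 7], [1, 1, 4, 4, 5, 8, 8], [1, 1, 2, 5, 5], [0, 2, 4, 5, 5, 6], [2, 2, 3, 3, 7], [0, 0, 4, 5, 6, 7, 8], [1, 2, 2, 3, 7, 7], [0, 0, 2, 2, 5, 7], [0, 1, 2, 3, 4, 4,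 7], [1, 3, 4, 5], [0, 1, 1, 2, 2, 3, 4], [6], [1, 2, 5, 5, 8], [0, 0, 4, 4, 5, 6, 7], [3, 5, 8, 8], [1, 1, 4, 4, 5, 8], [0, 3, 4, 6, 7, 7], [0, 1, 2, 2, 3, 4, 5], [0, 3, 3], [0, 6, 7], [2, 5, 5, 7, 8], [0, 3, 4, 5, 6, 7], [1, 1, 2, 4, 8, 8], [0, 3, 3, 4, 8], [1, 4, 4, 5, 8], [3, 3, 4, 4, 5, 8], [0, 2, 6, 7, 8], [2, 2, 3, 3], [0, 3, 3, 4, 5, 7], [0, 1, 2, 4, 7], [0, 2, 4, 8, 8], [0, 0, 3, 8, 8], [0, 0, 6, 6, 7, 7], [2], [3, 3, 4, 6, 7, 7], [2, 2, 4, 5, 6, 6, 8], [0, 0, 2, 4, 4, 8], [1, 3, 5, 5], [0, 1, 1, 2, 8], [0, 4, 4, 6, 6, 7, 8, 8], [3, 4, 5, 6, 6, 7], [2, 4, 5], [2, 2, 3, 4, 5], [1, 1, 2, 3, 3, 4, 4], [0, 1, 2, 3, 3], [1, 3, 5, 6, 6], [2, 2, 5, 6], [2, 2], [2, 2, 3], [0, 0, 2, 8, 8], [3, 3, 4, 4, 6, 7, 8, 8], [0,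 4, 4, 5, 6, 6], [0, 2, 6, 8], [3, 4, 5, 6, 7, 8], [3, 5, 5, 8], [1, 4, 4, 5, 5, 6, 7], [3, 4, 6, 7], [0, 0, 4, 6], [0, 0, 5, 6, 7], [6, 6, 7, 7], [0, 0, 3, 5], [4, 4, 5, 5, 6, 6, 8], [1, 1, 3, 4, 4, 5, 6], [0, 0, 4, 4, 5, 8, 8], [7, 8, 8], [5, 6, 6, 8, 8], [0, 0, 1, 2, 2], [0, 1, 2, 5, 5, 7], [1, 2, 2, 3, 3, 5, 5], [1, 2, 4, 6, 8], [0, 1, 4, 4, 7, 7], [1, 1, 4, 8, 8], [1, 1, 4, 4, 7, 7], [1, 1, 4, 4], [2, 2, 3, 3, 4, 6, 8], [3, 3, 4, 4, 6, 7, 8], [3, 5, 5], [2, 3, 5, 6, 6, 7], [2, 3, 4, 4, 5, 7], [2, 2, 4, 6, 6, 7, 8], [2, 2, 3, 4, 4, 7], [1, 2, 3, 3, 7], [0, 1, 2, 5, 5, 8], [0, 1, 1, 4, 4, 5, 6], [1, 1, 2, 2, 4, 8], [5, 5, 6, 6, 7, 7], [0, 0, 1, 1, 4, 4, 5], [5, 5], [2, 4, 4, 6], [0, 0, 4, 6, 7], [1, 3, 3, 5, 5, 7],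 [2, 4, 4, 5, 6, 6], [1, 4, 4, 6, 7, 8], [0, 0, 1, 2, 2, 6], [1, 4, 6, 7, 7], [0, 4, 5, 5, 6, 8], [0, 0, 1, 1, 4, 4, 6, 6, 7], [4, 5, 5, 6, 6], [0, 0, 4, 4, 5, 7, 8, 8], [2, 2, 4, 7, 7, 8], [2, 3, 3, 4, 5, 6, 7, 8], [0, 2, 5, 8], [2, 2, 3, 5, 8], [3, 3, 4], [3, 4, 7, 7], [2, 2, 4, 5, 8], [1, 4, 5, 6], [3, 3, 5], [0, 0, 1, 3, 4, 7], [1, 2, 2, 4, 6, 6, 7], [1, 1, 3, 4, 5], [1, 4, 5, 5], [1, 1, 2, 3, 4, 4], [1, 2, 2, 4, 5], [1, 2, 2, 5, 7, 8], [0, 2, 6, 6, 7], [1, 2, 3, 3, 4, 7, 7], [1, 4, 4, 8, 8], [0, 5, 5, 6], [2, 3, 5, 6, 6, 8], [0, 0, 4, 4, 7, 8, 8], [3, 4, 5, 6, 7], [3, 4, 5, 5, 7, 8, 8], [1, 2, 4, 5, 6, 6, 7], [2, 4, 4, 8, 8], [0, 0, 1, 4, 5, 6, 8], [0, 0, 3, 4, 4, 5, 6, 7], [3, 4, 6, 7, 7], [0, 0, 2, 3, 5, 5, 6],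 [0, 1, 2, 2, 3, 3, 4, 7], [0, 4, 6], [1, 4, 4, 5, 8, 8], [2, 3, 5, 8, 8], [0, 0, 1, 4, 4, 6], [0, 1, 2, 2, 5], [0, 0, 4, 5, 8], [0, 0, 3, 4, 4, 8, 8], [1, 2, 4, 5, 8], [0, 0, 2, 4, 5, 7], [0, 0, 7, 7], [1, 1, 5, 6, 6], [0, 4, 4, 6, 7, 7], [4, 5, 6, 6, 7, 7], [0, 0, 5], [0, 0, 6, 7], [4, 4, 6, 7], [0, 0, 1, 2, 2, 4], [0, 2, 3, 3], [0, 2, 2, 4, 6, 7], [0, 6, 6, 7], [0, 0, 1, 1, 2], [3, 3, 4, 4, 6, 8, 8], [1, 2, 3, 4, 4, 8], [1, 2, 5, 6], [0, 1, 2, 3, 3, 4, 6], [3, 4, 5, 7], [0, 4, 5, 6, 6], [0, 2, 3, 3, 4, 6], [0, 2, 4, 4, 7, 7], [8], [5, 8, 8], [0, 0, 3, 4, 4, 5, 6], [0, 1, 2, 2, 6, 6], [0, 2, 5, 5, 7, 8], [2, 2, 4, 5, 5, 7], [1, 1, 3, 4, 6, 6], [0, 0, 3, 4, 4, 6, 6, 7], [2, 3, 3, 4, 5, 6, 7], [2, 2, 5, 6, 7, 7], [0,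 0, 4, 4, 5], [1, 1, 2, 4, 4, 7], [0, 1, 1, 2, 4, 8], [1, 2, 3, 3, 4, 8, 8], [2, 3, 3, 4, 7, 7], [0, 2, 3, 3, 8, 8], [0, 6, 6, 7, 8, 8], [1, 3, 5], [0, 3, 4, 6, 6, 7], [0, 6, 6, 7, 8], [0, 3, 4, 5, 6, 6], [0, 1, 3, 3, 4, 5], [0, 2, 4, 6, 8], [2, 3, 3, 6], [1, 1, 2, 3, 3, 4, 6], [0, 2, 4, 5], [2, 2, 3, 4, 7, 8], [0, 5], [0, 2, 5, 7, 8, 8], [3, 4, 4, 6, 6, 7, 7, 8], [0, 0, 3, 4, 6, 8], [4, 5, 5, 6], [0, 0, 1, 2, 2, 7], [2, 3, 4, 8], [0, 7, 7], [1, 1, 2, 3, 4], [2, 3, 3, 4, 7], [2, 3, 3, 6, 7, 7], [0, 3, 4, 4, 5, 5, 6, 7], [1, 2, 3, 3, 4, 7, 8], [0, 4, 4, 5, 5], [0, 2, 2, 6, 7], [0, 4, 4, 7], [6, 7, 7, 8], [3, 3, 4, 4, 7, 8], [0, 3, 5, 5, 6, 7], [2, 3, 4, 4, 7, 7], [0, 7, 7, 8, 8], [0, 1, 2, 4, 4, 7, 8], [0, 3, 4, 6], [0,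 5, 7], [0, 1, 6], [0, 2, 3, 3, 4, 4, 7], [2, 3, 3, 5, 7], [4, 8, 8], [4, 7, 8, 8], [0, 0, 5, 6], [2, 2, 5, 5, 8], [0, 3, 5, 8, 8], [0, 0, 1, 2, 2, 5], [1, 2, 4, 4, 5, 7], [0, 0, 7, 7, 8], [2, 4, 4, 5, 7, 7], [0, 0, 1, 3, 4, 4, 6], [0, 0, 4, 4, 5, 6], [1, 2, 2, 3, 4, 5, 6, 6], [0, 1, 3, 5, 6], [0, 0, 5, 5, 8], [0, 0, 1, 2, 6, 6], [5, 5, 6, 8, 8], [0, 3, 4, 7, 7], [1, 1, 5, 5, 7, 7], [2, 4, 4, 7, 8], [0, 3, 6, 8], [0, 1, 3, 3, 4, 8], [2, 4, 4, 5, 5, 8], [2, 2, 3, 5, 7], [2, 4, 5, 6, 8], [0, 0, 2, 2, 4, 6], [1, 4, 5, 5, 6], [2, 4, 4, 5, 7, 8], [0, 4, 4, 5, 6, 6, 8], [4, 6, 7, 7, 8], [0, 1, 3, 4, 4, 5, 6, 6], [1, 2, 2, 4, 6, 7, 7], [2, 3, 4, 4, 5, 5, 6], [0, 0, 2, 4, 4, 5], [3, 4, 5, 5, 6, 6, 8, 8], [0, 1, 2, 2, 5, 7],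 [1, 2, 2, 3, 4, 4], [3, 3, 5, 5, 6, 6], [1, 1, 3, 4, 4, 6, 6], [0, 2, 3, 5], [1, 3, 3, 5, 6, 6], [0, 0, 2, 6, 6], [1, 4, 4, 6], [1, 1, 3, 3, 5], [2, 3, 4, 5, 5, 6], [0, 1, 8], [1, 2, 3, 4, 4, 6], [1], [0, 5, 5, 6, 7, 7], [0, 0, 3, 5, 7], [0, 1, 4, 8], [3, 4], [0, 3, 4, 4, 8, 8], [2, 3, 5, 7], [1, 3, 3, 4, 4, 5, 7], [2, 5, 5, 8, 8], [0, 2, 3, 6, 7], [0, 3, 4, 5, 5, 8], [4, 4, 5, 5, 6, 7], [2, 3, 3, 4, 4], [1, 1, 3, 3, 4, 8], [3, 7, 8], [0, 0, 5, 6, 7, 8], [1, 6, 7, 7], [4, 4, 6, 6, 7, 8, 8], [1, 4, 7], [1, 1, 2, 3, 4, 6, 6], [2, 2, 4, 6, 7, 8, 8], [0, 0, 2, 2, 4, 5, 7, 8], [0, 1, 2, 2, 3, 3, 5], [1, 2, 5, 7], [0, 0, 1, 5, 5, 6, 7], [0, 0, 3, 4, 8], [1, 1, 2, 5, 5, 7], [0, 0, 1, 4, 8], [0, 3, 3, 5, 5, 8], [2, 4, 5, 5,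 6, 7], [1, 2, 6], [0, 1], [0, 0, 1, 2, 4, 6], [0, 0, 7], [0, 4, 4, 5, 8, 8], [0, 1, 4, 5, 7], [0, 1, 4, 4, 6], [1, 2, 6, 6], [4, 5, 6, 7, 7, 8], [2, 5, 5, 8], [0, 6], [2, 5, 7], [6, 6, 7, 8], [0, 3, 3, 5, 6], [1, 2, 2, 4], [0, 3, 3, 4, 4], [0, 2, 3, 6, 7, 7], [0, 2, 2, 3, 4, 6, 8], [1, 3, 3, 4], [3, 3, 5, 7, 7, 8], [0, 1, 2, 4, 4, 5], [0, 0, 3, 3, 4, 4, 8], [1, 1, 2, 2, 3], [0, 0, 3, 4, 6, 7], [1, 4, 4, 5, 5, 6], [1, 4, 4, 6, 6], [5, 5, 8, 8], [2, 3, 3, 8], [1, 2, 2, 3, 4, 7, 7], [0, 3, 5, 6, 7], [3, 3, 4, 4, 6, 7], [2, 2, 6, 6, 8], [0, 2, 2, 3, 4, 5], [0, 2, 2, 3, 4, 5, 7], [0, 0, 4, 4], [1, 4, 4, 7], [1, 1, 2, 2, 6, 8], [0, 4, 5, 6, 7, 8], [0, 2, 2, 4, 5, 6, 6], [0, 1, 3, 4, 5, 6, 6], [1, 3, 3, 4, 4, 5, 6, 6], [1,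 8], [2, 3, 4, 5], [1, 2, 3, 4, 7], [1, 2, 2, 5, 7], [1, 2, 2, 5], [0, 1, 3, 3, 4, 4, 5], [0, 2, 2, 4, 8, 8], [3, 4, 4, 6, 6, 7], [3, 3, 4, 4], [0, 2, 4, 7, 7], [0, 2, 5, 5, 8], [0, 2, 2, 3, 8], [0, 3, 3, 5], [0, 1, 2, 4, 4, 5, 6, 7], [3, 4, 4, 5, 5, 6, 7], [3, 3, 5, 6, 7], [1, 7, 8], [4, 6, 7, 8], [0, 4, 4, 7, 8], [2, 4, 4, 8], [2, 2, 5], [0, 1, 1, 4, 4, 7, 7], [0, 4, 5, 5, 6, 6, 7], [2, 4, 8], [0, 0, 5, 7, 7], [1, 1, 2, 7], [1, 1, 2, 5, 7], [0, 1, 5, 5, 8, 8], [0, 0, 1, 5, 5, 6], [0, 1, 2, 4, 4, 6], [0, 0, 1, 5], [4, 5, 6, 7, 8], [1, 2, 2, 3, 3, 7], [2, 2, 3, 3, 4, 5, 6], [0, 3, 5, 6, 8, 8], [0, 4, 4, 5, 5, 7], [1, 3, 3, 4, 7, 7], [1, 2, 6, 8], [1, 2, 3, 4, 5, 7], [0, 2, 3, 7], [0, 4, 4, 5, 6, 7, 7], [1, 1, 2, 2, 3,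 5, 5], [1, 1, 4, 5, 5, 7], [0, 1, 2, 4, 4], [1, 2, 3, 6, 7], [0, 0, 5, 6, 7, 8, 8], [2, 2, 3, 4, 6], [1, 1, 2, 2, 3, 5, 7], [0, 0], [3, 4, 7], [2, 4], [0, 0, 2, 3, 4, 7, 7], [0, 1, 4, 5, 7, 7], [2, 5, 7, 8], [2, 4, 5, 5], [1, 2, 2, 3, 4, 5, 7], [2, 5, 5, 7, 7], [2, 3, 3, 5], [0, 3, 4, 4], [1, 4, 5, 5, 6, 7], [0, 1, 2, 6], [1, 2, 2, 4, 5, 7], [2, 2, 5, 6, 8], [4, 4, 5, 5, 7, 7, 8], [1, 2, 2, 7], [3, 5, 5, 6, 7, 7, 8], [2, 2, 6, 6, 7], [2, 2, 4, 5, 5, 8], [2, 2, 4, 4, 6, 7], [1, 1, 3, 5], [2, 6, 8], [0, 0, 1, 1, 3, 5, 5], [1, 1, 4, 4, 6, 7, 7], [4, 5, 7, 7], [0, 0, 1, 2, 2, 3], [1, 4, 6, 7], [3, 6], [0, 3, 4, 4, 8], [0, 5, 6, 7], [3, 5, 6], [0, 5, 8], [2, 2, 3, 4, 5, 5, 6], [0, 0, 1, 2, 4, 4, 7], [0, 2, 3, 4, 5], [2,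 2, 3, 5, 8, 8], [2, 2, 5, 6, 7, 7, 8], [0, 0, 1, 4, 7], [3, 4, 4, 5, 6, 6, 7], [3, 6, 7, 7], [1, 2, 2, 3, 4, 7], [0, 0, 1, 1, 2, 2, 4], [0, 6, 7, 8, 8], [0, 5, 5, 8, 8], [3, 4, 5, 5, 7, 8], [0, 0, 2], [3, 4, 4, 6, 7, 7], [0, 5, 5, 8], [1, 2, 2, 6], [0, 0, 1, 4, 5], [3, 6, 7, 7, 8], [1, 1, 4, 4, 7], [0, 1, 2, 5, 5, 8, 8], [0, 2, 2, 3, 3, 4, 6, 6], [3, 4, 4, 6, 8, 8], [3, 5, 6, 7, 7], [1, 4, 4, 5, 5], [2, 3, 3, 7, 7, 8], [0, 1, 2, 3, 3, 5, 5], [2, 2, 6, 7, 8, 8], [2, 3, 3, 4, 6, 8, 8], [1, 2, 3, 3, 4, 4, 6, 7, 7], [0, 2, 3, 4, 5, 5, 6], [2, 2, 5, 5, 6, 7], [0, 3, 5, 5, 7], [0, 2, 2, 6], [4, 4, 5, 5, 7, 8], [1, 1, 2, 2, 4, 5, 5], [0, 0, 1, 1, 5], [2, 2, 4, 7, 8], [0, 4, 6, 7, 7, 8], [0, 6, 8], [0, 0, 5, 5, 8, 8], [3, 4,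 4, 7, 7, 8], [1, 1, 2, 3, 4, 7, 8], [0, 2, 3, 5, 8], [4, 5, 7, 8], [2, 4, 6, 6], [2, 2, 5, 7, 8, 8], [2, 2, 7, 7, 8], [0, 2, 3, 3, 4, 5, 6], [2, 2, 5, 5, 6, 6], [0, 0, 6, 6, 7], [3, 4, 6, 6], [0, 0, 4, 4, 6, 7, 8], [0, 1, 3, 3, 7], [0, 3, 4, 4, 5], [0, 1, 2, 4, 8, 8], [2, 3, 3, 5, 5, 8], [2, 2, 5, 7], [0, 0, 1, 3, 5, 6], [2, 2, 7, 8, 8], [1, 2, 5, 5, 8, 8], [0, 1, 3, 4, 4, 6], [2, 2, 4, 5, 7, 7], [3, 4, 4, 5, 5, 8], [2, 4, 5, 5, 7, 7], [0, 1, 1, 5, 6, 6], [0, 2, 3, 3, 7, 8], [0, 3, 7, 8, 8], [2, 4, 7], [3, 4, 4, 5], [4, 6, 6, 7, 7], [0, 1, 1, 4, 4, 5], [3, 4, 8], [0, 0, 3, 4, 6], [2, 3, 4, 4, 5], [0, 2, 2, 4, 7], [0, 0, 2, 2, 6, 7], [0, 2, 4, 4, 8, 8], [1, 2, 2, 3, 3, 4], [1, 2, 2, 4, 7], [2, 3, 5], [1, 2, 3, 3, 6,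 6], [2, 2, 3, 6, 8], [3, 3], [0, 3, 4, 5, 8], [0, 2, 4, 4], [0, 0, 4, 4, 6, 8], [0, 0, 5, 6, 7, 7], [0, 0, 1, 3, 3, 5], [1, 3, 3, 4, 4, 7], [0, 1, 1, 2, 3, 3, 4, 4], [0, 0, 3, 4], [0, 3, 4, 6, 6, 8], [0, 0, 1], [0, 6, 6, 7, 7], [3, 4, 4, 5, 6, 6], [3, 4, 4, 5, 6, 6, 8], [0, 0, 2, 4, 4, 6, 7], [1, 2, 2, 3, 5, 7, 7, 8], [0, 0, 4, 4, 7], [1, 4, 4, 5, 5, 6, 8], [2, 4, 4, 5, 6, 7, 7], [3, 4, 4, 6, 6, 8], [1, 1, 3, 3, 4, 7], [3, 4, 4, 6, 6], [1, 2, 2, 5, 7, 7], [1, 2, 2, 4, 6, 6], [0, 4, 4, 5, 5, 6], [2, 2, 7], [0, 2, 3, 3, 4, 4, 7, 8], [1, 2, 3, 5, 8], [3, 3, 4, 5, 8, 8], [2, 2, 4, 4, 5, 5, 6], [2, 4, 4, 5, 8], [1, 5, 5, 6, 7], [0, 0, 2, 2, 4, 5, 8], [2, 2, 3, 4, 6, 7], [2, 6], [3, 5, 7, 7], [0, 0, 4, 5, 6, 8], [0, 4, 5,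 6, 7], [0, 1, 1, 2, 4, 4], [5, 6, 7, 8, 8], [2, 2, 4, 5, 5], [0, 0, 2, 4, 4, 7], [0, 0, 3, 4, 4, 5, 5], [0, 0, 3, 3, 5, 5, 6], [0, 2, 5, 6, 7], [0, 1, 4, 8, 8], [0, 0, 5, 5, 6, 8], [1, 1, 2, 2], [2, 5, 5, 7], [0, 1, 2, 3, 5, 7], [0, 0, 4, 5, 6, 7, 7], [0, 1, 1, 2, 3, 4, 4, 6], [0, 1, 1, 4, 4], [0, 2, 2, 6, 8], [1, 5, 6], [1, 1, 2], [0, 1, 2, 3, 4, 6, 8], [3, 3, 4, 6, 6], [0, 3, 4, 4, 5, 7], [0, 1, 3, 4, 6], [0, 1, 2, 4, 4, 7], [3, 6, 7, 7, 8, 8], [0, 4, 6, 7, 7], [2, 3, 3, 4, 4, 8, 8], [0, 1, 2, 2, 5, 6], [0, 4, 6, 6], [1, 2, 3, 4, 6], [1, 4, 7, 7], [0, 4, 5, 5], [0, 1, 1, 3, 5, 5, 8], [1, 5, 6, 8, 8], [1, 3, 3, 4, 4, 5, 7, 7], [2, 4, 6, 6, 8], [0, 5, 7, 7], [2, 3, 4, 6], [0, 1, 1, 3, 5, 5], [0, 5, 5, 7], [0, 4, 5,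 5, 6, 7, 7], [4, 4, 7, 8], [2, 2, 5, 5, 6, 8, 8], [0, 1, 2, 8, 8], [0, 2, 3, 4, 4, 6, 8], [1, 2, 5, 6, 7], [6, 6, 7, 8, 8], [0, 2, 3, 4], [3, 3, 5, 6, 6], [0, 0, 6, 6, 8], [1, 4, 5, 5, 6, 8], [0, 1, 4, 4, 5, 8], [2, 2, 3, 4, 4], [0, 4, 8, 8], [2, 4, 5, 6, 6, 7], [0, 5, 5, 6, 7], [1, 1, 2, 2, 3, 3], [0, 0, 2, 4, 5, 5, 6], [0, 0, 4, 5, 6, 6, 7, 7], [0, 4, 6, 6, 7], [0, 2, 4, 4, 6, 7, 8], [1, 3, 3, 4, 5, 8], [2, 4, 4], [0, 3, 3, 5, 5, 8, 8], [1, 1, 2, 4, 4, 6], [1, 4, 5, 6, 6, 7], [0, 4, 6, 6, 8, 8], [0, 6, 6, 8, 8], [3, 4, 4, 5, 7], [2, 2, 6, 6], [1, 3, 3, 4, 7, 8], [0, 3, 4, 4, 5, 5], [1, 2, 4, 4, 8], [1, 1, 2, 2, 6, 7], [0, 3, 4, 4, 5, 8], [0, 4, 6, 6, 7, 7, 8], [5, 6, 6], [0, 0, 4, 4, 6, 6, 7], [0, 4, 5, 5, 6, 7],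 [0, 1, 1, 3, 4, 4, 5, 6], [4, 4, 5], [1, 4, 5, 7, 7], [0, 0, 6, 6, 7, 8], [2, 3, 6, 7, 7], [2, 2, 5, 5, 6, 7, 8], [0, 0, 2, 2, 5], [1, 5, 5, 7], [0, 0, 4, 4, 8], [0, 2, 3, 4, 4, 5, 5, 6, 6], [2, 3, 3, 5, 8, 8], [0, 4, 6, 6, 8], [1, 2, 2, 3, 5, 7, 8], [0, 0, 2, 4], [2, 3, 4, 4, 8], [0, 2, 2, 5, 5, 6], [3, 3, 4, 4, 6, 6, 7], [0, 3, 4, 4, 5, 6, 6], [3, 3, 4, 4, 6, 6], [1, 2, 2, 8], [0, 0, 2, 2, 4, 5, 7], [0, 2, 3, 4, 5, 6, 6], [2, 5, 6, 7], [3, 7], [3, 3, 7, 7, 8, 8], [1, 1, 2, 2, 6, 8, 8], [1, 3, 3, 4, 4, 8, 8], [3, 3, 7, 8, 8], [2, 3, 4, 4, 8, 8], [0, 2, 3, 5, 7, 7], [3, 4, 4, 6, 8], [1, 4, 6, 8, 8], [2, 5, 5], [3, 3, 5, 5, 8, 8], [0, 1, 2, 3, 3, 8], [3, 3, 5, 5, 8], [0, 6, 8, 8], [0, 1, 1, 5, 6, 8], [3, 3, 7], [0, 2,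 2, 3, 4, 6], [1, 2, 4, 4, 7, 8], [1, 1, 5, 5, 7], [0, 8, 8], [0, 0, 2, 8], [1, 4, 5, 5, 7], [1, 6], [2, 2, 4, 8], [6, 7, 7, 8, 8], [1, 5, 6, 8], [0, 1, 5, 5, 6], [1, 5, 5, 6, 6], [0, 4, 4, 5, 6], [0, 1, 1, 3, 3, 4], [0, 4, 5, 8], [0, 1, 1, 3, 5], [2, 4, 8, 8], [0, 0, 4, 5, 6, 6, 8], [1, 4, 4, 7, 8], [0, 1, 2, 2, 7], [1, 1, 2, 5], [2, 4, 5, 6, 6, 7, 8], [0, 1, 5], [2, 2, 3, 4, 6, 6, 8, 8], [0, 1, 1, 4, 4, 5, 8], [2, 7], [0, 3, 4, 4, 5, 6, 6, 7], [1, 4, 5, 7], [2, 3, 4, 4, 6, 8, 8], [1, 2, 3, 7], [6, 6, 7], [1, 2, 3, 3, 4, 7], [1, 4, 4, 7, 7], [2, 3, 3, 4, 4, 6, 7], [2, 2, 3, 4, 5, 6, 6], [1, 4, 8, 8], [1, 2, 3, 4, 8], [1, 1, 2, 2, 8], [0, 3, 4, 5, 7, 7], [0, 1, 2, 6, 8], [1, 1, 2, 2, 3, 4, 7], [6, 6], [4, 4, 6, 6, 7],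 [1, 2, 3, 4], [3, 4, 5, 6, 7, 7, 8], [1, 1, 5, 7], [0, 1, 2, 2, 3, 3, 4], [1, 3, 5, 5, 7, 8], [1, 6, 7, 8], [3, 4, 5, 6, 7, 7], [2, 3, 3, 5, 7, 7], [0, 1, 2, 5, 7], [1, 1, 4, 5, 5, 6, 7], [0, 0, 1, 3, 3, 5, 7, 7], [0, 1, 2, 3, 4, 7], [0, 1, 3, 3, 4, 4, 5, 5], [1, 5, 8, 8], [0, 3, 4, 5, 5], [0, 0, 1, 1, 2, 2, 5], [0, 2, 2, 3, 4, 5, 5], [0, 1, 1, 2, 4], [3, 4, 4, 5, 5, 6, 7, 8], [2, 4, 4, 7, 7], [0, 2, 3, 3, 7], [2, 3, 4, 4, 6, 7], [0, 4, 4, 8, 8], [0, 0, 3, 3, 5, 6], [1, 2, 2, 3, 4, 5, 6], [0, 0, 2, 2, 4, 7], [0, 0, 4, 5], [2, 4, 4, 5, 6, 7], [2, 2, 8], [0, 1, 4, 5, 5], [0, 0, 1, 3, 3], [1, 2, 4, 8], [0, 1, 2], [0, 0, 4, 4, 6], [1, 2, 4, 6], [2, 2, 3, 5, 5], [2, 3, 6, 7], [2, 2, 3, 4, 7], [0, 1, 2, 3, 7], [0, 1, 1, 2,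 2, 6], [0, 2, 5, 7, 7, 8], [0, 3, 6, 7, 8], [0, 4, 5, 6, 6, 7], [0, 2, 3, 4, 6, 7, 7], [2, 2, 5, 6, 7, 8], [4, 4], [0, 2, 3, 5, 8, 8], [6, 6, 8, 8], [0, 2, 3, 3, 4, 4, 8], [1, 2, 3, 3, 8], [3, 4, 6, 8, 8], [6, 8, 8], [3, 4, 4, 6], [0, 4, 5, 5, 6, 8, 8], [2, 2, 4, 5, 5, 6, 8], [1, 7, 7], [0, 1, 2, 3, 3, 7], [0, 2, 5, 5, 7, 7, 8], [3, 4, 5, 5, 6, 7], [3, 5, 5, 7], [1, 1, 2, 2, 4, 7], [2, 2, 4, 4, 7], [0, 1, 2, 3, 3, 6, 6], [2, 2, 3, 4, 5, 8], [0, 0, 5, 6, 8, 8], [5, 5, 6], [0, 2, 3, 4, 8], [0, 4, 4, 5, 7], [0, 0, 1, 3, 4, 6], [0, 1, 1, 2, 2, 4], [0, 2, 3, 4, 7], [6, 7, 8], [2, 2, 4], [0, 2, 3, 5, 6, 6], [0, 2, 5, 5, 8, 8], [0, 1, 1, 2, 3, 3, 4, 4, 7], [5, 7, 8], [2, 2, 4, 6], [0, 1, 2, 2, 3], [2, 2, 5, 5, 7, 8], [0, 1,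 3, 3, 4, 7, 8], [1, 2, 2, 4, 7, 7], [2, 2, 3, 3, 8], [2, 4, 6, 6, 8, 8], [0, 1, 2, 4, 4, 5, 6], [1, 2, 3, 3, 8, 8], [0, 0, 3, 3, 4, 4], [0, 1, 1, 3, 3, 4, 4, 7], [0, 0, 6, 7, 7, 8], [0, 0, 4, 5, 6, 7], [1, 1, 2, 4, 5], [0, 0, 4, 8, 8], [2, 4, 4, 5, 6, 6, 7], [3, 7, 7, 8], [0, 3, 4, 4, 5, 7, 7], [2, 3, 3, 6, 8, 8], [0, 0, 1, 4, 5, 6], [2, 3, 3, 5, 8], [0, 2, 3, 4, 4, 6], [1, 3, 3, 5, 5, 8], [3, 3, 4, 4, 5, 6], [1, 2, 4, 6, 7, 7], [0, 2, 6, 6], [1, 7, 7, 8, 8], [3, 5, 5, 6], [2, 2, 7, 7, 8, 8], [0, 4, 4, 5, 8], [6, 7, 8, 8], [0, 2, 5, 7, 7], [0, 4, 4, 6, 6, 8, 8], [2, 3, 7], [2, 2, 4, 4, 8, 8], [4, 6], [0, 2, 2, 5, 6, 6], [1, 1, 2, 4, 4, 5, 6], [0, 1, 2, 4], [1, 2, 5, 7, 8], [1, 2, 2, 5, 5, 6], [4, 4, 6, 7, 7], [1, 2,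 2, 3, 3, 5, 7], [0, 1, 3, 4, 6, 6, 7], [0, 2, 2, 4], [1, 2, 5], [1, 3, 3, 5, 8], [1, 2, 2, 4, 8, 8], [0, 5, 6, 8, 8], [0, 7, 7, 8], [3, 3, 4, 6, 6, 7], [1, 3, 3, 4, 4, 5], [2, 2, 4, 6, 7, 8], [2, 2, 4, 5, 5, 7, 8], [2, 3, 4, 4, 6], [1, 1, 3, 5, 5, 6], [2, 2, 4, 5, 6, 8, 8], [0, 4, 7], [0, 2, 2, 3, 5, 5, 7], [1, 4, 4, 6, 8, 8], [0, 0, 2, 3, 4, 4], [0, 3, 5, 7], [1, 2, 3, 5, 6, 6], [2, 2, 4, 5, 6, 7, 7, 8], [0, 1, 4, 4, 5, 6, 6], [1, 2, 3, 3, 4, 4, 6], [2, 5, 7, 7, 8], [2, 3, 3, 7, 8], [0, 0, 3, 6, 7, 7, 8], [0, 1, 3, 3, 4, 5, 8], [0, 1, 3, 4, 4, 5], [1, 4, 4, 5, 5, 7], [3, 4, 4, 5, 5, 7, 8, 8], [0, 3, 4, 6, 8], [0, 0, 2, 2, 5, 5, 6], [0, 3, 5, 6], [3, 4, 5, 5, 6, 6], [0, 3, 3, 4], [0, 5, 6, 8], [0, 4, 4, 6], [2, 2, 4,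 5, 6, 8], [3, 3, 4, 4, 6, 8], [0, 3, 4, 4, 6, 8, 8], [1, 3, 3, 5, 7, 7], [0, 0, 6, 6, 7, 7, 8], [2, 2, 4, 4, 5, 7], [0, 1, 2, 2, 4, 6, 6], [0, 4, 5, 6], [0, 3, 5, 8], [1, 5, 5, 8], [1, 2, 2, 3, 3, 5], [1, 1, 2, 4, 4, 5], [0, 5, 6], [2, 3, 3, 7, 7], [0, 0, 4, 4, 5, 5], [0, 4, 4, 5, 5, 6, 6], [0, 3, 7, 7], [2, 2, 3, 5, 5, 8], [2, 4, 7, 7], [0, 2, 2, 3, 4, 7], [1, 3, 4, 4, 7, 7], [0, 4, 5, 5, 6, 6, 8], [0, 3, 3, 4, 4, 5, 6], [2, 4, 4, 7, 7, 8], [0, 4, 5, 6, 7, 7], [1, 6, 7, 8, 8], [2, 2, 4, 4, 5, 6, 6], [4, 5, 5, 8], [4, 7], [3, 3, 4, 6, 8], [1, 1, 2, 2, 4, 5, 8], [1, 4, 4, 5, 5, 8], [0, 3, 4, 6, 8, 8], [0, 0, 1, 1, 3, 5, 5, 7], [6, 7, 7], [0, 3, 7, 7, 8], [0, 1, 4, 5], [0, 1, 2, 5, 6], [0, 0, 3, 5, 8], [1, 2, 3, 3, 4,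 4, 6, 6], [0, 1, 2, 3, 4], [0, 3, 5], [2, 2, 3, 4, 5, 7], [0, 0, 3, 4, 6, 7, 7], [1, 2, 2, 4, 5, 7, 7], [2, 2, 6, 7, 7], [1, 4, 4, 5, 5, 7, 8], [3, 5, 5, 6, 6, 8], [1, 5, 7], [4, 7, 8], [1, 3, 3, 4, 7], [1, 1, 2, 3, 3, 4, 4, 7], [0, 1, 3, 3, 4, 4], [1, 2, 3, 4, 4], [0, 0, 3, 3, 5, 5], [0, 4, 7, 7], [0, 4, 4, 6, 8], [0, 4], [4, 5, 5, 7], [0, 4, 4, 7, 8, 8], [2, 3, 3, 7], [0, 4, 4, 8], [1, 2, 2, 3, 5, 8], [1, 4, 4, 5, 5, 7, 7], [0, 0, 2, 2, 4], [0, 3, 4, 4, 6, 6, 7], [0, 3, 3, 4, 4, 8], [4, 6, 6, 8], [0, 1, 2, 3, 3, 7, 7], [0, 1, 1, 5, 6, 7], [0, 6, 7, 7], [3, 4, 4, 5, 5, 6], [0, 3, 7], [0, 3, 4, 5, 6, 8, 8], [0, 4, 5, 5, 6, 6], [2, 2, 4, 6, 8, 8], [0, 1, 2, 5, 5], [3, 3, 4, 4, 6], [0, 2, 6, 7], [1, 7, 7, 8], [2, 6, 7],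 [1, 1, 3, 4, 4, 7, 7], [2, 2, 3, 7], [0, 1, 2, 5], [0, 5, 5], [1, 2, 2, 3, 3, 4, 5, 7], [1, 5, 5], [3, 3, 4, 6], [0, 0, 1, 2, 4, 4], [0, 5, 5, 7, 7], [1, 2, 4, 4], [0, 2, 2, 4, 4], [0, 0, 3, 5, 7, 7], [3, 3, 4, 5, 7], [1, 2, 2, 4, 5, 8], [0, 3, 4, 6, 7], [0, 2, 3, 3, 4, 4], [0, 0, 1, 3, 3, 8], [2, 2, 4, 6, 7], [1, 1, 3, 4, 5, 6], [2, 2, 4, 4, 6], [0, 0, 3, 5, 5, 6], [0, 3, 7, 8], [2, 4, 4, 7, 8, 8], [2, 2, 3, 3, 4, 6, 7, 8], [0, 3, 8, 8], [0, 2, 3, 3, 5, 7, 7], [1, 2, 3, 6], [1, 2, 8], [0, 2, 3, 3, 7, 7, 8], [2, 2, 3, 5, 5, 8, 8], [0, 0, 2, 2, 7, 7], [0, 1, 2, 3, 3, 6], [0, 1, 2, 4, 6], [1, 1, 2, 2, 3, 4, 5, 5], [0, 0, 3, 3, 4], [3, 4, 4, 5, 5, 7], [0, 1, 2, 2, 3, 3, 7], [1, 1, 2, 2, 3, 4], [0, 1, 2, 8], [2, 2, 4, 5,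 6, 6], [3, 3, 5, 7, 7], [0, 1, 1, 2, 2], [2, 2, 4, 6, 7, 7, 8, 8], [0, 1, 1, 4, 5, 5, 6], [1, 1, 2, 4, 8], [6, 6, 7, 7, 8, 8], [0, 2, 3, 3, 5, 8], [0, 4, 5, 6, 6, 8], [0, 1, 3, 3, 4, 4, 5, 7, 7], [0, 0, 4, 4, 8, 8], [1, 4, 4, 5, 6, 6], [4, 4, 6, 6, 8], [1, 2, 3, 4, 4, 7, 7, 8], [0, 4, 4, 5, 6, 7], [3, 3, 5, 7, 8], [0, 0, 2, 2, 5, 5, 6, 6], [0, 2, 3, 3, 5], [0, 0, 4, 4, 5, 6, 6], [0, 1, 4, 7, 8], [0, 1, 4, 7], [1, 1, 3, 4], [1, 2, 2, 7, 8], [3, 4, 5, 5, 7], [0, 3, 3, 5, 5, 6], [1, 1, 2, 2, 4, 8, 8], [2, 5], [0, 1, 5, 5, 8], [0, 1, 3, 4, 5, 6], [0, 2, 6], [1, 1, 3, 3, 4, 4, 7], [0, 2, 4, 4, 6, 8], [1, 1, 2, 3, 4, 6], [0, 1, 3, 5, 5], [1, 3, 4, 4, 6, 7, 7], [0, 7, 8, 8], [0, 0, 1, 1, 4, 4, 6], [2, 2, 5, 5], [0, 2, 2, 5,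 5, 6, 6], [2, 2, 5, 5, 6], [0, 2, 3, 3, 8], [2, 4, 4, 5, 5], [1, 2, 2, 4, 8], [2, 4, 5, 5, 8], [2, 4, 4, 6, 6, 7, 7, 8], [0, 2, 2, 5, 5, 6, 7, 7], [4, 5, 5, 6, 6, 8], [1, 4, 6, 7, 7, 8], [0, 1, 2, 6, 6], [0, 1, 3, 3, 5, 7], [0, 1, 2, 3, 7, 7], [1, 2, 2, 4, 6], [0, 2, 2, 3, 3, 4, 7], [1, 5, 8], [2, 4, 4, 6, 6, 7, 7], [0, 0, 6, 7, 8], [0, 2, 3, 4, 4, 5], [0, 0, 5, 5, 6, 8, 8], [2, 2, 3, 4, 4, 8], [0, 6, 7, 8], [2, 2, 3, 4, 5, 5, 6, 6], [0, 0, 2, 2, 3, 3, 4, 8], [2, 2, 3, 4, 6, 6, 7], [0, 0, 3], [2, 3, 4, 6, 7, 7], [0, 1, 1, 2, 4, 5, 8], [1, 2, 2, 6, 8], [1, 2, 3, 7, 7], [1, 2, 4], [1, 1, 2, 3, 5, 6], [0, 2, 4, 6, 7, 8], [0, 1, 2, 4, 8], [1, 2, 3, 3, 4, 6, 8, 8], [1, 2, 4, 7, 7], [0, 0, 1, 2], [0, 1, 2, 3], [6, 7], [3,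 4, 4, 5, 5], [1, 1, 2, 4, 4, 8], [0, 2, 7], [0, 1, 1, 2, 4, 4, 5], [1, 1, 2, 2, 3, 5], [0, 0, 2, 6, 8], [1, 3, 3, 7, 7], [3, 4, 4, 5, 5, 8, 8], [1, 2, 4, 4, 5, 6], [3, 4, 4, 5, 5, 7, 8], [1, 2, 3, 3, 4, 4, 8, 8], [1, 5], [0, 1, 2, 2, 4, 8], [1, 4, 4, 6, 7], [1, 3, 4], [0, 1, 4, 4, 5, 8, 8], [2, 6, 6], [1, 6, 8, 8], [0, 2, 2, 3, 7], [1, 1, 4, 4, 5], [1, 2, 2, 3, 5, 5, 6], [0, 1, 3, 3, 7, 8], [1, 2, 4, 8, 8], [0, 3, 4, 7, 7, 8], [2, 3, 3, 4, 4, 7], [2, 2, 3, 6], [0, 2, 4, 7, 7, 8], [0, 0, 6, 7, 8, 8], [2, 5, 5, 7, 7, 8], [1, 2, 2, 4, 4], [2, 4, 4, 6, 6, 7, 8], [0, 2, 5, 6], [1, 1, 2, 2, 3, 3, 4, 8], [0, 1, 1, 4, 4, 6, 6], [0, 1, 1, 4, 6], [0, 3, 4, 6, 6, 7, 8], [2, 3, 3, 8, 8], [2, 2, 3, 4, 5, 5], [2, 4, 5, 8], [3, 3,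 4, 6, 7], [0, 1, 3, 4], [2, 4, 7, 8], [1, 3, 4, 4, 5, 6], [0, 3, 3, 4, 5], [0, 4, 4], [0, 0, 3, 5, 5, 6, 8], [0, 2, 3, 5, 6, 6, 8], [3, 3, 4, 4, 7], [0, 0, 2, 2, 3], [3, 4, 7, 7, 8], [1, 2, 5, 8], [0, 1, 5, 5], [0, 3, 3, 4, 4, 7], [0, 0, 2, 2, 3, 8], [1, 1, 2, 3], [0, 1, 1, 2, 4, 4, 6], [0, 0, 2, 2, 3, 3, 4], [3, 4, 4, 6, 6, 7, 7], [2, 2, 4, 5, 7], [0, 1, 2, 4, 4, 6, 7], [0, 0, 2, 2, 4, 6, 7], [0, 0, 1, 5, 6, 6], [0, 0, 1, 8], [1, 2, 4, 4, 7, 7, 8], [2, 4, 4, 6, 8, 8], [1, 1, 4, 8], [0, 0, 6, 7, 7], [0, 0, 4, 4, 5, 5, 7, 7], [2, 3, 3, 6, 8], [0, 0, 3, 5, 6, 7], [0, 0, 1, 1, 3, 4, 6], [1, 2, 2, 4, 7, 8, 8], [6, 6, 8], [1, 1, 2, 3, 3, 5], [0, 0, 2, 2, 4, 5], [2, 2, 5, 7, 7, 8, 8], [4, 4, 5, 6, 7], [2, 2, 4, 6, 8], [0,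 0, 4, 4, 5, 5, 6, 6], [0, 1, 2, 3, 4, 4, 7, 7], [1, 2, 3, 3, 4, 4, 6, 7], [0, 3, 3, 4, 6, 6], [0, 0, 3, 6, 7, 8], [2, 3, 4, 4, 7, 8], [2, 3, 4, 7], [0, 0, 3, 4, 8, 8], [2, 2, 4, 5, 5, 6, 6], [0, 0, 4, 7], [0, 0, 1, 4, 4, 5, 6, 6], [1, 2, 2, 5, 6], [0, 0, 1, 2, 6, 8], [0, 1, 1, 2, 3, 5], [0, 2, 3, 3, 7, 7], [0, 1, 2, 2, 4, 5, 7], [1, 2, 3, 4, 5, 6, 6], [3, 4, 4, 5, 5, 6, 8], [0, 4, 4, 5, 5, 7, 8], [0, 1, 2, 4, 5, 6], [0, 2, 3, 3, 7, 8, 8], [1, 1, 4, 4, 5, 6], [1, 3, 3, 8], [2, 2, 4, 5, 5, 6, 7], [2, 3, 4, 5, 6, 6], [1, 2, 2, 3, 4, 6, 7], [3, 4, 5, 6, 8], [2, 2, 3, 3, 7, 7], [2, 3, 5, 6, 6], [1, 1, 2, 3, 4, 4, 6], [0, 1, 3, 3, 5, 8], [3, 4, 5, 5, 6, 6, 8], [0, 0, 1, 1, 5, 6], [0, 1, 2, 4, 4, 6, 7, 7], [1, 2, 2, 5, 7,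 7, 8], [0, 2, 4, 4, 7], [0, 0, 3, 3, 4, 4, 7], [3, 4, 6, 6, 8], [0, 0, 3, 5, 5], [0, 1, 2, 3, 4, 6], [2, 2, 6, 8, 8], [0, 1, 1, 4, 4, 6, 7], [2, 2, 4, 4, 5, 5], [2, 2, 5, 7, 7], [0, 0, 3, 8], [0, 0, 1, 3, 4, 4, 5, 8], [0, 1, 2, 3, 3, 8, 8], [0, 4, 4, 5, 7, 8, 8], [0, 0, 3, 5, 6, 7, 7], [2, 2, 5, 7, 8], [2, 2, 8, 8], [0, 1, 2, 2, 4, 5], [1, 2, 2, 6, 8, 8], [1, 1, 4, 4, 5, 6, 8], [0, 2, 3, 3, 5, 7], [0, 0, 3, 5, 6, 8], [0, 0, 1, 5, 8], [0, 0, 5, 6, 8], [1, 1, 3, 4, 4, 7], [3, 4, 4, 6, 7, 8, 8], [0, 7, 8], [1, 2, 4, 5, 6, 7, 8], [2, 3, 4], [0, 1, 4, 4, 6, 7, 8], [2, 4, 4, 6, 6, 8], [2, 4, 4, 6, 6, 7], [0, 1, 1, 2, 3, 4], [1, 1, 2, 2, 7, 8], [2, 3, 4, 4, 6, 7, 7], [1, 2, 2, 3, 6, 6], [2, 4, 5, 6, 6, 8], [2, 5, 6, 6], [0,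 2, 4, 4, 5, 7], [1, 2, 7], [2, 3, 3, 4, 6, 8], [2, 3, 3, 4, 4, 8], [0, 1, 2, 4, 4, 8], [0, 1, 3, 4, 6, 7], [2, 4, 5, 6], [1, 2, 2, 3, 5], [0, 3, 4], [0, 3, 4, 7], [1, 2, 2, 4, 5, 5, 6, 8], [2, 6, 7, 8], [0, 1, 1, 5, 7], [0, 0, 1, 1, 2, 4, 4, 6], [1, 1, 2, 4, 4, 6, 6], [0, 1, 3, 5, 5, 7], [3, 4, 5, 5, 6, 8], [0, 2, 8, 8], [3, 4, 4, 6, 6, 7, 8], [0, 1, 4, 4], [2, 3, 7, 7], [0, 0, 4, 6, 6, 7], [1, 5, 7, 7], [1, 4, 4, 6, 8], [1, 4, 4, 5], [0, 1, 4, 4, 5, 6], [0, 1, 3, 5, 5, 8], [2, 4, 4, 5, 6], [0, 0, 1, 3, 4], [1, 2, 3, 3, 4, 8], [0, 1, 4, 6], [3, 4, 5, 8], [1, 1, 2, 4, 4, 7, 8], [0, 3, 3, 5, 5], [3, 4, 7, 8], [1, 2, 4, 4, 6, 7], [0, 3, 4, 5, 6], [0, 1, 1, 2, 3, 3, 6], [0, 2, 3, 4, 4, 8], [3, 4, 6, 6, 7], [1, 2, 2, 3],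 [0, 0, 1, 4, 7, 8], [3, 4, 4, 6, 7, 8], [1, 3, 3, 4, 4, 5, 5], [3, 3, 8, 8], [2, 2, 5, 5, 6, 7, 8, 8], [0, 1, 3, 4, 4], [0, 0, 1, 1, 5, 6, 8], [0, 0, 3, 4, 4], [2, 3, 3, 5, 5], [1, 2, 2, 3, 4], [0, 1, 1, 2, 3], [0, 6, 6], [0, 2, 2, 4, 6], [0, 1, 5, 8]]), (6, [[], [0, 0, 1, 1, 2, 3], [0, 1, 2, 2, 3, 4, 4, 5, 6, 6, 7, 8], [0, 0, 1, 2, 3, 7, 7, 8, 8], [0, 0, 2, 3, 7, 8], [0, 1, 1, 2, 2, 4, 4, 5, 5, 6, 7, 7], [0, 2, 2, 3, 3, 4, 4, 6, 6, 7, 8], [1, 1, 3, 3, 6], [1, 3]])]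

theorem check_ok : C.check = true := by decide +kernel

abbrev base : List ℕ := Cfsg.Agent.Lib.TC.Iso.allBase [0] Cfsg.Agent.Lib.TC.D.Fi22Chain.Lev.levels

theorem hrules : chkRules Cfsg.Agent.Lib.TC.D.Fi22b.Tab.pt C wE base = true := by decide +kernel

theorem hitems : ∀ f < C.items.length, chkItem Cfsg.Agent.Lib.TC.D.Fi22b.Tab.pt C wE wY base f = true := by decide +kernel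

theorem hlev : chkLev Cfsg.Agent.Lib.TC.D.Fi22b.Tab.pt wE [] lv = true := by decide +kernel

theorem hwE : ∀ l ∈ wE, ∀ z ∈ l, z < 9 := by decide +kernel

theorem hwY : ∀ l ∈ wY, ∀ z ∈ l, z < 9 := by decide +kernel

theorem hlvn : ∀ t ∈ lv, ∀ u ∈ t.2, ∀ y ∈ u, y < C.n := by decide +kernel

theorem hprod : (lv.map fun t => t.2.length).prod = C.p ^ C.n := by decide +kernel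

end Cfsg.Agent.Lib.Schur.Cert.Fi22p3
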