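import Cfsg.Agent.Lib.Schur.PcBase
import Cfsg.Agent.Lib.TC.D.Fi22Chain.Lev

/-!
# A tail certificate for a Sylow subgroup, with words in the columns of a table
-/

set_option autoImplicit false
set_option maxRecDepth 100000
set_option maxHeartbeats 0

namespace Cfsg.Agent.Lib.Schur.Cert.Fi22p5

open Cfsg.Agent.Lib.Schur.PcMain Cfsg.Agent.Lib.Schur.PcBase

def rule_0 : List (List ℕ) := [[]]

def rule_1 : List (List ℕ) := [[1], []]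

def item_0 : List (List ℕ) × List (List ℕ) := ([[0, 1], [1]], [[0, 0, 0, 0, 1, 1], [0, 0, 0, 1, 1]])

def fr_0 : ℕ × List ℕ × List ℕ × List (ℕ × ℤ) := (0, [1, 0], [0, 1], [(1000, 1)])

def tg_0 : ℕ × ℤ × List (ℕ × ℤ) := (1000, 0, [(0, 1)])

def C : Cert where
  p := 5
  n := 2
  r := 2
  fuel := 11
  rules := [rule_0, rule_1]
  defs := []
  items := [item_0]
  ovs := []
  frs := [fr_0]
  k0 := 1000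
  zm := 1
  zcomb := [(0, 1)]
  targets := [tg_0]

def wE : List (List ℕ) := [[3, 2, 4, 3, 5, 6, 5, 7, 3, 2, 4, 3, 7, 8, 7, 3, 2, 4, 3, 5, 4, 6, 5, 7, 3, 2, 8, 7, 3, 1, 2, 3, 4, 5, 6, 7, 3, 2, 4, 3, 7, 8, 7, 3, 2, 4, 5, 6, 0, 1, 2, 3, 4, 5, 6, 7, 3, 2, 1, 4, 3, 5, 4, 8, 7, 3, 2, 1, 0, 4, 3, 2, 1, 5, 4, 3, 2, 6, 7, 3, 2, 4, 8, 7, 3, 4, 5, 6], [4, 3, 5, 6, 7, 3, 2, 4, 5, 6, 8, 7, 3, 2, 4, 3, 5, 4, 6, 5, 7, 3, 2, 4, 3, 8, 7, 3, 2, 4, 5, 1, 2, 3, 4, 5, 6, 7, 3, 2, 4, 3, 5, 7, 8, 7, 3, 2, 1, 4, 3, 2, 7, 3, 8, 0, 1, 2, 3, 4, 5, 6, 7, 3, 2, 1, 4, 3, 8, 7, 3, 2, 1, 4, 3, 2, 5, 4, 7, 3, 2, 1, 0]]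

def wY : List (List ℕ) := [[3, 4, 6, 5, 4, 7, 3, 4, 5, 8, 7, 3, 2, 4, 3, 5, 4, 7, 1, 2, 3, 4, 5, 6, 7, 3, 2, 1, 4, 3, 5, 4, 7, 3, 8, 7, 3, 2, 1, 4, 3, 5, 4, 6, 7, 3, 2, 0, 1, 2, 3, 4, 5, 6, 7, 3, 2, 1, 4, 3, 5, 4, 8, 7, 3, 2, 4, 3, 5, 4, 7, 3]]

def lv : List (ℕ × List (List ℕ)) := [(0, [[], [0, 0, 0, 0, 1], [0, 1, 1, 1, 1], [0, 0, 1], [1, 1, 1], [0, 0, 0, 1, 1, 1, 1], [0, 0, 0, 0, 1, 1], [0, 0, 1, 1, 1], [1, 1], [0, 0, 0, 1], [1, 1, 1, 1], [1], [0, 0, 0, 0, 1, 1, 1], [0, 0], [0, 0, 1, 1, 1, 1], [0, 0, 0, 1, 1], [0, 0, 0, 0, 1, 1, 1, 1], [0, 1], [0, 0, 0, 0], [0, 1, 1, 1], [0], [0, 0, 1, 1], [0, 0, 0], [0, 0, 0, 1, 1, 1], [0, 1, 1]])]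

theorem check_ok : C.check = true := by decide +kernel

abbrev base : List ℕ := Cfsg.Agent.Lib.TC.Iso.allBase [0] Cfsg.Agent.Lib.TC.D.Fi22Chain.Lev.levels

theorem hrules : chkRules Cfsg.Agent.Lib.TC.D.Fi22b.Tab.pt C wE base = true := by decide +kernel

theorem hitems : ∀ f < C.items.length, chkItem Cfsg.Agent.Lib.TC.D.Fi22b.Tab.pt C wE wY base f = true := by decide +kernel

theorem hlev : chkLev Cfsg.Agent.Lib.TC.D.Fi22b.Tab.pt wE [] lv = true := by decide +kernel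

theorem hwE : ∀ l ∈ wE, ∀ z ∈ l, z < 9 := by decide +kernel

theorem hwY : ∀ l ∈ wY, ∀ z ∈ l, z < 9 := by decide +kernel

theorem hlvn : ∀ t ∈ lv, ∀ u ∈ t.2, ∀ y ∈ u, y < C.n := by decide +kernel

theorem hprod : (lv.map fun t => t.2.length).prod = C.p ^ C.n := by decide +kernel

end Cfsg.Agent.Lib.Schur.Cert.Fi22p5
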