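import Cfsg.Agent.Lib.Schur.Cert.Fi24p2.A
import Cfsg.Agent.Lib.Schur.Cert.Fi24p2.F0
import Cfsg.Agent.Lib.Schur.Cert.Fi24p2.F1
import Cfsg.Agent.Lib.Schur.Cert.Fi24p2.F2
import Cfsg.Agent.Lib.Schur.Cert.Fi24p2.F3
import Cfsg.Agent.Lib.Schur.Cert.Fi24p2.T0
import Cfsg.Agent.Lib.Schur.Cert.Fi24p2.T1
import Cfsg.Agent.Lib.Schur.Cert.Fi24p2.T2
import Cfsg.Agent.Lib.Schur.Cert.Fi24p2.R
import Cfsg.Agent.Lib.Schur.Cert.Fi24p2.I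
import Cfsg.Agent.Lib.Schur.Cert.Fi24p2.L

set_option autoImplicit false
set_option maxRecDepth 100000
set_option maxHeartbeats 0
set_option Elab.async false

namespace Cfsg.Agent.Lib.Schur.Cert.Fi24p2

open Cfsg.Agent.Lib.Schur.PcMain Cfsg.Agent.Lib.Schur.PcBase Cfsg.Agent.Lib.Schur.PcCert Cfsg.Agent.Lib.Schur.PcSplit

theorem ck_frs : C.chkFrs = true := by
  refine frs_of_parts ?_
  show ∀ q ∈ [fr_0,fr_1,fr_2,fr_3,fr_4,fr_5,fr_6,fr_7,fr_8,fr_9,fr_10,fr_11,fr_12,fr_13,fr_14,fr_15,fr_16,fr_17,fr_18,fr_19,fr_20,fr_21,fr_22,fr_23,fr_24,fr_25,fr_26,fr_27,fr_28,fr_29,fr_30,fr_31,fr_32,fr_33,fr_34,fr_35,fr_36,fr_37,fr_38,fr_39,fr_40,fr_41,fr_42,fr_43,fr_44,fr_45,fr_46,fr_47,fr_48,fr_49,fr_50,fr_51,fr_52,fr_53,fr_54,fr_55,fr_56], _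
  intro q hq
  simp only [List.mem_cons, List.not_mem_nil, or_false] at hq
  rcases hq with rfl | rfl | rfl | rfl | rfl | rfl | rfl | rfl | rfl | rfl | rfl | rfl | rfl | rfl | rfl | rfl | rfl | rfl | rfl | rfl | rfl | rfl | rfl | rfl | rfl | rfl | rfl | rfl | rfl | rfl | rfl | rfl | rfl | rfl | rfl | rfl | rfl | rfl | rfl | rfl | rfl | rfl | rfl | rfl | rfl | rfl | rfl | rfl | rfl | rfl | rfl | rfl | rfl | rfl | rfl | rfl | rfl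
  · exact ck_fr0
  · exact ck_fr1
  · exact ck_fr2
  · exact ck_fr3
  · exact ck_fr4
  · exact ck_fr5
  · exact ck_fr6
  · exact ck_fr7
  · exact ck_fr8
  · exact ck_fr9
  · exact ck_fr10
  · exact ck_fr11
  · exact ck_fr12
  · exact ck_fr13
  · exact ck_fr14
  · exact ck_fr15
  · exact ck_fr16
  · exact ck_fr17
  · exact ck_fr18
  · exact ck_fr19
  · exact ck_fr20
  · exact ck_fr21
  · exact ck_fr22
  · exact ck_fr23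
  · exact ck_fr24
  · exact ck_fr25
  · exact ck_fr26
  · exact ck_fr27
  · exact ck_fr28
  · exact ck_fr29
  · exact ck_fr30
  · exact ck_fr31
  · exact ck_fr32
  · exact ck_fr33
  · exact ck_fr34
  · exact ck_fr35
  · exact ck_fr36
  · exact ck_fr37
  · exact ck_fr38
  · exact ck_fr39
  · exact ck_fr40
  · exact ck_fr41
  · exact ck_fr42
  · exact ck_fr43
  · exact ck_fr44
  · exact ck_fr45
  · exact ck_fr46
  · exact ck_fr47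
  · exact ck_fr48
  · exact ck_fr49
  · exact ck_fr50
  · exact ck_fr51
  · exact ck_fr52
  · exact ck_fr53
  · exact ck_fr54
  · exact ck_fr55
  · exact ck_fr56

theorem rt_226 : C.runTargets tS_226 [] = true := rt_nil C _

theorem rt_225 : C.runTargets tS_225 (tg_225 :: []) = true :=
  rt_step ck_tg225 (by decide +kernel) rt_226

theorem rt_224 : C.runTargets tS_224 (tg_224 :: [tg_225]) = true :=
  rt_step ck_tg224 (by decide +kernel) rt_225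

theorem rt_223 : C.runTargets tS_223 (tg_223 :: [tg_224,tg_225]) = true :=
  rt_step ck_tg223 (by decide +kernel) rt_224

theorem rt_222 : C.runTargets tS_222 (tg_222 :: [tg_223,tg_224,tg_225]) = true :=
  rt_step ck_tg222 (by decide +kernel) rt_223

theorem rt_221 : C.runTargets tS_221 (tg_221 :: [tg_222,tg_223,tg_224,tg_225]) = true :=
  rt_step ck_tg221 (by decide +kernel) rt_222

theorem rt_220 : C.runTargets tS_220 (tg_220 :: [tg_221,tg_222,tg_223,tg_224,tg_225]) = true :=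
  rt_step ck_tg220 (by decide +kernel) rt_221

theorem rt_219 : C.runTargets tS_219 (tg_219 :: [tg_220,tg_221,tg_222,tg_223,tg_224,tg_225]) = true :=
  rt_step ck_tg219 (by decide +kernel) rt_220

theorem rt_218 : C.runTargets tS_218 (tg_218 :: [tg_219,tg_220,tg_221,tg_222,tg_223,tg_224,tg_225]) = true :=
  rt_step ck_tg218 (by decide +kernel) rt_219

theorem rt_217 : C.runTargets tS_217 (tg_217 :: [tg_218,tg_219,tg_220,tg_221,tg_222,tg_223,tg_224,tg_225]) = true :=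
  rt_step ck_tg217 (by decide +kernel) rt_218

theorem rt_216 : C.runTargets tS_216 (tg_216 :: [tg_217,tg_218,tg_219,tg_220,tg_221,tg_222,tg_223,tg_224,tg_225]) = true :=
  rt_step ck_tg216 (by decide +kernel) rt_217

theorem rt_215 : C.runTargets tS_215 (tg_215 :: [tg_216,tg_217,tg_218,tg_219,tg_220,tg_221,tg_222,tg_223,tg_224,tg_225]) = true :=
  rt_step ck_tg215 (by decide +kernel) rt_216

theorem rt_214 : C.runTargets tS_214 (tg_214 :: [tg_215,tg_216,tg_217,tg_218,tg_219,tg_220,tg_221,tg_222,tg_223,tg_224,tg_225]) = true :=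
  rt_step ck_tg214 (by decide +kernel) rt_215

theorem rt_213 : C.runTargets tS_213 (tg_213 :: [tg_214,tg_215,tg_216,tg_217,tg_218,tg_219,tg_220,tg_221,tg_222,tg_223,tg_224,tg_225]) = true :=
  rt_step ck_tg213 (by decide +kernel) rt_214

theorem rt_212 : C.runTargets tS_212 (tg_212 :: [tg_213,tg_214,tg_215,tg_216,tg_217,tg_218,tg_219,tg_220,tg_221,tg_222,tg_223,tg_224,tg_225]) = true :=
  rt_step ck_tg212 (by decide +kernel) rt_213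

theorem rt_211 : C.runTargets tS_211 (tg_211 :: [tg_212,tg_213,tg_214,tg_215,tg_216,tg_217,tg_218,tg_219,tg_220,tg_221,tg_222,tg_223,tg_224,tg_225]) = true :=
  rt_step ck_tg211 (by decide +kernel) rt_212

theorem rt_210 : C.runTargets tS_210 (tg_210 :: [tg_211,tg_212,tg_213,tg_214,tg_215,tg_216,tg_217,tg_218,tg_219,tg_220,tg_221,tg_222,tg_223,tg_224,tg_225]) = true :=
  rt_step ck_tg210 (by decide +kernel) rt_211

theorem rt_209 : C.runTargets tS_209 (tg_209 :: [tg_210,tg_211,tg_212,tg_213,tg_214,tg_215,tg_216,tg_217,tg_218,tg_219,tg_220,tg_221,tg_222,tg_223,tg_224,tg_225]) = true :=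
  rt_step ck_tg209 (by decide +kernel) rt_210

theorem rt_208 : C.runTargets tS_208 (tg_208 :: [tg_209,tg_210,tg_211,tg_212,tg_213,tg_214,tg_215,tg_216,tg_217,tg_218,tg_219,tg_220,tg_221,tg_222,tg_223,tg_224,tg_225]) = true :=
  rt_step ck_tg208 (by decide +kernel) rt_209

theorem rt_207 : C.runTargets tS_207 (tg_207 :: [tg_208,tg_209,tg_210,tg_211,tg_212,tg_213,tg_214,tg_215,tg_216,tg_217,tg_218,tg_219,tg_220,tg_221,tg_222,tg_223,tg_224,tg_225]) = true :=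
  rt_step ck_tg207 (by decide +kernel) rt_208

theorem rt_206 : C.runTargets tS_206 (tg_206 :: [tg_207,tg_208,tg_209,tg_210,tg_211,tg_212,tg_213,tg_214,tg_215,tg_216,tg_217,tg_218,tg_219,tg_220,tg_221,tg_222,tg_223,tg_224,tg_225]) = true :=
  rt_step ck_tg206 (by decide +kernel) rt_207

theorem rt_205 : C.runTargets tS_205 (tg_205 :: [tg_206,tg_207,tg_208,tg_209,tg_210,tg_211,tg_212,tg_213,tg_214,tg_215,tg_216,tg_217,tg_218,tg_219,tg_220,tg_221,tg_222,tg_223,tg_224,tg_225]) = true :=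
  rt_step ck_tg205 (by decide +kernel) rt_206

theorem rt_204 : C.runTargets tS_204 (tg_204 :: [tg_205,tg_206,tg_207,tg_208,tg_209,tg_210,tg_211,tg_212,tg_213,tg_214,tg_215,tg_216,tg_217,tg_218,tg_219,tg_220,tg_221,tg_222,tg_223,tg_224,tg_225]) = true :=
  rt_step ck_tg204 (by decide +kernel) rt_205

theorem rt_203 : C.runTargets tS_203 (tg_203 :: [tg_204,tg_205,tg_206,tg_207,tg_208,tg_209,tg_210,tg_211,tg_212,tg_213,tg_214,tg_215,tg_216,tg_217,tg_218,tg_219,tg_220,tg_221,tg_222,tg_223,tg_224,tg_225]) = true :=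
  rt_step ck_tg203 (by decide +kernel) rt_204

theorem rt_202 : C.runTargets tS_202 (tg_202 :: [tg_203,tg_204,tg_205,tg_206,tg_207,tg_208,tg_209,tg_210,tg_211,tg_212,tg_213,tg_214,tg_215,tg_216,tg_217,tg_218,tg_219,tg_220,tg_221,tg_222,tg_223,tg_224,tg_225]) = true :=
  rt_step ck_tg202 (by decide +kernel) rt_203

theorem rt_201 : C.runTargets tS_201 (tg_201 :: [tg_202,tg_203,tg_204,tg_205,tg_206,tg_207,tg_208,tg_209,tg_210,tg_211,tg_212,tg_213,tg_214,tg_215,tg_216,tg_217,tg_218,tg_219,tg_220,tg_221,tg_222,tg_223,tg_224,tg_225]) = true :=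
  rt_step ck_tg201 (by decide +kernel) rt_202

theorem rt_200 : C.runTargets tS_200 (tg_200 :: [tg_201,tg_202,tg_203,tg_204,tg_205,tg_206,tg_207,tg_208,tg_209,tg_210,tg_211,tg_212,tg_213,tg_214,tg_215,tg_216,tg_217,tg_218,tg_219,tg_220,tg_221,tg_222,tg_223,tg_224,tg_225]) = true :=
  rt_step ck_tg200 (by decide +kernel) rt_201

theorem rt_199 : C.runTargets tS_199 (tg_199 :: [tg_200,tg_201,tg_202,tg_203,tg_204,tg_205,tg_206,tg_207,tg_208,tg_209,tg_210,tg_211,tg_212,tg_213,tg_214,tg_215,tg_216,tg_217,tg_218,tg_219,tg_220,tg_221,tg_222,tg_223,tg_224,tg_225]) = true :=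
  rt_step ck_tg199 (by decide +kernel) rt_200

theorem rt_198 : C.runTargets tS_198 (tg_198 :: [tg_199,tg_200,tg_201,tg_202,tg_203,tg_204,tg_205,tg_206,tg_207,tg_208,tg_209,tg_210,tg_211,tg_212,tg_213,tg_214,tg_215,tg_216,tg_217,tg_218,tg_219,tg_220,tg_221,tg_222,tg_223,tg_224,tg_225]) = true :=
  rt_step ck_tg198 (by decide +kernel) rt_199

theorem rt_197 : C.runTargets tS_197 (tg_197 :: [tg_198,tg_199,tg_200,tg_201,tg_202,tg_203,tg_204,tg_205,tg_206,tg_207,tg_208,tg_209,tg_210,tg_211,tg_212,tg_213,tg_214,tg_215,tg_216,tg_217,tg_218,tg_219,tg_220,tg_221,tg_222,tg_223,tg_224,tg_225]) = true :=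
  rt_step ck_tg197 (by decide +kernel) rt_198

theorem rt_196 : C.runTargets tS_196 (tg_196 :: [tg_197,tg_198,tg_199,tg_200,tg_201,tg_202,tg_203,tg_204,tg_205,tg_206,tg_207,tg_208,tg_209,tg_210,tg_211,tg_212,tg_213,tg_214,tg_215,tg_216,tg_217,tg_218,tg_219,tg_220,tg_221,tg_222,tg_223,tg_224,tg_225]) = true :=
  rt_step ck_tg196 (by decide +kernel) rt_197

theorem rt_195 : C.runTargets tS_195 (tg_195 :: [tg_196,tg_197,tg_198,tg_199,tg_200,tg_201,tg_202,tg_203,tg_204,tg_205,tg_206,tg_207,tg_208,tg_209,tg_210,tg_211,tg_212,tg_213,tg_214,tg_215,tg_216,tg_217,tg_218,tg_219,tg_220,tg_221,tg_222,tg_223,tg_224,tg_225]) = true :=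
  rt_step ck_tg195 (by decide +kernel) rt_196

theorem rt_194 : C.runTargets tS_194 (tg_194 :: [tg_195,tg_196,tg_197,tg_198,tg_199,tg_200,tg_201,tg_202,tg_203,tg_204,tg_205,tg_206,tg_207,tg_208,tg_209,tg_210,tg_211,tg_212,tg_213,tg_214,tg_215,tg_216,tg_217,tg_218,tg_219,tg_220,tg_221,tg_222,tg_223,tg_224,tg_225]) = true :=
  rt_step ck_tg194 (by decide +kernel) rt_195

theorem rt_193 : C.runTargets tS_193 (tg_193 :: [tg_194,tg_195,tg_196,tg_197,tg_198,tg_199,tg_200,tg_201,tg_202,tg_203,tg_204,tg_205,tg_206,tg_207,tg_208,tg_209,tg_210,tg_211,tg_212,tg_213,tg_214,tg_215,tg_216,tg_217,tg_218,tg_219,tg_220,tg_221,tg_222,tg_223,tg_224,tg_225]) = true :=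
  rt_step ck_tg193 (by decide +kernel) rt_194

theorem rt_192 : C.runTargets tS_192 (tg_192 :: [tg_193,tg_194,tg_195,tg_196,tg_197,tg_198,tg_199,tg_200,tg_201,tg_202,tg_203,tg_204,tg_205,tg_206,tg_207,tg_208,tg_209,tg_210,tg_211,tg_212,tg_213,tg_214,tg_215,tg_216,tg_217,tg_218,tg_219,tg_220,tg_221,tg_222,tg_223,tg_224,tg_225]) = true :=
  rt_step ck_tg192 (by decide +kernel) rt_193

theorem rt_191 : C.runTargets tS_191 (tg_191 :: [tg_192,tg_193,tg_194,tg_195,tg_196,tg_197,tg_198,tg_199,tg_200,tg_201,tg_202,tg_203,tg_204,tg_205,tg_206,tg_207,tg_208,tg_209,tg_210,tg_211,tg_212,tg_213,tg_214,tg_215,tg_216,tg_217,tg_218,tg_219,tg_220,tg_221,tg_222,tg_223,tg_224,tg_225]) = true :=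
  rt_step ck_tg191 (by decide +kernel) rt_192

theorem rt_190 : C.runTargets tS_190 (tg_190 :: [tg_191,tg_192,tg_193,tg_194,tg_195,tg_196,tg_197,tg_198,tg_199,tg_200,tg_201,tg_202,tg_203,tg_204,tg_205,tg_206,tg_207,tg_208,tg_209,tg_210,tg_211,tg_212,tg_213,tg_214,tg_215,tg_216,tg_217,tg_218,tg_219,tg_220,tg_221,tg_222,tg_223,tg_224,tg_225]) = true :=
  rt_step ck_tg190 (by decide +kernel) rt_191

theorem rt_189 : C.runTargets tS_189 (tg_189 :: [tg_190,tg_191,tg_192,tg_193,tg_194,tg_195,tg_196,tg_197,tg_198,tg_199,tg_200,tg_201,tg_202,tg_203,tg_204,tg_205,tg_206,tg_207,tg_208,tg_209,tg_210,tg_211,tg_212,tg_213,tg_214,tg_215,tg_216,tg_217,tg_218,tg_219,tg_220,tg_221,tg_222,tg_223,tg_224,tg_225]) = true :=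
  rt_step ck_tg189 (by decide +kernel) rt_190

theorem rt_188 : C.runTargets tS_188 (tg_188 :: [tg_189,tg_190,tg_191,tg_192,tg_193,tg_194,tg_195,tg_196,tg_197,tg_198,tg_199,tg_200,tg_201,tg_202,tg_203,tg_204,tg_205,tg_206,tg_207,tg_208,tg_209,tg_210,tg_211,tg_212,tg_213,tg_214,tg_215,tg_216,tg_217,tg_218,tg_219,tg_220,tg_221,tg_222,tg_223,tg_224,tg_225]) = true :=
  rt_step ck_tg188 (by decide +kernel) rt_189

theorem rt_187 : C.runTargets tS_187 (tg_187 :: [tg_188,tg_189,tg_190,tg_191,tg_192,tg_193,tg_194,tg_195,tg_196,tg_197,tg_198,tg_199,tg_200,tg_201,tg_202,tg_203,tg_204,tg_205,tg_206,tg_207,tg_208,tg_209,tg_210,tg_211,tg_212,tg_213,tg_214,tg_215,tg_216,tg_217,tg_218,tg_219,tg_220,tg_221,tg_222,tg_223,tg_224,tg_225]) = true :=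
  rt_step ck_tg187 (by decide +kernel) rt_188

theorem rt_186 : C.runTargets tS_186 (tg_186 :: [tg_187,tg_188,tg_189,tg_190,tg_191,tg_192,tg_193,tg_194,tg_195,tg_196,tg_197,tg_198,tg_199,tg_200,tg_201,tg_202,tg_203,tg_204,tg_205,tg_206,tg_207,tg_208,tg_209,tg_210,tg_211,tg_212,tg_213,tg_214,tg_215,tg_216,tg_217,tg_218,tg_219,tg_220,tg_221,tg_222,tg_223,tg_224,tg_225]) = true :=
  rt_step ck_tg186 (by decide +kernel) rt_187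

theorem rt_185 : C.runTargets tS_185 (tg_185 :: [tg_186,tg_187,tg_188,tg_189,tg_190,tg_191,tg_192,tg_193,tg_194,tg_195,tg_196,tg_197,tg_198,tg_199,tg_200,tg_201,tg_202,tg_203,tg_204,tg_205,tg_206,tg_207,tg_208,tg_209,tg_210,tg_211,tg_212,tg_213,tg_214,tg_215,tg_216,tg_217,tg_218,tg_219,tg_220,tg_221,tg_222,tg_223,tg_224,tg_225]) = true :=
  rt_step ck_tg185 (by decide +kernel) rt_186

theorem rt_184 : C.runTargets tS_184 (tg_184 :: [tg_185,tg_186,tg_187,tg_188,tg_189,tg_190,tg_191,tg_192,tg_193,tg_194,tg_195,tg_196,tg_197,tg_198,tg_199,tg_200,tg_201,tg_202,tg_203,tg_204,tg_205,tg_206,tg_207,tg_208,tg_209,tg_210,tg_211,tg_212,tg_213,tg_214,tg_215,tg_216,tg_217,tg_218,tg_219,tg_220,tg_221,tg_222,tg_223,tg_224,tg_225]) = true :=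
  rt_step ck_tg184 (by decide +kernel) rt_185

theorem rt_183 : C.runTargets tS_183 (tg_183 :: [tg_184,tg_185,tg_186,tg_187,tg_188,tg_189,tg_190,tg_191,tg_192,tg_193,tg_194,tg_195,tg_196,tg_197,tg_198,tg_199,tg_200,tg_201,tg_202,tg_203,tg_204,tg_205,tg_206,tg_207,tg_208,tg_209,tg_210,tg_211,tg_212,tg_213,tg_214,tg_215,tg_216,tg_217,tg_218,tg_219,tg_220,tg_221,tg_222,tg_223,tg_224,tg_225]) = true :=
  rt_step ck_tg183 (by decide +kernel) rt_184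

theorem rt_182 : C.runTargets tS_182 (tg_182 :: [tg_183,tg_184,tg_185,tg_186,tg_187,tg_188,tg_189,tg_190,tg_191,tg_192,tg_193,tg_194,tg_195,tg_196,tg_197,tg_198,tg_199,tg_200,tg_201,tg_202,tg_203,tg_204,tg_205,tg_206,tg_207,tg_208,tg_209,tg_210,tg_211,tg_212,tg_213,tg_214,tg_215,tg_216,tg_217,tg_218,tg_219,tg_220,tg_221,tg_222,tg_223,tg_224,tg_225]) = true :=
  rt_step ck_tg182 (by decide +kernel) rt_183

theorem rt_181 : C.runTargets tS_181 (tg_181 :: [tg_182,tg_183,tg_184,tg_185,tg_186,tg_187,tg_188,tg_189,tg_190,tg_191,tg_192,tg_193,tg_194,tg_195,tg_196,tg_197,tg_198,tg_199,tg_200,tg_201,tg_202,tg_203,tg_204,tg_205,tg_206,tg_207,tg_208,tg_209,tg_210,tg_211,tg_212,tg_213,tg_214,tg_215,tg_216,tg_217,tg_218,tg_219,tg_220,tg_221,tg_222,tg_223,tg_224,tg_225]) = true :=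
  rt_step ck_tg181 (by decide +kernel) rt_182

theorem rt_180 : C.runTargets tS_180 (tg_180 :: [tg_181,tg_182,tg_183,tg_184,tg_185,tg_186,tg_187,tg_188,tg_189,tg_190,tg_191,tg_192,tg_193,tg_194,tg_195,tg_196,tg_197,tg_198,tg_199,tg_200,tg_201,tg_202,tg_203,tg_204,tg_205,tg_206,tg_207,tg_208,tg_209,tg_210,tg_211,tg_212,tg_213,tg_214,tg_215,tg_216,tg_217,tg_218,tg_219,tg_220,tg_221,tg_222,tg_223,tg_224,tg_225]) = true :=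
  rt_step ck_tg180 (by decide +kernel) rt_181

theorem rt_179 : C.runTargets tS_179 (tg_179 :: [tg_180,tg_181,tg_182,tg_183,tg_184,tg_185,tg_186,tg_187,tg_188,tg_189,tg_190,tg_191,tg_192,tg_193,tg_194,tg_195,tg_196,tg_197,tg_198,tg_199,tg_200,tg_201,tg_202,tg_203,tg_204,tg_205,tg_206,tg_207,tg_208,tg_209,tg_210,tg_211,tg_212,tg_213,tg_214,tg_215,tg_216,tg_217,tg_218,tg_219,tg_220,tg_221,tg_222,tg_223,tg_224,tg_225]) = true :=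
  rt_step ck_tg179 (by decide +kernel) rt_180

theorem rt_178 : C.runTargets tS_178 (tg_178 :: [tg_179,tg_180,tg_181,tg_182,tg_183,tg_184,tg_185,tg_186,tg_187,tg_188,tg_189,tg_190,tg_191,tg_192,tg_193,tg_194,tg_195,tg_196,tg_197,tg_198,tg_199,tg_200,tg_201,tg_202,tg_203,tg_204,tg_205,tg_206,tg_207,tg_208,tg_209,tg_210,tg_211,tg_212,tg_213,tg_214,tg_215,tg_216,tg_217,tg_218,tg_219,tg_220,tg_221,tg_222,tg_223,tg_224,tg_225]) = true :=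
  rt_step ck_tg178 (by decide +kernel) rt_179

theorem rt_177 : C.runTargets tS_177 (tg_177 :: [tg_178,tg_179,tg_180,tg_181,tg_182,tg_183,tg_184,tg_185,tg_186,tg_187,tg_188,tg_189,tg_190,tg_191,tg_192,tg_193,tg_194,tg_195,tg_196,tg_197,tg_198,tg_199,tg_200,tg_201,tg_202,tg_203,tg_204,tg_205,tg_206,tg_207,tg_208,tg_209,tg_210,tg_211,tg_212,tg_213,tg_214,tg_215,tg_216,tg_217,tg_218,tg_219,tg_220,tg_221,tg_222,tg_223,tg_224,tg_225]) = true :=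
  rt_step ck_tg177 (by decide +kernel) rt_178

theorem rt_176 : C.runTargets tS_176 (tg_176 :: [tg_177,tg_178,tg_179,tg_180,tg_181,tg_182,tg_183,tg_184,tg_185,tg_186,tg_187,tg_188,tg_189,tg_190,tg_191,tg_192,tg_193,tg_194,tg_195,tg_196,tg_197,tg_198,tg_199,tg_200,tg_201,tg_202,tg_203,tg_204,tg_205,tg_206,tg_207,tg_208,tg_209,tg_210,tg_211,tg_212,tg_213,tg_214,tg_215,tg_216,tg_217,tg_218,tg_219,tg_220,tg_221,tg_222,tg_223,tg_224,tg_225]) = true :=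
  rt_step ck_tg176 (by decide +kernel) rt_177

theorem rt_175 : C.runTargets tS_175 (tg_175 :: [tg_176,tg_177,tg_178,tg_179,tg_180,tg_181,tg_182,tg_183,tg_184,tg_185,tg_186,tg_187,tg_188,tg_189,tg_190,tg_191,tg_192,tg_193,tg_194,tg_195,tg_196,tg_197,tg_198,tg_199,tg_200,tg_201,tg_202,tg_203,tg_204,tg_205,tg_206,tg_207,tg_208,tg_209,tg_210,tg_211,tg_212,tg_213,tg_214,tg_215,tg_216,tg_217,tg_218,tg_219,tg_220,tg_221,tg_222,tg_223,tg_224,tg_225]) = true :=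
  rt_step ck_tg175 (by decide +kernel) rt_176

theorem rt_174 : C.runTargets tS_174 (tg_174 :: [tg_175,tg_176,tg_177,tg_178,tg_179,tg_180,tg_181,tg_182,tg_183,tg_184,tg_185,tg_186,tg_187,tg_188,tg_189,tg_190,tg_191,tg_192,tg_193,tg_194,tg_195,tg_196,tg_197,tg_198,tg_199,tg_200,tg_201,tg_202,tg_203,tg_204,tg_205,tg_206,tg_207,tg_208,tg_209,tg_210,tg_211,tg_212,tg_213,tg_214,tg_215,tg_216,tg_217,tg_218,tg_219,tg_220,tg_221,tg_222,tg_223,tg_224,tg_225]) = true :=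
  rt_step ck_tg174 (by decide +kernel) rt_175

theorem rt_173 : C.runTargets tS_173 (tg_173 :: [tg_174,tg_175,tg_176,tg_177,tg_178,tg_179,tg_180,tg_181,tg_182,tg_183,tg_184,tg_185,tg_186,tg_187,tg_188,tg_189,tg_190,tg_191,tg_192,tg_193,tg_194,tg_195,tg_196,tg_197,tg_198,tg_199,tg_200,tg_201,tg_202,tg_203,tg_204,tg_205,tg_206,tg_207,tg_208,tg_209,tg_210,tg_211,tg_212,tg_213,tg_214,tg_215,tg_216,tg_217,tg_218,tg_219,tg_220,tg_221,tg_222,tg_223,tg_224,tg_225]) = true :=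
  rt_step ck_tg173 (by decide +kernel) rt_174

theorem rt_172 : C.runTargets tS_172 (tg_172 :: [tg_173,tg_174,tg_175,tg_176,tg_177,tg_178,tg_179,tg_180,tg_181,tg_182,tg_183,tg_184,tg_185,tg_186,tg_187,tg_188,tg_189,tg_190,tg_191,tg_192,tg_193,tg_194,tg_195,tg_196,tg_197,tg_198,tg_199,tg_200,tg_201,tg_202,tg_203,tg_204,tg_205,tg_206,tg_207,tg_208,tg_209,tg_210,tg_211,tg_212,tg_213,tg_214,tg_215,tg_216,tg_217,tg_218,tg_219,tg_220,tg_221,tg_222,tg_223,tg_224,tg_225]) = true :=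
  rt_step ck_tg172 (by decide +kernel) rt_173

theorem rt_171 : C.runTargets tS_171 (tg_171 :: [tg_172,tg_173,tg_174,tg_175,tg_176,tg_177,tg_178,tg_179,tg_180,tg_181,tg_182,tg_183,tg_184,tg_185,tg_186,tg_187,tg_188,tg_189,tg_190,tg_191,tg_192,tg_193,tg_194,tg_195,tg_196,tg_197,tg_198,tg_199,tg_200,tg_201,tg_202,tg_203,tg_204,tg_205,tg_206,tg_207,tg_208,tg_209,tg_210,tg_211,tg_212,tg_213,tg_214,tg_215,tg_216,tg_217,tg_218,tg_219,tg_220,tg_221,tg_222,tg_223,tg_224,tg_225]) = true :=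
  rt_step ck_tg171 (by decide +kernel) rt_172

theorem rt_170 : C.runTargets tS_170 (tg_170 :: [tg_171,tg_172,tg_173,tg_174,tg_175,tg_176,tg_177,tg_178,tg_179,tg_180,tg_181,tg_182,tg_183,tg_184,tg_185,tg_186,tg_187,tg_188,tg_189,tg_190,tg_191,tg_192,tg_193,tg_194,tg_195,tg_196,tg_197,tg_198,tg_199,tg_200,tg_201,tg_202,tg_203,tg_204,tg_205,tg_206,tg_207,tg_208,tg_209,tg_210,tg_211,tg_212,tg_213,tg_214,tg_215,tg_216,tg_217,tg_218,tg_219,tg_220,tg_221,tg_222,tg_223,tg_224,tg_225]) = true :=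
  rt_step ck_tg170 (by decide +kernel) rt_171

theorem rt_169 : C.runTargets tS_169 (tg_169 :: [tg_170,tg_171,tg_172,tg_173,tg_174,tg_175,tg_176,tg_177,tg_178,tg_179,tg_180,tg_181,tg_182,tg_183,tg_184,tg_185,tg_186,tg_187,tg_188,tg_189,tg_190,tg_191,tg_192,tg_193,tg_194,tg_195,tg_196,tg_197,tg_198,tg_199,tg_200,tg_201,tg_202,tg_203,tg_204,tg_205,tg_206,tg_207,tg_208,tg_209,tg_210,tg_211,tg_212,tg_213,tg_214,tg_215,tg_216,tg_217,tg_218,tg_219,tg_220,tg_221,tg_222,tg_223,tg_224,tg_225]) = true :=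
  rt_step ck_tg169 (by decide +kernel) rt_170

theorem rt_168 : C.runTargets tS_168 (tg_168 :: [tg_169,tg_170,tg_171,tg_172,tg_173,tg_174,tg_175,tg_176,tg_177,tg_178,tg_179,tg_180,tg_181,tg_182,tg_183,tg_184,tg_185,tg_186,tg_187,tg_188,tg_189,tg_190,tg_191,tg_192,tg_193,tg_194,tg_195,tg_196,tg_197,tg_198,tg_199,tg_200,tg_201,tg_202,tg_203,tg_204,tg_205,tg_206,tg_207,tg_208,tg_209,tg_210,tg_211,tg_212,tg_213,tg_214,tg_215,tg_216,tg_217,tg_218,tg_219,tg_220,tg_221,tg_222,tg_223,tg_224,tg_225]) = true :=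
  rt_step ck_tg168 (by decide +kernel) rt_169

theorem rt_167 : C.runTargets tS_167 (tg_167 :: [tg_168,tg_169,tg_170,tg_171,tg_172,tg_173,tg_174,tg_175,tg_176,tg_177,tg_178,tg_179,tg_180,tg_181,tg_182,tg_183,tg_184,tg_185,tg_186,tg_187,tg_188,tg_189,tg_190,tg_191,tg_192,tg_193,tg_194,tg_195,tg_196,tg_197,tg_198,tg_199,tg_200,tg_201,tg_202,tg_203,tg_204,tg_205,tg_206,tg_207,tg_208,tg_209,tg_210,tg_211,tg_212,tg_213,tg_214,tg_215,tg_216,tg_217,tg_218,tg_219,tg_220,tg_221,tg_222,tg_223,tg_224,tg_225]) = true :=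
  rt_step ck_tg167 (by decide +kernel) rt_168

theorem rt_166 : C.runTargets tS_166 (tg_166 :: [tg_167,tg_168,tg_169,tg_170,tg_171,tg_172,tg_173,tg_174,tg_175,tg_176,tg_177,tg_178,tg_179,tg_180,tg_181,tg_182,tg_183,tg_184,tg_185,tg_186,tg_187,tg_188,tg_189,tg_190,tg_191,tg_192,tg_193,tg_194,tg_195,tg_196,tg_197,tg_198,tg_199,tg_200,tg_201,tg_202,tg_203,tg_204,tg_205,tg_206,tg_207,tg_208,tg_209,tg_210,tg_211,tg_212,tg_213,tg_214,tg_215,tg_216,tg_217,tg_218,tg_219,tg_220,tg_221,tg_222,tg_223,tg_224,tg_225]) = true :=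
  rt_step ck_tg166 (by decide +kernel) rt_167

theorem rt_165 : C.runTargets tS_165 (tg_165 :: [tg_166,tg_167,tg_168,tg_169,tg_170,tg_171,tg_172,tg_173,tg_174,tg_175,tg_176,tg_177,tg_178,tg_179,tg_180,tg_181,tg_182,tg_183,tg_184,tg_185,tg_186,tg_187,tg_188,tg_189,tg_190,tg_191,tg_192,tg_193,tg_194,tg_195,tg_196,tg_197,tg_198,tg_199,tg_200,tg_201,tg_202,tg_203,tg_204,tg_205,tg_206,tg_207,tg_208,tg_209,tg_210,tg_211,tg_212,tg_213,tg_214,tg_215,tg_216,tg_217,tg_218,tg_219,tg_220,tg_221,tg_222,tg_223,tg_224,tg_225]) = true :=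
  rt_step ck_tg165 (by decide +kernel) rt_166

theorem rt_164 : C.runTargets tS_164 (tg_164 :: [tg_165,tg_166,tg_167,tg_168,tg_169,tg_170,tg_171,tg_172,tg_173,tg_174,tg_175,tg_176,tg_177,tg_178,tg_179,tg_180,tg_181,tg_182,tg_183,tg_184,tg_185,tg_186,tg_187,tg_188,tg_189,tg_190,tg_191,tg_192,tg_193,tg_194,tg_195,tg_196,tg_197,tg_198,tg_199,tg_200,tg_201,tg_202,tg_203,tg_204,tg_205,tg_206,tg_207,tg_208,tg_209,tg_210,tg_211,tg_212,tg_213,tg_214,tg_215,tg_216,tg_217,tg_218,tg_219,tg_220,tg_221,tg_222,tg_223,tg_224,tg_225]) = true :=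
  rt_step ck_tg164 (by decide +kernel) rt_165

theorem rt_163 : C.runTargets tS_163 (tg_163 :: [tg_164,tg_165,tg_166,tg_167,tg_168,tg_169,tg_170,tg_171,tg_172,tg_173,tg_174,tg_175,tg_176,tg_177,tg_178,tg_179,tg_180,tg_181,tg_182,tg_183,tg_184,tg_185,tg_186,tg_187,tg_188,tg_189,tg_190,tg_191,tg_192,tg_193,tg_194,tg_195,tg_196,tg_197,tg_198,tg_199,tg_200,tg_201,tg_202,tg_203,tg_204,tg_205,tg_206,tg_207,tg_208,tg_209,tg_210,tg_211,tg_212,tg_213,tg_214,tg_215,tg_216,tg_217,tg_218,tg_219,tg_220,tg_221,tg_222,tg_223,tg_224,tg_225]) = true :=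
  rt_step ck_tg163 (by decide +kernel) rt_164

theorem rt_162 : C.runTargets tS_162 (tg_162 :: [tg_163,tg_164,tg_165,tg_166,tg_167,tg_168,tg_169,tg_170,tg_171,tg_172,tg_173,tg_174,tg_175,tg_176,tg_177,tg_178,tg_179,tg_180,tg_181,tg_182,tg_183,tg_184,tg_185,tg_186,tg_187,tg_188,tg_189,tg_190,tg_191,tg_192,tg_193,tg_194,tg_195,tg_196,tg_197,tg_198,tg_199,tg_200,tg_201,tg_202,tg_203,tg_204,tg_205,tg_206,tg_207,tg_208,tg_209,tg_210,tg_211,tg_212,tg_213,tg_214,tg_215,tg_216,tg_217,tg_218,tg_219,tg_220,tg_221,tg_222,tg_223,tg_224,tg_225]) = true :=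
  rt_step ck_tg162 (by decide +kernel) rt_163

theorem rt_161 : C.runTargets tS_161 (tg_161 :: [tg_162,tg_163,tg_164,tg_165,tg_166,tg_167,tg_168,tg_169,tg_170,tg_171,tg_172,tg_173,tg_174,tg_175,tg_176,tg_177,tg_178,tg_179,tg_180,tg_181,tg_182,tg_183,tg_184,tg_185,tg_186,tg_187,tg_188,tg_189,tg_190,tg_191,tg_192,tg_193,tg_194,tg_195,tg_196,tg_197,tg_198,tg_199,tg_200,tg_201,tg_202,tg_203,tg_204,tg_205,tg_206,tg_207,tg_208,tg_209,tg_210,tg_211,tg_212,tg_213,tg_214,tg_215,tg_216,tg_217,tg_218,tg_219,tg_220,tg_221,tg_222,tg_223,tg_224,tg_225]) = true :=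
  rt_step ck_tg161 (by decide +kernel) rt_162

theorem rt_160 : C.runTargets tS_160 (tg_160 :: [tg_161,tg_162,tg_163,tg_164,tg_165,tg_166,tg_167,tg_168,tg_169,tg_170,tg_171,tg_172,tg_173,tg_174,tg_175,tg_176,tg_177,tg_178,tg_179,tg_180,tg_181,tg_182,tg_183,tg_184,tg_185,tg_186,tg_187,tg_188,tg_189,tg_190,tg_191,tg_192,tg_193,tg_194,tg_195,tg_196,tg_197,tg_198,tg_199,tg_200,tg_201,tg_202,tg_203,tg_204,tg_205,tg_206,tg_207,tg_208,tg_209,tg_210,tg_211,tg_212,tg_213,tg_214,tg_215,tg_216,tg_217,tg_218,tg_219,tg_220,tg_221,tg_222,tg_223,tg_224,tg_225]) = true :=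
  rt_step ck_tg160 (by decide +kernel) rt_161

theorem rt_159 : C.runTargets tS_159 (tg_159 :: [tg_160,tg_161,tg_162,tg_163,tg_164,tg_165,tg_166,tg_167,tg_168,tg_169,tg_170,tg_171,tg_172,tg_173,tg_174,tg_175,tg_176,tg_177,tg_178,tg_179,tg_180,tg_181,tg_182,tg_183,tg_184,tg_185,tg_186,tg_187,tg_188,tg_189,tg_190,tg_191,tg_192,tg_193,tg_194,tg_195,tg_196,tg_197,tg_198,tg_199,tg_200,tg_201,tg_202,tg_203,tg_204,tg_205,tg_206,tg_207,tg_208,tg_209,tg_210,tg_211,tg_212,tg_213,tg_214,tg_215,tg_216,tg_217,tg_218,tg_219,tg_220,tg_221,tg_222,tg_223,tg_224,tg_225]) = true :=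
  rt_step ck_tg159 (by decide +kernel) rt_160

theorem rt_158 : C.runTargets tS_158 (tg_158 :: [tg_159,tg_160,tg_161,tg_162,tg_163,tg_164,tg_165,tg_166,tg_167,tg_168,tg_169,tg_170,tg_171,tg_172,tg_173,tg_174,tg_175,tg_176,tg_177,tg_178,tg_179,tg_180,tg_181,tg_182,tg_183,tg_184,tg_185,tg_186,tg_187,tg_188,tg_189,tg_190,tg_191,tg_192,tg_193,tg_194,tg_195,tg_196,tg_197,tg_198,tg_199,tg_200,tg_201,tg_202,tg_203,tg_204,tg_205,tg_206,tg_207,tg_208,tg_209,tg_210,tg_211,tg_212,tg_213,tg_214,tg_215,tg_216,tg_217,tg_218,tg_219,tg_220,tg_221,tg_222,tg_223,tg_224,tg_225]) = true :=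
  rt_step ck_tg158 (by decide +kernel) rt_159

theorem rt_157 : C.runTargets tS_157 (tg_157 :: [tg_158,tg_159,tg_160,tg_161,tg_162,tg_163,tg_164,tg_165,tg_166,tg_167,tg_168,tg_169,tg_170,tg_171,tg_172,tg_173,tg_174,tg_175,tg_176,tg_177,tg_178,tg_179,tg_180,tg_181,tg_182,tg_183,tg_184,tg_185,tg_186,tg_187,tg_188,tg_189,tg_190,tg_191,tg_192,tg_193,tg_194,tg_195,tg_196,tg_197,tg_198,tg_199,tg_200,tg_201,tg_202,tg_203,tg_204,tg_205,tg_206,tg_207,tg_208,tg_209,tg_210,tg_211,tg_212,tg_213,tg_214,tg_215,tg_216,tg_217,tg_218,tg_219,tg_220,tg_221,tg_222,tg_223,tg_224,tg_225]) = true :=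
  rt_step ck_tg157 (by decide +kernel) rt_158

theorem rt_156 : C.runTargets tS_156 (tg_156 :: [tg_157,tg_158,tg_159,tg_160,tg_161,tg_162,tg_163,tg_164,tg_165,tg_166,tg_167,tg_168,tg_169,tg_170,tg_171,tg_172,tg_173,tg_174,tg_175,tg_176,tg_177,tg_178,tg_179,tg_180,tg_181,tg_182,tg_183,tg_184,tg_185,tg_186,tg_187,tg_188,tg_189,tg_190,tg_191,tg_192,tg_193,tg_194,tg_195,tg_196,tg_197,tg_198,tg_199,tg_200,tg_201,tg_202,tg_203,tg_204,tg_205,tg_206,tg_207,tg_208,tg_209,tg_210,tg_211,tg_212,tg_213,tg_214,tg_215,tg_216,tg_217,tg_218,tg_219,tg_220,tg_221,tg_222,tg_223,tg_224,tg_225]) = true :=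
  rt_step ck_tg156 (by decide +kernel) rt_157

theorem rt_155 : C.runTargets tS_155 (tg_155 :: [tg_156,tg_157,tg_158,tg_159,tg_160,tg_161,tg_162,tg_163,tg_164,tg_165,tg_166,tg_167,tg_168,tg_169,tg_170,tg_171,tg_172,tg_173,tg_174,tg_175,tg_176,tg_177,tg_178,tg_179,tg_180,tg_181,tg_182,tg_183,tg_184,tg_185,tg_186,tg_187,tg_188,tg_189,tg_190,tg_191,tg_192,tg_193,tg_194,tg_195,tg_196,tg_197,tg_198,tg_199,tg_200,tg_201,tg_202,tg_203,tg_204,tg_205,tg_206,tg_207,tg_208,tg_209,tg_210,tg_211,tg_212,tg_213,tg_214,tg_215,tg_216,tg_217,tg_218,tg_219,tg_220,tg_221,tg_222,tg_223,tg_224,tg_225]) = true :=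
  rt_step ck_tg155 (by decide +kernel) rt_156

theorem rt_154 : C.runTargets tS_154 (tg_154 :: [tg_155,tg_156,tg_157,tg_158,tg_159,tg_160,tg_161,tg_162,tg_163,tg_164,tg_165,tg_166,tg_167,tg_168,tg_169,tg_170,tg_171,tg_172,tg_173,tg_174,tg_175,tg_176,tg_177,tg_178,tg_179,tg_180,tg_181,tg_182,tg_183,tg_184,tg_185,tg_186,tg_187,tg_188,tg_189,tg_190,tg_191,tg_192,tg_193,tg_194,tg_195,tg_196,tg_197,tg_198,tg_199,tg_200,tg_201,tg_202,tg_203,tg_204,tg_205,tg_206,tg_207,tg_208,tg_209,tg_210,tg_211,tg_212,tg_213,tg_214,tg_215,tg_216,tg_217,tg_218,tg_219,tg_220,tg_221,tg_222,tg_223,tg_224,tg_225]) = true :=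
  rt_step ck_tg154 (by decide +kernel) rt_155

theorem rt_153 : C.runTargets tS_153 (tg_153 :: [tg_154,tg_155,tg_156,tg_157,tg_158,tg_159,tg_160,tg_161,tg_162,tg_163,tg_164,tg_165,tg_166,tg_167,tg_168,tg_169,tg_170,tg_171,tg_172,tg_173,tg_174,tg_175,tg_176,tg_177,tg_178,tg_179,tg_180,tg_181,tg_182,tg_183,tg_184,tg_185,tg_186,tg_187,tg_188,tg_189,tg_190,tg_191,tg_192,tg_193,tg_194,tg_195,tg_196,tg_197,tg_198,tg_199,tg_200,tg_201,tg_202,tg_203,tg_204,tg_205,tg_206,tg_207,tg_208,tg_209,tg_210,tg_211,tg_212,tg_213,tg_214,tg_215,tg_216,tg_217,tg_218,tg_219,tg_220,tg_221,tg_222,tg_223,tg_224,tg_225]) = true :=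
  rt_step ck_tg153 (by decide +kernel) rt_154

theorem rt_152 : C.runTargets tS_152 (tg_152 :: [tg_153,tg_154,tg_155,tg_156,tg_157,tg_158,tg_159,tg_160,tg_161,tg_162,tg_163,tg_164,tg_165,tg_166,tg_167,tg_168,tg_169,tg_170,tg_171,tg_172,tg_173,tg_174,tg_175,tg_176,tg_177,tg_178,tg_179,tg_180,tg_181,tg_182,tg_183,tg_184,tg_185,tg_186,tg_187,tg_188,tg_189,tg_190,tg_191,tg_192,tg_193,tg_194,tg_195,tg_196,tg_197,tg_198,tg_199,tg_200,tg_201,tg_202,tg_203,tg_204,tg_205,tg_206,tg_207,tg_208,tg_209,tg_210,tg_211,tg_212,tg_213,tg_214,tg_215,tg_216,tg_217,tg_218,tg_219,tg_220,tg_221,tg_222,tg_223,tg_224,tg_225]) = true :=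
  rt_step ck_tg152 (by decide +kernel) rt_153

theorem rt_151 : C.runTargets tS_151 (tg_151 :: [tg_152,tg_153,tg_154,tg_155,tg_156,tg_157,tg_158,tg_159,tg_160,tg_161,tg_162,tg_163,tg_164,tg_165,tg_166,tg_167,tg_168,tg_169,tg_170,tg_171,tg_172,tg_173,tg_174,tg_175,tg_176,tg_177,tg_178,tg_179,tg_180,tg_181,tg_182,tg_183,tg_184,tg_185,tg_186,tg_187,tg_188,tg_189,tg_190,tg_191,tg_192,tg_193,tg_194,tg_195,tg_196,tg_197,tg_198,tg_199,tg_200,tg_201,tg_202,tg_203,tg_204,tg_205,tg_206,tg_207,tg_208,tg_209,tg_210,tg_211,tg_212,tg_213,tg_214,tg_215,tg_216,tg_217,tg_218,tg_219,tg_220,tg_221,tg_222,tg_223,tg_224,tg_225]) = true :=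
  rt_step ck_tg151 (by decide +kernel) rt_152

theorem rt_150 : C.runTargets tS_150 (tg_150 :: [tg_151,tg_152,tg_153,tg_154,tg_155,tg_156,tg_157,tg_158,tg_159,tg_160,tg_161,tg_162,tg_163,tg_164,tg_165,tg_166,tg_167,tg_168,tg_169,tg_170,tg_171,tg_172,tg_173,tg_174,tg_175,tg_176,tg_177,tg_178,tg_179,tg_180,tg_181,tg_182,tg_183,tg_184,tg_185,tg_186,tg_187,tg_188,tg_189,tg_190,tg_191,tg_192,tg_193,tg_194,tg_195,tg_196,tg_197,tg_198,tg_199,tg_200,tg_201,tg_202,tg_203,tg_204,tg_205,tg_206,tg_207,tg_208,tg_209,tg_210,tg_211,tg_212,tg_213,tg_214,tg_215,tg_216,tg_217,tg_218,tg_219,tg_220,tg_221,tg_222,tg_223,tg_224,tg_225]) = true :=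
  rt_step ck_tg150 (by decide +kernel) rt_151

theorem rt_149 : C.runTargets tS_149 (tg_149 :: [tg_150,tg_151,tg_152,tg_153,tg_154,tg_155,tg_156,tg_157,tg_158,tg_159,tg_160,tg_161,tg_162,tg_163,tg_164,tg_165,tg_166,tg_167,tg_168,tg_169,tg_170,tg_171,tg_172,tg_173,tg_174,tg_175,tg_176,tg_177,tg_178,tg_179,tg_180,tg_181,tg_182,tg_183,tg_184,tg_185,tg_186,tg_187,tg_188,tg_189,tg_190,tg_191,tg_192,tg_193,tg_194,tg_195,tg_196,tg_197,tg_198,tg_199,tg_200,tg_201,tg_202,tg_203,tg_204,tg_205,tg_206,tg_207,tg_208,tg_209,tg_210,tg_211,tg_212,tg_213,tg_214,tg_215,tg_216,tg_217,tg_218,tg_219,tg_220,tg_221,tg_222,tg_223,tg_224,tg_225]) = true :=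
  rt_step ck_tg149 (by decide +kernel) rt_150

theorem rt_148 : C.runTargets tS_148 (tg_148 :: [tg_149,tg_150,tg_151,tg_152,tg_153,tg_154,tg_155,tg_156,tg_157,tg_158,tg_159,tg_160,tg_161,tg_162,tg_163,tg_164,tg_165,tg_166,tg_167,tg_168,tg_169,tg_170,tg_171,tg_172,tg_173,tg_174,tg_175,tg_176,tg_177,tg_178,tg_179,tg_180,tg_181,tg_182,tg_183,tg_184,tg_185,tg_186,tg_187,tg_188,tg_189,tg_190,tg_191,tg_192,tg_193,tg_194,tg_195,tg_196,tg_197,tg_198,tg_199,tg_200,tg_201,tg_202,tg_203,tg_204,tg_205,tg_206,tg_207,tg_208,tg_209,tg_210,tg_211,tg_212,tg_213,tg_214,tg_215,tg_216,tg_217,tg_218,tg_219,tg_220,tg_221,tg_222,tg_223,tg_224,tg_225]) = true :=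
  rt_step ck_tg148 (by decide +kernel) rt_149

theorem rt_147 : C.runTargets tS_147 (tg_147 :: [tg_148,tg_149,tg_150,tg_151,tg_152,tg_153,tg_154,tg_155,tg_156,tg_157,tg_158,tg_159,tg_160,tg_161,tg_162,tg_163,tg_164,tg_165,tg_166,tg_167,tg_168,tg_169,tg_170,tg_171,tg_172,tg_173,tg_174,tg_175,tg_176,tg_177,tg_178,tg_179,tg_180,tg_181,tg_182,tg_183,tg_184,tg_185,tg_186,tg_187,tg_188,tg_189,tg_190,tg_191,tg_192,tg_193,tg_194,tg_195,tg_196,tg_197,tg_198,tg_199,tg_200,tg_201,tg_202,tg_203,tg_204,tg_205,tg_206,tg_207,tg_208,tg_209,tg_210,tg_211,tg_212,tg_213,tg_214,tg_215,tg_216,tg_217,tg_218,tg_219,tg_220,tg_221,tg_222,tg_223,tg_224,tg_225]) = true :=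
  rt_step ck_tg147 (by decide +kernel) rt_148

theorem rt_146 : C.runTargets tS_146 (tg_146 :: [tg_147,tg_148,tg_149,tg_150,tg_151,tg_152,tg_153,tg_154,tg_155,tg_156,tg_157,tg_158,tg_159,tg_160,tg_161,tg_162,tg_163,tg_164,tg_165,tg_166,tg_167,tg_168,tg_169,tg_170,tg_171,tg_172,tg_173,tg_174,tg_175,tg_176,tg_177,tg_178,tg_179,tg_180,tg_181,tg_182,tg_183,tg_184,tg_185,tg_186,tg_187,tg_188,tg_189,tg_190,tg_191,tg_192,tg_193,tg_194,tg_195,tg_196,tg_197,tg_198,tg_199,tg_200,tg_201,tg_202,tg_203,tg_204,tg_205,tg_206,tg_207,tg_208,tg_209,tg_210,tg_211,tg_212,tg_213,tg_214,tg_215,tg_216,tg_217,tg_218,tg_219,tg_220,tg_221,tg_222,tg_223,tg_224,tg_225]) = true :=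
  rt_step ck_tg146 (by decide +kernel) rt_147

theorem rt_145 : C.runTargets tS_145 (tg_145 :: [tg_146,tg_147,tg_148,tg_149,tg_150,tg_151,tg_152,tg_153,tg_154,tg_155,tg_156,tg_157,tg_158,tg_159,tg_160,tg_161,tg_162,tg_163,tg_164,tg_165,tg_166,tg_167,tg_168,tg_169,tg_170,tg_171,tg_172,tg_173,tg_174,tg_175,tg_176,tg_177,tg_178,tg_179,tg_180,tg_181,tg_182,tg_183,tg_184,tg_185,tg_186,tg_187,tg_188,tg_189,tg_190,tg_191,tg_192,tg_193,tg_194,tg_195,tg_196,tg_197,tg_198,tg_199,tg_200,tg_201,tg_202,tg_203,tg_204,tg_205,tg_206,tg_207,tg_208,tg_209,tg_210,tg_211,tg_212,tg_213,tg_214,tg_215,tg_216,tg_217,tg_218,tg_219,tg_220,tg_221,tg_222,tg_223,tg_224,tg_225]) = true :=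
  rt_step ck_tg145 (by decide +kernel) rt_146

theorem rt_144 : C.runTargets tS_144 (tg_144 :: [tg_145,tg_146,tg_147,tg_148,tg_149,tg_150,tg_151,tg_152,tg_153,tg_154,tg_155,tg_156,tg_157,tg_158,tg_159,tg_160,tg_161,tg_162,tg_163,tg_164,tg_165,tg_166,tg_167,tg_168,tg_169,tg_170,tg_171,tg_172,tg_173,tg_174,tg_175,tg_176,tg_177,tg_178,tg_179,tg_180,tg_181,tg_182,tg_183,tg_184,tg_185,tg_186,tg_187,tg_188,tg_189,tg_190,tg_191,tg_192,tg_193,tg_194,tg_195,tg_196,tg_197,tg_198,tg_199,tg_200,tg_201,tg_202,tg_203,tg_204,tg_205,tg_206,tg_207,tg_208,tg_209,tg_210,tg_211,tg_212,tg_213,tg_214,tg_215,tg_216,tg_217,tg_218,tg_219,tg_220,tg_221,tg_222,tg_223,tg_224,tg_225]) = true :=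
  rt_step ck_tg144 (by decide +kernel) rt_145

theorem rt_143 : C.runTargets tS_143 (tg_143 :: [tg_144,tg_145,tg_146,tg_147,tg_148,tg_149,tg_150,tg_151,tg_152,tg_153,tg_154,tg_155,tg_156,tg_157,tg_158,tg_159,tg_160,tg_161,tg_162,tg_163,tg_164,tg_165,tg_166,tg_167,tg_168,tg_169,tg_170,tg_171,tg_172,tg_173,tg_174,tg_175,tg_176,tg_177,tg_178,tg_179,tg_180,tg_181,tg_182,tg_183,tg_184,tg_185,tg_186,tg_187,tg_188,tg_189,tg_190,tg_191,tg_192,tg_193,tg_194,tg_195,tg_196,tg_197,tg_198,tg_199,tg_200,tg_201,tg_202,tg_203,tg_204,tg_205,tg_206,tg_207,tg_208,tg_209,tg_210,tg_211,tg_212,tg_213,tg_214,tg_215,tg_216,tg_217,tg_218,tg_219,tg_220,tg_221,tg_222,tg_223,tg_224,tg_225]) = true :=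
  rt_step ck_tg143 (by decide +kernel) rt_144

theorem rt_142 : C.runTargets tS_142 (tg_142 :: [tg_143,tg_144,tg_145,tg_146,tg_147,tg_148,tg_149,tg_150,tg_151,tg_152,tg_153,tg_154,tg_155,tg_156,tg_157,tg_158,tg_159,tg_160,tg_161,tg_162,tg_163,tg_164,tg_165,tg_166,tg_167,tg_168,tg_169,tg_170,tg_171,tg_172,tg_173,tg_174,tg_175,tg_176,tg_177,tg_178,tg_179,tg_180,tg_181,tg_182,tg_183,tg_184,tg_185,tg_186,tg_187,tg_188,tg_189,tg_190,tg_191,tg_192,tg_193,tg_194,tg_195,tg_196,tg_197,tg_198,tg_199,tg_200,tg_201,tg_202,tg_203,tg_204,tg_205,tg_206,tg_207,tg_208,tg_209,tg_210,tg_211,tg_212,tg_213,tg_214,tg_215,tg_216,tg_217,tg_218,tg_219,tg_220,tg_221,tg_222,tg_223,tg_224,tg_225]) = true :=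
  rt_step ck_tg142 (by decide +kernel) rt_143

theorem rt_141 : C.runTargets tS_141 (tg_141 :: [tg_142,tg_143,tg_144,tg_145,tg_146,tg_147,tg_148,tg_149,tg_150,tg_151,tg_152,tg_153,tg_154,tg_155,tg_156,tg_157,tg_158,tg_159,tg_160,tg_161,tg_162,tg_163,tg_164,tg_165,tg_166,tg_167,tg_168,tg_169,tg_170,tg_171,tg_172,tg_173,tg_174,tg_175,tg_176,tg_177,tg_178,tg_179,tg_180,tg_181,tg_182,tg_183,tg_184,tg_185,tg_186,tg_187,tg_188,tg_189,tg_190,tg_191,tg_192,tg_193,tg_194,tg_195,tg_196,tg_197,tg_198,tg_199,tg_200,tg_201,tg_202,tg_203,tg_204,tg_205,tg_206,tg_207,tg_208,tg_209,tg_210,tg_211,tg_212,tg_213,tg_214,tg_215,tg_216,tg_217,tg_218,tg_219,tg_220,tg_221,tg_222,tg_223,tg_224,tg_225]) = true :=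
  rt_step ck_tg141 (by decide +kernel) rt_142

theorem rt_140 : C.runTargets tS_140 (tg_140 :: [tg_141,tg_142,tg_143,tg_144,tg_145,tg_146,tg_147,tg_148,tg_149,tg_150,tg_151,tg_152,tg_153,tg_154,tg_155,tg_156,tg_157,tg_158,tg_159,tg_160,tg_161,tg_162,tg_163,tg_164,tg_165,tg_166,tg_167,tg_168,tg_169,tg_170,tg_171,tg_172,tg_173,tg_174,tg_175,tg_176,tg_177,tg_178,tg_179,tg_180,tg_181,tg_182,tg_183,tg_184,tg_185,tg_186,tg_187,tg_188,tg_189,tg_190,tg_191,tg_192,tg_193,tg_194,tg_195,tg_196,tg_197,tg_198,tg_199,tg_200,tg_201,tg_202,tg_203,tg_204,tg_205,tg_206,tg_207,tg_208,tg_209,tg_210,tg_211,tg_212,tg_213,tg_214,tg_215,tg_216,tg_217,tg_218,tg_219,tg_220,tg_221,tg_222,tg_223,tg_224,tg_225]) = true :=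
  rt_step ck_tg140 (by decide +kernel) rt_141

theorem rt_139 : C.runTargets tS_139 (tg_139 :: [tg_140,tg_141,tg_142,tg_143,tg_144,tg_145,tg_146,tg_147,tg_148,tg_149,tg_150,tg_151,tg_152,tg_153,tg_154,tg_155,tg_156,tg_157,tg_158,tg_159,tg_160,tg_161,tg_162,tg_163,tg_164,tg_165,tg_166,tg_167,tg_168,tg_169,tg_170,tg_171,tg_172,tg_173,tg_174,tg_175,tg_176,tg_177,tg_178,tg_179,tg_180,tg_181,tg_182,tg_183,tg_184,tg_185,tg_186,tg_187,tg_188,tg_189,tg_190,tg_191,tg_192,tg_193,tg_194,tg_195,tg_196,tg_197,tg_198,tg_199,tg_200,tg_201,tg_202,tg_203,tg_204,tg_205,tg_206,tg_207,tg_208,tg_209,tg_210,tg_211,tg_212,tg_213,tg_214,tg_215,tg_216,tg_217,tg_218,tg_219,tg_220,tg_221,tg_222,tg_223,tg_224,tg_225]) = true :=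
  rt_step ck_tg139 (by decide +kernel) rt_140

theorem rt_138 : C.runTargets tS_138 (tg_138 :: [tg_139,tg_140,tg_141,tg_142,tg_143,tg_144,tg_145,tg_146,tg_147,tg_148,tg_149,tg_150,tg_151,tg_152,tg_153,tg_154,tg_155,tg_156,tg_157,tg_158,tg_159,tg_160,tg_161,tg_162,tg_163,tg_164,tg_165,tg_166,tg_167,tg_168,tg_169,tg_170,tg_171,tg_172,tg_173,tg_174,tg_175,tg_176,tg_177,tg_178,tg_179,tg_180,tg_181,tg_182,tg_183,tg_184,tg_185,tg_186,tg_187,tg_188,tg_189,tg_190,tg_191,tg_192,tg_193,tg_194,tg_195,tg_196,tg_197,tg_198,tg_199,tg_200,tg_201,tg_202,tg_203,tg_204,tg_205,tg_206,tg_207,tg_208,tg_209,tg_210,tg_211,tg_212,tg_213,tg_214,tg_215,tg_216,tg_217,tg_218,tg_219,tg_220,tg_221,tg_222,tg_223,tg_224,tg_225]) = true :=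
  rt_step ck_tg138 (by decide +kernel) rt_139

theorem rt_137 : C.runTargets tS_137 (tg_137 :: [tg_138,tg_139,tg_140,tg_141,tg_142,tg_143,tg_144,tg_145,tg_146,tg_147,tg_148,tg_149,tg_150,tg_151,tg_152,tg_153,tg_154,tg_155,tg_156,tg_157,tg_158,tg_159,tg_160,tg_161,tg_162,tg_163,tg_164,tg_165,tg_166,tg_167,tg_168,tg_169,tg_170,tg_171,tg_172,tg_173,tg_174,tg_175,tg_176,tg_177,tg_178,tg_179,tg_180,tg_181,tg_182,tg_183,tg_184,tg_185,tg_186,tg_187,tg_188,tg_189,tg_190,tg_191,tg_192,tg_193,tg_194,tg_195,tg_196,tg_197,tg_198,tg_199,tg_200,tg_201,tg_202,tg_203,tg_204,tg_205,tg_206,tg_207,tg_208,tg_209,tg_210,tg_211,tg_212,tg_213,tg_214,tg_215,tg_216,tg_217,tg_218,tg_219,tg_220,tg_221,tg_222,tg_223,tg_224,tg_225]) = true :=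
  rt_step ck_tg137 (by decide +kernel) rt_138

theorem rt_136 : C.runTargets tS_136 (tg_136 :: [tg_137,tg_138,tg_139,tg_140,tg_141,tg_142,tg_143,tg_144,tg_145,tg_146,tg_147,tg_148,tg_149,tg_150,tg_151,tg_152,tg_153,tg_154,tg_155,tg_156,tg_157,tg_158,tg_159,tg_160,tg_161,tg_162,tg_163,tg_164,tg_165,tg_166,tg_167,tg_168,tg_169,tg_170,tg_171,tg_172,tg_173,tg_174,tg_175,tg_176,tg_177,tg_178,tg_179,tg_180,tg_181,tg_182,tg_183,tg_184,tg_185,tg_186,tg_187,tg_188,tg_189,tg_190,tg_191,tg_192,tg_193,tg_194,tg_195,tg_196,tg_197,tg_198,tg_199,tg_200,tg_201,tg_202,tg_203,tg_204,tg_205,tg_206,tg_207,tg_208,tg_209,tg_210,tg_211,tg_212,tg_213,tg_214,tg_215,tg_216,tg_217,tg_218,tg_219,tg_220,tg_221,tg_222,tg_223,tg_224,tg_225]) = true :=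
  rt_step ck_tg136 (by decide +kernel) rt_137

theorem rt_135 : C.runTargets tS_135 (tg_135 :: [tg_136,tg_137,tg_138,tg_139,tg_140,tg_141,tg_142,tg_143,tg_144,tg_145,tg_146,tg_147,tg_148,tg_149,tg_150,tg_151,tg_152,tg_153,tg_154,tg_155,tg_156,tg_157,tg_158,tg_159,tg_160,tg_161,tg_162,tg_163,tg_164,tg_165,tg_166,tg_167,tg_168,tg_169,tg_170,tg_171,tg_172,tg_173,tg_174,tg_175,tg_176,tg_177,tg_178,tg_179,tg_180,tg_181,tg_182,tg_183,tg_184,tg_185,tg_186,tg_187,tg_188,tg_189,tg_190,tg_191,tg_192,tg_193,tg_194,tg_195,tg_196,tg_197,tg_198,tg_199,tg_200,tg_201,tg_202,tg_203,tg_204,tg_205,tg_206,tg_207,tg_208,tg_209,tg_210,tg_211,tg_212,tg_213,tg_214,tg_215,tg_216,tg_217,tg_218,tg_219,tg_220,tg_221,tg_222,tg_223,tg_224,tg_225]) = true :=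
  rt_step ck_tg135 (by decide +kernel) rt_136

theorem rt_134 : C.runTargets tS_134 (tg_134 :: [tg_135,tg_136,tg_137,tg_138,tg_139,tg_140,tg_141,tg_142,tg_143,tg_144,tg_145,tg_146,tg_147,tg_148,tg_149,tg_150,tg_151,tg_152,tg_153,tg_154,tg_155,tg_156,tg_157,tg_158,tg_159,tg_160,tg_161,tg_162,tg_163,tg_164,tg_165,tg_166,tg_167,tg_168,tg_169,tg_170,tg_171,tg_172,tg_173,tg_174,tg_175,tg_176,tg_177,tg_178,tg_179,tg_180,tg_181,tg_182,tg_183,tg_184,tg_185,tg_186,tg_187,tg_188,tg_189,tg_190,tg_191,tg_192,tg_193,tg_194,tg_195,tg_196,tg_197,tg_198,tg_199,tg_200,tg_201,tg_202,tg_203,tg_204,tg_205,tg_206,tg_207,tg_208,tg_209,tg_210,tg_211,tg_212,tg_213,tg_214,tg_215,tg_216,tg_217,tg_218,tg_219,tg_220,tg_221,tg_222,tg_223,tg_224,tg_225]) = true :=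
  rt_step ck_tg134 (by decide +kernel) rt_135

theorem rt_133 : C.runTargets tS_133 (tg_133 :: [tg_134,tg_135,tg_136,tg_137,tg_138,tg_139,tg_140,tg_141,tg_142,tg_143,tg_144,tg_145,tg_146,tg_147,tg_148,tg_149,tg_150,tg_151,tg_152,tg_153,tg_154,tg_155,tg_156,tg_157,tg_158,tg_159,tg_160,tg_161,tg_162,tg_163,tg_164,tg_165,tg_166,tg_167,tg_168,tg_169,tg_170,tg_171,tg_172,tg_173,tg_174,tg_175,tg_176,tg_177,tg_178,tg_179,tg_180,tg_181,tg_182,tg_183,tg_184,tg_185,tg_186,tg_187,tg_188,tg_189,tg_190,tg_191,tg_192,tg_193,tg_194,tg_195,tg_196,tg_197,tg_198,tg_199,tg_200,tg_201,tg_202,tg_203,tg_204,tg_205,tg_206,tg_207,tg_208,tg_209,tg_210,tg_211,tg_212,tg_213,tg_214,tg_215,tg_216,tg_217,tg_218,tg_219,tg_220,tg_221,tg_222,tg_223,tg_224,tg_225]) = true :=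
  rt_step ck_tg133 (by decide +kernel) rt_134

theorem rt_132 : C.runTargets tS_132 (tg_132 :: [tg_133,tg_134,tg_135,tg_136,tg_137,tg_138,tg_139,tg_140,tg_141,tg_142,tg_143,tg_144,tg_145,tg_146,tg_147,tg_148,tg_149,tg_150,tg_151,tg_152,tg_153,tg_154,tg_155,tg_156,tg_157,tg_158,tg_159,tg_160,tg_161,tg_162,tg_163,tg_164,tg_165,tg_166,tg_167,tg_168,tg_169,tg_170,tg_171,tg_172,tg_173,tg_174,tg_175,tg_176,tg_177,tg_178,tg_179,tg_180,tg_181,tg_182,tg_183,tg_184,tg_185,tg_186,tg_187,tg_188,tg_189,tg_190,tg_191,tg_192,tg_193,tg_194,tg_195,tg_196,tg_197,tg_198,tg_199,tg_200,tg_201,tg_202,tg_203,tg_204,tg_205,tg_206,tg_207,tg_208,tg_209,tg_210,tg_211,tg_212,tg_213,tg_214,tg_215,tg_216,tg_217,tg_218,tg_219,tg_220,tg_221,tg_222,tg_223,tg_224,tg_225]) = true :=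
  rt_step ck_tg132 (by decide +kernel) rt_133

theorem rt_131 : C.runTargets tS_131 (tg_131 :: [tg_132,tg_133,tg_134,tg_135,tg_136,tg_137,tg_138,tg_139,tg_140,tg_141,tg_142,tg_143,tg_144,tg_145,tg_146,tg_147,tg_148,tg_149,tg_150,tg_151,tg_152,tg_153,tg_154,tg_155,tg_156,tg_157,tg_158,tg_159,tg_160,tg_161,tg_162,tg_163,tg_164,tg_165,tg_166,tg_167,tg_168,tg_169,tg_170,tg_171,tg_172,tg_173,tg_174,tg_175,tg_176,tg_177,tg_178,tg_179,tg_180,tg_181,tg_182,tg_183,tg_184,tg_185,tg_186,tg_187,tg_188,tg_189,tg_190,tg_191,tg_192,tg_193,tg_194,tg_195,tg_196,tg_197,tg_198,tg_199,tg_200,tg_201,tg_202,tg_203,tg_204,tg_205,tg_206,tg_207,tg_208,tg_209,tg_210,tg_211,tg_212,tg_213,tg_214,tg_215,tg_216,tg_217,tg_218,tg_219,tg_220,tg_221,tg_222,tg_223,tg_224,tg_225]) = true :=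
  rt_step ck_tg131 (by decide +kernel) rt_132

theorem rt_130 : C.runTargets tS_130 (tg_130 :: [tg_131,tg_132,tg_133,tg_134,tg_135,tg_136,tg_137,tg_138,tg_139,tg_140,tg_141,tg_142,tg_143,tg_144,tg_145,tg_146,tg_147,tg_148,tg_149,tg_150,tg_151,tg_152,tg_153,tg_154,tg_155,tg_156,tg_157,tg_158,tg_159,tg_160,tg_161,tg_162,tg_163,tg_164,tg_165,tg_166,tg_167,tg_168,tg_169,tg_170,tg_171,tg_172,tg_173,tg_174,tg_175,tg_176,tg_177,tg_178,tg_179,tg_180,tg_181,tg_182,tg_183,tg_184,tg_185,tg_186,tg_187,tg_188,tg_189,tg_190,tg_191,tg_192,tg_193,tg_194,tg_195,tg_196,tg_197,tg_198,tg_199,tg_200,tg_201,tg_202,tg_203,tg_204,tg_205,tg_206,tg_207,tg_208,tg_209,tg_210,tg_211,tg_212,tg_213,tg_214,tg_215,tg_216,tg_217,tg_218,tg_219,tg_220,tg_221,tg_222,tg_223,tg_224,tg_225]) = true :=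
  rt_step ck_tg130 (by decide +kernel) rt_131

theorem rt_129 : C.runTargets tS_129 (tg_129 :: [tg_130,tg_131,tg_132,tg_133,tg_134,tg_135,tg_136,tg_137,tg_138,tg_139,tg_140,tg_141,tg_142,tg_143,tg_144,tg_145,tg_146,tg_147,tg_148,tg_149,tg_150,tg_151,tg_152,tg_153,tg_154,tg_155,tg_156,tg_157,tg_158,tg_159,tg_160,tg_161,tg_162,tg_163,tg_164,tg_165,tg_166,tg_167,tg_168,tg_169,tg_170,tg_171,tg_172,tg_173,tg_174,tg_175,tg_176,tg_177,tg_178,tg_179,tg_180,tg_181,tg_182,tg_183,tg_184,tg_185,tg_186,tg_187,tg_188,tg_189,tg_190,tg_191,tg_192,tg_193,tg_194,tg_195,tg_196,tg_197,tg_198,tg_199,tg_200,tg_201,tg_202,tg_203,tg_204,tg_205,tg_206,tg_207,tg_208,tg_209,tg_210,tg_211,tg_212,tg_213,tg_214,tg_215,tg_216,tg_217,tg_218,tg_219,tg_220,tg_221,tg_222,tg_223,tg_224,tg_225]) = true :=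
  rt_step ck_tg129 (by decide +kernel) rt_130

theorem rt_128 : C.runTargets tS_128 (tg_128 :: [tg_129,tg_130,tg_131,tg_132,tg_133,tg_134,tg_135,tg_136,tg_137,tg_138,tg_139,tg_140,tg_141,tg_142,tg_143,tg_144,tg_145,tg_146,tg_147,tg_148,tg_149,tg_150,tg_151,tg_152,tg_153,tg_154,tg_155,tg_156,tg_157,tg_158,tg_159,tg_160,tg_161,tg_162,tg_163,tg_164,tg_165,tg_166,tg_167,tg_168,tg_169,tg_170,tg_171,tg_172,tg_173,tg_174,tg_175,tg_176,tg_177,tg_178,tg_179,tg_180,tg_181,tg_182,tg_183,tg_184,tg_185,tg_186,tg_187,tg_188,tg_189,tg_190,tg_191,tg_192,tg_193,tg_194,tg_195,tg_196,tg_197,tg_198,tg_199,tg_200,tg_201,tg_202,tg_203,tg_204,tg_205,tg_206,tg_207,tg_208,tg_209,tg_210,tg_211,tg_212,tg_213,tg_214,tg_215,tg_216,tg_217,tg_218,tg_219,tg_220,tg_221,tg_222,tg_223,tg_224,tg_225]) = true :=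
  rt_step ck_tg128 (by decide +kernel) rt_129

theorem rt_127 : C.runTargets tS_127 (tg_127 :: [tg_128,tg_129,tg_130,tg_131,tg_132,tg_133,tg_134,tg_135,tg_136,tg_137,tg_138,tg_139,tg_140,tg_141,tg_142,tg_143,tg_144,tg_145,tg_146,tg_147,tg_148,tg_149,tg_150,tg_151,tg_152,tg_153,tg_154,tg_155,tg_156,tg_157,tg_158,tg_159,tg_160,tg_161,tg_162,tg_163,tg_164,tg_165,tg_166,tg_167,tg_168,tg_169,tg_170,tg_171,tg_172,tg_173,tg_174,tg_175,tg_176,tg_177,tg_178,tg_179,tg_180,tg_181,tg_182,tg_183,tg_184,tg_185,tg_186,tg_187,tg_188,tg_189,tg_190,tg_191,tg_192,tg_193,tg_194,tg_195,tg_196,tg_197,tg_198,tg_199,tg_200,tg_201,tg_202,tg_203,tg_204,tg_205,tg_206,tg_207,tg_208,tg_209,tg_210,tg_211,tg_212,tg_213,tg_214,tg_215,tg_216,tg_217,tg_218,tg_219,tg_220,tg_221,tg_222,tg_223,tg_224,tg_225]) = true :=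
  rt_step ck_tg127 (by decide +kernel) rt_128

theorem rt_126 : C.runTargets tS_126 (tg_126 :: [tg_127,tg_128,tg_129,tg_130,tg_131,tg_132,tg_133,tg_134,tg_135,tg_136,tg_137,tg_138,tg_139,tg_140,tg_141,tg_142,tg_143,tg_144,tg_145,tg_146,tg_147,tg_148,tg_149,tg_150,tg_151,tg_152,tg_153,tg_154,tg_155,tg_156,tg_157,tg_158,tg_159,tg_160,tg_161,tg_162,tg_163,tg_164,tg_165,tg_166,tg_167,tg_168,tg_169,tg_170,tg_171,tg_172,tg_173,tg_174,tg_175,tg_176,tg_177,tg_178,tg_179,tg_180,tg_181,tg_182,tg_183,tg_184,tg_185,tg_186,tg_187,tg_188,tg_189,tg_190,tg_191,tg_192,tg_193,tg_194,tg_195,tg_196,tg_197,tg_198,tg_199,tg_200,tg_201,tg_202,tg_203,tg_204,tg_205,tg_206,tg_207,tg_208,tg_209,tg_210,tg_211,tg_212,tg_213,tg_214,tg_215,tg_216,tg_217,tg_218,tg_219,tg_220,tg_221,tg_222,tg_223,tg_224,tg_225]) = true :=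
  rt_step ck_tg126 (by decide +kernel) rt_127

theorem rt_125 : C.runTargets tS_125 (tg_125 :: [tg_126,tg_127,tg_128,tg_129,tg_130,tg_131,tg_132,tg_133,tg_134,tg_135,tg_136,tg_137,tg_138,tg_139,tg_140,tg_141,tg_142,tg_143,tg_144,tg_145,tg_146,tg_147,tg_148,tg_149,tg_150,tg_151,tg_152,tg_153,tg_154,tg_155,tg_156,tg_157,tg_158,tg_159,tg_160,tg_161,tg_162,tg_163,tg_164,tg_165,tg_166,tg_167,tg_168,tg_169,tg_170,tg_171,tg_172,tg_173,tg_174,tg_175,tg_176,tg_177,tg_178,tg_179,tg_180,tg_181,tg_182,tg_183,tg_184,tg_185,tg_186,tg_187,tg_188,tg_189,tg_190,tg_191,tg_192,tg_193,tg_194,tg_195,tg_196,tg_197,tg_198,tg_199,tg_200,tg_201,tg_202,tg_203,tg_204,tg_205,tg_206,tg_207,tg_208,tg_209,tg_210,tg_211,tg_212,tg_213,tg_214,tg_215,tg_216,tg_217,tg_218,tg_219,tg_220,tg_221,tg_222,tg_223,tg_224,tg_225]) = true :=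
  rt_step ck_tg125 (by decide +kernel) rt_126

theorem rt_124 : C.runTargets tS_124 (tg_124 :: [tg_125,tg_126,tg_127,tg_128,tg_129,tg_130,tg_131,tg_132,tg_133,tg_134,tg_135,tg_136,tg_137,tg_138,tg_139,tg_140,tg_141,tg_142,tg_143,tg_144,tg_145,tg_146,tg_147,tg_148,tg_149,tg_150,tg_151,tg_152,tg_153,tg_154,tg_155,tg_156,tg_157,tg_158,tg_159,tg_160,tg_161,tg_162,tg_163,tg_164,tg_165,tg_166,tg_167,tg_168,tg_169,tg_170,tg_171,tg_172,tg_173,tg_174,tg_175,tg_176,tg_177,tg_178,tg_179,tg_180,tg_181,tg_182,tg_183,tg_184,tg_185,tg_186,tg_187,tg_188,tg_189,tg_190,tg_191,tg_192,tg_193,tg_194,tg_195,tg_196,tg_197,tg_198,tg_199,tg_200,tg_201,tg_202,tg_203,tg_204,tg_205,tg_206,tg_207,tg_208,tg_209,tg_210,tg_211,tg_212,tg_213,tg_214,tg_215,tg_216,tg_217,tg_218,tg_219,tg_220,tg_221,tg_222,tg_223,tg_224,tg_225]) = true :=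
  rt_step ck_tg124 (by decide +kernel) rt_125

theorem rt_123 : C.runTargets tS_123 (tg_123 :: [tg_124,tg_125,tg_126,tg_127,tg_128,tg_129,tg_130,tg_131,tg_132,tg_133,tg_134,tg_135,tg_136,tg_137,tg_138,tg_139,tg_140,tg_141,tg_142,tg_143,tg_144,tg_145,tg_146,tg_147,tg_148,tg_149,tg_150,tg_151,tg_152,tg_153,tg_154,tg_155,tg_156,tg_157,tg_158,tg_159,tg_160,tg_161,tg_162,tg_163,tg_164,tg_165,tg_166,tg_167,tg_168,tg_169,tg_170,tg_171,tg_172,tg_173,tg_174,tg_175,tg_176,tg_177,tg_178,tg_179,tg_180,tg_181,tg_182,tg_183,tg_184,tg_185,tg_186,tg_187,tg_188,tg_189,tg_190,tg_191,tg_192,tg_193,tg_194,tg_195,tg_196,tg_197,tg_198,tg_199,tg_200,tg_201,tg_202,tg_203,tg_204,tg_205,tg_206,tg_207,tg_208,tg_209,tg_210,tg_211,tg_212,tg_213,tg_214,tg_215,tg_216,tg_217,tg_218,tg_219,tg_220,tg_221,tg_222,tg_223,tg_224,tg_225]) = true :=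
  rt_step ck_tg123 (by decide +kernel) rt_124

theorem rt_122 : C.runTargets tS_122 (tg_122 :: [tg_123,tg_124,tg_125,tg_126,tg_127,tg_128,tg_129,tg_130,tg_131,tg_132,tg_133,tg_134,tg_135,tg_136,tg_137,tg_138,tg_139,tg_140,tg_141,tg_142,tg_143,tg_144,tg_145,tg_146,tg_147,tg_148,tg_149,tg_150,tg_151,tg_152,tg_153,tg_154,tg_155,tg_156,tg_157,tg_158,tg_159,tg_160,tg_161,tg_162,tg_163,tg_164,tg_165,tg_166,tg_167,tg_168,tg_169,tg_170,tg_171,tg_172,tg_173,tg_174,tg_175,tg_176,tg_177,tg_178,tg_179,tg_180,tg_181,tg_182,tg_183,tg_184,tg_185,tg_186,tg_187,tg_188,tg_189,tg_190,tg_191,tg_192,tg_193,tg_194,tg_195,tg_196,tg_197,tg_198,tg_199,tg_200,tg_201,tg_202,tg_203,tg_204,tg_205,tg_206,tg_207,tg_208,tg_209,tg_210,tg_211,tg_212,tg_213,tg_214,tg_215,tg_216,tg_217,tg_218,tg_219,tg_220,tg_221,tg_222,tg_223,tg_224,tg_225]) = true :=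
  rt_step ck_tg122 (by decide +kernel) rt_123

theorem rt_121 : C.runTargets tS_121 (tg_121 :: [tg_122,tg_123,tg_124,tg_125,tg_126,tg_127,tg_128,tg_129,tg_130,tg_131,tg_132,tg_133,tg_134,tg_135,tg_136,tg_137,tg_138,tg_139,tg_140,tg_141,tg_142,tg_143,tg_144,tg_145,tg_146,tg_147,tg_148,tg_149,tg_150,tg_151,tg_152,tg_153,tg_154,tg_155,tg_156,tg_157,tg_158,tg_159,tg_160,tg_161,tg_162,tg_163,tg_164,tg_165,tg_166,tg_167,tg_168,tg_169,tg_170,tg_171,tg_172,tg_173,tg_174,tg_175,tg_176,tg_177,tg_178,tg_179,tg_180,tg_181,tg_182,tg_183,tg_184,tg_185,tg_186,tg_187,tg_188,tg_189,tg_190,tg_191,tg_192,tg_193,tg_194,tg_195,tg_196,tg_197,tg_198,tg_199,tg_200,tg_201,tg_202,tg_203,tg_204,tg_205,tg_206,tg_207,tg_208,tg_209,tg_210,tg_211,tg_212,tg_213,tg_214,tg_215,tg_216,tg_217,tg_218,tg_219,tg_220,tg_221,tg_222,tg_223,tg_224,tg_225]) = true :=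
  rt_step ck_tg121 (by decide +kernel) rt_122

theorem rt_120 : C.runTargets tS_120 (tg_120 :: [tg_121,tg_122,tg_123,tg_124,tg_125,tg_126,tg_127,tg_128,tg_129,tg_130,tg_131,tg_132,tg_133,tg_134,tg_135,tg_136,tg_137,tg_138,tg_139,tg_140,tg_141,tg_142,tg_143,tg_144,tg_145,tg_146,tg_147,tg_148,tg_149,tg_150,tg_151,tg_152,tg_153,tg_154,tg_155,tg_156,tg_157,tg_158,tg_159,tg_160,tg_161,tg_162,tg_163,tg_164,tg_165,tg_166,tg_167,tg_168,tg_169,tg_170,tg_171,tg_172,tg_173,tg_174,tg_175,tg_176,tg_177,tg_178,tg_179,tg_180,tg_181,tg_182,tg_183,tg_184,tg_185,tg_186,tg_187,tg_188,tg_189,tg_190,tg_191,tg_192,tg_193,tg_194,tg_195,tg_196,tg_197,tg_198,tg_199,tg_200,tg_201,tg_202,tg_203,tg_204,tg_205,tg_206,tg_207,tg_208,tg_209,tg_210,tg_211,tg_212,tg_213,tg_214,tg_215,tg_216,tg_217,tg_218,tg_219,tg_220,tg_221,tg_222,tg_223,tg_224,tg_225]) = true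 :=
  rt_step ck_tg120 (by decide +kernel) rt_121

theorem rt_119 : C.runTargets tS_119 (tg_119 :: [tg_120,tg_121,tg_122,tg_123,tg_124,tg_125,tg_126,tg_127,tg_128,tg_129,tg_130,tg_131,tg_132,tg_133,tg_134,tg_135,tg_136,tg_137,tg_138,tg_139,tg_140,tg_141,tg_142,tg_143,tg_144,tg_145,tg_146,tg_147,tg_148,tg_149,tg_150,tg_151,tg_152,tg_153,tg_154,tg_155,tg_156,tg_157,tg_158,tg_159,tg_160,tg_161,tg_162,tg_163,tg_164,tg_165,tg_166,tg_167,tg_168,tg_169,tg_170,tg_171,tg_172,tg_173,tg_174,tg_175,tg_176,tg_177,tg_178,tg_179,tg_180,tg_181,tg_182,tg_183,tg_184,tg_185,tg_186,tg_187,tg_188,tg_189,tg_190,tg_191,tg_192,tg_193,tg_194,tg_195,tg_196,tg_197,tg_198,tg_199,tg_200,tg_201,tg_202,tg_203,tg_204,tg_205,tg_206,tg_207,tg_208,tg_209,tg_210,tg_211,tg_212,tg_213,tg_214,tg_215,tg_216,tg_217,tg_218,tg_219,tg_220,tg_221,tg_222,tg_223,tg_224,tg_225])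 = true :=
  rt_step ck_tg119 (by decide +kernel) rt_120

theorem rt_118 : C.runTargets tS_118 (tg_118 :: [tg_119,tg_120,tg_121,tg_122,tg_123,tg_124,tg_125,tg_126,tg_127,tg_128,tg_129,tg_130,tg_131,tg_132,tg_133,tg_134,tg_135,tg_136,tg_137,tg_138,tg_139,tg_140,tg_141,tg_142,tg_143,tg_144,tg_145,tg_146,tg_147,tg_148,tg_149,tg_150,tg_151,tg_152,tg_153,tg_154,tg_155,tg_156,tg_157,tg_158,tg_159,tg_160,tg_161,tg_162,tg_163,tg_164,tg_165,tg_166,tg_167,tg_168,tg_169,tg_170,tg_171,tg_172,tg_173,tg_174,tg_175,tg_176,tg_177,tg_178,tg_179,tg_180,tg_181,tg_182,tg_183,tg_184,tg_185,tg_186,tg_187,tg_188,tg_189,tg_190,tg_191,tg_192,tg_193,tg_194,tg_195,tg_196,tg_197,tg_198,tg_199,tg_200,tg_201,tg_202,tg_203,tg_204,tg_205,tg_206,tg_207,tg_208,tg_209,tg_210,tg_211,tg_212,tg_213,tg_214,tg_215,tg_216,tg_217,tg_218,tg_219,tg_220,tg_221,tg_222,tg_223,tg_224,tg_225])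 = true :=
  rt_step ck_tg118 (by decide +kernel) rt_119

theorem rt_117 : C.runTargets tS_117 (tg_117 :: [tg_118,tg_119,tg_120,tg_121,tg_122,tg_123,tg_124,tg_125,tg_126,tg_127,tg_128,tg_129,tg_130,tg_131,tg_132,tg_133,tg_134,tg_135,tg_136,tg_137,tg_138,tg_139,tg_140,tg_141,tg_142,tg_143,tg_144,tg_145,tg_146,tg_147,tg_148,tg_149,tg_150,tg_151,tg_152,tg_153,tg_154,tg_155,tg_156,tg_157,tg_158,tg_159,tg_160,tg_161,tg_162,tg_163,tg_164,tg_165,tg_166,tg_167,tg_168,tg_169,tg_170,tg_171,tg_172,tg_173,tg_174,tg_175,tg_176,tg_177,tg_178,tg_179,tg_180,tg_181,tg_182,tg_183,tg_184,tg_185,tg_186,tg_187,tg_188,tg_189,tg_190,tg_191,tg_192,tg_193,tg_194,tg_195,tg_196,tg_197,tg_198,tg_199,tg_200,tg_201,tg_202,tg_203,tg_204,tg_205,tg_206,tg_207,tg_208,tg_209,tg_210,tg_211,tg_212,tg_213,tg_214,tg_215,tg_216,tg_217,tg_218,tg_219,tg_220,tg_221,tg_222,tg_223,tg_224,tg_225])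 = true :=
  rt_step ck_tg117 (by decide +kernel) rt_118

theorem rt_116 : C.runTargets tS_116 (tg_116 :: [tg_117,tg_118,tg_119,tg_120,tg_121,tg_122,tg_123,tg_124,tg_125,tg_126,tg_127,tg_128,tg_129,tg_130,tg_131,tg_132,tg_133,tg_134,tg_135,tg_136,tg_137,tg_138,tg_139,tg_140,tg_141,tg_142,tg_143,tg_144,tg_145,tg_146,tg_147,tg_148,tg_149,tg_150,tg_151,tg_152,tg_153,tg_154,tg_155,tg_156,tg_157,tg_158,tg_159,tg_160,tg_161,tg_162,tg_163,tg_164,tg_165,tg_166,tg_167,tg_168,tg_169,tg_170,tg_171,tg_172,tg_173,tg_174,tg_175,tg_176,tg_177,tg_178,tg_179,tg_180,tg_181,tg_182,tg_183,tg_184,tg_185,tg_186,tg_187,tg_188,tg_189,tg_190,tg_191,tg_192,tg_193,tg_194,tg_195,tg_196,tg_197,tg_198,tg_199,tg_200,tg_201,tg_202,tg_203,tg_204,tg_205,tg_206,tg_207,tg_208,tg_209,tg_210,tg_211,tg_212,tg_213,tg_214,tg_215,tg_216,tg_217,tg_218,tg_219,tg_220,tg_221,tg_222,tg_223,tg_224,tg_225])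 = true :=
  rt_step ck_tg116 (by decide +kernel) rt_117

theorem rt_115 : C.runTargets tS_115 (tg_115 :: [tg_116,tg_117,tg_118,tg_119,tg_120,tg_121,tg_122,tg_123,tg_124,tg_125,tg_126,tg_127,tg_128,tg_129,tg_130,tg_131,tg_132,tg_133,tg_134,tg_135,tg_136,tg_137,tg_138,tg_139,tg_140,tg_141,tg_142,tg_143,tg_144,tg_145,tg_146,tg_147,tg_148,tg_149,tg_150,tg_151,tg_152,tg_153,tg_154,tg_155,tg_156,tg_157,tg_158,tg_159,tg_160,tg_161,tg_162,tg_163,tg_164,tg_165,tg_166,tg_167,tg_168,tg_169,tg_170,tg_171,tg_172,tg_173,tg_174,tg_175,tg_176,tg_177,tg_178,tg_179,tg_180,tg_181,tg_182,tg_183,tg_184,tg_185,tg_186,tg_187,tg_188,tg_189,tg_190,tg_191,tg_192,tg_193,tg_194,tg_195,tg_196,tg_197,tg_198,tg_199,tg_200,tg_201,tg_202,tg_203,tg_204,tg_205,tg_206,tg_207,tg_208,tg_209,tg_210,tg_211,tg_212,tg_213,tg_214,tg_215,tg_216,tg_217,tg_218,tg_219,tg_220,tg_221,tg_222,tg_223,tg_224,tg_225])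 = true :=
  rt_step ck_tg115 (by decide +kernel) rt_116

theorem rt_114 : C.runTargets tS_114 (tg_114 :: [tg_115,tg_116,tg_117,tg_118,tg_119,tg_120,tg_121,tg_122,tg_123,tg_124,tg_125,tg_126,tg_127,tg_128,tg_129,tg_130,tg_131,tg_132,tg_133,tg_134,tg_135,tg_136,tg_137,tg_138,tg_139,tg_140,tg_141,tg_142,tg_143,tg_144,tg_145,tg_146,tg_147,tg_148,tg_149,tg_150,tg_151,tg_152,tg_153,tg_154,tg_155,tg_156,tg_157,tg_158,tg_159,tg_160,tg_161,tg_162,tg_163,tg_164,tg_165,tg_166,tg_167,tg_168,tg_169,tg_170,tg_171,tg_172,tg_173,tg_174,tg_175,tg_176,tg_177,tg_178,tg_179,tg_180,tg_181,tg_182,tg_183,tg_184,tg_185,tg_186,tg_187,tg_188,tg_189,tg_190,tg_191,tg_192,tg_193,tg_194,tg_195,tg_196,tg_197,tg_198,tg_199,tg_200,tg_201,tg_202,tg_203,tg_204,tg_205,tg_206,tg_207,tg_208,tg_209,tg_210,tg_211,tg_212,tg_213,tg_214,tg_215,tg_216,tg_217,tg_218,tg_219,tg_220,tg_221,tg_222,tg_223,tg_224,tg_225])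 = true :=
  rt_step ck_tg114 (by decide +kernel) rt_115

theorem rt_113 : C.runTargets tS_113 (tg_113 :: [tg_114,tg_115,tg_116,tg_117,tg_118,tg_119,tg_120,tg_121,tg_122,tg_123,tg_124,tg_125,tg_126,tg_127,tg_128,tg_129,tg_130,tg_131,tg_132,tg_133,tg_134,tg_135,tg_136,tg_137,tg_138,tg_139,tg_140,tg_141,tg_142,tg_143,tg_144,tg_145,tg_146,tg_147,tg_148,tg_149,tg_150,tg_151,tg_152,tg_153,tg_154,tg_155,tg_156,tg_157,tg_158,tg_159,tg_160,tg_161,tg_162,tg_163,tg_164,tg_165,tg_166,tg_167,tg_168,tg_169,tg_170,tg_171,tg_172,tg_173,tg_174,tg_175,tg_176,tg_177,tg_178,tg_179,tg_180,tg_181,tg_182,tg_183,tg_184,tg_185,tg_186,tg_187,tg_188,tg_189,tg_190,tg_191,tg_192,tg_193,tg_194,tg_195,tg_196,tg_197,tg_198,tg_199,tg_200,tg_201,tg_202,tg_203,tg_204,tg_205,tg_206,tg_207,tg_208,tg_209,tg_210,tg_211,tg_212,tg_213,tg_214,tg_215,tg_216,tg_217,tg_218,tg_219,tg_220,tg_221,tg_222,tg_223,tg_224,tg_225])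 = true :=
  rt_step ck_tg113 (by decide +kernel) rt_114

theorem rt_112 : C.runTargets tS_112 (tg_112 :: [tg_113,tg_114,tg_115,tg_116,tg_117,tg_118,tg_119,tg_120,tg_121,tg_122,tg_123,tg_124,tg_125,tg_126,tg_127,tg_128,tg_129,tg_130,tg_131,tg_132,tg_133,tg_134,tg_135,tg_136,tg_137,tg_138,tg_139,tg_140,tg_141,tg_142,tg_143,tg_144,tg_145,tg_146,tg_147,tg_148,tg_149,tg_150,tg_151,tg_152,tg_153,tg_154,tg_155,tg_156,tg_157,tg_158,tg_159,tg_160,tg_161,tg_162,tg_163,tg_164,tg_165,tg_166,tg_167,tg_168,tg_169,tg_170,tg_171,tg_172,tg_173,tg_174,tg_175,tg_176,tg_177,tg_178,tg_179,tg_180,tg_181,tg_182,tg_183,tg_184,tg_185,tg_186,tg_187,tg_188,tg_189,tg_190,tg_191,tg_192,tg_193,tg_194,tg_195,tg_196,tg_197,tg_198,tg_199,tg_200,tg_201,tg_202,tg_203,tg_204,tg_205,tg_206,tg_207,tg_208,tg_209,tg_210,tg_211,tg_212,tg_213,tg_214,tg_215,tg_216,tg_217,tg_218,tg_219,tg_220,tg_221,tg_222,tg_223,tg_224,tg_225])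 = true :=
  rt_step ck_tg112 (by decide +kernel) rt_113

theorem rt_111 : C.runTargets tS_111 (tg_111 :: [tg_112,tg_113,tg_114,tg_115,tg_116,tg_117,tg_118,tg_119,tg_120,tg_121,tg_122,tg_123,tg_124,tg_125,tg_126,tg_127,tg_128,tg_129,tg_130,tg_131,tg_132,tg_133,tg_134,tg_135,tg_136,tg_137,tg_138,tg_139,tg_140,tg_141,tg_142,tg_143,tg_144,tg_145,tg_146,tg_147,tg_148,tg_149,tg_150,tg_151,tg_152,tg_153,tg_154,tg_155,tg_156,tg_157,tg_158,tg_159,tg_160,tg_161,tg_162,tg_163,tg_164,tg_165,tg_166,tg_167,tg_168,tg_169,tg_170,tg_171,tg_172,tg_173,tg_174,tg_175,tg_176,tg_177,tg_178,tg_179,tg_180,tg_181,tg_182,tg_183,tg_184,tg_185,tg_186,tg_187,tg_188,tg_189,tg_190,tg_191,tg_192,tg_193,tg_194,tg_195,tg_196,tg_197,tg_198,tg_199,tg_200,tg_201,tg_202,tg_203,tg_204,tg_205,tg_206,tg_207,tg_208,tg_209,tg_210,tg_211,tg_212,tg_213,tg_214,tg_215,tg_216,tg_217,tg_218,tg_219,tg_220,tg_221,tg_222,tg_223,tg_224,tg_225])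 = true :=
  rt_step ck_tg111 (by decide +kernel) rt_112

theorem rt_110 : C.runTargets tS_110 (tg_110 :: [tg_111,tg_112,tg_113,tg_114,tg_115,tg_116,tg_117,tg_118,tg_119,tg_120,tg_121,tg_122,tg_123,tg_124,tg_125,tg_126,tg_127,tg_128,tg_129,tg_130,tg_131,tg_132,tg_133,tg_134,tg_135,tg_136,tg_137,tg_138,tg_139,tg_140,tg_141,tg_142,tg_143,tg_144,tg_145,tg_146,tg_147,tg_148,tg_149,tg_150,tg_151,tg_152,tg_153,tg_154,tg_155,tg_156,tg_157,tg_158,tg_159,tg_160,tg_161,tg_162,tg_163,tg_164,tg_165,tg_166,tg_167,tg_168,tg_169,tg_170,tg_171,tg_172,tg_173,tg_174,tg_175,tg_176,tg_177,tg_178,tg_179,tg_180,tg_181,tg_182,tg_183,tg_184,tg_185,tg_186,tg_187,tg_188,tg_189,tg_190,tg_191,tg_192,tg_193,tg_194,tg_195,tg_196,tg_197,tg_198,tg_199,tg_200,tg_201,tg_202,tg_203,tg_204,tg_205,tg_206,tg_207,tg_208,tg_209,tg_210,tg_211,tg_212,tg_213,tg_214,tg_215,tg_216,tg_217,tg_218,tg_219,tg_220,tg_221,tg_222,tg_223,tg_224,tg_225])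 = true :=
  rt_step ck_tg110 (by decide +kernel) rt_111

theorem rt_109 : C.runTargets tS_109 (tg_109 :: [tg_110,tg_111,tg_112,tg_113,tg_114,tg_115,tg_116,tg_117,tg_118,tg_119,tg_120,tg_121,tg_122,tg_123,tg_124,tg_125,tg_126,tg_127,tg_128,tg_129,tg_130,tg_131,tg_132,tg_133,tg_134,tg_135,tg_136,tg_137,tg_138,tg_139,tg_140,tg_141,tg_142,tg_143,tg_144,tg_145,tg_146,tg_147,tg_148,tg_149,tg_150,tg_151,tg_152,tg_153,tg_154,tg_155,tg_156,tg_157,tg_158,tg_159,tg_160,tg_161,tg_162,tg_163,tg_164,tg_165,tg_166,tg_167,tg_168,tg_169,tg_170,tg_171,tg_172,tg_173,tg_174,tg_175,tg_176,tg_177,tg_178,tg_179,tg_180,tg_181,tg_182,tg_183,tg_184,tg_185,tg_186,tg_187,tg_188,tg_189,tg_190,tg_191,tg_192,tg_193,tg_194,tg_195,tg_196,tg_197,tg_198,tg_199,tg_200,tg_201,tg_202,tg_203,tg_204,tg_205,tg_206,tg_207,tg_208,tg_209,tg_210,tg_211,tg_212,tg_213,tg_214,tg_215,tg_216,tg_217,tg_218,tg_219,tg_220,tg_221,tg_222,tg_223,tg_224,tg_225])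 = true :=
  rt_step ck_tg109 (by decide +kernel) rt_110

theorem rt_108 : C.runTargets tS_108 (tg_108 :: [tg_109,tg_110,tg_111,tg_112,tg_113,tg_114,tg_115,tg_116,tg_117,tg_118,tg_119,tg_120,tg_121,tg_122,tg_123,tg_124,tg_125,tg_126,tg_127,tg_128,tg_129,tg_130,tg_131,tg_132,tg_133,tg_134,tg_135,tg_136,tg_137,tg_138,tg_139,tg_140,tg_141,tg_142,tg_143,tg_144,tg_145,tg_146,tg_147,tg_148,tg_149,tg_150,tg_151,tg_152,tg_153,tg_154,tg_155,tg_156,tg_157,tg_158,tg_159,tg_160,tg_161,tg_162,tg_163,tg_164,tg_165,tg_166,tg_167,tg_168,tg_169,tg_170,tg_171,tg_172,tg_173,tg_174,tg_175,tg_176,tg_177,tg_178,tg_179,tg_180,tg_181,tg_182,tg_183,tg_184,tg_185,tg_186,tg_187,tg_188,tg_189,tg_190,tg_191,tg_192,tg_193,tg_194,tg_195,tg_196,tg_197,tg_198,tg_199,tg_200,tg_201,tg_202,tg_203,tg_204,tg_205,tg_206,tg_207,tg_208,tg_209,tg_210,tg_211,tg_212,tg_213,tg_214,tg_215,tg_216,tg_217,tg_218,tg_219,tg_220,tg_221,tg_222,tg_223,tg_224,tg_225])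 = true :=
  rt_step ck_tg108 (by decide +kernel) rt_109

theorem rt_107 : C.runTargets tS_107 (tg_107 :: [tg_108,tg_109,tg_110,tg_111,tg_112,tg_113,tg_114,tg_115,tg_116,tg_117,tg_118,tg_119,tg_120,tg_121,tg_122,tg_123,tg_124,tg_125,tg_126,tg_127,tg_128,tg_129,tg_130,tg_131,tg_132,tg_133,tg_134,tg_135,tg_136,tg_137,tg_138,tg_139,tg_140,tg_141,tg_142,tg_143,tg_144,tg_145,tg_146,tg_147,tg_148,tg_149,tg_150,tg_151,tg_152,tg_153,tg_154,tg_155,tg_156,tg_157,tg_158,tg_159,tg_160,tg_161,tg_162,tg_163,tg_164,tg_165,tg_166,tg_167,tg_168,tg_169,tg_170,tg_171,tg_172,tg_173,tg_174,tg_175,tg_176,tg_177,tg_178,tg_179,tg_180,tg_181,tg_182,tg_183,tg_184,tg_185,tg_186,tg_187,tg_188,tg_189,tg_190,tg_191,tg_192,tg_193,tg_194,tg_195,tg_196,tg_197,tg_198,tg_199,tg_200,tg_201,tg_202,tg_203,tg_204,tg_205,tg_206,tg_207,tg_208,tg_209,tg_210,tg_211,tg_212,tg_213,tg_214,tg_215,tg_216,tg_217,tg_218,tg_219,tg_220,tg_221,tg_222,tg_223,tg_224,tg_225])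 = true :=
  rt_step ck_tg107 (by decide +kernel) rt_108

theorem rt_106 : C.runTargets tS_106 (tg_106 :: [tg_107,tg_108,tg_109,tg_110,tg_111,tg_112,tg_113,tg_114,tg_115,tg_116,tg_117,tg_118,tg_119,tg_120,tg_121,tg_122,tg_123,tg_124,tg_125,tg_126,tg_127,tg_128,tg_129,tg_130,tg_131,tg_132,tg_133,tg_134,tg_135,tg_136,tg_137,tg_138,tg_139,tg_140,tg_141,tg_142,tg_143,tg_144,tg_145,tg_146,tg_147,tg_148,tg_149,tg_150,tg_151,tg_152,tg_153,tg_154,tg_155,tg_156,tg_157,tg_158,tg_159,tg_160,tg_161,tg_162,tg_163,tg_164,tg_165,tg_166,tg_167,tg_168,tg_169,tg_170,tg_171,tg_172,tg_173,tg_174,tg_175,tg_176,tg_177,tg_178,tg_179,tg_180,tg_181,tg_182,tg_183,tg_184,tg_185,tg_186,tg_187,tg_188,tg_189,tg_190,tg_191,tg_192,tg_193,tg_194,tg_195,tg_196,tg_197,tg_198,tg_199,tg_200,tg_201,tg_202,tg_203,tg_204,tg_205,tg_206,tg_207,tg_208,tg_209,tg_210,tg_211,tg_212,tg_213,tg_214,tg_215,tg_216,tg_217,tg_218,tg_219,tg_220,tg_221,tg_222,tg_223,tg_224,tg_225])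 = true :=
  rt_step ck_tg106 (by decide +kernel) rt_107

theorem rt_105 : C.runTargets tS_105 (tg_105 :: [tg_106,tg_107,tg_108,tg_109,tg_110,tg_111,tg_112,tg_113,tg_114,tg_115,tg_116,tg_117,tg_118,tg_119,tg_120,tg_121,tg_122,tg_123,tg_124,tg_125,tg_126,tg_127,tg_128,tg_129,tg_130,tg_131,tg_132,tg_133,tg_134,tg_135,tg_136,tg_137,tg_138,tg_139,tg_140,tg_141,tg_142,tg_143,tg_144,tg_145,tg_146,tg_147,tg_148,tg_149,tg_150,tg_151,tg_152,tg_153,tg_154,tg_155,tg_156,tg_157,tg_158,tg_159,tg_160,tg_161,tg_162,tg_163,tg_164,tg_165,tg_166,tg_167,tg_168,tg_169,tg_170,tg_171,tg_172,tg_173,tg_174,tg_175,tg_176,tg_177,tg_178,tg_179,tg_180,tg_181,tg_182,tg_183,tg_184,tg_185,tg_186,tg_187,tg_188,tg_189,tg_190,tg_191,tg_192,tg_193,tg_194,tg_195,tg_196,tg_197,tg_198,tg_199,tg_200,tg_201,tg_202,tg_203,tg_204,tg_205,tg_206,tg_207,tg_208,tg_209,tg_210,tg_211,tg_212,tg_213,tg_214,tg_215,tg_216,tg_217,tg_218,tg_219,tg_220,tg_221,tg_222,tg_223,tg_224,tg_225])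 = true :=
  rt_step ck_tg105 (by decide +kernel) rt_106

theorem rt_104 : C.runTargets tS_104 (tg_104 :: [tg_105,tg_106,tg_107,tg_108,tg_109,tg_110,tg_111,tg_112,tg_113,tg_114,tg_115,tg_116,tg_117,tg_118,tg_119,tg_120,tg_121,tg_122,tg_123,tg_124,tg_125,tg_126,tg_127,tg_128,tg_129,tg_130,tg_131,tg_132,tg_133,tg_134,tg_135,tg_136,tg_137,tg_138,tg_139,tg_140,tg_141,tg_142,tg_143,tg_144,tg_145,tg_146,tg_147,tg_148,tg_149,tg_150,tg_151,tg_152,tg_153,tg_154,tg_155,tg_156,tg_157,tg_158,tg_159,tg_160,tg_161,tg_162,tg_163,tg_164,tg_165,tg_166,tg_167,tg_168,tg_169,tg_170,tg_171,tg_172,tg_173,tg_174,tg_175,tg_176,tg_177,tg_178,tg_179,tg_180,tg_181,tg_182,tg_183,tg_184,tg_185,tg_186,tg_187,tg_188,tg_189,tg_190,tg_191,tg_192,tg_193,tg_194,tg_195,tg_196,tg_197,tg_198,tg_199,tg_200,tg_201,tg_202,tg_203,tg_204,tg_205,tg_206,tg_207,tg_208,tg_209,tg_210,tg_211,tg_212,tg_213,tg_214,tg_215,tg_216,tg_217,tg_218,tg_219,tg_220,tg_221,tg_222,tg_223,tg_224,tg_225])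 = true :=
  rt_step ck_tg104 (by decide +kernel) rt_105

theorem rt_103 : C.runTargets tS_103 (tg_103 :: [tg_104,tg_105,tg_106,tg_107,tg_108,tg_109,tg_110,tg_111,tg_112,tg_113,tg_114,tg_115,tg_116,tg_117,tg_118,tg_119,tg_120,tg_121,tg_122,tg_123,tg_124,tg_125,tg_126,tg_127,tg_128,tg_129,tg_130,tg_131,tg_132,tg_133,tg_134,tg_135,tg_136,tg_137,tg_138,tg_139,tg_140,tg_141,tg_142,tg_143,tg_144,tg_145,tg_146,tg_147,tg_148,tg_149,tg_150,tg_151,tg_152,tg_153,tg_154,tg_155,tg_156,tg_157,tg_158,tg_159,tg_160,tg_161,tg_162,tg_163,tg_164,tg_165,tg_166,tg_167,tg_168,tg_169,tg_170,tg_171,tg_172,tg_173,tg_174,tg_175,tg_176,tg_177,tg_178,tg_179,tg_180,tg_181,tg_182,tg_183,tg_184,tg_185,tg_186,tg_187,tg_188,tg_189,tg_190,tg_191,tg_192,tg_193,tg_194,tg_195,tg_196,tg_197,tg_198,tg_199,tg_200,tg_201,tg_202,tg_203,tg_204,tg_205,tg_206,tg_207,tg_208,tg_209,tg_210,tg_211,tg_212,tg_213,tg_214,tg_215,tg_216,tg_217,tg_218,tg_219,tg_220,tg_221,tg_222,tg_223,tg_224,tg_225])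 = true :=
  rt_step ck_tg103 (by decide +kernel) rt_104

theorem rt_102 : C.runTargets tS_102 (tg_102 :: [tg_103,tg_104,tg_105,tg_106,tg_107,tg_108,tg_109,tg_110,tg_111,tg_112,tg_113,tg_114,tg_115,tg_116,tg_117,tg_118,tg_119,tg_120,tg_121,tg_122,tg_123,tg_124,tg_125,tg_126,tg_127,tg_128,tg_129,tg_130,tg_131,tg_132,tg_133,tg_134,tg_135,tg_136,tg_137,tg_138,tg_139,tg_140,tg_141,tg_142,tg_143,tg_144,tg_145,tg_146,tg_147,tg_148,tg_149,tg_150,tg_151,tg_152,tg_153,tg_154,tg_155,tg_156,tg_157,tg_158,tg_159,tg_160,tg_161,tg_162,tg_163,tg_164,tg_165,tg_166,tg_167,tg_168,tg_169,tg_170,tg_171,tg_172,tg_173,tg_174,tg_175,tg_176,tg_177,tg_178,tg_179,tg_180,tg_181,tg_182,tg_183,tg_184,tg_185,tg_186,tg_187,tg_188,tg_189,tg_190,tg_191,tg_192,tg_193,tg_194,tg_195,tg_196,tg_197,tg_198,tg_199,tg_200,tg_201,tg_202,tg_203,tg_204,tg_205,tg_206,tg_207,tg_208,tg_209,tg_210,tg_211,tg_212,tg_213,tg_214,tg_215,tg_216,tg_217,tg_218,tg_219,tg_220,tg_221,tg_222,tg_223,tg_224,tg_225])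 = true :=
  rt_step ck_tg102 (by decide +kernel) rt_103

theorem rt_101 : C.runTargets tS_101 (tg_101 :: [tg_102,tg_103,tg_104,tg_105,tg_106,tg_107,tg_108,tg_109,tg_110,tg_111,tg_112,tg_113,tg_114,tg_115,tg_116,tg_117,tg_118,tg_119,tg_120,tg_121,tg_122,tg_123,tg_124,tg_125,tg_126,tg_127,tg_128,tg_129,tg_130,tg_131,tg_132,tg_133,tg_134,tg_135,tg_136,tg_137,tg_138,tg_139,tg_140,tg_141,tg_142,tg_143,tg_144,tg_145,tg_146,tg_147,tg_148,tg_149,tg_150,tg_151,tg_152,tg_153,tg_154,tg_155,tg_156,tg_157,tg_158,tg_159,tg_160,tg_161,tg_162,tg_163,tg_164,tg_165,tg_166,tg_167,tg_168,tg_169,tg_170,tg_171,tg_172,tg_173,tg_174,tg_175,tg_176,tg_177,tg_178,tg_179,tg_180,tg_181,tg_182,tg_183,tg_184,tg_185,tg_186,tg_187,tg_188,tg_189,tg_190,tg_191,tg_192,tg_193,tg_194,tg_195,tg_196,tg_197,tg_198,tg_199,tg_200,tg_201,tg_202,tg_203,tg_204,tg_205,tg_206,tg_207,tg_208,tg_209,tg_210,tg_211,tg_212,tg_213,tg_214,tg_215,tg_216,tg_217,tg_218,tg_219,tg_220,tg_221,tg_222,tg_223,tg_224,tg_225])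 = true :=
  rt_step ck_tg101 (by decide +kernel) rt_102

theorem rt_100 : C.runTargets tS_100 (tg_100 :: [tg_101,tg_102,tg_103,tg_104,tg_105,tg_106,tg_107,tg_108,tg_109,tg_110,tg_111,tg_112,tg_113,tg_114,tg_115,tg_116,tg_117,tg_118,tg_119,tg_120,tg_121,tg_122,tg_123,tg_124,tg_125,tg_126,tg_127,tg_128,tg_129,tg_130,tg_131,tg_132,tg_133,tg_134,tg_135,tg_136,tg_137,tg_138,tg_139,tg_140,tg_141,tg_142,tg_143,tg_144,tg_145,tg_146,tg_147,tg_148,tg_149,tg_150,tg_151,tg_152,tg_153,tg_154,tg_155,tg_156,tg_157,tg_158,tg_159,tg_160,tg_161,tg_162,tg_163,tg_164,tg_165,tg_166,tg_167,tg_168,tg_169,tg_170,tg_171,tg_172,tg_173,tg_174,tg_175,tg_176,tg_177,tg_178,tg_179,tg_180,tg_181,tg_182,tg_183,tg_184,tg_185,tg_186,tg_187,tg_188,tg_189,tg_190,tg_191,tg_192,tg_193,tg_194,tg_195,tg_196,tg_197,tg_198,tg_199,tg_200,tg_201,tg_202,tg_203,tg_204,tg_205,tg_206,tg_207,tg_208,tg_209,tg_210,tg_211,tg_212,tg_213,tg_214,tg_215,tg_216,tg_217,tg_218,tg_219,tg_220,tg_221,tg_222,tg_223,tg_224,tg_225])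 = true :=
  rt_step ck_tg100 (by decide +kernel) rt_101

theorem rt_99 : C.runTargets tS_99 (tg_99 :: [tg_100,tg_101,tg_102,tg_103,tg_104,tg_105,tg_106,tg_107,tg_108,tg_109,tg_110,tg_111,tg_112,tg_113,tg_114,tg_115,tg_116,tg_117,tg_118,tg_119,tg_120,tg_121,tg_122,tg_123,tg_124,tg_125,tg_126,tg_127,tg_128,tg_129,tg_130,tg_131,tg_132,tg_133,tg_134,tg_135,tg_136,tg_137,tg_138,tg_139,tg_140,tg_141,tg_142,tg_143,tg_144,tg_145,tg_146,tg_147,tg_148,tg_149,tg_150,tg_151,tg_152,tg_153,tg_154,tg_155,tg_156,tg_157,tg_158,tg_159,tg_160,tg_161,tg_162,tg_163,tg_164,tg_165,tg_166,tg_167,tg_168,tg_169,tg_170,tg_171,tg_172,tg_173,tg_174,tg_175,tg_176,tg_177,tg_178,tg_179,tg_180,tg_181,tg_182,tg_183,tg_184,tg_185,tg_186,tg_187,tg_188,tg_189,tg_190,tg_191,tg_192,tg_193,tg_194,tg_195,tg_196,tg_197,tg_198,tg_199,tg_200,tg_201,tg_202,tg_203,tg_204,tg_205,tg_206,tg_207,tg_208,tg_209,tg_210,tg_211,tg_212,tg_213,tg_214,tg_215,tg_216,tg_217,tg_218,tg_219,tg_220,tg_221,tg_222,tg_223,tg_224,tg_225])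 = true :=
  rt_step ck_tg99 (by decide +kernel) rt_100

theorem rt_98 : C.runTargets tS_98 (tg_98 :: [tg_99,tg_100,tg_101,tg_102,tg_103,tg_104,tg_105,tg_106,tg_107,tg_108,tg_109,tg_110,tg_111,tg_112,tg_113,tg_114,tg_115,tg_116,tg_117,tg_118,tg_119,tg_120,tg_121,tg_122,tg_123,tg_124,tg_125,tg_126,tg_127,tg_128,tg_129,tg_130,tg_131,tg_132,tg_133,tg_134,tg_135,tg_136,tg_137,tg_138,tg_139,tg_140,tg_141,tg_142,tg_143,tg_144,tg_145,tg_146,tg_147,tg_148,tg_149,tg_150,tg_151,tg_152,tg_153,tg_154,tg_155,tg_156,tg_157,tg_158,tg_159,tg_160,tg_161,tg_162,tg_163,tg_164,tg_165,tg_166,tg_167,tg_168,tg_169,tg_170,tg_171,tg_172,tg_173,tg_174,tg_175,tg_176,tg_177,tg_178,tg_179,tg_180,tg_181,tg_182,tg_183,tg_184,tg_185,tg_186,tg_187,tg_188,tg_189,tg_190,tg_191,tg_192,tg_193,tg_194,tg_195,tg_196,tg_197,tg_198,tg_199,tg_200,tg_201,tg_202,tg_203,tg_204,tg_205,tg_206,tg_207,tg_208,tg_209,tg_210,tg_211,tg_212,tg_213,tg_214,tg_215,tg_216,tg_217,tg_218,tg_219,tg_220,tg_221,tg_222,tg_223,tg_224,tg_225])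 = true :=
  rt_step ck_tg98 (by decide +kernel) rt_99

theorem rt_97 : C.runTargets tS_97 (tg_97 :: [tg_98,tg_99,tg_100,tg_101,tg_102,tg_103,tg_104,tg_105,tg_106,tg_107,tg_108,tg_109,tg_110,tg_111,tg_112,tg_113,tg_114,tg_115,tg_116,tg_117,tg_118,tg_119,tg_120,tg_121,tg_122,tg_123,tg_124,tg_125,tg_126,tg_127,tg_128,tg_129,tg_130,tg_131,tg_132,tg_133,tg_134,tg_135,tg_136,tg_137,tg_138,tg_139,tg_140,tg_141,tg_142,tg_143,tg_144,tg_145,tg_146,tg_147,tg_148,tg_149,tg_150,tg_151,tg_152,tg_153,tg_154,tg_155,tg_156,tg_157,tg_158,tg_159,tg_160,tg_161,tg_162,tg_163,tg_164,tg_165,tg_166,tg_167,tg_168,tg_169,tg_170,tg_171,tg_172,tg_173,tg_174,tg_175,tg_176,tg_177,tg_178,tg_179,tg_180,tg_181,tg_182,tg_183,tg_184,tg_185,tg_186,tg_187,tg_188,tg_189,tg_190,tg_191,tg_192,tg_193,tg_194,tg_195,tg_196,tg_197,tg_198,tg_199,tg_200,tg_201,tg_202,tg_203,tg_204,tg_205,tg_206,tg_207,tg_208,tg_209,tg_210,tg_211,tg_212,tg_213,tg_214,tg_215,tg_216,tg_217,tg_218,tg_219,tg_220,tg_221,tg_222,tg_223,tg_224,tg_225])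 = true :=
  rt_step ck_tg97 (by decide +kernel) rt_98

theorem rt_96 : C.runTargets tS_96 (tg_96 :: [tg_97,tg_98,tg_99,tg_100,tg_101,tg_102,tg_103,tg_104,tg_105,tg_106,tg_107,tg_108,tg_109,tg_110,tg_111,tg_112,tg_113,tg_114,tg_115,tg_116,tg_117,tg_118,tg_119,tg_120,tg_121,tg_122,tg_123,tg_124,tg_125,tg_126,tg_127,tg_128,tg_129,tg_130,tg_131,tg_132,tg_133,tg_134,tg_135,tg_136,tg_137,tg_138,tg_139,tg_140,tg_141,tg_142,tg_143,tg_144,tg_145,tg_146,tg_147,tg_148,tg_149,tg_150,tg_151,tg_152,tg_153,tg_154,tg_155,tg_156,tg_157,tg_158,tg_159,tg_160,tg_161,tg_162,tg_163,tg_164,tg_165,tg_166,tg_167,tg_168,tg_169,tg_170,tg_171,tg_172,tg_173,tg_174,tg_175,tg_176,tg_177,tg_178,tg_179,tg_180,tg_181,tg_182,tg_183,tg_184,tg_185,tg_186,tg_187,tg_188,tg_189,tg_190,tg_191,tg_192,tg_193,tg_194,tg_195,tg_196,tg_197,tg_198,tg_199,tg_200,tg_201,tg_202,tg_203,tg_204,tg_205,tg_206,tg_207,tg_208,tg_209,tg_210,tg_211,tg_212,tg_213,tg_214,tg_215,tg_216,tg_217,tg_218,tg_219,tg_220,tg_221,tg_222,tg_223,tg_224,tg_225])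 = true :=
  rt_step ck_tg96 (by decide +kernel) rt_97

theorem rt_95 : C.runTargets tS_95 (tg_95 :: [tg_96,tg_97,tg_98,tg_99,tg_100,tg_101,tg_102,tg_103,tg_104,tg_105,tg_106,tg_107,tg_108,tg_109,tg_110,tg_111,tg_112,tg_113,tg_114,tg_115,tg_116,tg_117,tg_118,tg_119,tg_120,tg_121,tg_122,tg_123,tg_124,tg_125,tg_126,tg_127,tg_128,tg_129,tg_130,tg_131,tg_132,tg_133,tg_134,tg_135,tg_136,tg_137,tg_138,tg_139,tg_140,tg_141,tg_142,tg_143,tg_144,tg_145,tg_146,tg_147,tg_148,tg_149,tg_150,tg_151,tg_152,tg_153,tg_154,tg_155,tg_156,tg_157,tg_158,tg_159,tg_160,tg_161,tg_162,tg_163,tg_164,tg_165,tg_166,tg_167,tg_168,tg_169,tg_170,tg_171,tg_172,tg_173,tg_174,tg_175,tg_176,tg_177,tg_178,tg_179,tg_180,tg_181,tg_182,tg_183,tg_184,tg_185,tg_186,tg_187,tg_188,tg_189,tg_190,tg_191,tg_192,tg_193,tg_194,tg_195,tg_196,tg_197,tg_198,tg_199,tg_200,tg_201,tg_202,tg_203,tg_204,tg_205,tg_206,tg_207,tg_208,tg_209,tg_210,tg_211,tg_212,tg_213,tg_214,tg_215,tg_216,tg_217,tg_218,tg_219,tg_220,tg_221,tg_222,tg_223,tg_224,tg_225])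 = true :=
  rt_step ck_tg95 (by decide +kernel) rt_96

theorem rt_94 : C.runTargets tS_94 (tg_94 :: [tg_95,tg_96,tg_97,tg_98,tg_99,tg_100,tg_101,tg_102,tg_103,tg_104,tg_105,tg_106,tg_107,tg_108,tg_109,tg_110,tg_111,tg_112,tg_113,tg_114,tg_115,tg_116,tg_117,tg_118,tg_119,tg_120,tg_121,tg_122,tg_123,tg_124,tg_125,tg_126,tg_127,tg_128,tg_129,tg_130,tg_131,tg_132,tg_133,tg_134,tg_135,tg_136,tg_137,tg_138,tg_139,tg_140,tg_141,tg_142,tg_143,tg_144,tg_145,tg_146,tg_147,tg_148,tg_149,tg_150,tg_151,tg_152,tg_153,tg_154,tg_155,tg_156,tg_157,tg_158,tg_159,tg_160,tg_161,tg_162,tg_163,tg_164,tg_165,tg_166,tg_167,tg_168,tg_169,tg_170,tg_171,tg_172,tg_173,tg_174,tg_175,tg_176,tg_177,tg_178,tg_179,tg_180,tg_181,tg_182,tg_183,tg_184,tg_185,tg_186,tg_187,tg_188,tg_189,tg_190,tg_191,tg_192,tg_193,tg_194,tg_195,tg_196,tg_197,tg_198,tg_199,tg_200,tg_201,tg_202,tg_203,tg_204,tg_205,tg_206,tg_207,tg_208,tg_209,tg_210,tg_211,tg_212,tg_213,tg_214,tg_215,tg_216,tg_217,tg_218,tg_219,tg_220,tg_221,tg_222,tg_223,tg_224,tg_225])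 = true :=
  rt_step ck_tg94 (by decide +kernel) rt_95

theorem rt_93 : C.runTargets tS_93 (tg_93 :: [tg_94,tg_95,tg_96,tg_97,tg_98,tg_99,tg_100,tg_101,tg_102,tg_103,tg_104,tg_105,tg_106,tg_107,tg_108,tg_109,tg_110,tg_111,tg_112,tg_113,tg_114,tg_115,tg_116,tg_117,tg_118,tg_119,tg_120,tg_121,tg_122,tg_123,tg_124,tg_125,tg_126,tg_127,tg_128,tg_129,tg_130,tg_131,tg_132,tg_133,tg_134,tg_135,tg_136,tg_137,tg_138,tg_139,tg_140,tg_141,tg_142,tg_143,tg_144,tg_145,tg_146,tg_147,tg_148,tg_149,tg_150,tg_151,tg_152,tg_153,tg_154,tg_155,tg_156,tg_157,tg_158,tg_159,tg_160,tg_161,tg_162,tg_163,tg_164,tg_165,tg_166,tg_167,tg_168,tg_169,tg_170,tg_171,tg_172,tg_173,tg_174,tg_175,tg_176,tg_177,tg_178,tg_179,tg_180,tg_181,tg_182,tg_183,tg_184,tg_185,tg_186,tg_187,tg_188,tg_189,tg_190,tg_191,tg_192,tg_193,tg_194,tg_195,tg_196,tg_197,tg_198,tg_199,tg_200,tg_201,tg_202,tg_203,tg_204,tg_205,tg_206,tg_207,tg_208,tg_209,tg_210,tg_211,tg_212,tg_213,tg_214,tg_215,tg_216,tg_217,tg_218,tg_219,tg_220,tg_221,tg_222,tg_223,tg_224,tg_225])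 = true :=
  rt_step ck_tg93 (by decide +kernel) rt_94

theorem rt_92 : C.runTargets tS_92 (tg_92 :: [tg_93,tg_94,tg_95,tg_96,tg_97,tg_98,tg_99,tg_100,tg_101,tg_102,tg_103,tg_104,tg_105,tg_106,tg_107,tg_108,tg_109,tg_110,tg_111,tg_112,tg_113,tg_114,tg_115,tg_116,tg_117,tg_118,tg_119,tg_120,tg_121,tg_122,tg_123,tg_124,tg_125,tg_126,tg_127,tg_128,tg_129,tg_130,tg_131,tg_132,tg_133,tg_134,tg_135,tg_136,tg_137,tg_138,tg_139,tg_140,tg_141,tg_142,tg_143,tg_144,tg_145,tg_146,tg_147,tg_148,tg_149,tg_150,tg_151,tg_152,tg_153,tg_154,tg_155,tg_156,tg_157,tg_158,tg_159,tg_160,tg_161,tg_162,tg_163,tg_164,tg_165,tg_166,tg_167,tg_168,tg_169,tg_170,tg_171,tg_172,tg_173,tg_174,tg_175,tg_176,tg_177,tg_178,tg_179,tg_180,tg_181,tg_182,tg_183,tg_184,tg_185,tg_186,tg_187,tg_188,tg_189,tg_190,tg_191,tg_192,tg_193,tg_194,tg_195,tg_196,tg_197,tg_198,tg_199,tg_200,tg_201,tg_202,tg_203,tg_204,tg_205,tg_206,tg_207,tg_208,tg_209,tg_210,tg_211,tg_212,tg_213,tg_214,tg_215,tg_216,tg_217,tg_218,tg_219,tg_220,tg_221,tg_222,tg_223,tg_224,tg_225])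 = true :=
  rt_step ck_tg92 (by decide +kernel) rt_93

theorem rt_91 : C.runTargets tS_91 (tg_91 :: [tg_92,tg_93,tg_94,tg_95,tg_96,tg_97,tg_98,tg_99,tg_100,tg_101,tg_102,tg_103,tg_104,tg_105,tg_106,tg_107,tg_108,tg_109,tg_110,tg_111,tg_112,tg_113,tg_114,tg_115,tg_116,tg_117,tg_118,tg_119,tg_120,tg_121,tg_122,tg_123,tg_124,tg_125,tg_126,tg_127,tg_128,tg_129,tg_130,tg_131,tg_132,tg_133,tg_134,tg_135,tg_136,tg_137,tg_138,tg_139,tg_140,tg_141,tg_142,tg_143,tg_144,tg_145,tg_146,tg_147,tg_148,tg_149,tg_150,tg_151,tg_152,tg_153,tg_154,tg_155,tg_156,tg_157,tg_158,tg_159,tg_160,tg_161,tg_162,tg_163,tg_164,tg_165,tg_166,tg_167,tg_168,tg_169,tg_170,tg_171,tg_172,tg_173,tg_174,tg_175,tg_176,tg_177,tg_178,tg_179,tg_180,tg_181,tg_182,tg_183,tg_184,tg_185,tg_186,tg_187,tg_188,tg_189,tg_190,tg_191,tg_192,tg_193,tg_194,tg_195,tg_196,tg_197,tg_198,tg_199,tg_200,tg_201,tg_202,tg_203,tg_204,tg_205,tg_206,tg_207,tg_208,tg_209,tg_210,tg_211,tg_212,tg_213,tg_214,tg_215,tg_216,tg_217,tg_218,tg_219,tg_220,tg_221,tg_222,tg_223,tg_224,tg_225])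 = true :=
  rt_step ck_tg91 (by decide +kernel) rt_92

theorem rt_90 : C.runTargets tS_90 (tg_90 :: [tg_91,tg_92,tg_93,tg_94,tg_95,tg_96,tg_97,tg_98,tg_99,tg_100,tg_101,tg_102,tg_103,tg_104,tg_105,tg_106,tg_107,tg_108,tg_109,tg_110,tg_111,tg_112,tg_113,tg_114,tg_115,tg_116,tg_117,tg_118,tg_119,tg_120,tg_121,tg_122,tg_123,tg_124,tg_125,tg_126,tg_127,tg_128,tg_129,tg_130,tg_131,tg_132,tg_133,tg_134,tg_135,tg_136,tg_137,tg_138,tg_139,tg_140,tg_141,tg_142,tg_143,tg_144,tg_145,tg_146,tg_147,tg_148,tg_149,tg_150,tg_151,tg_152,tg_153,tg_154,tg_155,tg_156,tg_157,tg_158,tg_159,tg_160,tg_161,tg_162,tg_163,tg_164,tg_165,tg_166,tg_167,tg_168,tg_169,tg_170,tg_171,tg_172,tg_173,tg_174,tg_175,tg_176,tg_177,tg_178,tg_179,tg_180,tg_181,tg_182,tg_183,tg_184,tg_185,tg_186,tg_187,tg_188,tg_189,tg_190,tg_191,tg_192,tg_193,tg_194,tg_195,tg_196,tg_197,tg_198,tg_199,tg_200,tg_201,tg_202,tg_203,tg_204,tg_205,tg_206,tg_207,tg_208,tg_209,tg_210,tg_211,tg_212,tg_213,tg_214,tg_215,tg_216,tg_217,tg_218,tg_219,tg_220,tg_221,tg_222,tg_223,tg_224,tg_225])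 = true :=
  rt_step ck_tg90 (by decide +kernel) rt_91

theorem rt_89 : C.runTargets tS_89 (tg_89 :: [tg_90,tg_91,tg_92,tg_93,tg_94,tg_95,tg_96,tg_97,tg_98,tg_99,tg_100,tg_101,tg_102,tg_103,tg_104,tg_105,tg_106,tg_107,tg_108,tg_109,tg_110,tg_111,tg_112,tg_113,tg_114,tg_115,tg_116,tg_117,tg_118,tg_119,tg_120,tg_121,tg_122,tg_123,tg_124,tg_125,tg_126,tg_127,tg_128,tg_129,tg_130,tg_131,tg_132,tg_133,tg_134,tg_135,tg_136,tg_137,tg_138,tg_139,tg_140,tg_141,tg_142,tg_143,tg_144,tg_145,tg_146,tg_147,tg_148,tg_149,tg_150,tg_151,tg_152,tg_153,tg_154,tg_155,tg_156,tg_157,tg_158,tg_159,tg_160,tg_161,tg_162,tg_163,tg_164,tg_165,tg_166,tg_167,tg_168,tg_169,tg_170,tg_171,tg_172,tg_173,tg_174,tg_175,tg_176,tg_177,tg_178,tg_179,tg_180,tg_181,tg_182,tg_183,tg_184,tg_185,tg_186,tg_187,tg_188,tg_189,tg_190,tg_191,tg_192,tg_193,tg_194,tg_195,tg_196,tg_197,tg_198,tg_199,tg_200,tg_201,tg_202,tg_203,tg_204,tg_205,tg_206,tg_207,tg_208,tg_209,tg_210,tg_211,tg_212,tg_213,tg_214,tg_215,tg_216,tg_217,tg_218,tg_219,tg_220,tg_221,tg_222,tg_223,tg_224,tg_225])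 = true :=
  rt_step ck_tg89 (by decide +kernel) rt_90

theorem rt_88 : C.runTargets tS_88 (tg_88 :: [tg_89,tg_90,tg_91,tg_92,tg_93,tg_94,tg_95,tg_96,tg_97,tg_98,tg_99,tg_100,tg_101,tg_102,tg_103,tg_104,tg_105,tg_106,tg_107,tg_108,tg_109,tg_110,tg_111,tg_112,tg_113,tg_114,tg_115,tg_116,tg_117,tg_118,tg_119,tg_120,tg_121,tg_122,tg_123,tg_124,tg_125,tg_126,tg_127,tg_128,tg_129,tg_130,tg_131,tg_132,tg_133,tg_134,tg_135,tg_136,tg_137,tg_138,tg_139,tg_140,tg_141,tg_142,tg_143,tg_144,tg_145,tg_146,tg_147,tg_148,tg_149,tg_150,tg_151,tg_152,tg_153,tg_154,tg_155,tg_156,tg_157,tg_158,tg_159,tg_160,tg_161,tg_162,tg_163,tg_164,tg_165,tg_166,tg_167,tg_168,tg_169,tg_170,tg_171,tg_172,tg_173,tg_174,tg_175,tg_176,tg_177,tg_178,tg_179,tg_180,tg_181,tg_182,tg_183,tg_184,tg_185,tg_186,tg_187,tg_188,tg_189,tg_190,tg_191,tg_192,tg_193,tg_194,tg_195,tg_196,tg_197,tg_198,tg_199,tg_200,tg_201,tg_202,tg_203,tg_204,tg_205,tg_206,tg_207,tg_208,tg_209,tg_210,tg_211,tg_212,tg_213,tg_214,tg_215,tg_216,tg_217,tg_218,tg_219,tg_220,tg_221,tg_222,tg_223,tg_224,tg_225])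 = true :=
  rt_step ck_tg88 (by decide +kernel) rt_89

theorem rt_87 : C.runTargets tS_87 (tg_87 :: [tg_88,tg_89,tg_90,tg_91,tg_92,tg_93,tg_94,tg_95,tg_96,tg_97,tg_98,tg_99,tg_100,tg_101,tg_102,tg_103,tg_104,tg_105,tg_106,tg_107,tg_108,tg_109,tg_110,tg_111,tg_112,tg_113,tg_114,tg_115,tg_116,tg_117,tg_118,tg_119,tg_120,tg_121,tg_122,tg_123,tg_124,tg_125,tg_126,tg_127,tg_128,tg_129,tg_130,tg_131,tg_132,tg_133,tg_134,tg_135,tg_136,tg_137,tg_138,tg_139,tg_140,tg_141,tg_142,tg_143,tg_144,tg_145,tg_146,tg_147,tg_148,tg_149,tg_150,tg_151,tg_152,tg_153,tg_154,tg_155,tg_156,tg_157,tg_158,tg_159,tg_160,tg_161,tg_162,tg_163,tg_164,tg_165,tg_166,tg_167,tg_168,tg_169,tg_170,tg_171,tg_172,tg_173,tg_174,tg_175,tg_176,tg_177,tg_178,tg_179,tg_180,tg_181,tg_182,tg_183,tg_184,tg_185,tg_186,tg_187,tg_188,tg_189,tg_190,tg_191,tg_192,tg_193,tg_194,tg_195,tg_196,tg_197,tg_198,tg_199,tg_200,tg_201,tg_202,tg_203,tg_204,tg_205,tg_206,tg_207,tg_208,tg_209,tg_210,tg_211,tg_212,tg_213,tg_214,tg_215,tg_216,tg_217,tg_218,tg_219,tg_220,tg_221,tg_222,tg_223,tg_224,tg_225])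 = true :=
  rt_step ck_tg87 (by decide +kernel) rt_88

theorem rt_86 : C.runTargets tS_86 (tg_86 :: [tg_87,tg_88,tg_89,tg_90,tg_91,tg_92,tg_93,tg_94,tg_95,tg_96,tg_97,tg_98,tg_99,tg_100,tg_101,tg_102,tg_103,tg_104,tg_105,tg_106,tg_107,tg_108,tg_109,tg_110,tg_111,tg_112,tg_113,tg_114,tg_115,tg_116,tg_117,tg_118,tg_119,tg_120,tg_121,tg_122,tg_123,tg_124,tg_125,tg_126,tg_127,tg_128,tg_129,tg_130,tg_131,tg_132,tg_133,tg_134,tg_135,tg_136,tg_137,tg_138,tg_139,tg_140,tg_141,tg_142,tg_143,tg_144,tg_145,tg_146,tg_147,tg_148,tg_149,tg_150,tg_151,tg_152,tg_153,tg_154,tg_155,tg_156,tg_157,tg_158,tg_159,tg_160,tg_161,tg_162,tg_163,tg_164,tg_165,tg_166,tg_167,tg_168,tg_169,tg_170,tg_171,tg_172,tg_173,tg_174,tg_175,tg_176,tg_177,tg_178,tg_179,tg_180,tg_181,tg_182,tg_183,tg_184,tg_185,tg_186,tg_187,tg_188,tg_189,tg_190,tg_191,tg_192,tg_193,tg_194,tg_195,tg_196,tg_197,tg_198,tg_199,tg_200,tg_201,tg_202,tg_203,tg_204,tg_205,tg_206,tg_207,tg_208,tg_209,tg_210,tg_211,tg_212,tg_213,tg_214,tg_215,tg_216,tg_217,tg_218,tg_219,tg_220,tg_221,tg_222,tg_223,tg_224,tg_225])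 = true :=
  rt_step ck_tg86 (by decide +kernel) rt_87

theorem rt_85 : C.runTargets tS_85 (tg_85 :: [tg_86,tg_87,tg_88,tg_89,tg_90,tg_91,tg_92,tg_93,tg_94,tg_95,tg_96,tg_97,tg_98,tg_99,tg_100,tg_101,tg_102,tg_103,tg_104,tg_105,tg_106,tg_107,tg_108,tg_109,tg_110,tg_111,tg_112,tg_113,tg_114,tg_115,tg_116,tg_117,tg_118,tg_119,tg_120,tg_121,tg_122,tg_123,tg_124,tg_125,tg_126,tg_127,tg_128,tg_129,tg_130,tg_131,tg_132,tg_133,tg_134,tg_135,tg_136,tg_137,tg_138,tg_139,tg_140,tg_141,tg_142,tg_143,tg_144,tg_145,tg_146,tg_147,tg_148,tg_149,tg_150,tg_151,tg_152,tg_153,tg_154,tg_155,tg_156,tg_157,tg_158,tg_159,tg_160,tg_161,tg_162,tg_163,tg_164,tg_165,tg_166,tg_167,tg_168,tg_169,tg_170,tg_171,tg_172,tg_173,tg_174,tg_175,tg_176,tg_177,tg_178,tg_179,tg_180,tg_181,tg_182,tg_183,tg_184,tg_185,tg_186,tg_187,tg_188,tg_189,tg_190,tg_191,tg_192,tg_193,tg_194,tg_195,tg_196,tg_197,tg_198,tg_199,tg_200,tg_201,tg_202,tg_203,tg_204,tg_205,tg_206,tg_207,tg_208,tg_209,tg_210,tg_211,tg_212,tg_213,tg_214,tg_215,tg_216,tg_217,tg_218,tg_219,tg_220,tg_221,tg_222,tg_223,tg_224,tg_225])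 = true :=
  rt_step ck_tg85 (by decide +kernel) rt_86

theorem rt_84 : C.runTargets tS_84 (tg_84 :: [tg_85,tg_86,tg_87,tg_88,tg_89,tg_90,tg_91,tg_92,tg_93,tg_94,tg_95,tg_96,tg_97,tg_98,tg_99,tg_100,tg_101,tg_102,tg_103,tg_104,tg_105,tg_106,tg_107,tg_108,tg_109,tg_110,tg_111,tg_112,tg_113,tg_114,tg_115,tg_116,tg_117,tg_118,tg_119,tg_120,tg_121,tg_122,tg_123,tg_124,tg_125,tg_126,tg_127,tg_128,tg_129,tg_130,tg_131,tg_132,tg_133,tg_134,tg_135,tg_136,tg_137,tg_138,tg_139,tg_140,tg_141,tg_142,tg_143,tg_144,tg_145,tg_146,tg_147,tg_148,tg_149,tg_150,tg_151,tg_152,tg_153,tg_154,tg_155,tg_156,tg_157,tg_158,tg_159,tg_160,tg_161,tg_162,tg_163,tg_164,tg_165,tg_166,tg_167,tg_168,tg_169,tg_170,tg_171,tg_172,tg_173,tg_174,tg_175,tg_176,tg_177,tg_178,tg_179,tg_180,tg_181,tg_182,tg_183,tg_184,tg_185,tg_186,tg_187,tg_188,tg_189,tg_190,tg_191,tg_192,tg_193,tg_194,tg_195,tg_196,tg_197,tg_198,tg_199,tg_200,tg_201,tg_202,tg_203,tg_204,tg_205,tg_206,tg_207,tg_208,tg_209,tg_210,tg_211,tg_212,tg_213,tg_214,tg_215,tg_216,tg_217,tg_218,tg_219,tg_220,tg_221,tg_222,tg_223,tg_224,tg_225])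 = true :=
  rt_step ck_tg84 (by decide +kernel) rt_85

theorem rt_83 : C.runTargets tS_83 (tg_83 :: [tg_84,tg_85,tg_86,tg_87,tg_88,tg_89,tg_90,tg_91,tg_92,tg_93,tg_94,tg_95,tg_96,tg_97,tg_98,tg_99,tg_100,tg_101,tg_102,tg_103,tg_104,tg_105,tg_106,tg_107,tg_108,tg_109,tg_110,tg_111,tg_112,tg_113,tg_114,tg_115,tg_116,tg_117,tg_118,tg_119,tg_120,tg_121,tg_122,tg_123,tg_124,tg_125,tg_126,tg_127,tg_128,tg_129,tg_130,tg_131,tg_132,tg_133,tg_134,tg_135,tg_136,tg_137,tg_138,tg_139,tg_140,tg_141,tg_142,tg_143,tg_144,tg_145,tg_146,tg_147,tg_148,tg_149,tg_150,tg_151,tg_152,tg_153,tg_154,tg_155,tg_156,tg_157,tg_158,tg_159,tg_160,tg_161,tg_162,tg_163,tg_164,tg_165,tg_166,tg_167,tg_168,tg_169,tg_170,tg_171,tg_172,tg_173,tg_174,tg_175,tg_176,tg_177,tg_178,tg_179,tg_180,tg_181,tg_182,tg_183,tg_184,tg_185,tg_186,tg_187,tg_188,tg_189,tg_190,tg_191,tg_192,tg_193,tg_194,tg_195,tg_196,tg_197,tg_198,tg_199,tg_200,tg_201,tg_202,tg_203,tg_204,tg_205,tg_206,tg_207,tg_208,tg_209,tg_210,tg_211,tg_212,tg_213,tg_214,tg_215,tg_216,tg_217,tg_218,tg_219,tg_220,tg_221,tg_222,tg_223,tg_224,tg_225])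 = true :=
  rt_step ck_tg83 (by decide +kernel) rt_84

theorem rt_82 : C.runTargets tS_82 (tg_82 :: [tg_83,tg_84,tg_85,tg_86,tg_87,tg_88,tg_89,tg_90,tg_91,tg_92,tg_93,tg_94,tg_95,tg_96,tg_97,tg_98,tg_99,tg_100,tg_101,tg_102,tg_103,tg_104,tg_105,tg_106,tg_107,tg_108,tg_109,tg_110,tg_111,tg_112,tg_113,tg_114,tg_115,tg_116,tg_117,tg_118,tg_119,tg_120,tg_121,tg_122,tg_123,tg_124,tg_125,tg_126,tg_127,tg_128,tg_129,tg_130,tg_131,tg_132,tg_133,tg_134,tg_135,tg_136,tg_137,tg_138,tg_139,tg_140,tg_141,tg_142,tg_143,tg_144,tg_145,tg_146,tg_147,tg_148,tg_149,tg_150,tg_151,tg_152,tg_153,tg_154,tg_155,tg_156,tg_157,tg_158,tg_159,tg_160,tg_161,tg_162,tg_163,tg_164,tg_165,tg_166,tg_167,tg_168,tg_169,tg_170,tg_171,tg_172,tg_173,tg_174,tg_175,tg_176,tg_177,tg_178,tg_179,tg_180,tg_181,tg_182,tg_183,tg_184,tg_185,tg_186,tg_187,tg_188,tg_189,tg_190,tg_191,tg_192,tg_193,tg_194,tg_195,tg_196,tg_197,tg_198,tg_199,tg_200,tg_201,tg_202,tg_203,tg_204,tg_205,tg_206,tg_207,tg_208,tg_209,tg_210,tg_211,tg_212,tg_213,tg_214,tg_215,tg_216,tg_217,tg_218,tg_219,tg_220,tg_221,tg_222,tg_223,tg_224,tg_225])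 = true :=
  rt_step ck_tg82 (by decide +kernel) rt_83

theorem rt_81 : C.runTargets tS_81 (tg_81 :: [tg_82,tg_83,tg_84,tg_85,tg_86,tg_87,tg_88,tg_89,tg_90,tg_91,tg_92,tg_93,tg_94,tg_95,tg_96,tg_97,tg_98,tg_99,tg_100,tg_101,tg_102,tg_103,tg_104,tg_105,tg_106,tg_107,tg_108,tg_109,tg_110,tg_111,tg_112,tg_113,tg_114,tg_115,tg_116,tg_117,tg_118,tg_119,tg_120,tg_121,tg_122,tg_123,tg_124,tg_125,tg_126,tg_127,tg_128,tg_129,tg_130,tg_131,tg_132,tg_133,tg_134,tg_135,tg_136,tg_137,tg_138,tg_139,tg_140,tg_141,tg_142,tg_143,tg_144,tg_145,tg_146,tg_147,tg_148,tg_149,tg_150,tg_151,tg_152,tg_153,tg_154,tg_155,tg_156,tg_157,tg_158,tg_159,tg_160,tg_161,tg_162,tg_163,tg_164,tg_165,tg_166,tg_167,tg_168,tg_169,tg_170,tg_171,tg_172,tg_173,tg_174,tg_175,tg_176,tg_177,tg_178,tg_179,tg_180,tg_181,tg_182,tg_183,tg_184,tg_185,tg_186,tg_187,tg_188,tg_189,tg_190,tg_191,tg_192,tg_193,tg_194,tg_195,tg_196,tg_197,tg_198,tg_199,tg_200,tg_201,tg_202,tg_203,tg_204,tg_205,tg_206,tg_207,tg_208,tg_209,tg_210,tg_211,tg_212,tg_213,tg_214,tg_215,tg_216,tg_217,tg_218,tg_219,tg_220,tg_221,tg_222,tg_223,tg_224,tg_225])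 = true :=
  rt_step ck_tg81 (by decide +kernel) rt_82

theorem rt_80 : C.runTargets tS_80 (tg_80 :: [tg_81,tg_82,tg_83,tg_84,tg_85,tg_86,tg_87,tg_88,tg_89,tg_90,tg_91,tg_92,tg_93,tg_94,tg_95,tg_96,tg_97,tg_98,tg_99,tg_100,tg_101,tg_102,tg_103,tg_104,tg_105,tg_106,tg_107,tg_108,tg_109,tg_110,tg_111,tg_112,tg_113,tg_114,tg_115,tg_116,tg_117,tg_118,tg_119,tg_120,tg_121,tg_122,tg_123,tg_124,tg_125,tg_126,tg_127,tg_128,tg_129,tg_130,tg_131,tg_132,tg_133,tg_134,tg_135,tg_136,tg_137,tg_138,tg_139,tg_140,tg_141,tg_142,tg_143,tg_144,tg_145,tg_146,tg_147,tg_148,tg_149,tg_150,tg_151,tg_152,tg_153,tg_154,tg_155,tg_156,tg_157,tg_158,tg_159,tg_160,tg_161,tg_162,tg_163,tg_164,tg_165,tg_166,tg_167,tg_168,tg_169,tg_170,tg_171,tg_172,tg_173,tg_174,tg_175,tg_176,tg_177,tg_178,tg_179,tg_180,tg_181,tg_182,tg_183,tg_184,tg_185,tg_186,tg_187,tg_188,tg_189,tg_190,tg_191,tg_192,tg_193,tg_194,tg_195,tg_196,tg_197,tg_198,tg_199,tg_200,tg_201,tg_202,tg_203,tg_204,tg_205,tg_206,tg_207,tg_208,tg_209,tg_210,tg_211,tg_212,tg_213,tg_214,tg_215,tg_216,tg_217,tg_218,tg_219,tg_220,tg_221,tg_222,tg_223,tg_224,tg_225])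 = true :=
  rt_step ck_tg80 (by decide +kernel) rt_81

theorem rt_79 : C.runTargets tS_79 (tg_79 :: [tg_80,tg_81,tg_82,tg_83,tg_84,tg_85,tg_86,tg_87,tg_88,tg_89,tg_90,tg_91,tg_92,tg_93,tg_94,tg_95,tg_96,tg_97,tg_98,tg_99,tg_100,tg_101,tg_102,tg_103,tg_104,tg_105,tg_106,tg_107,tg_108,tg_109,tg_110,tg_111,tg_112,tg_113,tg_114,tg_115,tg_116,tg_117,tg_118,tg_119,tg_120,tg_121,tg_122,tg_123,tg_124,tg_125,tg_126,tg_127,tg_128,tg_129,tg_130,tg_131,tg_132,tg_133,tg_134,tg_135,tg_136,tg_137,tg_138,tg_139,tg_140,tg_141,tg_142,tg_143,tg_144,tg_145,tg_146,tg_147,tg_148,tg_149,tg_150,tg_151,tg_152,tg_153,tg_154,tg_155,tg_156,tg_157,tg_158,tg_159,tg_160,tg_161,tg_162,tg_163,tg_164,tg_165,tg_166,tg_167,tg_168,tg_169,tg_170,tg_171,tg_172,tg_173,tg_174,tg_175,tg_176,tg_177,tg_178,tg_179,tg_180,tg_181,tg_182,tg_183,tg_184,tg_185,tg_186,tg_187,tg_188,tg_189,tg_190,tg_191,tg_192,tg_193,tg_194,tg_195,tg_196,tg_197,tg_198,tg_199,tg_200,tg_201,tg_202,tg_203,tg_204,tg_205,tg_206,tg_207,tg_208,tg_209,tg_210,tg_211,tg_212,tg_213,tg_214,tg_215,tg_216,tg_217,tg_218,tg_219,tg_220,tg_221,tg_222,tg_223,tg_224,tg_225])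 = true :=
  rt_step ck_tg79 (by decide +kernel) rt_80

theorem rt_78 : C.runTargets tS_78 (tg_78 :: [tg_79,tg_80,tg_81,tg_82,tg_83,tg_84,tg_85,tg_86,tg_87,tg_88,tg_89,tg_90,tg_91,tg_92,tg_93,tg_94,tg_95,tg_96,tg_97,tg_98,tg_99,tg_100,tg_101,tg_102,tg_103,tg_104,tg_105,tg_106,tg_107,tg_108,tg_109,tg_110,tg_111,tg_112,tg_113,tg_114,tg_115,tg_116,tg_117,tg_118,tg_119,tg_120,tg_121,tg_122,tg_123,tg_124,tg_125,tg_126,tg_127,tg_128,tg_129,tg_130,tg_131,tg_132,tg_133,tg_134,tg_135,tg_136,tg_137,tg_138,tg_139,tg_140,tg_141,tg_142,tg_143,tg_144,tg_145,tg_146,tg_147,tg_148,tg_149,tg_150,tg_151,tg_152,tg_153,tg_154,tg_155,tg_156,tg_157,tg_158,tg_159,tg_160,tg_161,tg_162,tg_163,tg_164,tg_165,tg_166,tg_167,tg_168,tg_169,tg_170,tg_171,tg_172,tg_173,tg_174,tg_175,tg_176,tg_177,tg_178,tg_179,tg_180,tg_181,tg_182,tg_183,tg_184,tg_185,tg_186,tg_187,tg_188,tg_189,tg_190,tg_191,tg_192,tg_193,tg_194,tg_195,tg_196,tg_197,tg_198,tg_199,tg_200,tg_201,tg_202,tg_203,tg_204,tg_205,tg_206,tg_207,tg_208,tg_209,tg_210,tg_211,tg_212,tg_213,tg_214,tg_215,tg_216,tg_217,tg_218,tg_219,tg_220,tg_221,tg_222,tg_223,tg_224,tg_225])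 = true :=
  rt_step ck_tg78 (by decide +kernel) rt_79

theorem rt_77 : C.runTargets tS_77 (tg_77 :: [tg_78,tg_79,tg_80,tg_81,tg_82,tg_83,tg_84,tg_85,tg_86,tg_87,tg_88,tg_89,tg_90,tg_91,tg_92,tg_93,tg_94,tg_95,tg_96,tg_97,tg_98,tg_99,tg_100,tg_101,tg_102,tg_103,tg_104,tg_105,tg_106,tg_107,tg_108,tg_109,tg_110,tg_111,tg_112,tg_113,tg_114,tg_115,tg_116,tg_117,tg_118,tg_119,tg_120,tg_121,tg_122,tg_123,tg_124,tg_125,tg_126,tg_127,tg_128,tg_129,tg_130,tg_131,tg_132,tg_133,tg_134,tg_135,tg_136,tg_137,tg_138,tg_139,tg_140,tg_141,tg_142,tg_143,tg_144,tg_145,tg_146,tg_147,tg_148,tg_149,tg_150,tg_151,tg_152,tg_153,tg_154,tg_155,tg_156,tg_157,tg_158,tg_159,tg_160,tg_161,tg_162,tg_163,tg_164,tg_165,tg_166,tg_167,tg_168,tg_169,tg_170,tg_171,tg_172,tg_173,tg_174,tg_175,tg_176,tg_177,tg_178,tg_179,tg_180,tg_181,tg_182,tg_183,tg_184,tg_185,tg_186,tg_187,tg_188,tg_189,tg_190,tg_191,tg_192,tg_193,tg_194,tg_195,tg_196,tg_197,tg_198,tg_199,tg_200,tg_201,tg_202,tg_203,tg_204,tg_205,tg_206,tg_207,tg_208,tg_209,tg_210,tg_211,tg_212,tg_213,tg_214,tg_215,tg_216,tg_217,tg_218,tg_219,tg_220,tg_221,tg_222,tg_223,tg_224,tg_225])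 = true :=
  rt_step ck_tg77 (by decide +kernel) rt_78

theorem rt_76 : C.runTargets tS_76 (tg_76 :: [tg_77,tg_78,tg_79,tg_80,tg_81,tg_82,tg_83,tg_84,tg_85,tg_86,tg_87,tg_88,tg_89,tg_90,tg_91,tg_92,tg_93,tg_94,tg_95,tg_96,tg_97,tg_98,tg_99,tg_100,tg_101,tg_102,tg_103,tg_104,tg_105,tg_106,tg_107,tg_108,tg_109,tg_110,tg_111,tg_112,tg_113,tg_114,tg_115,tg_116,tg_117,tg_118,tg_119,tg_120,tg_121,tg_122,tg_123,tg_124,tg_125,tg_126,tg_127,tg_128,tg_129,tg_130,tg_131,tg_132,tg_133,tg_134,tg_135,tg_136,tg_137,tg_138,tg_139,tg_140,tg_141,tg_142,tg_143,tg_144,tg_145,tg_146,tg_147,tg_148,tg_149,tg_150,tg_151,tg_152,tg_153,tg_154,tg_155,tg_156,tg_157,tg_158,tg_159,tg_160,tg_161,tg_162,tg_163,tg_164,tg_165,tg_166,tg_167,tg_168,tg_169,tg_170,tg_171,tg_172,tg_173,tg_174,tg_175,tg_176,tg_177,tg_178,tg_179,tg_180,tg_181,tg_182,tg_183,tg_184,tg_185,tg_186,tg_187,tg_188,tg_189,tg_190,tg_191,tg_192,tg_193,tg_194,tg_195,tg_196,tg_197,tg_198,tg_199,tg_200,tg_201,tg_202,tg_203,tg_204,tg_205,tg_206,tg_207,tg_208,tg_209,tg_210,tg_211,tg_212,tg_213,tg_214,tg_215,tg_216,tg_217,tg_218,tg_219,tg_220,tg_221,tg_222,tg_223,tg_224,tg_225])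 = true :=
  rt_step ck_tg76 (by decide +kernel) rt_77

theorem rt_75 : C.runTargets tS_75 (tg_75 :: [tg_76,tg_77,tg_78,tg_79,tg_80,tg_81,tg_82,tg_83,tg_84,tg_85,tg_86,tg_87,tg_88,tg_89,tg_90,tg_91,tg_92,tg_93,tg_94,tg_95,tg_96,tg_97,tg_98,tg_99,tg_100,tg_101,tg_102,tg_103,tg_104,tg_105,tg_106,tg_107,tg_108,tg_109,tg_110,tg_111,tg_112,tg_113,tg_114,tg_115,tg_116,tg_117,tg_118,tg_119,tg_120,tg_121,tg_122,tg_123,tg_124,tg_125,tg_126,tg_127,tg_128,tg_129,tg_130,tg_131,tg_132,tg_133,tg_134,tg_135,tg_136,tg_137,tg_138,tg_139,tg_140,tg_141,tg_142,tg_143,tg_144,tg_145,tg_146,tg_147,tg_148,tg_149,tg_150,tg_151,tg_152,tg_153,tg_154,tg_155,tg_156,tg_157,tg_158,tg_159,tg_160,tg_161,tg_162,tg_163,tg_164,tg_165,tg_166,tg_167,tg_168,tg_169,tg_170,tg_171,tg_172,tg_173,tg_174,tg_175,tg_176,tg_177,tg_178,tg_179,tg_180,tg_181,tg_182,tg_183,tg_184,tg_185,tg_186,tg_187,tg_188,tg_189,tg_190,tg_191,tg_192,tg_193,tg_194,tg_195,tg_196,tg_197,tg_198,tg_199,tg_200,tg_201,tg_202,tg_203,tg_204,tg_205,tg_206,tg_207,tg_208,tg_209,tg_210,tg_211,tg_212,tg_213,tg_214,tg_215,tg_216,tg_217,tg_218,tg_219,tg_220,tg_221,tg_222,tg_223,tg_224,tg_225])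 = true :=
  rt_step ck_tg75 (by decide +kernel) rt_76

theorem rt_74 : C.runTargets tS_74 (tg_74 :: [tg_75,tg_76,tg_77,tg_78,tg_79,tg_80,tg_81,tg_82,tg_83,tg_84,tg_85,tg_86,tg_87,tg_88,tg_89,tg_90,tg_91,tg_92,tg_93,tg_94,tg_95,tg_96,tg_97,tg_98,tg_99,tg_100,tg_101,tg_102,tg_103,tg_104,tg_105,tg_106,tg_107,tg_108,tg_109,tg_110,tg_111,tg_112,tg_113,tg_114,tg_115,tg_116,tg_117,tg_118,tg_119,tg_120,tg_121,tg_122,tg_123,tg_124,tg_125,tg_126,tg_127,tg_128,tg_129,tg_130,tg_131,tg_132,tg_133,tg_134,tg_135,tg_136,tg_137,tg_138,tg_139,tg_140,tg_141,tg_142,tg_143,tg_144,tg_145,tg_146,tg_147,tg_148,tg_149,tg_150,tg_151,tg_152,tg_153,tg_154,tg_155,tg_156,tg_157,tg_158,tg_159,tg_160,tg_161,tg_162,tg_163,tg_164,tg_165,tg_166,tg_167,tg_168,tg_169,tg_170,tg_171,tg_172,tg_173,tg_174,tg_175,tg_176,tg_177,tg_178,tg_179,tg_180,tg_181,tg_182,tg_183,tg_184,tg_185,tg_186,tg_187,tg_188,tg_189,tg_190,tg_191,tg_192,tg_193,tg_194,tg_195,tg_196,tg_197,tg_198,tg_199,tg_200,tg_201,tg_202,tg_203,tg_204,tg_205,tg_206,tg_207,tg_208,tg_209,tg_210,tg_211,tg_212,tg_213,tg_214,tg_215,tg_216,tg_217,tg_218,tg_219,tg_220,tg_221,tg_222,tg_223,tg_224,tg_225])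 = true :=
  rt_step ck_tg74 (by decide +kernel) rt_75

theorem rt_73 : C.runTargets tS_73 (tg_73 :: [tg_74,tg_75,tg_76,tg_77,tg_78,tg_79,tg_80,tg_81,tg_82,tg_83,tg_84,tg_85,tg_86,tg_87,tg_88,tg_89,tg_90,tg_91,tg_92,tg_93,tg_94,tg_95,tg_96,tg_97,tg_98,tg_99,tg_100,tg_101,tg_102,tg_103,tg_104,tg_105,tg_106,tg_107,tg_108,tg_109,tg_110,tg_111,tg_112,tg_113,tg_114,tg_115,tg_116,tg_117,tg_118,tg_119,tg_120,tg_121,tg_122,tg_123,tg_124,tg_125,tg_126,tg_127,tg_128,tg_129,tg_130,tg_131,tg_132,tg_133,tg_134,tg_135,tg_136,tg_137,tg_138,tg_139,tg_140,tg_141,tg_142,tg_143,tg_144,tg_145,tg_146,tg_147,tg_148,tg_149,tg_150,tg_151,tg_152,tg_153,tg_154,tg_155,tg_156,tg_157,tg_158,tg_159,tg_160,tg_161,tg_162,tg_163,tg_164,tg_165,tg_166,tg_167,tg_168,tg_169,tg_170,tg_171,tg_172,tg_173,tg_174,tg_175,tg_176,tg_177,tg_178,tg_179,tg_180,tg_181,tg_182,tg_183,tg_184,tg_185,tg_186,tg_187,tg_188,tg_189,tg_190,tg_191,tg_192,tg_193,tg_194,tg_195,tg_196,tg_197,tg_198,tg_199,tg_200,tg_201,tg_202,tg_203,tg_204,tg_205,tg_206,tg_207,tg_208,tg_209,tg_210,tg_211,tg_212,tg_213,tg_214,tg_215,tg_216,tg_217,tg_218,tg_219,tg_220,tg_221,tg_222,tg_223,tg_224,tg_225])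 = true :=
  rt_step ck_tg73 (by decide +kernel) rt_74

theorem rt_72 : C.runTargets tS_72 (tg_72 :: [tg_73,tg_74,tg_75,tg_76,tg_77,tg_78,tg_79,tg_80,tg_81,tg_82,tg_83,tg_84,tg_85,tg_86,tg_87,tg_88,tg_89,tg_90,tg_91,tg_92,tg_93,tg_94,tg_95,tg_96,tg_97,tg_98,tg_99,tg_100,tg_101,tg_102,tg_103,tg_104,tg_105,tg_106,tg_107,tg_108,tg_109,tg_110,tg_111,tg_112,tg_113,tg_114,tg_115,tg_116,tg_117,tg_118,tg_119,tg_120,tg_121,tg_122,tg_123,tg_124,tg_125,tg_126,tg_127,tg_128,tg_129,tg_130,tg_131,tg_132,tg_133,tg_134,tg_135,tg_136,tg_137,tg_138,tg_139,tg_140,tg_141,tg_142,tg_143,tg_144,tg_145,tg_146,tg_147,tg_148,tg_149,tg_150,tg_151,tg_152,tg_153,tg_154,tg_155,tg_156,tg_157,tg_158,tg_159,tg_160,tg_161,tg_162,tg_163,tg_164,tg_165,tg_166,tg_167,tg_168,tg_169,tg_170,tg_171,tg_172,tg_173,tg_174,tg_175,tg_176,tg_177,tg_178,tg_179,tg_180,tg_181,tg_182,tg_183,tg_184,tg_185,tg_186,tg_187,tg_188,tg_189,tg_190,tg_191,tg_192,tg_193,tg_194,tg_195,tg_196,tg_197,tg_198,tg_199,tg_200,tg_201,tg_202,tg_203,tg_204,tg_205,tg_206,tg_207,tg_208,tg_209,tg_210,tg_211,tg_212,tg_213,tg_214,tg_215,tg_216,tg_217,tg_218,tg_219,tg_220,tg_221,tg_222,tg_223,tg_224,tg_225])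 = true :=
  rt_step ck_tg72 (by decide +kernel) rt_73

theorem rt_71 : C.runTargets tS_71 (tg_71 :: [tg_72,tg_73,tg_74,tg_75,tg_76,tg_77,tg_78,tg_79,tg_80,tg_81,tg_82,tg_83,tg_84,tg_85,tg_86,tg_87,tg_88,tg_89,tg_90,tg_91,tg_92,tg_93,tg_94,tg_95,tg_96,tg_97,tg_98,tg_99,tg_100,tg_101,tg_102,tg_103,tg_104,tg_105,tg_106,tg_107,tg_108,tg_109,tg_110,tg_111,tg_112,tg_113,tg_114,tg_115,tg_116,tg_117,tg_118,tg_119,tg_120,tg_121,tg_122,tg_123,tg_124,tg_125,tg_126,tg_127,tg_128,tg_129,tg_130,tg_131,tg_132,tg_133,tg_134,tg_135,tg_136,tg_137,tg_138,tg_139,tg_140,tg_141,tg_142,tg_143,tg_144,tg_145,tg_146,tg_147,tg_148,tg_149,tg_150,tg_151,tg_152,tg_153,tg_154,tg_155,tg_156,tg_157,tg_158,tg_159,tg_160,tg_161,tg_162,tg_163,tg_164,tg_165,tg_166,tg_167,tg_168,tg_169,tg_170,tg_171,tg_172,tg_173,tg_174,tg_175,tg_176,tg_177,tg_178,tg_179,tg_180,tg_181,tg_182,tg_183,tg_184,tg_185,tg_186,tg_187,tg_188,tg_189,tg_190,tg_191,tg_192,tg_193,tg_194,tg_195,tg_196,tg_197,tg_198,tg_199,tg_200,tg_201,tg_202,tg_203,tg_204,tg_205,tg_206,tg_207,tg_208,tg_209,tg_210,tg_211,tg_212,tg_213,tg_214,tg_215,tg_216,tg_217,tg_218,tg_219,tg_220,tg_221,tg_222,tg_223,tg_224,tg_225])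 = true :=
  rt_step ck_tg71 (by decide +kernel) rt_72

theorem rt_70 : C.runTargets tS_70 (tg_70 :: [tg_71,tg_72,tg_73,tg_74,tg_75,tg_76,tg_77,tg_78,tg_79,tg_80,tg_81,tg_82,tg_83,tg_84,tg_85,tg_86,tg_87,tg_88,tg_89,tg_90,tg_91,tg_92,tg_93,tg_94,tg_95,tg_96,tg_97,tg_98,tg_99,tg_100,tg_101,tg_102,tg_103,tg_104,tg_105,tg_106,tg_107,tg_108,tg_109,tg_110,tg_111,tg_112,tg_113,tg_114,tg_115,tg_116,tg_117,tg_118,tg_119,tg_120,tg_121,tg_122,tg_123,tg_124,tg_125,tg_126,tg_127,tg_128,tg_129,tg_130,tg_131,tg_132,tg_133,tg_134,tg_135,tg_136,tg_137,tg_138,tg_139,tg_140,tg_141,tg_142,tg_143,tg_144,tg_145,tg_146,tg_147,tg_148,tg_149,tg_150,tg_151,tg_152,tg_153,tg_154,tg_155,tg_156,tg_157,tg_158,tg_159,tg_160,tg_161,tg_162,tg_163,tg_164,tg_165,tg_166,tg_167,tg_168,tg_169,tg_170,tg_171,tg_172,tg_173,tg_174,tg_175,tg_176,tg_177,tg_178,tg_179,tg_180,tg_181,tg_182,tg_183,tg_184,tg_185,tg_186,tg_187,tg_188,tg_189,tg_190,tg_191,tg_192,tg_193,tg_194,tg_195,tg_196,tg_197,tg_198,tg_199,tg_200,tg_201,tg_202,tg_203,tg_204,tg_205,tg_206,tg_207,tg_208,tg_209,tg_210,tg_211,tg_212,tg_213,tg_214,tg_215,tg_216,tg_217,tg_218,tg_219,tg_220,tg_221,tg_222,tg_223,tg_224,tg_225])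 = true :=
  rt_step ck_tg70 (by decide +kernel) rt_71

theorem rt_69 : C.runTargets tS_69 (tg_69 :: [tg_70,tg_71,tg_72,tg_73,tg_74,tg_75,tg_76,tg_77,tg_78,tg_79,tg_80,tg_81,tg_82,tg_83,tg_84,tg_85,tg_86,tg_87,tg_88,tg_89,tg_90,tg_91,tg_92,tg_93,tg_94,tg_95,tg_96,tg_97,tg_98,tg_99,tg_100,tg_101,tg_102,tg_103,tg_104,tg_105,tg_106,tg_107,tg_108,tg_109,tg_110,tg_111,tg_112,tg_113,tg_114,tg_115,tg_116,tg_117,tg_118,tg_119,tg_120,tg_121,tg_122,tg_123,tg_124,tg_125,tg_126,tg_127,tg_128,tg_129,tg_130,tg_131,tg_132,tg_133,tg_134,tg_135,tg_136,tg_137,tg_138,tg_139,tg_140,tg_141,tg_142,tg_143,tg_144,tg_145,tg_146,tg_147,tg_148,tg_149,tg_150,tg_151,tg_152,tg_153,tg_154,tg_155,tg_156,tg_157,tg_158,tg_159,tg_160,tg_161,tg_162,tg_163,tg_164,tg_165,tg_166,tg_167,tg_168,tg_169,tg_170,tg_171,tg_172,tg_173,tg_174,tg_175,tg_176,tg_177,tg_178,tg_179,tg_180,tg_181,tg_182,tg_183,tg_184,tg_185,tg_186,tg_187,tg_188,tg_189,tg_190,tg_191,tg_192,tg_193,tg_194,tg_195,tg_196,tg_197,tg_198,tg_199,tg_200,tg_201,tg_202,tg_203,tg_204,tg_205,tg_206,tg_207,tg_208,tg_209,tg_210,tg_211,tg_212,tg_213,tg_214,tg_215,tg_216,tg_217,tg_218,tg_219,tg_220,tg_221,tg_222,tg_223,tg_224,tg_225])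 = true :=
  rt_step ck_tg69 (by decide +kernel) rt_70

theorem rt_68 : C.runTargets tS_68 (tg_68 :: [tg_69,tg_70,tg_71,tg_72,tg_73,tg_74,tg_75,tg_76,tg_77,tg_78,tg_79,tg_80,tg_81,tg_82,tg_83,tg_84,tg_85,tg_86,tg_87,tg_88,tg_89,tg_90,tg_91,tg_92,tg_93,tg_94,tg_95,tg_96,tg_97,tg_98,tg_99,tg_100,tg_101,tg_102,tg_103,tg_104,tg_105,tg_106,tg_107,tg_108,tg_109,tg_110,tg_111,tg_112,tg_113,tg_114,tg_115,tg_116,tg_117,tg_118,tg_119,tg_120,tg_121,tg_122,tg_123,tg_124,tg_125,tg_126,tg_127,tg_128,tg_129,tg_130,tg_131,tg_132,tg_133,tg_134,tg_135,tg_136,tg_137,tg_138,tg_139,tg_140,tg_141,tg_142,tg_143,tg_144,tg_145,tg_146,tg_147,tg_148,tg_149,tg_150,tg_151,tg_152,tg_153,tg_154,tg_155,tg_156,tg_157,tg_158,tg_159,tg_160,tg_161,tg_162,tg_163,tg_164,tg_165,tg_166,tg_167,tg_168,tg_169,tg_170,tg_171,tg_172,tg_173,tg_174,tg_175,tg_176,tg_177,tg_178,tg_179,tg_180,tg_181,tg_182,tg_183,tg_184,tg_185,tg_186,tg_187,tg_188,tg_189,tg_190,tg_191,tg_192,tg_193,tg_194,tg_195,tg_196,tg_197,tg_198,tg_199,tg_200,tg_201,tg_202,tg_203,tg_204,tg_205,tg_206,tg_207,tg_208,tg_209,tg_210,tg_211,tg_212,tg_213,tg_214,tg_215,tg_216,tg_217,tg_218,tg_219,tg_220,tg_221,tg_222,tg_223,tg_224,tg_225])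 = true :=
  rt_step ck_tg68 (by decide +kernel) rt_69

theorem rt_67 : C.runTargets tS_67 (tg_67 :: [tg_68,tg_69,tg_70,tg_71,tg_72,tg_73,tg_74,tg_75,tg_76,tg_77,tg_78,tg_79,tg_80,tg_81,tg_82,tg_83,tg_84,tg_85,tg_86,tg_87,tg_88,tg_89,tg_90,tg_91,tg_92,tg_93,tg_94,tg_95,tg_96,tg_97,tg_98,tg_99,tg_100,tg_101,tg_102,tg_103,tg_104,tg_105,tg_106,tg_107,tg_108,tg_109,tg_110,tg_111,tg_112,tg_113,tg_114,tg_115,tg_116,tg_117,tg_118,tg_119,tg_120,tg_121,tg_122,tg_123,tg_124,tg_125,tg_126,tg_127,tg_128,tg_129,tg_130,tg_131,tg_132,tg_133,tg_134,tg_135,tg_136,tg_137,tg_138,tg_139,tg_140,tg_141,tg_142,tg_143,tg_144,tg_145,tg_146,tg_147,tg_148,tg_149,tg_150,tg_151,tg_152,tg_153,tg_154,tg_155,tg_156,tg_157,tg_158,tg_159,tg_160,tg_161,tg_162,tg_163,tg_164,tg_165,tg_166,tg_167,tg_168,tg_169,tg_170,tg_171,tg_172,tg_173,tg_174,tg_175,tg_176,tg_177,tg_178,tg_179,tg_180,tg_181,tg_182,tg_183,tg_184,tg_185,tg_186,tg_187,tg_188,tg_189,tg_190,tg_191,tg_192,tg_193,tg_194,tg_195,tg_196,tg_197,tg_198,tg_199,tg_200,tg_201,tg_202,tg_203,tg_204,tg_205,tg_206,tg_207,tg_208,tg_209,tg_210,tg_211,tg_212,tg_213,tg_214,tg_215,tg_216,tg_217,tg_218,tg_219,tg_220,tg_221,tg_222,tg_223,tg_224,tg_225])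 = true :=
  rt_step ck_tg67 (by decide +kernel) rt_68

theorem rt_66 : C.runTargets tS_66 (tg_66 :: [tg_67,tg_68,tg_69,tg_70,tg_71,tg_72,tg_73,tg_74,tg_75,tg_76,tg_77,tg_78,tg_79,tg_80,tg_81,tg_82,tg_83,tg_84,tg_85,tg_86,tg_87,tg_88,tg_89,tg_90,tg_91,tg_92,tg_93,tg_94,tg_95,tg_96,tg_97,tg_98,tg_99,tg_100,tg_101,tg_102,tg_103,tg_104,tg_105,tg_106,tg_107,tg_108,tg_109,tg_110,tg_111,tg_112,tg_113,tg_114,tg_115,tg_116,tg_117,tg_118,tg_119,tg_120,tg_121,tg_122,tg_123,tg_124,tg_125,tg_126,tg_127,tg_128,tg_129,tg_130,tg_131,tg_132,tg_133,tg_134,tg_135,tg_136,tg_137,tg_138,tg_139,tg_140,tg_141,tg_142,tg_143,tg_144,tg_145,tg_146,tg_147,tg_148,tg_149,tg_150,tg_151,tg_152,tg_153,tg_154,tg_155,tg_156,tg_157,tg_158,tg_159,tg_160,tg_161,tg_162,tg_163,tg_164,tg_165,tg_166,tg_167,tg_168,tg_169,tg_170,tg_171,tg_172,tg_173,tg_174,tg_175,tg_176,tg_177,tg_178,tg_179,tg_180,tg_181,tg_182,tg_183,tg_184,tg_185,tg_186,tg_187,tg_188,tg_189,tg_190,tg_191,tg_192,tg_193,tg_194,tg_195,tg_196,tg_197,tg_198,tg_199,tg_200,tg_201,tg_202,tg_203,tg_204,tg_205,tg_206,tg_207,tg_208,tg_209,tg_210,tg_211,tg_212,tg_213,tg_214,tg_215,tg_216,tg_217,tg_218,tg_219,tg_220,tg_221,tg_222,tg_223,tg_224,tg_225])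 = true :=
  rt_step ck_tg66 (by decide +kernel) rt_67

theorem rt_65 : C.runTargets tS_65 (tg_65 :: [tg_66,tg_67,tg_68,tg_69,tg_70,tg_71,tg_72,tg_73,tg_74,tg_75,tg_76,tg_77,tg_78,tg_79,tg_80,tg_81,tg_82,tg_83,tg_84,tg_85,tg_86,tg_87,tg_88,tg_89,tg_90,tg_91,tg_92,tg_93,tg_94,tg_95,tg_96,tg_97,tg_98,tg_99,tg_100,tg_101,tg_102,tg_103,tg_104,tg_105,tg_106,tg_107,tg_108,tg_109,tg_110,tg_111,tg_112,tg_113,tg_114,tg_115,tg_116,tg_117,tg_118,tg_119,tg_120,tg_121,tg_122,tg_123,tg_124,tg_125,tg_126,tg_127,tg_128,tg_129,tg_130,tg_131,tg_132,tg_133,tg_134,tg_135,tg_136,tg_137,tg_138,tg_139,tg_140,tg_141,tg_142,tg_143,tg_144,tg_145,tg_146,tg_147,tg_148,tg_149,tg_150,tg_151,tg_152,tg_153,tg_154,tg_155,tg_156,tg_157,tg_158,tg_159,tg_160,tg_161,tg_162,tg_163,tg_164,tg_165,tg_166,tg_167,tg_168,tg_169,tg_170,tg_171,tg_172,tg_173,tg_174,tg_175,tg_176,tg_177,tg_178,tg_179,tg_180,tg_181,tg_182,tg_183,tg_184,tg_185,tg_186,tg_187,tg_188,tg_189,tg_190,tg_191,tg_192,tg_193,tg_194,tg_195,tg_196,tg_197,tg_198,tg_199,tg_200,tg_201,tg_202,tg_203,tg_204,tg_205,tg_206,tg_207,tg_208,tg_209,tg_210,tg_211,tg_212,tg_213,tg_214,tg_215,tg_216,tg_217,tg_218,tg_219,tg_220,tg_221,tg_222,tg_223,tg_224,tg_225])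 = true :=
  rt_step ck_tg65 (by decide +kernel) rt_66

theorem rt_64 : C.runTargets tS_64 (tg_64 :: [tg_65,tg_66,tg_67,tg_68,tg_69,tg_70,tg_71,tg_72,tg_73,tg_74,tg_75,tg_76,tg_77,tg_78,tg_79,tg_80,tg_81,tg_82,tg_83,tg_84,tg_85,tg_86,tg_87,tg_88,tg_89,tg_90,tg_91,tg_92,tg_93,tg_94,tg_95,tg_96,tg_97,tg_98,tg_99,tg_100,tg_101,tg_102,tg_103,tg_104,tg_105,tg_106,tg_107,tg_108,tg_109,tg_110,tg_111,tg_112,tg_113,tg_114,tg_115,tg_116,tg_117,tg_118,tg_119,tg_120,tg_121,tg_122,tg_123,tg_124,tg_125,tg_126,tg_127,tg_128,tg_129,tg_130,tg_131,tg_132,tg_133,tg_134,tg_135,tg_136,tg_137,tg_138,tg_139,tg_140,tg_141,tg_142,tg_143,tg_144,tg_145,tg_146,tg_147,tg_148,tg_149,tg_150,tg_151,tg_152,tg_153,tg_154,tg_155,tg_156,tg_157,tg_158,tg_159,tg_160,tg_161,tg_162,tg_163,tg_164,tg_165,tg_166,tg_167,tg_168,tg_169,tg_170,tg_171,tg_172,tg_173,tg_174,tg_175,tg_176,tg_177,tg_178,tg_179,tg_180,tg_181,tg_182,tg_183,tg_184,tg_185,tg_186,tg_187,tg_188,tg_189,tg_190,tg_191,tg_192,tg_193,tg_194,tg_195,tg_196,tg_197,tg_198,tg_199,tg_200,tg_201,tg_202,tg_203,tg_204,tg_205,tg_206,tg_207,tg_208,tg_209,tg_210,tg_211,tg_212,tg_213,tg_214,tg_215,tg_216,tg_217,tg_218,tg_219,tg_220,tg_221,tg_222,tg_223,tg_224,tg_225])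 = true :=
  rt_step ck_tg64 (by decide +kernel) rt_65

theorem rt_63 : C.runTargets tS_63 (tg_63 :: [tg_64,tg_65,tg_66,tg_67,tg_68,tg_69,tg_70,tg_71,tg_72,tg_73,tg_74,tg_75,tg_76,tg_77,tg_78,tg_79,tg_80,tg_81,tg_82,tg_83,tg_84,tg_85,tg_86,tg_87,tg_88,tg_89,tg_90,tg_91,tg_92,tg_93,tg_94,tg_95,tg_96,tg_97,tg_98,tg_99,tg_100,tg_101,tg_102,tg_103,tg_104,tg_105,tg_106,tg_107,tg_108,tg_109,tg_110,tg_111,tg_112,tg_113,tg_114,tg_115,tg_116,tg_117,tg_118,tg_119,tg_120,tg_121,tg_122,tg_123,tg_124,tg_125,tg_126,tg_127,tg_128,tg_129,tg_130,tg_131,tg_132,tg_133,tg_134,tg_135,tg_136,tg_137,tg_138,tg_139,tg_140,tg_141,tg_142,tg_143,tg_144,tg_145,tg_146,tg_147,tg_148,tg_149,tg_150,tg_151,tg_152,tg_153,tg_154,tg_155,tg_156,tg_157,tg_158,tg_159,tg_160,tg_161,tg_162,tg_163,tg_164,tg_165,tg_166,tg_167,tg_168,tg_169,tg_170,tg_171,tg_172,tg_173,tg_174,tg_175,tg_176,tg_177,tg_178,tg_179,tg_180,tg_181,tg_182,tg_183,tg_184,tg_185,tg_186,tg_187,tg_188,tg_189,tg_190,tg_191,tg_192,tg_193,tg_194,tg_195,tg_196,tg_197,tg_198,tg_199,tg_200,tg_201,tg_202,tg_203,tg_204,tg_205,tg_206,tg_207,tg_208,tg_209,tg_210,tg_211,tg_212,tg_213,tg_214,tg_215,tg_216,tg_217,tg_218,tg_219,tg_220,tg_221,tg_222,tg_223,tg_224,tg_225])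 = true :=
  rt_step ck_tg63 (by decide +kernel) rt_64

theorem rt_62 : C.runTargets tS_62 (tg_62 :: [tg_63,tg_64,tg_65,tg_66,tg_67,tg_68,tg_69,tg_70,tg_71,tg_72,tg_73,tg_74,tg_75,tg_76,tg_77,tg_78,tg_79,tg_80,tg_81,tg_82,tg_83,tg_84,tg_85,tg_86,tg_87,tg_88,tg_89,tg_90,tg_91,tg_92,tg_93,tg_94,tg_95,tg_96,tg_97,tg_98,tg_99,tg_100,tg_101,tg_102,tg_103,tg_104,tg_105,tg_106,tg_107,tg_108,tg_109,tg_110,tg_111,tg_112,tg_113,tg_114,tg_115,tg_116,tg_117,tg_118,tg_119,tg_120,tg_121,tg_122,tg_123,tg_124,tg_125,tg_126,tg_127,tg_128,tg_129,tg_130,tg_131,tg_132,tg_133,tg_134,tg_135,tg_136,tg_137,tg_138,tg_139,tg_140,tg_141,tg_142,tg_143,tg_144,tg_145,tg_146,tg_147,tg_148,tg_149,tg_150,tg_151,tg_152,tg_153,tg_154,tg_155,tg_156,tg_157,tg_158,tg_159,tg_160,tg_161,tg_162,tg_163,tg_164,tg_165,tg_166,tg_167,tg_168,tg_169,tg_170,tg_171,tg_172,tg_173,tg_174,tg_175,tg_176,tg_177,tg_178,tg_179,tg_180,tg_181,tg_182,tg_183,tg_184,tg_185,tg_186,tg_187,tg_188,tg_189,tg_190,tg_191,tg_192,tg_193,tg_194,tg_195,tg_196,tg_197,tg_198,tg_199,tg_200,tg_201,tg_202,tg_203,tg_204,tg_205,tg_206,tg_207,tg_208,tg_209,tg_210,tg_211,tg_212,tg_213,tg_214,tg_215,tg_216,tg_217,tg_218,tg_219,tg_220,tg_221,tg_222,tg_223,tg_224,tg_225])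 = true :=
  rt_step ck_tg62 (by decide +kernel) rt_63

theorem rt_61 : C.runTargets tS_61 (tg_61 :: [tg_62,tg_63,tg_64,tg_65,tg_66,tg_67,tg_68,tg_69,tg_70,tg_71,tg_72,tg_73,tg_74,tg_75,tg_76,tg_77,tg_78,tg_79,tg_80,tg_81,tg_82,tg_83,tg_84,tg_85,tg_86,tg_87,tg_88,tg_89,tg_90,tg_91,tg_92,tg_93,tg_94,tg_95,tg_96,tg_97,tg_98,tg_99,tg_100,tg_101,tg_102,tg_103,tg_104,tg_105,tg_106,tg_107,tg_108,tg_109,tg_110,tg_111,tg_112,tg_113,tg_114,tg_115,tg_116,tg_117,tg_118,tg_119,tg_120,tg_121,tg_122,tg_123,tg_124,tg_125,tg_126,tg_127,tg_128,tg_129,tg_130,tg_131,tg_132,tg_133,tg_134,tg_135,tg_136,tg_137,tg_138,tg_139,tg_140,tg_141,tg_142,tg_143,tg_144,tg_145,tg_146,tg_147,tg_148,tg_149,tg_150,tg_151,tg_152,tg_153,tg_154,tg_155,tg_156,tg_157,tg_158,tg_159,tg_160,tg_161,tg_162,tg_163,tg_164,tg_165,tg_166,tg_167,tg_168,tg_169,tg_170,tg_171,tg_172,tg_173,tg_174,tg_175,tg_176,tg_177,tg_178,tg_179,tg_180,tg_181,tg_182,tg_183,tg_184,tg_185,tg_186,tg_187,tg_188,tg_189,tg_190,tg_191,tg_192,tg_193,tg_194,tg_195,tg_196,tg_197,tg_198,tg_199,tg_200,tg_201,tg_202,tg_203,tg_204,tg_205,tg_206,tg_207,tg_208,tg_209,tg_210,tg_211,tg_212,tg_213,tg_214,tg_215,tg_216,tg_217,tg_218,tg_219,tg_220,tg_221,tg_222,tg_223,tg_224,tg_225])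 = true :=
  rt_step ck_tg61 (by decide +kernel) rt_62

theorem rt_60 : C.runTargets tS_60 (tg_60 :: [tg_61,tg_62,tg_63,tg_64,tg_65,tg_66,tg_67,tg_68,tg_69,tg_70,tg_71,tg_72,tg_73,tg_74,tg_75,tg_76,tg_77,tg_78,tg_79,tg_80,tg_81,tg_82,tg_83,tg_84,tg_85,tg_86,tg_87,tg_88,tg_89,tg_90,tg_91,tg_92,tg_93,tg_94,tg_95,tg_96,tg_97,tg_98,tg_99,tg_100,tg_101,tg_102,tg_103,tg_104,tg_105,tg_106,tg_107,tg_108,tg_109,tg_110,tg_111,tg_112,tg_113,tg_114,tg_115,tg_116,tg_117,tg_118,tg_119,tg_120,tg_121,tg_122,tg_123,tg_124,tg_125,tg_126,tg_127,tg_128,tg_129,tg_130,tg_131,tg_132,tg_133,tg_134,tg_135,tg_136,tg_137,tg_138,tg_139,tg_140,tg_141,tg_142,tg_143,tg_144,tg_145,tg_146,tg_147,tg_148,tg_149,tg_150,tg_151,tg_152,tg_153,tg_154,tg_155,tg_156,tg_157,tg_158,tg_159,tg_160,tg_161,tg_162,tg_163,tg_164,tg_165,tg_166,tg_167,tg_168,tg_169,tg_170,tg_171,tg_172,tg_173,tg_174,tg_175,tg_176,tg_177,tg_178,tg_179,tg_180,tg_181,tg_182,tg_183,tg_184,tg_185,tg_186,tg_187,tg_188,tg_189,tg_190,tg_191,tg_192,tg_193,tg_194,tg_195,tg_196,tg_197,tg_198,tg_199,tg_200,tg_201,tg_202,tg_203,tg_204,tg_205,tg_206,tg_207,tg_208,tg_209,tg_210,tg_211,tg_212,tg_213,tg_214,tg_215,tg_216,tg_217,tg_218,tg_219,tg_220,tg_221,tg_222,tg_223,tg_224,tg_225])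 = true :=
  rt_step ck_tg60 (by decide +kernel) rt_61

theorem rt_59 : C.runTargets tS_59 (tg_59 :: [tg_60,tg_61,tg_62,tg_63,tg_64,tg_65,tg_66,tg_67,tg_68,tg_69,tg_70,tg_71,tg_72,tg_73,tg_74,tg_75,tg_76,tg_77,tg_78,tg_79,tg_80,tg_81,tg_82,tg_83,tg_84,tg_85,tg_86,tg_87,tg_88,tg_89,tg_90,tg_91,tg_92,tg_93,tg_94,tg_95,tg_96,tg_97,tg_98,tg_99,tg_100,tg_101,tg_102,tg_103,tg_104,tg_105,tg_106,tg_107,tg_108,tg_109,tg_110,tg_111,tg_112,tg_113,tg_114,tg_115,tg_116,tg_117,tg_118,tg_119,tg_120,tg_121,tg_122,tg_123,tg_124,tg_125,tg_126,tg_127,tg_128,tg_129,tg_130,tg_131,tg_132,tg_133,tg_134,tg_135,tg_136,tg_137,tg_138,tg_139,tg_140,tg_141,tg_142,tg_143,tg_144,tg_145,tg_146,tg_147,tg_148,tg_149,tg_150,tg_151,tg_152,tg_153,tg_154,tg_155,tg_156,tg_157,tg_158,tg_159,tg_160,tg_161,tg_162,tg_163,tg_164,tg_165,tg_166,tg_167,tg_168,tg_169,tg_170,tg_171,tg_172,tg_173,tg_174,tg_175,tg_176,tg_177,tg_178,tg_179,tg_180,tg_181,tg_182,tg_183,tg_184,tg_185,tg_186,tg_187,tg_188,tg_189,tg_190,tg_191,tg_192,tg_193,tg_194,tg_195,tg_196,tg_197,tg_198,tg_199,tg_200,tg_201,tg_202,tg_203,tg_204,tg_205,tg_206,tg_207,tg_208,tg_209,tg_210,tg_211,tg_212,tg_213,tg_214,tg_215,tg_216,tg_217,tg_218,tg_219,tg_220,tg_221,tg_222,tg_223,tg_224,tg_225])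 = true :=
  rt_step ck_tg59 (by decide +kernel) rt_60

theorem rt_58 : C.runTargets tS_58 (tg_58 :: [tg_59,tg_60,tg_61,tg_62,tg_63,tg_64,tg_65,tg_66,tg_67,tg_68,tg_69,tg_70,tg_71,tg_72,tg_73,tg_74,tg_75,tg_76,tg_77,tg_78,tg_79,tg_80,tg_81,tg_82,tg_83,tg_84,tg_85,tg_86,tg_87,tg_88,tg_89,tg_90,tg_91,tg_92,tg_93,tg_94,tg_95,tg_96,tg_97,tg_98,tg_99,tg_100,tg_101,tg_102,tg_103,tg_104,tg_105,tg_106,tg_107,tg_108,tg_109,tg_110,tg_111,tg_112,tg_113,tg_114,tg_115,tg_116,tg_117,tg_118,tg_119,tg_120,tg_121,tg_122,tg_123,tg_124,tg_125,tg_126,tg_127,tg_128,tg_129,tg_130,tg_131,tg_132,tg_133,tg_134,tg_135,tg_136,tg_137,tg_138,tg_139,tg_140,tg_141,tg_142,tg_143,tg_144,tg_145,tg_146,tg_147,tg_148,tg_149,tg_150,tg_151,tg_152,tg_153,tg_154,tg_155,tg_156,tg_157,tg_158,tg_159,tg_160,tg_161,tg_162,tg_163,tg_164,tg_165,tg_166,tg_167,tg_168,tg_169,tg_170,tg_171,tg_172,tg_173,tg_174,tg_175,tg_176,tg_177,tg_178,tg_179,tg_180,tg_181,tg_182,tg_183,tg_184,tg_185,tg_186,tg_187,tg_188,tg_189,tg_190,tg_191,tg_192,tg_193,tg_194,tg_195,tg_196,tg_197,tg_198,tg_199,tg_200,tg_201,tg_202,tg_203,tg_204,tg_205,tg_206,tg_207,tg_208,tg_209,tg_210,tg_211,tg_212,tg_213,tg_214,tg_215,tg_216,tg_217,tg_218,tg_219,tg_220,tg_221,tg_222,tg_223,tg_224,tg_225])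 = true :=
  rt_step ck_tg58 (by decide +kernel) rt_59

theorem rt_57 : C.runTargets tS_57 (tg_57 :: [tg_58,tg_59,tg_60,tg_61,tg_62,tg_63,tg_64,tg_65,tg_66,tg_67,tg_68,tg_69,tg_70,tg_71,tg_72,tg_73,tg_74,tg_75,tg_76,tg_77,tg_78,tg_79,tg_80,tg_81,tg_82,tg_83,tg_84,tg_85,tg_86,tg_87,tg_88,tg_89,tg_90,tg_91,tg_92,tg_93,tg_94,tg_95,tg_96,tg_97,tg_98,tg_99,tg_100,tg_101,tg_102,tg_103,tg_104,tg_105,tg_106,tg_107,tg_108,tg_109,tg_110,tg_111,tg_112,tg_113,tg_114,tg_115,tg_116,tg_117,tg_118,tg_119,tg_120,tg_121,tg_122,tg_123,tg_124,tg_125,tg_126,tg_127,tg_128,tg_129,tg_130,tg_131,tg_132,tg_133,tg_134,tg_135,tg_136,tg_137,tg_138,tg_139,tg_140,tg_141,tg_142,tg_143,tg_144,tg_145,tg_146,tg_147,tg_148,tg_149,tg_150,tg_151,tg_152,tg_153,tg_154,tg_155,tg_156,tg_157,tg_158,tg_159,tg_160,tg_161,tg_162,tg_163,tg_164,tg_165,tg_166,tg_167,tg_168,tg_169,tg_170,tg_171,tg_172,tg_173,tg_174,tg_175,tg_176,tg_177,tg_178,tg_179,tg_180,tg_181,tg_182,tg_183,tg_184,tg_185,tg_186,tg_187,tg_188,tg_189,tg_190,tg_191,tg_192,tg_193,tg_194,tg_195,tg_196,tg_197,tg_198,tg_199,tg_200,tg_201,tg_202,tg_203,tg_204,tg_205,tg_206,tg_207,tg_208,tg_209,tg_210,tg_211,tg_212,tg_213,tg_214,tg_215,tg_216,tg_217,tg_218,tg_219,tg_220,tg_221,tg_222,tg_223,tg_224,tg_225])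 = true :=
  rt_step ck_tg57 (by decide +kernel) rt_58

theorem rt_56 : C.runTargets tS_56 (tg_56 :: [tg_57,tg_58,tg_59,tg_60,tg_61,tg_62,tg_63,tg_64,tg_65,tg_66,tg_67,tg_68,tg_69,tg_70,tg_71,tg_72,tg_73,tg_74,tg_75,tg_76,tg_77,tg_78,tg_79,tg_80,tg_81,tg_82,tg_83,tg_84,tg_85,tg_86,tg_87,tg_88,tg_89,tg_90,tg_91,tg_92,tg_93,tg_94,tg_95,tg_96,tg_97,tg_98,tg_99,tg_100,tg_101,tg_102,tg_103,tg_104,tg_105,tg_106,tg_107,tg_108,tg_109,tg_110,tg_111,tg_112,tg_113,tg_114,tg_115,tg_116,tg_117,tg_118,tg_119,tg_120,tg_121,tg_122,tg_123,tg_124,tg_125,tg_126,tg_127,tg_128,tg_129,tg_130,tg_131,tg_132,tg_133,tg_134,tg_135,tg_136,tg_137,tg_138,tg_139,tg_140,tg_141,tg_142,tg_143,tg_144,tg_145,tg_146,tg_147,tg_148,tg_149,tg_150,tg_151,tg_152,tg_153,tg_154,tg_155,tg_156,tg_157,tg_158,tg_159,tg_160,tg_161,tg_162,tg_163,tg_164,tg_165,tg_166,tg_167,tg_168,tg_169,tg_170,tg_171,tg_172,tg_173,tg_174,tg_175,tg_176,tg_177,tg_178,tg_179,tg_180,tg_181,tg_182,tg_183,tg_184,tg_185,tg_186,tg_187,tg_188,tg_189,tg_190,tg_191,tg_192,tg_193,tg_194,tg_195,tg_196,tg_197,tg_198,tg_199,tg_200,tg_201,tg_202,tg_203,tg_204,tg_205,tg_206,tg_207,tg_208,tg_209,tg_210,tg_211,tg_212,tg_213,tg_214,tg_215,tg_216,tg_217,tg_218,tg_219,tg_220,tg_221,tg_222,tg_223,tg_224,tg_225])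 = true :=
  rt_step ck_tg56 (by decide +kernel) rt_57

theorem rt_55 : C.runTargets tS_55 (tg_55 :: [tg_56,tg_57,tg_58,tg_59,tg_60,tg_61,tg_62,tg_63,tg_64,tg_65,tg_66,tg_67,tg_68,tg_69,tg_70,tg_71,tg_72,tg_73,tg_74,tg_75,tg_76,tg_77,tg_78,tg_79,tg_80,tg_81,tg_82,tg_83,tg_84,tg_85,tg_86,tg_87,tg_88,tg_89,tg_90,tg_91,tg_92,tg_93,tg_94,tg_95,tg_96,tg_97,tg_98,tg_99,tg_100,tg_101,tg_102,tg_103,tg_104,tg_105,tg_106,tg_107,tg_108,tg_109,tg_110,tg_111,tg_112,tg_113,tg_114,tg_115,tg_116,tg_117,tg_118,tg_119,tg_120,tg_121,tg_122,tg_123,tg_124,tg_125,tg_126,tg_127,tg_128,tg_129,tg_130,tg_131,tg_132,tg_133,tg_134,tg_135,tg_136,tg_137,tg_138,tg_139,tg_140,tg_141,tg_142,tg_143,tg_144,tg_145,tg_146,tg_147,tg_148,tg_149,tg_150,tg_151,tg_152,tg_153,tg_154,tg_155,tg_156,tg_157,tg_158,tg_159,tg_160,tg_161,tg_162,tg_163,tg_164,tg_165,tg_166,tg_167,tg_168,tg_169,tg_170,tg_171,tg_172,tg_173,tg_174,tg_175,tg_176,tg_177,tg_178,tg_179,tg_180,tg_181,tg_182,tg_183,tg_184,tg_185,tg_186,tg_187,tg_188,tg_189,tg_190,tg_191,tg_192,tg_193,tg_194,tg_195,tg_196,tg_197,tg_198,tg_199,tg_200,tg_201,tg_202,tg_203,tg_204,tg_205,tg_206,tg_207,tg_208,tg_209,tg_210,tg_211,tg_212,tg_213,tg_214,tg_215,tg_216,tg_217,tg_218,tg_219,tg_220,tg_221,tg_222,tg_223,tg_224,tg_225])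 = true :=
  rt_step ck_tg55 (by decide +kernel) rt_56

theorem rt_54 : C.runTargets tS_54 (tg_54 :: [tg_55,tg_56,tg_57,tg_58,tg_59,tg_60,tg_61,tg_62,tg_63,tg_64,tg_65,tg_66,tg_67,tg_68,tg_69,tg_70,tg_71,tg_72,tg_73,tg_74,tg_75,tg_76,tg_77,tg_78,tg_79,tg_80,tg_81,tg_82,tg_83,tg_84,tg_85,tg_86,tg_87,tg_88,tg_89,tg_90,tg_91,tg_92,tg_93,tg_94,tg_95,tg_96,tg_97,tg_98,tg_99,tg_100,tg_101,tg_102,tg_103,tg_104,tg_105,tg_106,tg_107,tg_108,tg_109,tg_110,tg_111,tg_112,tg_113,tg_114,tg_115,tg_116,tg_117,tg_118,tg_119,tg_120,tg_121,tg_122,tg_123,tg_124,tg_125,tg_126,tg_127,tg_128,tg_129,tg_130,tg_131,tg_132,tg_133,tg_134,tg_135,tg_136,tg_137,tg_138,tg_139,tg_140,tg_141,tg_142,tg_143,tg_144,tg_145,tg_146,tg_147,tg_148,tg_149,tg_150,tg_151,tg_152,tg_153,tg_154,tg_155,tg_156,tg_157,tg_158,tg_159,tg_160,tg_161,tg_162,tg_163,tg_164,tg_165,tg_166,tg_167,tg_168,tg_169,tg_170,tg_171,tg_172,tg_173,tg_174,tg_175,tg_176,tg_177,tg_178,tg_179,tg_180,tg_181,tg_182,tg_183,tg_184,tg_185,tg_186,tg_187,tg_188,tg_189,tg_190,tg_191,tg_192,tg_193,tg_194,tg_195,tg_196,tg_197,tg_198,tg_199,tg_200,tg_201,tg_202,tg_203,tg_204,tg_205,tg_206,tg_207,tg_208,tg_209,tg_210,tg_211,tg_212,tg_213,tg_214,tg_215,tg_216,tg_217,tg_218,tg_219,tg_220,tg_221,tg_222,tg_223,tg_224,tg_225])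 = true :=
  rt_step ck_tg54 (by decide +kernel) rt_55

theorem rt_53 : C.runTargets tS_53 (tg_53 :: [tg_54,tg_55,tg_56,tg_57,tg_58,tg_59,tg_60,tg_61,tg_62,tg_63,tg_64,tg_65,tg_66,tg_67,tg_68,tg_69,tg_70,tg_71,tg_72,tg_73,tg_74,tg_75,tg_76,tg_77,tg_78,tg_79,tg_80,tg_81,tg_82,tg_83,tg_84,tg_85,tg_86,tg_87,tg_88,tg_89,tg_90,tg_91,tg_92,tg_93,tg_94,tg_95,tg_96,tg_97,tg_98,tg_99,tg_100,tg_101,tg_102,tg_103,tg_104,tg_105,tg_106,tg_107,tg_108,tg_109,tg_110,tg_111,tg_112,tg_113,tg_114,tg_115,tg_116,tg_117,tg_118,tg_119,tg_120,tg_121,tg_122,tg_123,tg_124,tg_125,tg_126,tg_127,tg_128,tg_129,tg_130,tg_131,tg_132,tg_133,tg_134,tg_135,tg_136,tg_137,tg_138,tg_139,tg_140,tg_141,tg_142,tg_143,tg_144,tg_145,tg_146,tg_147,tg_148,tg_149,tg_150,tg_151,tg_152,tg_153,tg_154,tg_155,tg_156,tg_157,tg_158,tg_159,tg_160,tg_161,tg_162,tg_163,tg_164,tg_165,tg_166,tg_167,tg_168,tg_169,tg_170,tg_171,tg_172,tg_173,tg_174,tg_175,tg_176,tg_177,tg_178,tg_179,tg_180,tg_181,tg_182,tg_183,tg_184,tg_185,tg_186,tg_187,tg_188,tg_189,tg_190,tg_191,tg_192,tg_193,tg_194,tg_195,tg_196,tg_197,tg_198,tg_199,tg_200,tg_201,tg_202,tg_203,tg_204,tg_205,tg_206,tg_207,tg_208,tg_209,tg_210,tg_211,tg_212,tg_213,tg_214,tg_215,tg_216,tg_217,tg_218,tg_219,tg_220,tg_221,tg_222,tg_223,tg_224,tg_225])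 = true :=
  rt_step ck_tg53 (by decide +kernel) rt_54

theorem rt_52 : C.runTargets tS_52 (tg_52 :: [tg_53,tg_54,tg_55,tg_56,tg_57,tg_58,tg_59,tg_60,tg_61,tg_62,tg_63,tg_64,tg_65,tg_66,tg_67,tg_68,tg_69,tg_70,tg_71,tg_72,tg_73,tg_74,tg_75,tg_76,tg_77,tg_78,tg_79,tg_80,tg_81,tg_82,tg_83,tg_84,tg_85,tg_86,tg_87,tg_88,tg_89,tg_90,tg_91,tg_92,tg_93,tg_94,tg_95,tg_96,tg_97,tg_98,tg_99,tg_100,tg_101,tg_102,tg_103,tg_104,tg_105,tg_106,tg_107,tg_108,tg_109,tg_110,tg_111,tg_112,tg_113,tg_114,tg_115,tg_116,tg_117,tg_118,tg_119,tg_120,tg_121,tg_122,tg_123,tg_124,tg_125,tg_126,tg_127,tg_128,tg_129,tg_130,tg_131,tg_132,tg_133,tg_134,tg_135,tg_136,tg_137,tg_138,tg_139,tg_140,tg_141,tg_142,tg_143,tg_144,tg_145,tg_146,tg_147,tg_148,tg_149,tg_150,tg_151,tg_152,tg_153,tg_154,tg_155,tg_156,tg_157,tg_158,tg_159,tg_160,tg_161,tg_162,tg_163,tg_164,t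g_165,tg_166,tg_167,tg_168,tg_169,tg_170,tg_171,tg_172,tg_173,tg_174,tg_175,tg_176,tg_177,tg_178,tg_179,tg_180,tg_181,tg_182,tg_183,tg_184,tg_185,tg_186,tg_187,tg_188,tg_189,tg_190,tg_191,tg_192,tg_193,tg_194,tg_195,tg_196,tg_197,tg_198,tg_199,tg_200,tg_201,tg_202,tg_203,tg_204,tg_205,tg_206,tg_207,tg_208,tg_209,tg_210,tg_211,tg_212,tg_213,tg_214,tg_215,tg_216,tg_217,tg_218,tg_219,tg_220,tg_221,tg_222,tg_223,tg_224,tg_225]) = true :=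
  rt_step ck_tg52 (by decide +kernel) rt_53

theorem rt_51 : C.runTargets tS_51 (tg_51 :: [tg_52,tg_53,tg_54,tg_55,tg_56,tg_57,tg_58,tg_59,tg_60,tg_61,tg_62,tg_63,tg_64,tg_65,tg_66,tg_67,tg_68,tg_69,tg_70,tg_71,tg_72,tg_73,tg_74,tg_75,tg_76,tg_77,tg_78,tg_79,tg_80,tg_81,tg_82,tg_83,tg_84,tg_85,tg_86,tg_87,tg_88,tg_89,tg_90,tg_91,tg_92,tg_93,tg_94,tg_95,tg_96,tg_97,tg_98,tg_99,tg_100,tg_101,tg_102,tg_103,tg_104,tg_105,tg_106,tg_107,tg_108,tg_109,tg_110,tg_111,tg_112,tg_113,tg_114,tg_115,tg_116,tg_117,tg_118,tg_119,tg_120,tg_121,tg_122,tg_123,tg_124,tg_125,tg_126,tg_127,tg_128,tg_129,tg_130,tg_131,tg_132,tg_133,tg_134,tg_135,tg_136,tg_137,tg_138,tg_139,tg_140,tg_141,tg_142,tg_143,tg_144,tg_145,tg_146,tg_147,tg_148,tg_149,tg_150,tg_151,tg_152,tg_153,tg_154,tg_155,tg_156,tg_157,tg_158,tg_159,tg_160,tg_161,tg_162,tg_163,tg_164,tg_16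5,tg_166,tg_167,tg_168,tg_169,tg_170,tg_171,tg_172,tg_173,tg_174,tg_175,tg_176,tg_177,tg_178,tg_179,tg_180,tg_181,tg_182,tg_183,tg_184,tg_185,tg_186,tg_187,tg_188,tg_189,tg_190,tg_191,tg_192,tg_193,tg_194,tg_195,tg_196,tg_197,tg_198,tg_199,tg_200,tg_201,tg_202,tg_203,tg_204,tg_205,tg_206,tg_207,tg_208,tg_209,tg_210,tg_211,tg_212,tg_213,tg_214,tg_215,tg_216,tg_217,tg_218,tg_219,tg_220,tg_221,tg_222,tg_223,tg_224,tg_225]) = true :=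
  rt_step ck_tg51 (by decide +kernel) rt_52

theorem rt_50 : C.runTargets tS_50 (tg_50 :: [tg_51,tg_52,tg_53,tg_54,tg_55,tg_56,tg_57,tg_58,tg_59,tg_60,tg_61,tg_62,tg_63,tg_64,tg_65,tg_66,tg_67,tg_68,tg_69,tg_70,tg_71,tg_72,tg_73,tg_74,tg_75,tg_76,tg_77,tg_78,tg_79,tg_80,tg_81,tg_82,tg_83,tg_84,tg_85,tg_86,tg_87,tg_88,tg_89,tg_90,tg_91,tg_92,tg_93,tg_94,tg_95,tg_96,tg_97,tg_98,tg_99,tg_100,tg_101,tg_102,tg_103,tg_104,tg_105,tg_106,tg_107,tg_108,tg_109,tg_110,tg_111,tg_112,tg_113,tg_114,tg_115,tg_116,tg_117,tg_118,tg_119,tg_120,tg_121,tg_122,tg_123,tg_124,tg_125,tg_126,tg_127,tg_128,tg_129,tg_130,tg_131,tg_132,tg_133,tg_134,tg_135,tg_136,tg_137,tg_138,tg_139,tg_140,tg_141,tg_142,tg_143,tg_144,tg_145,tg_146,tg_147,tg_148,tg_149,tg_150,tg_151,tg_152,tg_153,tg_154,tg_155,tg_156,tg_157,tg_158,tg_159,tg_160,tg_161,tg_162,tg_163,tg_164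,tg_165,tg_166,tg_167,tg_168,tg_169,tg_170,tg_171,tg_172,tg_173,tg_174,tg_175,tg_176,tg_177,tg_178,tg_179,tg_180,tg_181,tg_182,tg_183,tg_184,tg_185,tg_186,tg_187,tg_188,tg_189,tg_190,tg_191,tg_192,tg_193,tg_194,tg_195,tg_196,tg_197,tg_198,tg_199,tg_200,tg_201,tg_202,tg_203,tg_204,tg_205,tg_206,tg_207,tg_208,tg_209,tg_210,tg_211,tg_212,tg_213,tg_214,tg_215,tg_216,tg_217,tg_218,tg_219,tg_220,tg_221,tg_222,tg_223,tg_224,tg_225]) = true :=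
  rt_step ck_tg50 (by decide +kernel) rt_51

theorem rt_49 : C.runTargets tS_49 (tg_49 :: [tg_50,tg_51,tg_52,tg_53,tg_54,tg_55,tg_56,tg_57,tg_58,tg_59,tg_60,tg_61,tg_62,tg_63,tg_64,tg_65,tg_66,tg_67,tg_68,tg_69,tg_70,tg_71,tg_72,tg_73,tg_74,tg_75,tg_76,tg_77,tg_78,tg_79,tg_80,tg_81,tg_82,tg_83,tg_84,tg_85,tg_86,tg_87,tg_88,tg_89,tg_90,tg_91,tg_92,tg_93,tg_94,tg_95,tg_96,tg_97,tg_98,tg_99,tg_100,tg_101,tg_102,tg_103,tg_104,tg_105,tg_106,tg_107,tg_108,tg_109,tg_110,tg_111,tg_112,tg_113,tg_114,tg_115,tg_116,tg_117,tg_118,tg_119,tg_120,tg_121,tg_122,tg_123,tg_124,tg_125,tg_126,tg_127,tg_128,tg_129,tg_130,tg_131,tg_132,tg_133,tg_134,tg_135,tg_136,tg_137,tg_138,tg_139,tg_140,tg_141,tg_142,tg_143,tg_144,tg_145,tg_146,tg_147,tg_148,tg_149,tg_150,tg_151,tg_152,tg_153,tg_154,tg_155,tg_156,tg_157,tg_158,tg_159,tg_160,tg_161,tg_162,tg_163,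tg_164,tg_165,tg_166,tg_167,tg_168,tg_169,tg_170,tg_171,tg_172,tg_173,tg_174,tg_175,tg_176,tg_177,tg_178,tg_179,tg_180,tg_181,tg_182,tg_183,tg_184,tg_185,tg_186,tg_187,tg_188,tg_189,tg_190,tg_191,tg_192,tg_193,tg_194,tg_195,tg_196,tg_197,tg_198,tg_199,tg_200,tg_201,tg_202,tg_203,tg_204,tg_205,tg_206,tg_207,tg_208,tg_209,tg_210,tg_211,tg_212,tg_213,tg_214,tg_215,tg_216,tg_217,tg_218,tg_219,tg_220,tg_221,tg_222,tg_223,tg_224,tg_225]) = true :=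
  rt_step ck_tg49 (by decide +kernel) rt_50

theorem rt_48 : C.runTargets tS_48 (tg_48 :: [tg_49,tg_50,tg_51,tg_52,tg_53,tg_54,tg_55,tg_56,tg_57,tg_58,tg_59,tg_60,tg_61,tg_62,tg_63,tg_64,tg_65,tg_66,tg_67,tg_68,tg_69,tg_70,tg_71,tg_72,tg_73,tg_74,tg_75,tg_76,tg_77,tg_78,tg_79,tg_80,tg_81,tg_82,tg_83,tg_84,tg_85,tg_86,tg_87,tg_88,tg_89,tg_90,tg_91,tg_92,tg_93,tg_94,tg_95,tg_96,tg_97,tg_98,tg_99,tg_100,tg_101,tg_102,tg_103,tg_104,tg_105,tg_106,tg_107,tg_108,tg_109,tg_110,tg_111,tg_112,tg_113,tg_114,tg_115,tg_116,tg_117,tg_118,tg_119,tg_120,tg_121,tg_122,tg_123,tg_124,tg_125,tg_126,tg_127,tg_128,tg_129,tg_130,tg_131,tg_132,tg_133,tg_134,tg_135,tg_136,tg_137,tg_138,tg_139,tg_140,tg_141,tg_142,tg_143,tg_144,tg_145,tg_146,tg_147,tg_148,tg_149,tg_150,tg_151,tg_152,tg_153,tg_154,tg_155,tg_156,tg_157,tg_158,tg_159,tg_160,tg_161,tg_162,t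g_163,tg_164,tg_165,tg_166,tg_167,tg_168,tg_169,tg_170,tg_171,tg_172,tg_173,tg_174,tg_175,tg_176,tg_177,tg_178,tg_179,tg_180,tg_181,tg_182,tg_183,tg_184,tg_185,tg_186,tg_187,tg_188,tg_189,tg_190,tg_191,tg_192,tg_193,tg_194,tg_195,tg_196,tg_197,tg_198,tg_199,tg_200,tg_201,tg_202,tg_203,tg_204,tg_205,tg_206,tg_207,tg_208,tg_209,tg_210,tg_211,tg_212,tg_213,tg_214,tg_215,tg_216,tg_217,tg_218,tg_219,tg_220,tg_221,tg_222,tg_223,tg_224,tg_225]) = true :=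
  rt_step ck_tg48 (by decide +kernel) rt_49

theorem rt_47 : C.runTargets tS_47 (tg_47 :: [tg_48,tg_49,tg_50,tg_51,tg_52,tg_53,tg_54,tg_55,tg_56,tg_57,tg_58,tg_59,tg_60,tg_61,tg_62,tg_63,tg_64,tg_65,tg_66,tg_67,tg_68,tg_69,tg_70,tg_71,tg_72,tg_73,tg_74,tg_75,tg_76,tg_77,tg_78,tg_79,tg_80,tg_81,tg_82,tg_83,tg_84,tg_85,tg_86,tg_87,tg_88,tg_89,tg_90,tg_91,tg_92,tg_93,tg_94,tg_95,tg_96,tg_97,tg_98,tg_99,tg_100,tg_101,tg_102,tg_103,tg_104,tg_105,tg_106,tg_107,tg_108,tg_109,tg_110,tg_111,tg_112,tg_113,tg_114,tg_115,tg_116,tg_117,tg_118,tg_119,tg_120,tg_121,tg_122,tg_123,tg_124,tg_125,tg_126,tg_127,tg_128,tg_129,tg_130,tg_131,tg_132,tg_133,tg_134,tg_135,tg_136,tg_137,tg_138,tg_139,tg_140,tg_141,tg_142,tg_143,tg_144,tg_145,tg_146,tg_147,tg_148,tg_149,tg_150,tg_151,tg_152,tg_153,tg_154,tg_155,tg_156,tg_157,tg_158,tg_159,tg_160,tg_161,tg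_162,tg_163,tg_164,tg_165,tg_166,tg_167,tg_168,tg_169,tg_170,tg_171,tg_172,tg_173,tg_174,tg_175,tg_176,tg_177,tg_178,tg_179,tg_180,tg_181,tg_182,tg_183,tg_184,tg_185,tg_186,tg_187,tg_188,tg_189,tg_190,tg_191,tg_192,tg_193,tg_194,tg_195,tg_196,tg_197,tg_198,tg_199,tg_200,tg_201,tg_202,tg_203,tg_204,tg_205,tg_206,tg_207,tg_208,tg_209,tg_210,tg_211,tg_212,tg_213,tg_214,tg_215,tg_216,tg_217,tg_218,tg_219,tg_220,tg_221,tg_222,tg_223,tg_224,tg_225]) = true :=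
  rt_step ck_tg47 (by decide +kernel) rt_48

theorem rt_46 : C.runTargets tS_46 (tg_46 :: [tg_47,tg_48,tg_49,tg_50,tg_51,tg_52,tg_53,tg_54,tg_55,tg_56,tg_57,tg_58,tg_59,tg_60,tg_61,tg_62,tg_63,tg_64,tg_65,tg_66,tg_67,tg_68,tg_69,tg_70,tg_71,tg_72,tg_73,tg_74,tg_75,tg_76,tg_77,tg_78,tg_79,tg_80,tg_81,tg_82,tg_83,tg_84,tg_85,tg_86,tg_87,tg_88,tg_89,tg_90,tg_91,tg_92,tg_93,tg_94,tg_95,tg_96,tg_97,tg_98,tg_99,tg_100,tg_101,tg_102,tg_103,tg_104,tg_105,tg_106,tg_107,tg_108,tg_109,tg_110,tg_111,tg_112,tg_113,tg_114,tg_115,tg_116,tg_117,tg_118,tg_119,tg_120,tg_121,tg_122,tg_123,tg_124,tg_125,tg_126,tg_127,tg_128,tg_129,tg_130,tg_131,tg_132,tg_133,tg_134,tg_135,tg_136,tg_137,tg_138,tg_139,tg_140,tg_141,tg_142,tg_143,tg_144,tg_145,tg_146,tg_147,tg_148,tg_149,tg_150,tg_151,tg_152,tg_153,tg_154,tg_155,tg_156,tg_157,tg_158,tg_159,tg_160,tg_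161,tg_162,tg_163,tg_164,tg_165,tg_166,tg_167,tg_168,tg_169,tg_170,tg_171,tg_172,tg_173,tg_174,tg_175,tg_176,tg_177,tg_178,tg_179,tg_180,tg_181,tg_182,tg_183,tg_184,tg_185,tg_186,tg_187,tg_188,tg_189,tg_190,tg_191,tg_192,tg_193,tg_194,tg_195,tg_196,tg_197,tg_198,tg_199,tg_200,tg_201,tg_202,tg_203,tg_204,tg_205,tg_206,tg_207,tg_208,tg_209,tg_210,tg_211,tg_212,tg_213,tg_214,tg_215,tg_216,tg_217,tg_218,tg_219,tg_220,tg_221,tg_222,tg_223,tg_224,tg_225]) = true :=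
  rt_step ck_tg46 (by decide +kernel) rt_47

theorem rt_45 : C.runTargets tS_45 (tg_45 :: [tg_46,tg_47,tg_48,tg_49,tg_50,tg_51,tg_52,tg_53,tg_54,tg_55,tg_56,tg_57,tg_58,tg_59,tg_60,tg_61,tg_62,tg_63,tg_64,tg_65,tg_66,tg_67,tg_68,tg_69,tg_70,tg_71,tg_72,tg_73,tg_74,tg_75,tg_76,tg_77,tg_78,tg_79,tg_80,tg_81,tg_82,tg_83,tg_84,tg_85,tg_86,tg_87,tg_88,tg_89,tg_90,tg_91,tg_92,tg_93,tg_94,tg_95,tg_96,tg_97,tg_98,tg_99,tg_100,tg_101,tg_102,tg_103,tg_104,tg_105,tg_106,tg_107,tg_108,tg_109,tg_110,tg_111,tg_112,tg_113,tg_114,tg_115,tg_116,tg_117,tg_118,tg_119,tg_120,tg_121,tg_122,tg_123,tg_124,tg_125,tg_126,tg_127,tg_128,tg_129,tg_130,tg_131,tg_132,tg_133,tg_134,tg_135,tg_136,tg_137,tg_138,tg_139,tg_140,tg_141,tg_142,tg_143,tg_144,tg_145,tg_146,tg_147,tg_148,tg_149,tg_150,tg_151,tg_152,tg_153,tg_154,tg_155,tg_156,tg_157,tg_158,tg_159,tg_1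60,tg_161,tg_162,tg_163,tg_164,tg_165,tg_166,tg_167,tg_168,tg_169,tg_170,tg_171,tg_172,tg_173,tg_174,tg_175,tg_176,tg_177,tg_178,tg_179,tg_180,tg_181,tg_182,tg_183,tg_184,tg_185,tg_186,tg_187,tg_188,tg_189,tg_190,tg_191,tg_192,tg_193,tg_194,tg_195,tg_196,tg_197,tg_198,tg_199,tg_200,tg_201,tg_202,tg_203,tg_204,tg_205,tg_206,tg_207,tg_208,tg_209,tg_210,tg_211,tg_212,tg_213,tg_214,tg_215,tg_216,tg_217,tg_218,tg_219,tg_220,tg_221,tg_222,tg_223,tg_224,tg_225]) = true :=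
  rt_step ck_tg45 (by decide +kernel) rt_46

theorem rt_44 : C.runTargets tS_44 (tg_44 :: [tg_45,tg_46,tg_47,tg_48,tg_49,tg_50,tg_51,tg_52,tg_53,tg_54,tg_55,tg_56,tg_57,tg_58,tg_59,tg_60,tg_61,tg_62,tg_63,tg_64,tg_65,tg_66,tg_67,tg_68,tg_69,tg_70,tg_71,tg_72,tg_73,tg_74,tg_75,tg_76,tg_77,tg_78,tg_79,tg_80,tg_81,tg_82,tg_83,tg_84,tg_85,tg_86,tg_87,tg_88,tg_89,tg_90,tg_91,tg_92,tg_93,tg_94,tg_95,tg_96,tg_97,tg_98,tg_99,tg_100,tg_101,tg_102,tg_103,tg_104,tg_105,tg_106,tg_107,tg_108,tg_109,tg_110,tg_111,tg_112,tg_113,tg_114,tg_115,tg_116,tg_117,tg_118,tg_119,tg_120,tg_121,tg_122,tg_123,tg_124,tg_125,tg_126,tg_127,tg_128,tg_129,tg_130,tg_131,tg_132,tg_133,tg_134,tg_135,tg_136,tg_137,tg_138,tg_139,tg_140,tg_141,tg_142,tg_143,tg_144,tg_145,tg_146,tg_147,tg_148,tg_149,tg_150,tg_151,tg_152,tg_153,tg_154,tg_155,tg_156,tg_157,tg_158,tg_15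9,tg_160,tg_161,tg_162,tg_163,tg_164,tg_165,tg_166,tg_167,tg_168,tg_169,tg_170,tg_171,tg_172,tg_173,tg_174,tg_175,tg_176,tg_177,tg_178,tg_179,tg_180,tg_181,tg_182,tg_183,tg_184,tg_185,tg_186,tg_187,tg_188,tg_189,tg_190,tg_191,tg_192,tg_193,tg_194,tg_195,tg_196,tg_197,tg_198,tg_199,tg_200,tg_201,tg_202,tg_203,tg_204,tg_205,tg_206,tg_207,tg_208,tg_209,tg_210,tg_211,tg_212,tg_213,tg_214,tg_215,tg_216,tg_217,tg_218,tg_219,tg_220,tg_221,tg_222,tg_223,tg_224,tg_225]) = true :=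
  rt_step ck_tg44 (by decide +kernel) rt_45

theorem rt_43 : C.runTargets tS_43 (tg_43 :: [tg_44,tg_45,tg_46,tg_47,tg_48,tg_49,tg_50,tg_51,tg_52,tg_53,tg_54,tg_55,tg_56,tg_57,tg_58,tg_59,tg_60,tg_61,tg_62,tg_63,tg_64,tg_65,tg_66,tg_67,tg_68,tg_69,tg_70,tg_71,tg_72,tg_73,tg_74,tg_75,tg_76,tg_77,tg_78,tg_79,tg_80,tg_81,tg_82,tg_83,tg_84,tg_85,tg_86,tg_87,tg_88,tg_89,tg_90,tg_91,tg_92,tg_93,tg_94,tg_95,tg_96,tg_97,tg_98,tg_99,tg_100,tg_101,tg_102,tg_103,tg_104,tg_105,tg_106,tg_107,tg_108,tg_109,tg_110,tg_111,tg_112,tg_113,tg_114,tg_115,tg_116,tg_117,tg_118,tg_119,tg_120,tg_121,tg_122,tg_123,tg_124,tg_125,tg_126,tg_127,tg_128,tg_129,tg_130,tg_131,tg_132,tg_133,tg_134,tg_135,tg_136,tg_137,tg_138,tg_139,tg_140,tg_141,tg_142,tg_143,tg_144,tg_145,tg_146,tg_147,tg_148,tg_149,tg_150,tg_151,tg_152,tg_153,tg_154,tg_155,tg_156,tg_157,tg_158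,tg_159,tg_160,tg_161,tg_162,tg_163,tg_164,tg_165,tg_166,tg_167,tg_168,tg_169,tg_170,tg_171,tg_172,tg_173,tg_174,tg_175,tg_176,tg_177,tg_178,tg_179,tg_180,tg_181,tg_182,tg_183,tg_184,tg_185,tg_186,tg_187,tg_188,tg_189,tg_190,tg_191,tg_192,tg_193,tg_194,tg_195,tg_196,tg_197,tg_198,tg_199,tg_200,tg_201,tg_202,tg_203,tg_204,tg_205,tg_206,tg_207,tg_208,tg_209,tg_210,tg_211,tg_212,tg_213,tg_214,tg_215,tg_216,tg_217,tg_218,tg_219,tg_220,tg_221,tg_222,tg_223,tg_224,tg_225]) = true :=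
  rt_step ck_tg43 (by decide +kernel) rt_44

theorem rt_42 : C.runTargets tS_42 (tg_42 :: [tg_43,tg_44,tg_45,tg_46,tg_47,tg_48,tg_49,tg_50,tg_51,tg_52,tg_53,tg_54,tg_55,tg_56,tg_57,tg_58,tg_59,tg_60,tg_61,tg_62,tg_63,tg_64,tg_65,tg_66,tg_67,tg_68,tg_69,tg_70,tg_71,tg_72,tg_73,tg_74,tg_75,tg_76,tg_77,tg_78,tg_79,tg_80,tg_81,tg_82,tg_83,tg_84,tg_85,tg_86,tg_87,tg_88,tg_89,tg_90,tg_91,tg_92,tg_93,tg_94,tg_95,tg_96,tg_97,tg_98,tg_99,tg_100,tg_101,tg_102,tg_103,tg_104,tg_105,tg_106,tg_107,tg_108,tg_109,tg_110,tg_111,tg_112,tg_113,tg_114,tg_115,tg_116,tg_117,tg_118,tg_119,tg_120,tg_121,tg_122,tg_123,tg_124,tg_125,tg_126,tg_127,tg_128,tg_129,tg_130,tg_131,tg_132,tg_133,tg_134,tg_135,tg_136,tg_137,tg_138,tg_139,tg_140,tg_141,tg_142,tg_143,tg_144,tg_145,tg_146,tg_147,tg_148,tg_149,tg_150,tg_151,tg_152,tg_153,tg_154,tg_155,tg_156,tg_157,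tg_158,tg_159,tg_160,tg_161,tg_162,tg_163,tg_164,tg_165,tg_166,tg_167,tg_168,tg_169,tg_170,tg_171,tg_172,tg_173,tg_174,tg_175,tg_176,tg_177,tg_178,tg_179,tg_180,tg_181,tg_182,tg_183,tg_184,tg_185,tg_186,tg_187,tg_188,tg_189,tg_190,tg_191,tg_192,tg_193,tg_194,tg_195,tg_196,tg_197,tg_198,tg_199,tg_200,tg_201,tg_202,tg_203,tg_204,tg_205,tg_206,tg_207,tg_208,tg_209,tg_210,tg_211,tg_212,tg_213,tg_214,tg_215,tg_216,tg_217,tg_218,tg_219,tg_220,tg_221,tg_222,tg_223,tg_224,tg_225]) = true :=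
  rt_step ck_tg42 (by decide +kernel) rt_43

theorem rt_41 : C.runTargets tS_41 (tg_41 :: [tg_42,tg_43,tg_44,tg_45,tg_46,tg_47,tg_48,tg_49,tg_50,tg_51,tg_52,tg_53,tg_54,tg_55,tg_56,tg_57,tg_58,tg_59,tg_60,tg_61,tg_62,tg_63,tg_64,tg_65,tg_66,tg_67,tg_68,tg_69,tg_70,tg_71,tg_72,tg_73,tg_74,tg_75,tg_76,tg_77,tg_78,tg_79,tg_80,tg_81,tg_82,tg_83,tg_84,tg_85,tg_86,tg_87,tg_88,tg_89,tg_90,tg_91,tg_92,tg_93,tg_94,tg_95,tg_96,tg_97,tg_98,tg_99,tg_100,tg_101,tg_102,tg_103,tg_104,tg_105,tg_106,tg_107,tg_108,tg_109,tg_110,tg_111,tg_112,tg_113,tg_114,tg_115,tg_116,tg_117,tg_118,tg_119,tg_120,tg_121,tg_122,tg_123,tg_124,tg_125,tg_126,tg_127,tg_128,tg_129,tg_130,tg_131,tg_132,tg_133,tg_134,tg_135,tg_136,tg_137,tg_138,tg_139,tg_140,tg_141,tg_142,tg_143,tg_144,tg_145,tg_146,tg_147,tg_148,tg_149,tg_150,tg_151,tg_152,tg_153,tg_154,tg_155,tg_156,t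g_157,tg_158,tg_159,tg_160,tg_161,tg_162,tg_163,tg_164,tg_165,tg_166,tg_167,tg_168,tg_169,tg_170,tg_171,tg_172,tg_173,tg_174,tg_175,tg_176,tg_177,tg_178,tg_179,tg_180,tg_181,tg_182,tg_183,tg_184,tg_185,tg_186,tg_187,tg_188,tg_189,tg_190,tg_191,tg_192,tg_193,tg_194,tg_195,tg_196,tg_197,tg_198,tg_199,tg_200,tg_201,tg_202,tg_203,tg_204,tg_205,tg_206,tg_207,tg_208,tg_209,tg_210,tg_211,tg_212,tg_213,tg_214,tg_215,tg_216,tg_217,tg_218,tg_219,tg_220,tg_221,tg_222,tg_223,tg_224,tg_225]) = true :=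
  rt_step ck_tg41 (by decide +kernel) rt_42

theorem rt_40 : C.runTargets tS_40 (tg_40 :: [tg_41,tg_42,tg_43,tg_44,tg_45,tg_46,tg_47,tg_48,tg_49,tg_50,tg_51,tg_52,tg_53,tg_54,tg_55,tg_56,tg_57,tg_58,tg_59,tg_60,tg_61,tg_62,tg_63,tg_64,tg_65,tg_66,tg_67,tg_68,tg_69,tg_70,tg_71,tg_72,tg_73,tg_74,tg_75,tg_76,tg_77,tg_78,tg_79,tg_80,tg_81,tg_82,tg_83,tg_84,tg_85,tg_86,tg_87,tg_88,tg_89,tg_90,tg_91,tg_92,tg_93,tg_94,tg_95,tg_96,tg_97,tg_98,tg_99,tg_100,tg_101,tg_102,tg_103,tg_104,tg_105,tg_106,tg_107,tg_108,tg_109,tg_110,tg_111,tg_112,tg_113,tg_114,tg_115,tg_116,tg_117,tg_118,tg_119,tg_120,tg_121,tg_122,tg_123,tg_124,tg_125,tg_126,tg_127,tg_128,tg_129,tg_130,tg_131,tg_132,tg_133,tg_134,tg_135,tg_136,tg_137,tg_138,tg_139,tg_140,tg_141,tg_142,tg_143,tg_144,tg_145,tg_146,tg_147,tg_148,tg_149,tg_150,tg_151,tg_152,tg_153,tg_154,tg_155,tg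_156,tg_157,tg_158,tg_159,tg_160,tg_161,tg_162,tg_163,tg_164,tg_165,tg_166,tg_167,tg_168,tg_169,tg_170,tg_171,tg_172,tg_173,tg_174,tg_175,tg_176,tg_177,tg_178,tg_179,tg_180,tg_181,tg_182,tg_183,tg_184,tg_185,tg_186,tg_187,tg_188,tg_189,tg_190,tg_191,tg_192,tg_193,tg_194,tg_195,tg_196,tg_197,tg_198,tg_199,tg_200,tg_201,tg_202,tg_203,tg_204,tg_205,tg_206,tg_207,tg_208,tg_209,tg_210,tg_211,tg_212,tg_213,tg_214,tg_215,tg_216,tg_217,tg_218,tg_219,tg_220,tg_221,tg_222,tg_223,tg_224,tg_225]) = true :=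
  rt_step ck_tg40 (by decide +kernel) rt_41

theorem rt_39 : C.runTargets tS_39 (tg_39 :: [tg_40,tg_41,tg_42,tg_43,tg_44,tg_45,tg_46,tg_47,tg_48,tg_49,tg_50,tg_51,tg_52,tg_53,tg_54,tg_55,tg_56,tg_57,tg_58,tg_59,tg_60,tg_61,tg_62,tg_63,tg_64,tg_65,tg_66,tg_67,tg_68,tg_69,tg_70,tg_71,tg_72,tg_73,tg_74,tg_75,tg_76,tg_77,tg_78,tg_79,tg_80,tg_81,tg_82,tg_83,tg_84,tg_85,tg_86,tg_87,tg_88,tg_89,tg_90,tg_91,tg_92,tg_93,tg_94,tg_95,tg_96,tg_97,tg_98,tg_99,tg_100,tg_101,tg_102,tg_103,tg_104,tg_105,tg_106,tg_107,tg_108,tg_109,tg_110,tg_111,tg_112,tg_113,tg_114,tg_115,tg_116,tg_117,tg_118,tg_119,tg_120,tg_121,tg_122,tg_123,tg_124,tg_125,tg_126,tg_127,tg_128,tg_129,tg_130,tg_131,tg_132,tg_133,tg_134,tg_135,tg_136,tg_137,tg_138,tg_139,tg_140,tg_141,tg_142,tg_143,tg_144,tg_145,tg_146,tg_147,tg_148,tg_149,tg_150,tg_151,tg_152,tg_153,tg_154,tg_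155,tg_156,tg_157,tg_158,tg_159,tg_160,tg_161,tg_162,tg_163,tg_164,tg_165,tg_166,tg_167,tg_168,tg_169,tg_170,tg_171,tg_172,tg_173,tg_174,tg_175,tg_176,tg_177,tg_178,tg_179,tg_180,tg_181,tg_182,tg_183,tg_184,tg_185,tg_186,tg_187,tg_188,tg_189,tg_190,tg_191,tg_192,tg_193,tg_194,tg_195,tg_196,tg_197,tg_198,tg_199,tg_200,tg_201,tg_202,tg_203,tg_204,tg_205,tg_206,tg_207,tg_208,tg_209,tg_210,tg_211,tg_212,tg_213,tg_214,tg_215,tg_216,tg_217,tg_218,tg_219,tg_220,tg_221,tg_222,tg_223,tg_224,tg_225]) = true :=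
  rt_step ck_tg39 (by decide +kernel) rt_40

theorem rt_38 : C.runTargets tS_38 (tg_38 :: [tg_39,tg_40,tg_41,tg_42,tg_43,tg_44,tg_45,tg_46,tg_47,tg_48,tg_49,tg_50,tg_51,tg_52,tg_53,tg_54,tg_55,tg_56,tg_57,tg_58,tg_59,tg_60,tg_61,tg_62,tg_63,tg_64,tg_65,tg_66,tg_67,tg_68,tg_69,tg_70,tg_71,tg_72,tg_73,tg_74,tg_75,tg_76,tg_77,tg_78,tg_79,tg_80,tg_81,tg_82,tg_83,tg_84,tg_85,tg_86,tg_87,tg_88,tg_89,tg_90,tg_91,tg_92,tg_93,tg_94,tg_95,tg_96,tg_97,tg_98,tg_99,tg_100,tg_101,tg_102,tg_103,tg_104,tg_105,tg_106,tg_107,tg_108,tg_109,tg_110,tg_111,tg_112,tg_113,tg_114,tg_115,tg_116,tg_117,tg_118,tg_119,tg_120,tg_121,tg_122,tg_123,tg_124,tg_125,tg_126,tg_127,tg_128,tg_129,tg_130,tg_131,tg_132,tg_133,tg_134,tg_135,tg_136,tg_137,tg_138,tg_139,tg_140,tg_141,tg_142,tg_143,tg_144,tg_145,tg_146,tg_147,tg_148,tg_149,tg_150,tg_151,tg_152,tg_153,tg_1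54,tg_155,tg_156,tg_157,tg_158,tg_159,tg_160,tg_161,tg_162,tg_163,tg_164,tg_165,tg_166,tg_167,tg_168,tg_169,tg_170,tg_171,tg_172,tg_173,tg_174,tg_175,tg_176,tg_177,tg_178,tg_179,tg_180,tg_181,tg_182,tg_183,tg_184,tg_185,tg_186,tg_187,tg_188,tg_189,tg_190,tg_191,tg_192,tg_193,tg_194,tg_195,tg_196,tg_197,tg_198,tg_199,tg_200,tg_201,tg_202,tg_203,tg_204,tg_205,tg_206,tg_207,tg_208,tg_209,tg_210,tg_211,tg_212,tg_213,tg_214,tg_215,tg_216,tg_217,tg_218,tg_219,tg_220,tg_221,tg_222,tg_223,tg_224,tg_225]) = true :=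
  rt_step ck_tg38 (by decide +kernel) rt_39

theorem rt_37 : C.runTargets tS_37 (tg_37 :: [tg_38,tg_39,tg_40,tg_41,tg_42,tg_43,tg_44,tg_45,tg_46,tg_47,tg_48,tg_49,tg_50,tg_51,tg_52,tg_53,tg_54,tg_55,tg_56,tg_57,tg_58,tg_59,tg_60,tg_61,tg_62,tg_63,tg_64,tg_65,tg_66,tg_67,tg_68,tg_69,tg_70,tg_71,tg_72,tg_73,tg_74,tg_75,tg_76,tg_77,tg_78,tg_79,tg_80,tg_81,tg_82,tg_83,tg_84,tg_85,tg_86,tg_87,tg_88,tg_89,tg_90,tg_91,tg_92,tg_93,tg_94,tg_95,tg_96,tg_97,tg_98,tg_99,tg_100,tg_101,tg_102,tg_103,tg_104,tg_105,tg_106,tg_107,tg_108,tg_109,tg_110,tg_111,tg_112,tg_113,tg_114,tg_115,tg_116,tg_117,tg_118,tg_119,tg_120,tg_121,tg_122,tg_123,tg_124,tg_125,tg_126,tg_127,tg_128,tg_129,tg_130,tg_131,tg_132,tg_133,tg_134,tg_135,tg_136,tg_137,tg_138,tg_139,tg_140,tg_141,tg_142,tg_143,tg_144,tg_145,tg_146,tg_147,tg_148,tg_149,tg_150,tg_151,tg_152,tg_15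3,tg_154,tg_155,tg_156,tg_157,tg_158,tg_159,tg_160,tg_161,tg_162,tg_163,tg_164,tg_165,tg_166,tg_167,tg_168,tg_169,tg_170,tg_171,tg_172,tg_173,tg_174,tg_175,tg_176,tg_177,tg_178,tg_179,tg_180,tg_181,tg_182,tg_183,tg_184,tg_185,tg_186,tg_187,tg_188,tg_189,tg_190,tg_191,tg_192,tg_193,tg_194,tg_195,tg_196,tg_197,tg_198,tg_199,tg_200,tg_201,tg_202,tg_203,tg_204,tg_205,tg_206,tg_207,tg_208,tg_209,tg_210,tg_211,tg_212,tg_213,tg_214,tg_215,tg_216,tg_217,tg_218,tg_219,tg_220,tg_221,tg_222,tg_223,tg_224,tg_225]) = true :=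
  rt_step ck_tg37 (by decide +kernel) rt_38

theorem rt_36 : C.runTargets tS_36 (tg_36 :: [tg_37,tg_38,tg_39,tg_40,tg_41,tg_42,tg_43,tg_44,tg_45,tg_46,tg_47,tg_48,tg_49,tg_50,tg_51,tg_52,tg_53,tg_54,tg_55,tg_56,tg_57,tg_58,tg_59,tg_60,tg_61,tg_62,tg_63,tg_64,tg_65,tg_66,tg_67,tg_68,tg_69,tg_70,tg_71,tg_72,tg_73,tg_74,tg_75,tg_76,tg_77,tg_78,tg_79,tg_80,tg_81,tg_82,tg_83,tg_84,tg_85,tg_86,tg_87,tg_88,tg_89,tg_90,tg_91,tg_92,tg_93,tg_94,tg_95,tg_96,tg_97,tg_98,tg_99,tg_100,tg_101,tg_102,tg_103,tg_104,tg_105,tg_106,tg_107,tg_108,tg_109,tg_110,tg_111,tg_112,tg_113,tg_114,tg_115,tg_116,tg_117,tg_118,tg_119,tg_120,tg_121,tg_122,tg_123,tg_124,tg_125,tg_126,tg_127,tg_128,tg_129,tg_130,tg_131,tg_132,tg_133,tg_134,tg_135,tg_136,tg_137,tg_138,tg_139,tg_140,tg_141,tg_142,tg_143,tg_144,tg_145,tg_146,tg_147,tg_148,tg_149,tg_150,tg_151,tg_152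,tg_153,tg_154,tg_155,tg_156,tg_157,tg_158,tg_159,tg_160,tg_161,tg_162,tg_163,tg_164,tg_165,tg_166,tg_167,tg_168,tg_169,tg_170,tg_171,tg_172,tg_173,tg_174,tg_175,tg_176,tg_177,tg_178,tg_179,tg_180,tg_181,tg_182,tg_183,tg_184,tg_185,tg_186,tg_187,tg_188,tg_189,tg_190,tg_191,tg_192,tg_193,tg_194,tg_195,tg_196,tg_197,tg_198,tg_199,tg_200,tg_201,tg_202,tg_203,tg_204,tg_205,tg_206,tg_207,tg_208,tg_209,tg_210,tg_211,tg_212,tg_213,tg_214,tg_215,tg_216,tg_217,tg_218,tg_219,tg_220,tg_221,tg_222,tg_223,tg_224,tg_225]) = true :=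
  rt_step ck_tg36 (by decide +kernel) rt_37

theorem rt_35 : C.runTargets tS_35 (tg_35 :: [tg_36,tg_37,tg_38,tg_39,tg_40,tg_41,tg_42,tg_43,tg_44,tg_45,tg_46,tg_47,tg_48,tg_49,tg_50,tg_51,tg_52,tg_53,tg_54,tg_55,tg_56,tg_57,tg_58,tg_59,tg_60,tg_61,tg_62,tg_63,tg_64,tg_65,tg_66,tg_67,tg_68,tg_69,tg_70,tg_71,tg_72,tg_73,tg_74,tg_75,tg_76,tg_77,tg_78,tg_79,tg_80,tg_81,tg_82,tg_83,tg_84,tg_85,tg_86,tg_87,tg_88,tg_89,tg_90,tg_91,tg_92,tg_93,tg_94,tg_95,tg_96,tg_97,tg_98,tg_99,tg_100,tg_101,tg_102,tg_103,tg_104,tg_105,tg_106,tg_107,tg_108,tg_109,tg_110,tg_111,tg_112,tg_113,tg_114,tg_115,tg_116,tg_117,tg_118,tg_119,tg_120,tg_121,tg_122,tg_123,tg_124,tg_125,tg_126,tg_127,tg_128,tg_129,tg_130,tg_131,tg_132,tg_133,tg_134,tg_135,tg_136,tg_137,tg_138,tg_139,tg_140,tg_141,tg_142,tg_143,tg_144,tg_145,tg_146,tg_147,tg_148,tg_149,tg_150,tg_151,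tg_152,tg_153,tg_154,tg_155,tg_156,tg_157,tg_158,tg_159,tg_160,tg_161,tg_162,tg_163,tg_164,tg_165,tg_166,tg_167,tg_168,tg_169,tg_170,tg_171,tg_172,tg_173,tg_174,tg_175,tg_176,tg_177,tg_178,tg_179,tg_180,tg_181,tg_182,tg_183,tg_184,tg_185,tg_186,tg_187,tg_188,tg_189,tg_190,tg_191,tg_192,tg_193,tg_194,tg_195,tg_196,tg_197,tg_198,tg_199,tg_200,tg_201,tg_202,tg_203,tg_204,tg_205,tg_206,tg_207,tg_208,tg_209,tg_210,tg_211,tg_212,tg_213,tg_214,tg_215,tg_216,tg_217,tg_218,tg_219,tg_220,tg_221,tg_222,tg_223,tg_224,tg_225]) = true :=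
  rt_step ck_tg35 (by decide +kernel) rt_36

theorem rt_34 : C.runTargets tS_34 (tg_34 :: [tg_35,tg_36,tg_37,tg_38,tg_39,tg_40,tg_41,tg_42,tg_43,tg_44,tg_45,tg_46,tg_47,tg_48,tg_49,tg_50,tg_51,tg_52,tg_53,tg_54,tg_55,tg_56,tg_57,tg_58,tg_59,tg_60,tg_61,tg_62,tg_63,tg_64,tg_65,tg_66,tg_67,tg_68,tg_69,tg_70,tg_71,tg_72,tg_73,tg_74,tg_75,tg_76,tg_77,tg_78,tg_79,tg_80,tg_81,tg_82,tg_83,tg_84,tg_85,tg_86,tg_87,tg_88,tg_89,tg_90,tg_91,tg_92,tg_93,tg_94,tg_95,tg_96,tg_97,tg_98,tg_99,tg_100,tg_101,tg_102,tg_103,tg_104,tg_105,tg_106,tg_107,tg_108,tg_109,tg_110,tg_111,tg_112,tg_113,tg_114,tg_115,tg_116,tg_117,tg_118,tg_119,tg_120,tg_121,tg_122,tg_123,tg_124,tg_125,tg_126,tg_127,tg_128,tg_129,tg_130,tg_131,tg_132,tg_133,tg_134,tg_135,tg_136,tg_137,tg_138,tg_139,tg_140,tg_141,tg_142,tg_143,tg_144,tg_145,tg_146,tg_147,tg_148,tg_149,tg_150,t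g_151,tg_152,tg_153,tg_154,tg_155,tg_156,tg_157,tg_158,tg_159,tg_160,tg_161,tg_162,tg_163,tg_164,tg_165,tg_166,tg_167,tg_168,tg_169,tg_170,tg_171,tg_172,tg_173,tg_174,tg_175,tg_176,tg_177,tg_178,tg_179,tg_180,tg_181,tg_182,tg_183,tg_184,tg_185,tg_186,tg_187,tg_188,tg_189,tg_190,tg_191,tg_192,tg_193,tg_194,tg_195,tg_196,tg_197,tg_198,tg_199,tg_200,tg_201,tg_202,tg_203,tg_204,tg_205,tg_206,tg_207,tg_208,tg_209,tg_210,tg_211,tg_212,tg_213,tg_214,tg_215,tg_216,tg_217,tg_218,tg_219,tg_220,tg_221,tg_222,tg_223,tg_224,tg_225]) = true :=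
  rt_step ck_tg34 (by decide +kernel) rt_35

theorem rt_33 : C.runTargets tS_33 (tg_33 :: [tg_34,tg_35,tg_36,tg_37,tg_38,tg_39,tg_40,tg_41,tg_42,tg_43,tg_44,tg_45,tg_46,tg_47,tg_48,tg_49,tg_50,tg_51,tg_52,tg_53,tg_54,tg_55,tg_56,tg_57,tg_58,tg_59,tg_60,tg_61,tg_62,tg_63,tg_64,tg_65,tg_66,tg_67,tg_68,tg_69,tg_70,tg_71,tg_72,tg_73,tg_74,tg_75,tg_76,tg_77,tg_78,tg_79,tg_80,tg_81,tg_82,tg_83,tg_84,tg_85,tg_86,tg_87,tg_88,tg_89,tg_90,tg_91,tg_92,tg_93,tg_94,tg_95,tg_96,tg_97,tg_98,tg_99,tg_100,tg_101,tg_102,tg_103,tg_104,tg_105,tg_106,tg_107,tg_108,tg_109,tg_110,tg_111,tg_112,tg_113,tg_114,tg_115,tg_116,tg_117,tg_118,tg_119,tg_120,tg_121,tg_122,tg_123,tg_124,tg_125,tg_126,tg_127,tg_128,tg_129,tg_130,tg_131,tg_132,tg_133,tg_134,tg_135,tg_136,tg_137,tg_138,tg_139,tg_140,tg_141,tg_142,tg_143,tg_144,tg_145,tg_146,tg_147,tg_148,tg_149,tg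_150,tg_151,tg_152,tg_153,tg_154,tg_155,tg_156,tg_157,tg_158,tg_159,tg_160,tg_161,tg_162,tg_163,tg_164,tg_165,tg_166,tg_167,tg_168,tg_169,tg_170,tg_171,tg_172,tg_173,tg_174,tg_175,tg_176,tg_177,tg_178,tg_179,tg_180,tg_181,tg_182,tg_183,tg_184,tg_185,tg_186,tg_187,tg_188,tg_189,tg_190,tg_191,tg_192,tg_193,tg_194,tg_195,tg_196,tg_197,tg_198,tg_199,tg_200,tg_201,tg_202,tg_203,tg_204,tg_205,tg_206,tg_207,tg_208,tg_209,tg_210,tg_211,tg_212,tg_213,tg_214,tg_215,tg_216,tg_217,tg_218,tg_219,tg_220,tg_221,tg_222,tg_223,tg_224,tg_225]) = true :=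
  rt_step ck_tg33 (by decide +kernel) rt_34

theorem rt_32 : C.runTargets tS_32 (tg_32 :: [tg_33,tg_34,tg_35,tg_36,tg_37,tg_38,tg_39,tg_40,tg_41,tg_42,tg_43,tg_44,tg_45,tg_46,tg_47,tg_48,tg_49,tg_50,tg_51,tg_52,tg_53,tg_54,tg_55,tg_56,tg_57,tg_58,tg_59,tg_60,tg_61,tg_62,tg_63,tg_64,tg_65,tg_66,tg_67,tg_68,tg_69,tg_70,tg_71,tg_72,tg_73,tg_74,tg_75,tg_76,tg_77,tg_78,tg_79,tg_80,tg_81,tg_82,tg_83,tg_84,tg_85,tg_86,tg_87,tg_88,tg_89,tg_90,tg_91,tg_92,tg_93,tg_94,tg_95,tg_96,tg_97,tg_98,tg_99,tg_100,tg_101,tg_102,tg_103,tg_104,tg_105,tg_106,tg_107,tg_108,tg_109,tg_110,tg_111,tg_112,tg_113,tg_114,tg_115,tg_116,tg_117,tg_118,tg_119,tg_120,tg_121,tg_122,tg_123,tg_124,tg_125,tg_126,tg_127,tg_128,tg_129,tg_130,tg_131,tg_132,tg_133,tg_134,tg_135,tg_136,tg_137,tg_138,tg_139,tg_140,tg_141,tg_142,tg_143,tg_144,tg_145,tg_146,tg_147,tg_148,tg_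149,tg_150,tg_151,tg_152,tg_153,tg_154,tg_155,tg_156,tg_157,tg_158,tg_159,tg_160,tg_161,tg_162,tg_163,tg_164,tg_165,tg_166,tg_167,tg_168,tg_169,tg_170,tg_171,tg_172,tg_173,tg_174,tg_175,tg_176,tg_177,tg_178,tg_179,tg_180,tg_181,tg_182,tg_183,tg_184,tg_185,tg_186,tg_187,tg_188,tg_189,tg_190,tg_191,tg_192,tg_193,tg_194,tg_195,tg_196,tg_197,tg_198,tg_199,tg_200,tg_201,tg_202,tg_203,tg_204,tg_205,tg_206,tg_207,tg_208,tg_209,tg_210,tg_211,tg_212,tg_213,tg_214,tg_215,tg_216,tg_217,tg_218,tg_219,tg_220,tg_221,tg_222,tg_223,tg_224,tg_225]) = true :=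
  rt_step ck_tg32 (by decide +kernel) rt_33

theorem rt_31 : C.runTargets tS_31 (tg_31 :: [tg_32,tg_33,tg_34,tg_35,tg_36,tg_37,tg_38,tg_39,tg_40,tg_41,tg_42,tg_43,tg_44,tg_45,tg_46,tg_47,tg_48,tg_49,tg_50,tg_51,tg_52,tg_53,tg_54,tg_55,tg_56,tg_57,tg_58,tg_59,tg_60,tg_61,tg_62,tg_63,tg_64,tg_65,tg_66,tg_67,tg_68,tg_69,tg_70,tg_71,tg_72,tg_73,tg_74,tg_75,tg_76,tg_77,tg_78,tg_79,tg_80,tg_81,tg_82,tg_83,tg_84,tg_85,tg_86,tg_87,tg_88,tg_89,tg_90,tg_91,tg_92,tg_93,tg_94,tg_95,tg_96,tg_97,tg_98,tg_99,tg_100,tg_101,tg_102,tg_103,tg_104,tg_105,tg_106,tg_107,tg_108,tg_109,tg_110,tg_111,tg_112,tg_113,tg_114,tg_115,tg_116,tg_117,tg_118,tg_119,tg_120,tg_121,tg_122,tg_123,tg_124,tg_125,tg_126,tg_127,tg_128,tg_129,tg_130,tg_131,tg_132,tg_133,tg_134,tg_135,tg_136,tg_137,tg_138,tg_139,tg_140,tg_141,tg_142,tg_143,tg_144,tg_145,tg_146,tg_147,tg_1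48,tg_149,tg_150,tg_151,tg_152,tg_153,tg_154,tg_155,tg_156,tg_157,tg_158,tg_159,tg_160,tg_161,tg_162,tg_163,tg_164,tg_165,tg_166,tg_167,tg_168,tg_169,tg_170,tg_171,tg_172,tg_173,tg_174,tg_175,tg_176,tg_177,tg_178,tg_179,tg_180,tg_181,tg_182,tg_183,tg_184,tg_185,tg_186,tg_187,tg_188,tg_189,tg_190,tg_191,tg_192,tg_193,tg_194,tg_195,tg_196,tg_197,tg_198,tg_199,tg_200,tg_201,tg_202,tg_203,tg_204,tg_205,tg_206,tg_207,tg_208,tg_209,tg_210,tg_211,tg_212,tg_213,tg_214,tg_215,tg_216,tg_217,tg_218,tg_219,tg_220,tg_221,tg_222,tg_223,tg_224,tg_225]) = true :=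
  rt_step ck_tg31 (by decide +kernel) rt_32

theorem rt_30 : C.runTargets tS_30 (tg_30 :: [tg_31,tg_32,tg_33,tg_34,tg_35,tg_36,tg_37,tg_38,tg_39,tg_40,tg_41,tg_42,tg_43,tg_44,tg_45,tg_46,tg_47,tg_48,tg_49,tg_50,tg_51,tg_52,tg_53,tg_54,tg_55,tg_56,tg_57,tg_58,tg_59,tg_60,tg_61,tg_62,tg_63,tg_64,tg_65,tg_66,tg_67,tg_68,tg_69,tg_70,tg_71,tg_72,tg_73,tg_74,tg_75,tg_76,tg_77,tg_78,tg_79,tg_80,tg_81,tg_82,tg_83,tg_84,tg_85,tg_86,tg_87,tg_88,tg_89,tg_90,tg_91,tg_92,tg_93,tg_94,tg_95,tg_96,tg_97,tg_98,tg_99,tg_100,tg_101,tg_102,tg_103,tg_104,tg_105,tg_106,tg_107,tg_108,tg_109,tg_110,tg_111,tg_112,tg_113,tg_114,tg_115,tg_116,tg_117,tg_118,tg_119,tg_120,tg_121,tg_122,tg_123,tg_124,tg_125,tg_126,tg_127,tg_128,tg_129,tg_130,tg_131,tg_132,tg_133,tg_134,tg_135,tg_136,tg_137,tg_138,tg_139,tg_140,tg_141,tg_142,tg_143,tg_144,tg_145,tg_146,tg_14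7,tg_148,tg_149,tg_150,tg_151,tg_152,tg_153,tg_154,tg_155,tg_156,tg_157,tg_158,tg_159,tg_160,tg_161,tg_162,tg_163,tg_164,tg_165,tg_166,tg_167,tg_168,tg_169,tg_170,tg_171,tg_172,tg_173,tg_174,tg_175,tg_176,tg_177,tg_178,tg_179,tg_180,tg_181,tg_182,tg_183,tg_184,tg_185,tg_186,tg_187,tg_188,tg_189,tg_190,tg_191,tg_192,tg_193,tg_194,tg_195,tg_196,tg_197,tg_198,tg_199,tg_200,tg_201,tg_202,tg_203,tg_204,tg_205,tg_206,tg_207,tg_208,tg_209,tg_210,tg_211,tg_212,tg_213,tg_214,tg_215,tg_216,tg_217,tg_218,tg_219,tg_220,tg_221,tg_222,tg_223,tg_224,tg_225]) = true :=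
  rt_step ck_tg30 (by decide +kernel) rt_31

theorem rt_29 : C.runTargets tS_29 (tg_29 :: [tg_30,tg_31,tg_32,tg_33,tg_34,tg_35,tg_36,tg_37,tg_38,tg_39,tg_40,tg_41,tg_42,tg_43,tg_44,tg_45,tg_46,tg_47,tg_48,tg_49,tg_50,tg_51,tg_52,tg_53,tg_54,tg_55,tg_56,tg_57,tg_58,tg_59,tg_60,tg_61,tg_62,tg_63,tg_64,tg_65,tg_66,tg_67,tg_68,tg_69,tg_70,tg_71,tg_72,tg_73,tg_74,tg_75,tg_76,tg_77,tg_78,tg_79,tg_80,tg_81,tg_82,tg_83,tg_84,tg_85,tg_86,tg_87,tg_88,tg_89,tg_90,tg_91,tg_92,tg_93,tg_94,tg_95,tg_96,tg_97,tg_98,tg_99,tg_100,tg_101,tg_102,tg_103,tg_104,tg_105,tg_106,tg_107,tg_108,tg_109,tg_110,tg_111,tg_112,tg_113,tg_114,tg_115,tg_116,tg_117,tg_118,tg_119,tg_120,tg_121,tg_122,tg_123,tg_124,tg_125,tg_126,tg_127,tg_128,tg_129,tg_130,tg_131,tg_132,tg_133,tg_134,tg_135,tg_136,tg_137,tg_138,tg_139,tg_140,tg_141,tg_142,tg_143,tg_144,tg_145,tg_146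,tg_147,tg_148,tg_149,tg_150,tg_151,tg_152,tg_153,tg_154,tg_155,tg_156,tg_157,tg_158,tg_159,tg_160,tg_161,tg_162,tg_163,tg_164,tg_165,tg_166,tg_167,tg_168,tg_169,tg_170,tg_171,tg_172,tg_173,tg_174,tg_175,tg_176,tg_177,tg_178,tg_179,tg_180,tg_181,tg_182,tg_183,tg_184,tg_185,tg_186,tg_187,tg_188,tg_189,tg_190,tg_191,tg_192,tg_193,tg_194,tg_195,tg_196,tg_197,tg_198,tg_199,tg_200,tg_201,tg_202,tg_203,tg_204,tg_205,tg_206,tg_207,tg_208,tg_209,tg_210,tg_211,tg_212,tg_213,tg_214,tg_215,tg_216,tg_217,tg_218,tg_219,tg_220,tg_221,tg_222,tg_223,tg_224,tg_225]) = true :=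
  rt_step ck_tg29 (by decide +kernel) rt_30

theorem rt_28 : C.runTargets tS_28 (tg_28 :: [tg_29,tg_30,tg_31,tg_32,tg_33,tg_34,tg_35,tg_36,tg_37,tg_38,tg_39,tg_40,tg_41,tg_42,tg_43,tg_44,tg_45,tg_46,tg_47,tg_48,tg_49,tg_50,tg_51,tg_52,tg_53,tg_54,tg_55,tg_56,tg_57,tg_58,tg_59,tg_60,tg_61,tg_62,tg_63,tg_64,tg_65,tg_66,tg_67,tg_68,tg_69,tg_70,tg_71,tg_72,tg_73,tg_74,tg_75,tg_76,tg_77,tg_78,tg_79,tg_80,tg_81,tg_82,tg_83,tg_84,tg_85,tg_86,tg_87,tg_88,tg_89,tg_90,tg_91,tg_92,tg_93,tg_94,tg_95,tg_96,tg_97,tg_98,tg_99,tg_100,tg_101,tg_102,tg_103,tg_104,tg_105,tg_106,tg_107,tg_108,tg_109,tg_110,tg_111,tg_112,tg_113,tg_114,tg_115,tg_116,tg_117,tg_118,tg_119,tg_120,tg_121,tg_122,tg_123,tg_124,tg_125,tg_126,tg_127,tg_128,tg_129,tg_130,tg_131,tg_132,tg_133,tg_134,tg_135,tg_136,tg_137,tg_138,tg_139,tg_140,tg_141,tg_142,tg_143,tg_144,tg_145,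tg_146,tg_147,tg_148,tg_149,tg_150,tg_151,tg_152,tg_153,tg_154,tg_155,tg_156,tg_157,tg_158,tg_159,tg_160,tg_161,tg_162,tg_163,tg_164,tg_165,tg_166,tg_167,tg_168,tg_169,tg_170,tg_171,tg_172,tg_173,tg_174,tg_175,tg_176,tg_177,tg_178,tg_179,tg_180,tg_181,tg_182,tg_183,tg_184,tg_185,tg_186,tg_187,tg_188,tg_189,tg_190,tg_191,tg_192,tg_193,tg_194,tg_195,tg_196,tg_197,tg_198,tg_199,tg_200,tg_201,tg_202,tg_203,tg_204,tg_205,tg_206,tg_207,tg_208,tg_209,tg_210,tg_211,tg_212,tg_213,tg_214,tg_215,tg_216,tg_217,tg_218,tg_219,tg_220,tg_221,tg_222,tg_223,tg_224,tg_225]) = true :=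
  rt_step ck_tg28 (by decide +kernel) rt_29

theorem rt_27 : C.runTargets tS_27 (tg_27 :: [tg_28,tg_29,tg_30,tg_31,tg_32,tg_33,tg_34,tg_35,tg_36,tg_37,tg_38,tg_39,tg_40,tg_41,tg_42,tg_43,tg_44,tg_45,tg_46,tg_47,tg_48,tg_49,tg_50,tg_51,tg_52,tg_53,tg_54,tg_55,tg_56,tg_57,tg_58,tg_59,tg_60,tg_61,tg_62,tg_63,tg_64,tg_65,tg_66,tg_67,tg_68,tg_69,tg_70,tg_71,tg_72,tg_73,tg_74,tg_75,tg_76,tg_77,tg_78,tg_79,tg_80,tg_81,tg_82,tg_83,tg_84,tg_85,tg_86,tg_87,tg_88,tg_89,tg_90,tg_91,tg_92,tg_93,tg_94,tg_95,tg_96,tg_97,tg_98,tg_99,tg_100,tg_101,tg_102,tg_103,tg_104,tg_105,tg_106,tg_107,tg_108,tg_109,tg_110,tg_111,tg_112,tg_113,tg_114,tg_115,tg_116,tg_117,tg_118,tg_119,tg_120,tg_121,tg_122,tg_123,tg_124,tg_125,tg_126,tg_127,tg_128,tg_129,tg_130,tg_131,tg_132,tg_133,tg_134,tg_135,tg_136,tg_137,tg_138,tg_139,tg_140,tg_141,tg_142,tg_143,tg_144,t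g_145,tg_146,tg_147,tg_148,tg_149,tg_150,tg_151,tg_152,tg_153,tg_154,tg_155,tg_156,tg_157,tg_158,tg_159,tg_160,tg_161,tg_162,tg_163,tg_164,tg_165,tg_166,tg_167,tg_168,tg_169,tg_170,tg_171,tg_172,tg_173,tg_174,tg_175,tg_176,tg_177,tg_178,tg_179,tg_180,tg_181,tg_182,tg_183,tg_184,tg_185,tg_186,tg_187,tg_188,tg_189,tg_190,tg_191,tg_192,tg_193,tg_194,tg_195,tg_196,tg_197,tg_198,tg_199,tg_200,tg_201,tg_202,tg_203,tg_204,tg_205,tg_206,tg_207,tg_208,tg_209,tg_210,tg_211,tg_212,tg_213,tg_214,tg_215,tg_216,tg_217,tg_218,tg_219,tg_220,tg_221,tg_222,tg_223,tg_224,tg_225]) = true :=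
  rt_step ck_tg27 (by decide +kernel) rt_28

theorem rt_26 : C.runTargets tS_26 (tg_26 :: [tg_27,tg_28,tg_29,tg_30,tg_31,tg_32,tg_33,tg_34,tg_35,tg_36,tg_37,tg_38,tg_39,tg_40,tg_41,tg_42,tg_43,tg_44,tg_45,tg_46,tg_47,tg_48,tg_49,tg_50,tg_51,tg_52,tg_53,tg_54,tg_55,tg_56,tg_57,tg_58,tg_59,tg_60,tg_61,tg_62,tg_63,tg_64,tg_65,tg_66,tg_67,tg_68,tg_69,tg_70,tg_71,tg_72,tg_73,tg_74,tg_75,tg_76,tg_77,tg_78,tg_79,tg_80,tg_81,tg_82,tg_83,tg_84,tg_85,tg_86,tg_87,tg_88,tg_89,tg_90,tg_91,tg_92,tg_93,tg_94,tg_95,tg_96,tg_97,tg_98,tg_99,tg_100,tg_101,tg_102,tg_103,tg_104,tg_105,tg_106,tg_107,tg_108,tg_109,tg_110,tg_111,tg_112,tg_113,tg_114,tg_115,tg_116,tg_117,tg_118,tg_119,tg_120,tg_121,tg_122,tg_123,tg_124,tg_125,tg_126,tg_127,tg_128,tg_129,tg_130,tg_131,tg_132,tg_133,tg_134,tg_135,tg_136,tg_137,tg_138,tg_139,tg_140,tg_141,tg_142,tg_143,tg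_144,tg_145,tg_146,tg_147,tg_148,tg_149,tg_150,tg_151,tg_152,tg_153,tg_154,tg_155,tg_156,tg_157,tg_158,tg_159,tg_160,tg_161,tg_162,tg_163,tg_164,tg_165,tg_166,tg_167,tg_168,tg_169,tg_170,tg_171,tg_172,tg_173,tg_174,tg_175,tg_176,tg_177,tg_178,tg_179,tg_180,tg_181,tg_182,tg_183,tg_184,tg_185,tg_186,tg_187,tg_188,tg_189,tg_190,tg_191,tg_192,tg_193,tg_194,tg_195,tg_196,tg_197,tg_198,tg_199,tg_200,tg_201,tg_202,tg_203,tg_204,tg_205,tg_206,tg_207,tg_208,tg_209,tg_210,tg_211,tg_212,tg_213,tg_214,tg_215,tg_216,tg_217,tg_218,tg_219,tg_220,tg_221,tg_222,tg_223,tg_224,tg_225]) = true :=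
  rt_step ck_tg26 (by decide +kernel) rt_27

theorem rt_25 : C.runTargets tS_25 (tg_25 :: [tg_26,tg_27,tg_28,tg_29,tg_30,tg_31,tg_32,tg_33,tg_34,tg_35,tg_36,tg_37,tg_38,tg_39,tg_40,tg_41,tg_42,tg_43,tg_44,tg_45,tg_46,tg_47,tg_48,tg_49,tg_50,tg_51,tg_52,tg_53,tg_54,tg_55,tg_56,tg_57,tg_58,tg_59,tg_60,tg_61,tg_62,tg_63,tg_64,tg_65,tg_66,tg_67,tg_68,tg_69,tg_70,tg_71,tg_72,tg_73,tg_74,tg_75,tg_76,tg_77,tg_78,tg_79,tg_80,tg_81,tg_82,tg_83,tg_84,tg_85,tg_86,tg_87,tg_88,tg_89,tg_90,tg_91,tg_92,tg_93,tg_94,tg_95,tg_96,tg_97,tg_98,tg_99,tg_100,tg_101,tg_102,tg_103,tg_104,tg_105,tg_106,tg_107,tg_108,tg_109,tg_110,tg_111,tg_112,tg_113,tg_114,tg_115,tg_116,tg_117,tg_118,tg_119,tg_120,tg_121,tg_122,tg_123,tg_124,tg_125,tg_126,tg_127,tg_128,tg_129,tg_130,tg_131,tg_132,tg_133,tg_134,tg_135,tg_136,tg_137,tg_138,tg_139,tg_140,tg_141,tg_142,tg_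143,tg_144,tg_145,tg_146,tg_147,tg_148,tg_149,tg_150,tg_151,tg_152,tg_153,tg_154,tg_155,tg_156,tg_157,tg_158,tg_159,tg_160,tg_161,tg_162,tg_163,tg_164,tg_165,tg_166,tg_167,tg_168,tg_169,tg_170,tg_171,tg_172,tg_173,tg_174,tg_175,tg_176,tg_177,tg_178,tg_179,tg_180,tg_181,tg_182,tg_183,tg_184,tg_185,tg_186,tg_187,tg_188,tg_189,tg_190,tg_191,tg_192,tg_193,tg_194,tg_195,tg_196,tg_197,tg_198,tg_199,tg_200,tg_201,tg_202,tg_203,tg_204,tg_205,tg_206,tg_207,tg_208,tg_209,tg_210,tg_211,tg_212,tg_213,tg_214,tg_215,tg_216,tg_217,tg_218,tg_219,tg_220,tg_221,tg_222,tg_223,tg_224,tg_225]) = true :=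
  rt_step ck_tg25 (by decide +kernel) rt_26

theorem rt_24 : C.runTargets tS_24 (tg_24 :: [tg_25,tg_26,tg_27,tg_28,tg_29,tg_30,tg_31,tg_32,tg_33,tg_34,tg_35,tg_36,tg_37,tg_38,tg_39,tg_40,tg_41,tg_42,tg_43,tg_44,tg_45,tg_46,tg_47,tg_48,tg_49,tg_50,tg_51,tg_52,tg_53,tg_54,tg_55,tg_56,tg_57,tg_58,tg_59,tg_60,tg_61,tg_62,tg_63,tg_64,tg_65,tg_66,tg_67,tg_68,tg_69,tg_70,tg_71,tg_72,tg_73,tg_74,tg_75,tg_76,tg_77,tg_78,tg_79,tg_80,tg_81,tg_82,tg_83,tg_84,tg_85,tg_86,tg_87,tg_88,tg_89,tg_90,tg_91,tg_92,tg_93,tg_94,tg_95,tg_96,tg_97,tg_98,tg_99,tg_100,tg_101,tg_102,tg_103,tg_104,tg_105,tg_106,tg_107,tg_108,tg_109,tg_110,tg_111,tg_112,tg_113,tg_114,tg_115,tg_116,tg_117,tg_118,tg_119,tg_120,tg_121,tg_122,tg_123,tg_124,tg_125,tg_126,tg_127,tg_128,tg_129,tg_130,tg_131,tg_132,tg_133,tg_134,tg_135,tg_136,tg_137,tg_138,tg_139,tg_140,tg_141,tg_1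42,tg_143,tg_144,tg_145,tg_146,tg_147,tg_148,tg_149,tg_150,tg_151,tg_152,tg_153,tg_154,tg_155,tg_156,tg_157,tg_158,tg_159,tg_160,tg_161,tg_162,tg_163,tg_164,tg_165,tg_166,tg_167,tg_168,tg_169,tg_170,tg_171,tg_172,tg_173,tg_174,tg_175,tg_176,tg_177,tg_178,tg_179,tg_180,tg_181,tg_182,tg_183,tg_184,tg_185,tg_186,tg_187,tg_188,tg_189,tg_190,tg_191,tg_192,tg_193,tg_194,tg_195,tg_196,tg_197,tg_198,tg_199,tg_200,tg_201,tg_202,tg_203,tg_204,tg_205,tg_206,tg_207,tg_208,tg_209,tg_210,tg_211,tg_212,tg_213,tg_214,tg_215,tg_216,tg_217,tg_218,tg_219,tg_220,tg_221,tg_222,tg_223,tg_224,tg_225]) = true :=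
  rt_step ck_tg24 (by decide +kernel) rt_25

theorem rt_23 : C.runTargets tS_23 (tg_23 :: [tg_24,tg_25,tg_26,tg_27,tg_28,tg_29,tg_30,tg_31,tg_32,tg_33,tg_34,tg_35,tg_36,tg_37,tg_38,tg_39,tg_40,tg_41,tg_42,tg_43,tg_44,tg_45,tg_46,tg_47,tg_48,tg_49,tg_50,tg_51,tg_52,tg_53,tg_54,tg_55,tg_56,tg_57,tg_58,tg_59,tg_60,tg_61,tg_62,tg_63,tg_64,tg_65,tg_66,tg_67,tg_68,tg_69,tg_70,tg_71,tg_72,tg_73,tg_74,tg_75,tg_76,tg_77,tg_78,tg_79,tg_80,tg_81,tg_82,tg_83,tg_84,tg_85,tg_86,tg_87,tg_88,tg_89,tg_90,tg_91,tg_92,tg_93,tg_94,tg_95,tg_96,tg_97,tg_98,tg_99,tg_100,tg_101,tg_102,tg_103,tg_104,tg_105,tg_106,tg_107,tg_108,tg_109,tg_110,tg_111,tg_112,tg_113,tg_114,tg_115,tg_116,tg_117,tg_118,tg_119,tg_120,tg_121,tg_122,tg_123,tg_124,tg_125,tg_126,tg_127,tg_128,tg_129,tg_130,tg_131,tg_132,tg_133,tg_134,tg_135,tg_136,tg_137,tg_138,tg_139,tg_140,tg_14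1,tg_142,tg_143,tg_144,tg_145,tg_146,tg_147,tg_148,tg_149,tg_150,tg_151,tg_152,tg_153,tg_154,tg_155,tg_156,tg_157,tg_158,tg_159,tg_160,tg_161,tg_162,tg_163,tg_164,tg_165,tg_166,tg_167,tg_168,tg_169,tg_170,tg_171,tg_172,tg_173,tg_174,tg_175,tg_176,tg_177,tg_178,tg_179,tg_180,tg_181,tg_182,tg_183,tg_184,tg_185,tg_186,tg_187,tg_188,tg_189,tg_190,tg_191,tg_192,tg_193,tg_194,tg_195,tg_196,tg_197,tg_198,tg_199,tg_200,tg_201,tg_202,tg_203,tg_204,tg_205,tg_206,tg_207,tg_208,tg_209,tg_210,tg_211,tg_212,tg_213,tg_214,tg_215,tg_216,tg_217,tg_218,tg_219,tg_220,tg_221,tg_222,tg_223,tg_224,tg_225]) = true :=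
  rt_step ck_tg23 (by decide +kernel) rt_24

theorem rt_22 : C.runTargets tS_22 (tg_22 :: [tg_23,tg_24,tg_25,tg_26,tg_27,tg_28,tg_29,tg_30,tg_31,tg_32,tg_33,tg_34,tg_35,tg_36,tg_37,tg_38,tg_39,tg_40,tg_41,tg_42,tg_43,tg_44,tg_45,tg_46,tg_47,tg_48,tg_49,tg_50,tg_51,tg_52,tg_53,tg_54,tg_55,tg_56,tg_57,tg_58,tg_59,tg_60,tg_61,tg_62,tg_63,tg_64,tg_65,tg_66,tg_67,tg_68,tg_69,tg_70,tg_71,tg_72,tg_73,tg_74,tg_75,tg_76,tg_77,tg_78,tg_79,tg_80,tg_81,tg_82,tg_83,tg_84,tg_85,tg_86,tg_87,tg_88,tg_89,tg_90,tg_91,tg_92,tg_93,tg_94,tg_95,tg_96,tg_97,tg_98,tg_99,tg_100,tg_101,tg_102,tg_103,tg_104,tg_105,tg_106,tg_107,tg_108,tg_109,tg_110,tg_111,tg_112,tg_113,tg_114,tg_115,tg_116,tg_117,tg_118,tg_119,tg_120,tg_121,tg_122,tg_123,tg_124,tg_125,tg_126,tg_127,tg_128,tg_129,tg_130,tg_131,tg_132,tg_133,tg_134,tg_135,tg_136,tg_137,tg_138,tg_139,tg_140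,tg_141,tg_142,tg_143,tg_144,tg_145,tg_146,tg_147,tg_148,tg_149,tg_150,tg_151,tg_152,tg_153,tg_154,tg_155,tg_156,tg_157,tg_158,tg_159,tg_160,tg_161,tg_162,tg_163,tg_164,tg_165,tg_166,tg_167,tg_168,tg_169,tg_170,tg_171,tg_172,tg_173,tg_174,tg_175,tg_176,tg_177,tg_178,tg_179,tg_180,tg_181,tg_182,tg_183,tg_184,tg_185,tg_186,tg_187,tg_188,tg_189,tg_190,tg_191,tg_192,tg_193,tg_194,tg_195,tg_196,tg_197,tg_198,tg_199,tg_200,tg_201,tg_202,tg_203,tg_204,tg_205,tg_206,tg_207,tg_208,tg_209,tg_210,tg_211,tg_212,tg_213,tg_214,tg_215,tg_216,tg_217,tg_218,tg_219,tg_220,tg_221,tg_222,tg_223,tg_224,tg_225]) = true :=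
  rt_step ck_tg22 (by decide +kernel) rt_23

theorem rt_21 : C.runTargets tS_21 (tg_21 :: [tg_22,tg_23,tg_24,tg_25,tg_26,tg_27,tg_28,tg_29,tg_30,tg_31,tg_32,tg_33,tg_34,tg_35,tg_36,tg_37,tg_38,tg_39,tg_40,tg_41,tg_42,tg_43,tg_44,tg_45,tg_46,tg_47,tg_48,tg_49,tg_50,tg_51,tg_52,tg_53,tg_54,tg_55,tg_56,tg_57,tg_58,tg_59,tg_60,tg_61,tg_62,tg_63,tg_64,tg_65,tg_66,tg_67,tg_68,tg_69,tg_70,tg_71,tg_72,tg_73,tg_74,tg_75,tg_76,tg_77,tg_78,tg_79,tg_80,tg_81,tg_82,tg_83,tg_84,tg_85,tg_86,tg_87,tg_88,tg_89,tg_90,tg_91,tg_92,tg_93,tg_94,tg_95,tg_96,tg_97,tg_98,tg_99,tg_100,tg_101,tg_102,tg_103,tg_104,tg_105,tg_106,tg_107,tg_108,tg_109,tg_110,tg_111,tg_112,tg_113,tg_114,tg_115,tg_116,tg_117,tg_118,tg_119,tg_120,tg_121,tg_122,tg_123,tg_124,tg_125,tg_126,tg_127,tg_128,tg_129,tg_130,tg_131,tg_132,tg_133,tg_134,tg_135,tg_136,tg_137,tg_138,tg_139,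tg_140,tg_141,tg_142,tg_143,tg_144,tg_145,tg_146,tg_147,tg_148,tg_149,tg_150,tg_151,tg_152,tg_153,tg_154,tg_155,tg_156,tg_157,tg_158,tg_159,tg_160,tg_161,tg_162,tg_163,tg_164,tg_165,tg_166,tg_167,tg_168,tg_169,tg_170,tg_171,tg_172,tg_173,tg_174,tg_175,tg_176,tg_177,tg_178,tg_179,tg_180,tg_181,tg_182,tg_183,tg_184,tg_185,tg_186,tg_187,tg_188,tg_189,tg_190,tg_191,tg_192,tg_193,tg_194,tg_195,tg_196,tg_197,tg_198,tg_199,tg_200,tg_201,tg_202,tg_203,tg_204,tg_205,tg_206,tg_207,tg_208,tg_209,tg_210,tg_211,tg_212,tg_213,tg_214,tg_215,tg_216,tg_217,tg_218,tg_219,tg_220,tg_221,tg_222,tg_223,tg_224,tg_225]) = true :=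
  rt_step ck_tg21 (by decide +kernel) rt_22

theorem rt_20 : C.runTargets tS_20 (tg_20 :: [tg_21,tg_22,tg_23,tg_24,tg_25,tg_26,tg_27,tg_28,tg_29,tg_30,tg_31,tg_32,tg_33,tg_34,tg_35,tg_36,tg_37,tg_38,tg_39,tg_40,tg_41,tg_42,tg_43,tg_44,tg_45,tg_46,tg_47,tg_48,tg_49,tg_50,tg_51,tg_52,tg_53,tg_54,tg_55,tg_56,tg_57,tg_58,tg_59,tg_60,tg_61,tg_62,tg_63,tg_64,tg_65,tg_66,tg_67,tg_68,tg_69,tg_70,tg_71,tg_72,tg_73,tg_74,tg_75,tg_76,tg_77,tg_78,tg_79,tg_80,tg_81,tg_82,tg_83,tg_84,tg_85,tg_86,tg_87,tg_88,tg_89,tg_90,tg_91,tg_92,tg_93,tg_94,tg_95,tg_96,tg_97,tg_98,tg_99,tg_100,tg_101,tg_102,tg_103,tg_104,tg_105,tg_106,tg_107,tg_108,tg_109,tg_110,tg_111,tg_112,tg_113,tg_114,tg_115,tg_116,tg_117,tg_118,tg_119,tg_120,tg_121,tg_122,tg_123,tg_124,tg_125,tg_126,tg_127,tg_128,tg_129,tg_130,tg_131,tg_132,tg_133,tg_134,tg_135,tg_136,tg_137,tg_138,t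g_139,tg_140,tg_141,tg_142,tg_143,tg_144,tg_145,tg_146,tg_147,tg_148,tg_149,tg_150,tg_151,tg_152,tg_153,tg_154,tg_155,tg_156,tg_157,tg_158,tg_159,tg_160,tg_161,tg_162,tg_163,tg_164,tg_165,tg_166,tg_167,tg_168,tg_169,tg_170,tg_171,tg_172,tg_173,tg_174,tg_175,tg_176,tg_177,tg_178,tg_179,tg_180,tg_181,tg_182,tg_183,tg_184,tg_185,tg_186,tg_187,tg_188,tg_189,tg_190,tg_191,tg_192,tg_193,tg_194,tg_195,tg_196,tg_197,tg_198,tg_199,tg_200,tg_201,tg_202,tg_203,tg_204,tg_205,tg_206,tg_207,tg_208,tg_209,tg_210,tg_211,tg_212,tg_213,tg_214,tg_215,tg_216,tg_217,tg_218,tg_219,tg_220,tg_221,tg_222,tg_223,tg_224,tg_225]) = true :=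
  rt_step ck_tg20 (by decide +kernel) rt_21

theorem rt_19 : C.runTargets tS_19 (tg_19 :: [tg_20,tg_21,tg_22,tg_23,tg_24,tg_25,tg_26,tg_27,tg_28,tg_29,tg_30,tg_31,tg_32,tg_33,tg_34,tg_35,tg_36,tg_37,tg_38,tg_39,tg_40,tg_41,tg_42,tg_43,tg_44,tg_45,tg_46,tg_47,tg_48,tg_49,tg_50,tg_51,tg_52,tg_53,tg_54,tg_55,tg_56,tg_57,tg_58,tg_59,tg_60,tg_61,tg_62,tg_63,tg_64,tg_65,tg_66,tg_67,tg_68,tg_69,tg_70,tg_71,tg_72,tg_73,tg_74,tg_75,tg_76,tg_77,tg_78,tg_79,tg_80,tg_81,tg_82,tg_83,tg_84,tg_85,tg_86,tg_87,tg_88,tg_89,tg_90,tg_91,tg_92,tg_93,tg_94,tg_95,tg_96,tg_97,tg_98,tg_99,tg_100,tg_101,tg_102,tg_103,tg_104,tg_105,tg_106,tg_107,tg_108,tg_109,tg_110,tg_111,tg_112,tg_113,tg_114,tg_115,tg_116,tg_117,tg_118,tg_119,tg_120,tg_121,tg_122,tg_123,tg_124,tg_125,tg_126,tg_127,tg_128,tg_129,tg_130,tg_131,tg_132,tg_133,tg_134,tg_135,tg_136,tg_137,tg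_138,tg_139,tg_140,tg_141,tg_142,tg_143,tg_144,tg_145,tg_146,tg_147,tg_148,tg_149,tg_150,tg_151,tg_152,tg_153,tg_154,tg_155,tg_156,tg_157,tg_158,tg_159,tg_160,tg_161,tg_162,tg_163,tg_164,tg_165,tg_166,tg_167,tg_168,tg_169,tg_170,tg_171,tg_172,tg_173,tg_174,tg_175,tg_176,tg_177,tg_178,tg_179,tg_180,tg_181,tg_182,tg_183,tg_184,tg_185,tg_186,tg_187,tg_188,tg_189,tg_190,tg_191,tg_192,tg_193,tg_194,tg_195,tg_196,tg_197,tg_198,tg_199,tg_200,tg_201,tg_202,tg_203,tg_204,tg_205,tg_206,tg_207,tg_208,tg_209,tg_210,tg_211,tg_212,tg_213,tg_214,tg_215,tg_216,tg_217,tg_218,tg_219,tg_220,tg_221,tg_222,tg_223,tg_224,tg_225]) = true :=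
  rt_step ck_tg19 (by decide +kernel) rt_20

theorem rt_18 : C.runTargets tS_18 (tg_18 :: [tg_19,tg_20,tg_21,tg_22,tg_23,tg_24,tg_25,tg_26,tg_27,tg_28,tg_29,tg_30,tg_31,tg_32,tg_33,tg_34,tg_35,tg_36,tg_37,tg_38,tg_39,tg_40,tg_41,tg_42,tg_43,tg_44,tg_45,tg_46,tg_47,tg_48,tg_49,tg_50,tg_51,tg_52,tg_53,tg_54,tg_55,tg_56,tg_57,tg_58,tg_59,tg_60,tg_61,tg_62,tg_63,tg_64,tg_65,tg_66,tg_67,tg_68,tg_69,tg_70,tg_71,tg_72,tg_73,tg_74,tg_75,tg_76,tg_77,tg_78,tg_79,tg_80,tg_81,tg_82,tg_83,tg_84,tg_85,tg_86,tg_87,tg_88,tg_89,tg_90,tg_91,tg_92,tg_93,tg_94,tg_95,tg_96,tg_97,tg_98,tg_99,tg_100,tg_101,tg_102,tg_103,tg_104,tg_105,tg_106,tg_107,tg_108,tg_109,tg_110,tg_111,tg_112,tg_113,tg_114,tg_115,tg_116,tg_117,tg_118,tg_119,tg_120,tg_121,tg_122,tg_123,tg_124,tg_125,tg_126,tg_127,tg_128,tg_129,tg_130,tg_131,tg_132,tg_133,tg_134,tg_135,tg_136,tg_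137,tg_138,tg_139,tg_140,tg_141,tg_142,tg_143,tg_144,tg_145,tg_146,tg_147,tg_148,tg_149,tg_150,tg_151,tg_152,tg_153,tg_154,tg_155,tg_156,tg_157,tg_158,tg_159,tg_160,tg_161,tg_162,tg_163,tg_164,tg_165,tg_166,tg_167,tg_168,tg_169,tg_170,tg_171,tg_172,tg_173,tg_174,tg_175,tg_176,tg_177,tg_178,tg_179,tg_180,tg_181,tg_182,tg_183,tg_184,tg_185,tg_186,tg_187,tg_188,tg_189,tg_190,tg_191,tg_192,tg_193,tg_194,tg_195,tg_196,tg_197,tg_198,tg_199,tg_200,tg_201,tg_202,tg_203,tg_204,tg_205,tg_206,tg_207,tg_208,tg_209,tg_210,tg_211,tg_212,tg_213,tg_214,tg_215,tg_216,tg_217,tg_218,tg_219,tg_220,tg_221,tg_222,tg_223,tg_224,tg_225]) = true :=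
  rt_step ck_tg18 (by decide +kernel) rt_19

theorem rt_17 : C.runTargets tS_17 (tg_17 :: [tg_18,tg_19,tg_20,tg_21,tg_22,tg_23,tg_24,tg_25,tg_26,tg_27,tg_28,tg_29,tg_30,tg_31,tg_32,tg_33,tg_34,tg_35,tg_36,tg_37,tg_38,tg_39,tg_40,tg_41,tg_42,tg_43,tg_44,tg_45,tg_46,tg_47,tg_48,tg_49,tg_50,tg_51,tg_52,tg_53,tg_54,tg_55,tg_56,tg_57,tg_58,tg_59,tg_60,tg_61,tg_62,tg_63,tg_64,tg_65,tg_66,tg_67,tg_68,tg_69,tg_70,tg_71,tg_72,tg_73,tg_74,tg_75,tg_76,tg_77,tg_78,tg_79,tg_80,tg_81,tg_82,tg_83,tg_84,tg_85,tg_86,tg_87,tg_88,tg_89,tg_90,tg_91,tg_92,tg_93,tg_94,tg_95,tg_96,tg_97,tg_98,tg_99,tg_100,tg_101,tg_102,tg_103,tg_104,tg_105,tg_106,tg_107,tg_108,tg_109,tg_110,tg_111,tg_112,tg_113,tg_114,tg_115,tg_116,tg_117,tg_118,tg_119,tg_120,tg_121,tg_122,tg_123,tg_124,tg_125,tg_126,tg_127,tg_128,tg_129,tg_130,tg_131,tg_132,tg_133,tg_134,tg_135,tg_1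36,tg_137,tg_138,tg_139,tg_140,tg_141,tg_142,tg_143,tg_144,tg_145,tg_146,tg_147,tg_148,tg_149,tg_150,tg_151,tg_152,tg_153,tg_154,tg_155,tg_156,tg_157,tg_158,tg_159,tg_160,tg_161,tg_162,tg_163,tg_164,tg_165,tg_166,tg_167,tg_168,tg_169,tg_170,tg_171,tg_172,tg_173,tg_174,tg_175,tg_176,tg_177,tg_178,tg_179,tg_180,tg_181,tg_182,tg_183,tg_184,tg_185,tg_186,tg_187,tg_188,tg_189,tg_190,tg_191,tg_192,tg_193,tg_194,tg_195,tg_196,tg_197,tg_198,tg_199,tg_200,tg_201,tg_202,tg_203,tg_204,tg_205,tg_206,tg_207,tg_208,tg_209,tg_210,tg_211,tg_212,tg_213,tg_214,tg_215,tg_216,tg_217,tg_218,tg_219,tg_220,tg_221,tg_222,tg_223,tg_224,tg_225]) = true :=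
  rt_step ck_tg17 (by decide +kernel) rt_18

theorem rt_16 : C.runTargets tS_16 (tg_16 :: [tg_17,tg_18,tg_19,tg_20,tg_21,tg_22,tg_23,tg_24,tg_25,tg_26,tg_27,tg_28,tg_29,tg_30,tg_31,tg_32,tg_33,tg_34,tg_35,tg_36,tg_37,tg_38,tg_39,tg_40,tg_41,tg_42,tg_43,tg_44,tg_45,tg_46,tg_47,tg_48,tg_49,tg_50,tg_51,tg_52,tg_53,tg_54,tg_55,tg_56,tg_57,tg_58,tg_59,tg_60,tg_61,tg_62,tg_63,tg_64,tg_65,tg_66,tg_67,tg_68,tg_69,tg_70,tg_71,tg_72,tg_73,tg_74,tg_75,tg_76,tg_77,tg_78,tg_79,tg_80,tg_81,tg_82,tg_83,tg_84,tg_85,tg_86,tg_87,tg_88,tg_89,tg_90,tg_91,tg_92,tg_93,tg_94,tg_95,tg_96,tg_97,tg_98,tg_99,tg_100,tg_101,tg_102,tg_103,tg_104,tg_105,tg_106,tg_107,tg_108,tg_109,tg_110,tg_111,tg_112,tg_113,tg_114,tg_115,tg_116,tg_117,tg_118,tg_119,tg_120,tg_121,tg_122,tg_123,tg_124,tg_125,tg_126,tg_127,tg_128,tg_129,tg_130,tg_131,tg_132,tg_133,tg_134,tg_13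5,tg_136,tg_137,tg_138,tg_139,tg_140,tg_141,tg_142,tg_143,tg_144,tg_145,tg_146,tg_147,tg_148,tg_149,tg_150,tg_151,tg_152,tg_153,tg_154,tg_155,tg_156,tg_157,tg_158,tg_159,tg_160,tg_161,tg_162,tg_163,tg_164,tg_165,tg_166,tg_167,tg_168,tg_169,tg_170,tg_171,tg_172,tg_173,tg_174,tg_175,tg_176,tg_177,tg_178,tg_179,tg_180,tg_181,tg_182,tg_183,tg_184,tg_185,tg_186,tg_187,tg_188,tg_189,tg_190,tg_191,tg_192,tg_193,tg_194,tg_195,tg_196,tg_197,tg_198,tg_199,tg_200,tg_201,tg_202,tg_203,tg_204,tg_205,tg_206,tg_207,tg_208,tg_209,tg_210,tg_211,tg_212,tg_213,tg_214,tg_215,tg_216,tg_217,tg_218,tg_219,tg_220,tg_221,tg_222,tg_223,tg_224,tg_225]) = true :=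
  rt_step ck_tg16 (by decide +kernel) rt_17

theorem rt_15 : C.runTargets tS_15 (tg_15 :: [tg_16,tg_17,tg_18,tg_19,tg_20,tg_21,tg_22,tg_23,tg_24,tg_25,tg_26,tg_27,tg_28,tg_29,tg_30,tg_31,tg_32,tg_33,tg_34,tg_35,tg_36,tg_37,tg_38,tg_39,tg_40,tg_41,tg_42,tg_43,tg_44,tg_45,tg_46,tg_47,tg_48,tg_49,tg_50,tg_51,tg_52,tg_53,tg_54,tg_55,tg_56,tg_57,tg_58,tg_59,tg_60,tg_61,tg_62,tg_63,tg_64,tg_65,tg_66,tg_67,tg_68,tg_69,tg_70,tg_71,tg_72,tg_73,tg_74,tg_75,tg_76,tg_77,tg_78,tg_79,tg_80,tg_81,tg_82,tg_83,tg_84,tg_85,tg_86,tg_87,tg_88,tg_89,tg_90,tg_91,tg_92,tg_93,tg_94,tg_95,tg_96,tg_97,tg_98,tg_99,tg_100,tg_101,tg_102,tg_103,tg_104,tg_105,tg_106,tg_107,tg_108,tg_109,tg_110,tg_111,tg_112,tg_113,tg_114,tg_115,tg_116,tg_117,tg_118,tg_119,tg_120,tg_121,tg_122,tg_123,tg_124,tg_125,tg_126,tg_127,tg_128,tg_129,tg_130,tg_131,tg_132,tg_133,tg_134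,tg_135,tg_136,tg_137,tg_138,tg_139,tg_140,tg_141,tg_142,tg_143,tg_144,tg_145,tg_146,tg_147,tg_148,tg_149,tg_150,tg_151,tg_152,tg_153,tg_154,tg_155,tg_156,tg_157,tg_158,tg_159,tg_160,tg_161,tg_162,tg_163,tg_164,tg_165,tg_166,tg_167,tg_168,tg_169,tg_170,tg_171,tg_172,tg_173,tg_174,tg_175,tg_176,tg_177,tg_178,tg_179,tg_180,tg_181,tg_182,tg_183,tg_184,tg_185,tg_186,tg_187,tg_188,tg_189,tg_190,tg_191,tg_192,tg_193,tg_194,tg_195,tg_196,tg_197,tg_198,tg_199,tg_200,tg_201,tg_202,tg_203,tg_204,tg_205,tg_206,tg_207,tg_208,tg_209,tg_210,tg_211,tg_212,tg_213,tg_214,tg_215,tg_216,tg_217,tg_218,tg_219,tg_220,tg_221,tg_222,tg_223,tg_224,tg_225]) = true :=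
  rt_step ck_tg15 (by decide +kernel) rt_16

theorem rt_14 : C.runTargets tS_14 (tg_14 :: [tg_15,tg_16,tg_17,tg_18,tg_19,tg_20,tg_21,tg_22,tg_23,tg_24,tg_25,tg_26,tg_27,tg_28,tg_29,tg_30,tg_31,tg_32,tg_33,tg_34,tg_35,tg_36,tg_37,tg_38,tg_39,tg_40,tg_41,tg_42,tg_43,tg_44,tg_45,tg_46,tg_47,tg_48,tg_49,tg_50,tg_51,tg_52,tg_53,tg_54,tg_55,tg_56,tg_57,tg_58,tg_59,tg_60,tg_61,tg_62,tg_63,tg_64,tg_65,tg_66,tg_67,tg_68,tg_69,tg_70,tg_71,tg_72,tg_73,tg_74,tg_75,tg_76,tg_77,tg_78,tg_79,tg_80,tg_81,tg_82,tg_83,tg_84,tg_85,tg_86,tg_87,tg_88,tg_89,tg_90,tg_91,tg_92,tg_93,tg_94,tg_95,tg_96,tg_97,tg_98,tg_99,tg_100,tg_101,tg_102,tg_103,tg_104,tg_105,tg_106,tg_107,tg_108,tg_109,tg_110,tg_111,tg_112,tg_113,tg_114,tg_115,tg_116,tg_117,tg_118,tg_119,tg_120,tg_121,tg_122,tg_123,tg_124,tg_125,tg_126,tg_127,tg_128,tg_129,tg_130,tg_131,tg_132,tg_133,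tg_134,tg_135,tg_136,tg_137,tg_138,tg_139,tg_140,tg_141,tg_142,tg_143,tg_144,tg_145,tg_146,tg_147,tg_148,tg_149,tg_150,tg_151,tg_152,tg_153,tg_154,tg_155,tg_156,tg_157,tg_158,tg_159,tg_160,tg_161,tg_162,tg_163,tg_164,tg_165,tg_166,tg_167,tg_168,tg_169,tg_170,tg_171,tg_172,tg_173,tg_174,tg_175,tg_176,tg_177,tg_178,tg_179,tg_180,tg_181,tg_182,tg_183,tg_184,tg_185,tg_186,tg_187,tg_188,tg_189,tg_190,tg_191,tg_192,tg_193,tg_194,tg_195,tg_196,tg_197,tg_198,tg_199,tg_200,tg_201,tg_202,tg_203,tg_204,tg_205,tg_206,tg_207,tg_208,tg_209,tg_210,tg_211,tg_212,tg_213,tg_214,tg_215,tg_216,tg_217,tg_218,tg_219,tg_220,tg_221,tg_222,tg_223,tg_224,tg_225]) = true :=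
  rt_step ck_tg14 (by decide +kernel) rt_15

theorem rt_13 : C.runTargets tS_13 (tg_13 :: [tg_14,tg_15,tg_16,tg_17,tg_18,tg_19,tg_20,tg_21,tg_22,tg_23,tg_24,tg_25,tg_26,tg_27,tg_28,tg_29,tg_30,tg_31,tg_32,tg_33,tg_34,tg_35,tg_36,tg_37,tg_38,tg_39,tg_40,tg_41,tg_42,tg_43,tg_44,tg_45,tg_46,tg_47,tg_48,tg_49,tg_50,tg_51,tg_52,tg_53,tg_54,tg_55,tg_56,tg_57,tg_58,tg_59,tg_60,tg_61,tg_62,tg_63,tg_64,tg_65,tg_66,tg_67,tg_68,tg_69,tg_70,tg_71,tg_72,tg_73,tg_74,tg_75,tg_76,tg_77,tg_78,tg_79,tg_80,tg_81,tg_82,tg_83,tg_84,tg_85,tg_86,tg_87,tg_88,tg_89,tg_90,tg_91,tg_92,tg_93,tg_94,tg_95,tg_96,tg_97,tg_98,tg_99,tg_100,tg_101,tg_102,tg_103,tg_104,tg_105,tg_106,tg_107,tg_108,tg_109,tg_110,tg_111,tg_112,tg_113,tg_114,tg_115,tg_116,tg_117,tg_118,tg_119,tg_120,tg_121,tg_122,tg_123,tg_124,tg_125,tg_126,tg_127,tg_128,tg_129,tg_130,tg_131,tg_132,t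g_133,tg_134,tg_135,tg_136,tg_137,tg_138,tg_139,tg_140,tg_141,tg_142,tg_143,tg_144,tg_145,tg_146,tg_147,tg_148,tg_149,tg_150,tg_151,tg_152,tg_153,tg_154,tg_155,tg_156,tg_157,tg_158,tg_159,tg_160,tg_161,tg_162,tg_163,tg_164,tg_165,tg_166,tg_167,tg_168,tg_169,tg_170,tg_171,tg_172,tg_173,tg_174,tg_175,tg_176,tg_177,tg_178,tg_179,tg_180,tg_181,tg_182,tg_183,tg_184,tg_185,tg_186,tg_187,tg_188,tg_189,tg_190,tg_191,tg_192,tg_193,tg_194,tg_195,tg_196,tg_197,tg_198,tg_199,tg_200,tg_201,tg_202,tg_203,tg_204,tg_205,tg_206,tg_207,tg_208,tg_209,tg_210,tg_211,tg_212,tg_213,tg_214,tg_215,tg_216,tg_217,tg_218,tg_219,tg_220,tg_221,tg_222,tg_223,tg_224,tg_225]) = true :=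
  rt_step ck_tg13 (by decide +kernel) rt_14

theorem rt_12 : C.runTargets tS_12 (tg_12 :: [tg_13,tg_14,tg_15,tg_16,tg_17,tg_18,tg_19,tg_20,tg_21,tg_22,tg_23,tg_24,tg_25,tg_26,tg_27,tg_28,tg_29,tg_30,tg_31,tg_32,tg_33,tg_34,tg_35,tg_36,tg_37,tg_38,tg_39,tg_40,tg_41,tg_42,tg_43,tg_44,tg_45,tg_46,tg_47,tg_48,tg_49,tg_50,tg_51,tg_52,tg_53,tg_54,tg_55,tg_56,tg_57,tg_58,tg_59,tg_60,tg_61,tg_62,tg_63,tg_64,tg_65,tg_66,tg_67,tg_68,tg_69,tg_70,tg_71,tg_72,tg_73,tg_74,tg_75,tg_76,tg_77,tg_78,tg_79,tg_80,tg_81,tg_82,tg_83,tg_84,tg_85,tg_86,tg_87,tg_88,tg_89,tg_90,tg_91,tg_92,tg_93,tg_94,tg_95,tg_96,tg_97,tg_98,tg_99,tg_100,tg_101,tg_102,tg_103,tg_104,tg_105,tg_106,tg_107,tg_108,tg_109,tg_110,tg_111,tg_112,tg_113,tg_114,tg_115,tg_116,tg_117,tg_118,tg_119,tg_120,tg_121,tg_122,tg_123,tg_124,tg_125,tg_126,tg_127,tg_128,tg_129,tg_130,tg_131,tg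_132,tg_133,tg_134,tg_135,tg_136,tg_137,tg_138,tg_139,tg_140,tg_141,tg_142,tg_143,tg_144,tg_145,tg_146,tg_147,tg_148,tg_149,tg_150,tg_151,tg_152,tg_153,tg_154,tg_155,tg_156,tg_157,tg_158,tg_159,tg_160,tg_161,tg_162,tg_163,tg_164,tg_165,tg_166,tg_167,tg_168,tg_169,tg_170,tg_171,tg_172,tg_173,tg_174,tg_175,tg_176,tg_177,tg_178,tg_179,tg_180,tg_181,tg_182,tg_183,tg_184,tg_185,tg_186,tg_187,tg_188,tg_189,tg_190,tg_191,tg_192,tg_193,tg_194,tg_195,tg_196,tg_197,tg_198,tg_199,tg_200,tg_201,tg_202,tg_203,tg_204,tg_205,tg_206,tg_207,tg_208,tg_209,tg_210,tg_211,tg_212,tg_213,tg_214,tg_215,tg_216,tg_217,tg_218,tg_219,tg_220,tg_221,tg_222,tg_223,tg_224,tg_225]) = true :=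
  rt_step ck_tg12 (by decide +kernel) rt_13

theorem rt_11 : C.runTargets tS_11 (tg_11 :: [tg_12,tg_13,tg_14,tg_15,tg_16,tg_17,tg_18,tg_19,tg_20,tg_21,tg_22,tg_23,tg_24,tg_25,tg_26,tg_27,tg_28,tg_29,tg_30,tg_31,tg_32,tg_33,tg_34,tg_35,tg_36,tg_37,tg_38,tg_39,tg_40,tg_41,tg_42,tg_43,tg_44,tg_45,tg_46,tg_47,tg_48,tg_49,tg_50,tg_51,tg_52,tg_53,tg_54,tg_55,tg_56,tg_57,tg_58,tg_59,tg_60,tg_61,tg_62,tg_63,tg_64,tg_65,tg_66,tg_67,tg_68,tg_69,tg_70,tg_71,tg_72,tg_73,tg_74,tg_75,tg_76,tg_77,tg_78,tg_79,tg_80,tg_81,tg_82,tg_83,tg_84,tg_85,tg_86,tg_87,tg_88,tg_89,tg_90,tg_91,tg_92,tg_93,tg_94,tg_95,tg_96,tg_97,tg_98,tg_99,tg_100,tg_101,tg_102,tg_103,tg_104,tg_105,tg_106,tg_107,tg_108,tg_109,tg_110,tg_111,tg_112,tg_113,tg_114,tg_115,tg_116,tg_117,tg_118,tg_119,tg_120,tg_121,tg_122,tg_123,tg_124,tg_125,tg_126,tg_127,tg_128,tg_129,tg_130,tg_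131,tg_132,tg_133,tg_134,tg_135,tg_136,tg_137,tg_138,tg_139,tg_140,tg_141,tg_142,tg_143,tg_144,tg_145,tg_146,tg_147,tg_148,tg_149,tg_150,tg_151,tg_152,tg_153,tg_154,tg_155,tg_156,tg_157,tg_158,tg_159,tg_160,tg_161,tg_162,tg_163,tg_164,tg_165,tg_166,tg_167,tg_168,tg_169,tg_170,tg_171,tg_172,tg_173,tg_174,tg_175,tg_176,tg_177,tg_178,tg_179,tg_180,tg_181,tg_182,tg_183,tg_184,tg_185,tg_186,tg_187,tg_188,tg_189,tg_190,tg_191,tg_192,tg_193,tg_194,tg_195,tg_196,tg_197,tg_198,tg_199,tg_200,tg_201,tg_202,tg_203,tg_204,tg_205,tg_206,tg_207,tg_208,tg_209,tg_210,tg_211,tg_212,tg_213,tg_214,tg_215,tg_216,tg_217,tg_218,tg_219,tg_220,tg_221,tg_222,tg_223,tg_224,tg_225]) = true :=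
  rt_step ck_tg11 (by decide +kernel) rt_12

theorem rt_10 : C.runTargets tS_10 (tg_10 :: [tg_11,tg_12,tg_13,tg_14,tg_15,tg_16,tg_17,tg_18,tg_19,tg_20,tg_21,tg_22,tg_23,tg_24,tg_25,tg_26,tg_27,tg_28,tg_29,tg_30,tg_31,tg_32,tg_33,tg_34,tg_35,tg_36,tg_37,tg_38,tg_39,tg_40,tg_41,tg_42,tg_43,tg_44,tg_45,tg_46,tg_47,tg_48,tg_49,tg_50,tg_51,tg_52,tg_53,tg_54,tg_55,tg_56,tg_57,tg_58,tg_59,tg_60,tg_61,tg_62,tg_63,tg_64,tg_65,tg_66,tg_67,tg_68,tg_69,tg_70,tg_71,tg_72,tg_73,tg_74,tg_75,tg_76,tg_77,tg_78,tg_79,tg_80,tg_81,tg_82,tg_83,tg_84,tg_85,tg_86,tg_87,tg_88,tg_89,tg_90,tg_91,tg_92,tg_93,tg_94,tg_95,tg_96,tg_97,tg_98,tg_99,tg_100,tg_101,tg_102,tg_103,tg_104,tg_105,tg_106,tg_107,tg_108,tg_109,tg_110,tg_111,tg_112,tg_113,tg_114,tg_115,tg_116,tg_117,tg_118,tg_119,tg_120,tg_121,tg_122,tg_123,tg_124,tg_125,tg_126,tg_127,tg_128,tg_129,tg_1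30,tg_131,tg_132,tg_133,tg_134,tg_135,tg_136,tg_137,tg_138,tg_139,tg_140,tg_141,tg_142,tg_143,tg_144,tg_145,tg_146,tg_147,tg_148,tg_149,tg_150,tg_151,tg_152,tg_153,tg_154,tg_155,tg_156,tg_157,tg_158,tg_159,tg_160,tg_161,tg_162,tg_163,tg_164,tg_165,tg_166,tg_167,tg_168,tg_169,tg_170,tg_171,tg_172,tg_173,tg_174,tg_175,tg_176,tg_177,tg_178,tg_179,tg_180,tg_181,tg_182,tg_183,tg_184,tg_185,tg_186,tg_187,tg_188,tg_189,tg_190,tg_191,tg_192,tg_193,tg_194,tg_195,tg_196,tg_197,tg_198,tg_199,tg_200,tg_201,tg_202,tg_203,tg_204,tg_205,tg_206,tg_207,tg_208,tg_209,tg_210,tg_211,tg_212,tg_213,tg_214,tg_215,tg_216,tg_217,tg_218,tg_219,tg_220,tg_221,tg_222,tg_223,tg_224,tg_225]) = true :=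
  rt_step ck_tg10 (by decide +kernel) rt_11

theorem rt_9 : C.runTargets tS_9 (tg_9 :: [tg_10,tg_11,tg_12,tg_13,tg_14,tg_15,tg_16,tg_17,tg_18,tg_19,tg_20,tg_21,tg_22,tg_23,tg_24,tg_25,tg_26,tg_27,tg_28,tg_29,tg_30,tg_31,tg_32,tg_33,tg_34,tg_35,tg_36,tg_37,tg_38,tg_39,tg_40,tg_41,tg_42,tg_43,tg_44,tg_45,tg_46,tg_47,tg_48,tg_49,tg_50,tg_51,tg_52,tg_53,tg_54,tg_55,tg_56,tg_57,tg_58,tg_59,tg_60,tg_61,tg_62,tg_63,tg_64,tg_65,tg_66,tg_67,tg_68,tg_69,tg_70,tg_71,tg_72,tg_73,tg_74,tg_75,tg_76,tg_77,tg_78,tg_79,tg_80,tg_81,tg_82,tg_83,tg_84,tg_85,tg_86,tg_87,tg_88,tg_89,tg_90,tg_91,tg_92,tg_93,tg_94,tg_95,tg_96,tg_97,tg_98,tg_99,tg_100,tg_101,tg_102,tg_103,tg_104,tg_105,tg_106,tg_107,tg_108,tg_109,tg_110,tg_111,tg_112,tg_113,tg_114,tg_115,tg_116,tg_117,tg_118,tg_119,tg_120,tg_121,tg_122,tg_123,tg_124,tg_125,tg_126,tg_127,tg_128,tg_129,t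g_130,tg_131,tg_132,tg_133,tg_134,tg_135,tg_136,tg_137,tg_138,tg_139,tg_140,tg_141,tg_142,tg_143,tg_144,tg_145,tg_146,tg_147,tg_148,tg_149,tg_150,tg_151,tg_152,tg_153,tg_154,tg_155,tg_156,tg_157,tg_158,tg_159,tg_160,tg_161,tg_162,tg_163,tg_164,tg_165,tg_166,tg_167,tg_168,tg_169,tg_170,tg_171,tg_172,tg_173,tg_174,tg_175,tg_176,tg_177,tg_178,tg_179,tg_180,tg_181,tg_182,tg_183,tg_184,tg_185,tg_186,tg_187,tg_188,tg_189,tg_190,tg_191,tg_192,tg_193,tg_194,tg_195,tg_196,tg_197,tg_198,tg_199,tg_200,tg_201,tg_202,tg_203,tg_204,tg_205,tg_206,tg_207,tg_208,tg_209,tg_210,tg_211,tg_212,tg_213,tg_214,tg_215,tg_216,tg_217,tg_218,tg_219,tg_220,tg_221,tg_222,tg_223,tg_224,tg_225]) = true :=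
  rt_step ck_tg9 (by decide +kernel) rt_10

theorem rt_8 : C.runTargets tS_8 (tg_8 :: [tg_9,tg_10,tg_11,tg_12,tg_13,tg_14,tg_15,tg_16,tg_17,tg_18,tg_19,tg_20,tg_21,tg_22,tg_23,tg_24,tg_25,tg_26,tg_27,tg_28,tg_29,tg_30,tg_31,tg_32,tg_33,tg_34,tg_35,tg_36,tg_37,tg_38,tg_39,tg_40,tg_41,tg_42,tg_43,tg_44,tg_45,tg_46,tg_47,tg_48,tg_49,tg_50,tg_51,tg_52,tg_53,tg_54,tg_55,tg_56,tg_57,tg_58,tg_59,tg_60,tg_61,tg_62,tg_63,tg_64,tg_65,tg_66,tg_67,tg_68,tg_69,tg_70,tg_71,tg_72,tg_73,tg_74,tg_75,tg_76,tg_77,tg_78,tg_79,tg_80,tg_81,tg_82,tg_83,tg_84,tg_85,tg_86,tg_87,tg_88,tg_89,tg_90,tg_91,tg_92,tg_93,tg_94,tg_95,tg_96,tg_97,tg_98,tg_99,tg_100,tg_101,tg_102,tg_103,tg_104,tg_105,tg_106,tg_107,tg_108,tg_109,tg_110,tg_111,tg_112,tg_113,tg_114,tg_115,tg_116,tg_117,tg_118,tg_119,tg_120,tg_121,tg_122,tg_123,tg_124,tg_125,tg_126,tg_127,tg_128,tg_1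29,tg_130,tg_131,tg_132,tg_133,tg_134,tg_135,tg_136,tg_137,tg_138,tg_139,tg_140,tg_141,tg_142,tg_143,tg_144,tg_145,tg_146,tg_147,tg_148,tg_149,tg_150,tg_151,tg_152,tg_153,tg_154,tg_155,tg_156,tg_157,tg_158,tg_159,tg_160,tg_161,tg_162,tg_163,tg_164,tg_165,tg_166,tg_167,tg_168,tg_169,tg_170,tg_171,tg_172,tg_173,tg_174,tg_175,tg_176,tg_177,tg_178,tg_179,tg_180,tg_181,tg_182,tg_183,tg_184,tg_185,tg_186,tg_187,tg_188,tg_189,tg_190,tg_191,tg_192,tg_193,tg_194,tg_195,tg_196,tg_197,tg_198,tg_199,tg_200,tg_201,tg_202,tg_203,tg_204,tg_205,tg_206,tg_207,tg_208,tg_209,tg_210,tg_211,tg_212,tg_213,tg_214,tg_215,tg_216,tg_217,tg_218,tg_219,tg_220,tg_221,tg_222,tg_223,tg_224,tg_225]) = true :=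
  rt_step ck_tg8 (by decide +kernel) rt_9

theorem rt_7 : C.runTargets tS_7 (tg_7 :: [tg_8,tg_9,tg_10,tg_11,tg_12,tg_13,tg_14,tg_15,tg_16,tg_17,tg_18,tg_19,tg_20,tg_21,tg_22,tg_23,tg_24,tg_25,tg_26,tg_27,tg_28,tg_29,tg_30,tg_31,tg_32,tg_33,tg_34,tg_35,tg_36,tg_37,tg_38,tg_39,tg_40,tg_41,tg_42,tg_43,tg_44,tg_45,tg_46,tg_47,tg_48,tg_49,tg_50,tg_51,tg_52,tg_53,tg_54,tg_55,tg_56,tg_57,tg_58,tg_59,tg_60,tg_61,tg_62,tg_63,tg_64,tg_65,tg_66,tg_67,tg_68,tg_69,tg_70,tg_71,tg_72,tg_73,tg_74,tg_75,tg_76,tg_77,tg_78,tg_79,tg_80,tg_81,tg_82,tg_83,tg_84,tg_85,tg_86,tg_87,tg_88,tg_89,tg_90,tg_91,tg_92,tg_93,tg_94,tg_95,tg_96,tg_97,tg_98,tg_99,tg_100,tg_101,tg_102,tg_103,tg_104,tg_105,tg_106,tg_107,tg_108,tg_109,tg_110,tg_111,tg_112,tg_113,tg_114,tg_115,tg_116,tg_117,tg_118,tg_119,tg_120,tg_121,tg_122,tg_123,tg_124,tg_125,tg_126,tg_127,tg_128,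tg_129,tg_130,tg_131,tg_132,tg_133,tg_134,tg_135,tg_136,tg_137,tg_138,tg_139,tg_140,tg_141,tg_142,tg_143,tg_144,tg_145,tg_146,tg_147,tg_148,tg_149,tg_150,tg_151,tg_152,tg_153,tg_154,tg_155,tg_156,tg_157,tg_158,tg_159,tg_160,tg_161,tg_162,tg_163,tg_164,tg_165,tg_166,tg_167,tg_168,tg_169,tg_170,tg_171,tg_172,tg_173,tg_174,tg_175,tg_176,tg_177,tg_178,tg_179,tg_180,tg_181,tg_182,tg_183,tg_184,tg_185,tg_186,tg_187,tg_188,tg_189,tg_190,tg_191,tg_192,tg_193,tg_194,tg_195,tg_196,tg_197,tg_198,tg_199,tg_200,tg_201,tg_202,tg_203,tg_204,tg_205,tg_206,tg_207,tg_208,tg_209,tg_210,tg_211,tg_212,tg_213,tg_214,tg_215,tg_216,tg_217,tg_218,tg_219,tg_220,tg_221,tg_222,tg_223,tg_224,tg_225]) = true :=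
  rt_step ck_tg7 (by decide +kernel) rt_8

theorem rt_6 : C.runTargets tS_6 (tg_6 :: [tg_7,tg_8,tg_9,tg_10,tg_11,tg_12,tg_13,tg_14,tg_15,tg_16,tg_17,tg_18,tg_19,tg_20,tg_21,tg_22,tg_23,tg_24,tg_25,tg_26,tg_27,tg_28,tg_29,tg_30,tg_31,tg_32,tg_33,tg_34,tg_35,tg_36,tg_37,tg_38,tg_39,tg_40,tg_41,tg_42,tg_43,tg_44,tg_45,tg_46,tg_47,tg_48,tg_49,tg_50,tg_51,tg_52,tg_53,tg_54,tg_55,tg_56,tg_57,tg_58,tg_59,tg_60,tg_61,tg_62,tg_63,tg_64,tg_65,tg_66,tg_67,tg_68,tg_69,tg_70,tg_71,tg_72,tg_73,tg_74,tg_75,tg_76,tg_77,tg_78,tg_79,tg_80,tg_81,tg_82,tg_83,tg_84,tg_85,tg_86,tg_87,tg_88,tg_89,tg_90,tg_91,tg_92,tg_93,tg_94,tg_95,tg_96,tg_97,tg_98,tg_99,tg_100,tg_101,tg_102,tg_103,tg_104,tg_105,tg_106,tg_107,tg_108,tg_109,tg_110,tg_111,tg_112,tg_113,tg_114,tg_115,tg_116,tg_117,tg_118,tg_119,tg_120,tg_121,tg_122,tg_123,tg_124,tg_125,tg_126,tg_127,tg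_128,tg_129,tg_130,tg_131,tg_132,tg_133,tg_134,tg_135,tg_136,tg_137,tg_138,tg_139,tg_140,tg_141,tg_142,tg_143,tg_144,tg_145,tg_146,tg_147,tg_148,tg_149,tg_150,tg_151,tg_152,tg_153,tg_154,tg_155,tg_156,tg_157,tg_158,tg_159,tg_160,tg_161,tg_162,tg_163,tg_164,tg_165,tg_166,tg_167,tg_168,tg_169,tg_170,tg_171,tg_172,tg_173,tg_174,tg_175,tg_176,tg_177,tg_178,tg_179,tg_180,tg_181,tg_182,tg_183,tg_184,tg_185,tg_186,tg_187,tg_188,tg_189,tg_190,tg_191,tg_192,tg_193,tg_194,tg_195,tg_196,tg_197,tg_198,tg_199,tg_200,tg_201,tg_202,tg_203,tg_204,tg_205,tg_206,tg_207,tg_208,tg_209,tg_210,tg_211,tg_212,tg_213,tg_214,tg_215,tg_216,tg_217,tg_218,tg_219,tg_220,tg_221,tg_222,tg_223,tg_224,tg_225]) = true :=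
  rt_step ck_tg6 (by decide +kernel) rt_7

theorem rt_5 : C.runTargets tS_5 (tg_5 :: [tg_6,tg_7,tg_8,tg_9,tg_10,tg_11,tg_12,tg_13,tg_14,tg_15,tg_16,tg_17,tg_18,tg_19,tg_20,tg_21,tg_22,tg_23,tg_24,tg_25,tg_26,tg_27,tg_28,tg_29,tg_30,tg_31,tg_32,tg_33,tg_34,tg_35,tg_36,tg_37,tg_38,tg_39,tg_40,tg_41,tg_42,tg_43,tg_44,tg_45,tg_46,tg_47,tg_48,tg_49,tg_50,tg_51,tg_52,tg_53,tg_54,tg_55,tg_56,tg_57,tg_58,tg_59,tg_60,tg_61,tg_62,tg_63,tg_64,tg_65,tg_66,tg_67,tg_68,tg_69,tg_70,tg_71,tg_72,tg_73,tg_74,tg_75,tg_76,tg_77,tg_78,tg_79,tg_80,tg_81,tg_82,tg_83,tg_84,tg_85,tg_86,tg_87,tg_88,tg_89,tg_90,tg_91,tg_92,tg_93,tg_94,tg_95,tg_96,tg_97,tg_98,tg_99,tg_100,tg_101,tg_102,tg_103,tg_104,tg_105,tg_106,tg_107,tg_108,tg_109,tg_110,tg_111,tg_112,tg_113,tg_114,tg_115,tg_116,tg_117,tg_118,tg_119,tg_120,tg_121,tg_122,tg_123,tg_124,tg_125,tg_126,tg_1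27,tg_128,tg_129,tg_130,tg_131,tg_132,tg_133,tg_134,tg_135,tg_136,tg_137,tg_138,tg_139,tg_140,tg_141,tg_142,tg_143,tg_144,tg_145,tg_146,tg_147,tg_148,tg_149,tg_150,tg_151,tg_152,tg_153,tg_154,tg_155,tg_156,tg_157,tg_158,tg_159,tg_160,tg_161,tg_162,tg_163,tg_164,tg_165,tg_166,tg_167,tg_168,tg_169,tg_170,tg_171,tg_172,tg_173,tg_174,tg_175,tg_176,tg_177,tg_178,tg_179,tg_180,tg_181,tg_182,tg_183,tg_184,tg_185,tg_186,tg_187,tg_188,tg_189,tg_190,tg_191,tg_192,tg_193,tg_194,tg_195,tg_196,tg_197,tg_198,tg_199,tg_200,tg_201,tg_202,tg_203,tg_204,tg_205,tg_206,tg_207,tg_208,tg_209,tg_210,tg_211,tg_212,tg_213,tg_214,tg_215,tg_216,tg_217,tg_218,tg_219,tg_220,tg_221,tg_222,tg_223,tg_224,tg_225]) = true :=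
  rt_step ck_tg5 (by decide +kernel) rt_6

theorem rt_4 : C.runTargets tS_4 (tg_4 :: [tg_5,tg_6,tg_7,tg_8,tg_9,tg_10,tg_11,tg_12,tg_13,tg_14,tg_15,tg_16,tg_17,tg_18,tg_19,tg_20,tg_21,tg_22,tg_23,tg_24,tg_25,tg_26,tg_27,tg_28,tg_29,tg_30,tg_31,tg_32,tg_33,tg_34,tg_35,tg_36,tg_37,tg_38,tg_39,tg_40,tg_41,tg_42,tg_43,tg_44,tg_45,tg_46,tg_47,tg_48,tg_49,tg_50,tg_51,tg_52,tg_53,tg_54,tg_55,tg_56,tg_57,tg_58,tg_59,tg_60,tg_61,tg_62,tg_63,tg_64,tg_65,tg_66,tg_67,tg_68,tg_69,tg_70,tg_71,tg_72,tg_73,tg_74,tg_75,tg_76,tg_77,tg_78,tg_79,tg_80,tg_81,tg_82,tg_83,tg_84,tg_85,tg_86,tg_87,tg_88,tg_89,tg_90,tg_91,tg_92,tg_93,tg_94,tg_95,tg_96,tg_97,tg_98,tg_99,tg_100,tg_101,tg_102,tg_103,tg_104,tg_105,tg_106,tg_107,tg_108,tg_109,tg_110,tg_111,tg_112,tg_113,tg_114,tg_115,tg_116,tg_117,tg_118,tg_119,tg_120,tg_121,tg_122,tg_123,tg_124,tg_125,tg_126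,tg_127,tg_128,tg_129,tg_130,tg_131,tg_132,tg_133,tg_134,tg_135,tg_136,tg_137,tg_138,tg_139,tg_140,tg_141,tg_142,tg_143,tg_144,tg_145,tg_146,tg_147,tg_148,tg_149,tg_150,tg_151,tg_152,tg_153,tg_154,tg_155,tg_156,tg_157,tg_158,tg_159,tg_160,tg_161,tg_162,tg_163,tg_164,tg_165,tg_166,tg_167,tg_168,tg_169,tg_170,tg_171,tg_172,tg_173,tg_174,tg_175,tg_176,tg_177,tg_178,tg_179,tg_180,tg_181,tg_182,tg_183,tg_184,tg_185,tg_186,tg_187,tg_188,tg_189,tg_190,tg_191,tg_192,tg_193,tg_194,tg_195,tg_196,tg_197,tg_198,tg_199,tg_200,tg_201,tg_202,tg_203,tg_204,tg_205,tg_206,tg_207,tg_208,tg_209,tg_210,tg_211,tg_212,tg_213,tg_214,tg_215,tg_216,tg_217,tg_218,tg_219,tg_220,tg_221,tg_222,tg_223,tg_224,tg_225]) = true :=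
  rt_step ck_tg4 (by decide +kernel) rt_5

theorem rt_3 : C.runTargets tS_3 (tg_3 :: [tg_4,tg_5,tg_6,tg_7,tg_8,tg_9,tg_10,tg_11,tg_12,tg_13,tg_14,tg_15,tg_16,tg_17,tg_18,tg_19,tg_20,tg_21,tg_22,tg_23,tg_24,tg_25,tg_26,tg_27,tg_28,tg_29,tg_30,tg_31,tg_32,tg_33,tg_34,tg_35,tg_36,tg_37,tg_38,tg_39,tg_40,tg_41,tg_42,tg_43,tg_44,tg_45,tg_46,tg_47,tg_48,tg_49,tg_50,tg_51,tg_52,tg_53,tg_54,tg_55,tg_56,tg_57,tg_58,tg_59,tg_60,tg_61,tg_62,tg_63,tg_64,tg_65,tg_66,tg_67,tg_68,tg_69,tg_70,tg_71,tg_72,tg_73,tg_74,tg_75,tg_76,tg_77,tg_78,tg_79,tg_80,tg_81,tg_82,tg_83,tg_84,tg_85,tg_86,tg_87,tg_88,tg_89,tg_90,tg_91,tg_92,tg_93,tg_94,tg_95,tg_96,tg_97,tg_98,tg_99,tg_100,tg_101,tg_102,tg_103,tg_104,tg_105,tg_106,tg_107,tg_108,tg_109,tg_110,tg_111,tg_112,tg_113,tg_114,tg_115,tg_116,tg_117,tg_118,tg_119,tg_120,tg_121,tg_122,tg_123,tg_124,tg_125,t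g_126,tg_127,tg_128,tg_129,tg_130,tg_131,tg_132,tg_133,tg_134,tg_135,tg_136,tg_137,tg_138,tg_139,tg_140,tg_141,tg_142,tg_143,tg_144,tg_145,tg_146,tg_147,tg_148,tg_149,tg_150,tg_151,tg_152,tg_153,tg_154,tg_155,tg_156,tg_157,tg_158,tg_159,tg_160,tg_161,tg_162,tg_163,tg_164,tg_165,tg_166,tg_167,tg_168,tg_169,tg_170,tg_171,tg_172,tg_173,tg_174,tg_175,tg_176,tg_177,tg_178,tg_179,tg_180,tg_181,tg_182,tg_183,tg_184,tg_185,tg_186,tg_187,tg_188,tg_189,tg_190,tg_191,tg_192,tg_193,tg_194,tg_195,tg_196,tg_197,tg_198,tg_199,tg_200,tg_201,tg_202,tg_203,tg_204,tg_205,tg_206,tg_207,tg_208,tg_209,tg_210,tg_211,tg_212,tg_213,tg_214,tg_215,tg_216,tg_217,tg_218,tg_219,tg_220,tg_221,tg_222,tg_223,tg_224,tg_225]) = true :=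
  rt_step ck_tg3 (by decide +kernel) rt_4

theorem rt_2 : C.runTargets tS_2 (tg_2 :: [tg_3,tg_4,tg_5,tg_6,tg_7,tg_8,tg_9,tg_10,tg_11,tg_12,tg_13,tg_14,tg_15,tg_16,tg_17,tg_18,tg_19,tg_20,tg_21,tg_22,tg_23,tg_24,tg_25,tg_26,tg_27,tg_28,tg_29,tg_30,tg_31,tg_32,tg_33,tg_34,tg_35,tg_36,tg_37,tg_38,tg_39,tg_40,tg_41,tg_42,tg_43,tg_44,tg_45,tg_46,tg_47,tg_48,tg_49,tg_50,tg_51,tg_52,tg_53,tg_54,tg_55,tg_56,tg_57,tg_58,tg_59,tg_60,tg_61,tg_62,tg_63,tg_64,tg_65,tg_66,tg_67,tg_68,tg_69,tg_70,tg_71,tg_72,tg_73,tg_74,tg_75,tg_76,tg_77,tg_78,tg_79,tg_80,tg_81,tg_82,tg_83,tg_84,tg_85,tg_86,tg_87,tg_88,tg_89,tg_90,tg_91,tg_92,tg_93,tg_94,tg_95,tg_96,tg_97,tg_98,tg_99,tg_100,tg_101,tg_102,tg_103,tg_104,tg_105,tg_106,tg_107,tg_108,tg_109,tg_110,tg_111,tg_112,tg_113,tg_114,tg_115,tg_116,tg_117,tg_118,tg_119,tg_120,tg_121,tg_122,tg_123,tg_124,tg_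125,tg_126,tg_127,tg_128,tg_129,tg_130,tg_131,tg_132,tg_133,tg_134,tg_135,tg_136,tg_137,tg_138,tg_139,tg_140,tg_141,tg_142,tg_143,tg_144,tg_145,tg_146,tg_147,tg_148,tg_149,tg_150,tg_151,tg_152,tg_153,tg_154,tg_155,tg_156,tg_157,tg_158,tg_159,tg_160,tg_161,tg_162,tg_163,tg_164,tg_165,tg_166,tg_167,tg_168,tg_169,tg_170,tg_171,tg_172,tg_173,tg_174,tg_175,tg_176,tg_177,tg_178,tg_179,tg_180,tg_181,tg_182,tg_183,tg_184,tg_185,tg_186,tg_187,tg_188,tg_189,tg_190,tg_191,tg_192,tg_193,tg_194,tg_195,tg_196,tg_197,tg_198,tg_199,tg_200,tg_201,tg_202,tg_203,tg_204,tg_205,tg_206,tg_207,tg_208,tg_209,tg_210,tg_211,tg_212,tg_213,tg_214,tg_215,tg_216,tg_217,tg_218,tg_219,tg_220,tg_221,tg_222,tg_223,tg_224,tg_225]) = true :=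
  rt_step ck_tg2 (by decide +kernel) rt_3

theorem rt_1 : C.runTargets tS_1 (tg_1 :: [tg_2,tg_3,tg_4,tg_5,tg_6,tg_7,tg_8,tg_9,tg_10,tg_11,tg_12,tg_13,tg_14,tg_15,tg_16,tg_17,tg_18,tg_19,tg_20,tg_21,tg_22,tg_23,tg_24,tg_25,tg_26,tg_27,tg_28,tg_29,tg_30,tg_31,tg_32,tg_33,tg_34,tg_35,tg_36,tg_37,tg_38,tg_39,tg_40,tg_41,tg_42,tg_43,tg_44,tg_45,tg_46,tg_47,tg_48,tg_49,tg_50,tg_51,tg_52,tg_53,tg_54,tg_55,tg_56,tg_57,tg_58,tg_59,tg_60,tg_61,tg_62,tg_63,tg_64,tg_65,tg_66,tg_67,tg_68,tg_69,tg_70,tg_71,tg_72,tg_73,tg_74,tg_75,tg_76,tg_77,tg_78,tg_79,tg_80,tg_81,tg_82,tg_83,tg_84,tg_85,tg_86,tg_87,tg_88,tg_89,tg_90,tg_91,tg_92,tg_93,tg_94,tg_95,tg_96,tg_97,tg_98,tg_99,tg_100,tg_101,tg_102,tg_103,tg_104,tg_105,tg_106,tg_107,tg_108,tg_109,tg_110,tg_111,tg_112,tg_113,tg_114,tg_115,tg_116,tg_117,tg_118,tg_119,tg_120,tg_121,tg_122,tg_123,tg_12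4,tg_125,tg_126,tg_127,tg_128,tg_129,tg_130,tg_131,tg_132,tg_133,tg_134,tg_135,tg_136,tg_137,tg_138,tg_139,tg_140,tg_141,tg_142,tg_143,tg_144,tg_145,tg_146,tg_147,tg_148,tg_149,tg_150,tg_151,tg_152,tg_153,tg_154,tg_155,tg_156,tg_157,tg_158,tg_159,tg_160,tg_161,tg_162,tg_163,tg_164,tg_165,tg_166,tg_167,tg_168,tg_169,tg_170,tg_171,tg_172,tg_173,tg_174,tg_175,tg_176,tg_177,tg_178,tg_179,tg_180,tg_181,tg_182,tg_183,tg_184,tg_185,tg_186,tg_187,tg_188,tg_189,tg_190,tg_191,tg_192,tg_193,tg_194,tg_195,tg_196,tg_197,tg_198,tg_199,tg_200,tg_201,tg_202,tg_203,tg_204,tg_205,tg_206,tg_207,tg_208,tg_209,tg_210,tg_211,tg_212,tg_213,tg_214,tg_215,tg_216,tg_217,tg_218,tg_219,tg_220,tg_221,tg_222,tg_223,tg_224,tg_225]) = true :=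
  rt_step ck_tg1 (by decide +kernel) rt_2

theorem rt_0 : C.runTargets tS_0 (tg_0 :: [tg_1,tg_2,tg_3,tg_4,tg_5,tg_6,tg_7,tg_8,tg_9,tg_10,tg_11,tg_12,tg_13,tg_14,tg_15,tg_16,tg_17,tg_18,tg_19,tg_20,tg_21,tg_22,tg_23,tg_24,tg_25,tg_26,tg_27,tg_28,tg_29,tg_30,tg_31,tg_32,tg_33,tg_34,tg_35,tg_36,tg_37,tg_38,tg_39,tg_40,tg_41,tg_42,tg_43,tg_44,tg_45,tg_46,tg_47,tg_48,tg_49,tg_50,tg_51,tg_52,tg_53,tg_54,tg_55,tg_56,tg_57,tg_58,tg_59,tg_60,tg_61,tg_62,tg_63,tg_64,tg_65,tg_66,tg_67,tg_68,tg_69,tg_70,tg_71,tg_72,tg_73,tg_74,tg_75,tg_76,tg_77,tg_78,tg_79,tg_80,tg_81,tg_82,tg_83,tg_84,tg_85,tg_86,tg_87,tg_88,tg_89,tg_90,tg_91,tg_92,tg_93,tg_94,tg_95,tg_96,tg_97,tg_98,tg_99,tg_100,tg_101,tg_102,tg_103,tg_104,tg_105,tg_106,tg_107,tg_108,tg_109,tg_110,tg_111,tg_112,tg_113,tg_114,tg_115,tg_116,tg_117,tg_118,tg_119,tg_120,tg_121,tg_122,tg_123,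tg_124,tg_125,tg_126,tg_127,tg_128,tg_129,tg_130,tg_131,tg_132,tg_133,tg_134,tg_135,tg_136,tg_137,tg_138,tg_139,tg_140,tg_141,tg_142,tg_143,tg_144,tg_145,tg_146,tg_147,tg_148,tg_149,tg_150,tg_151,tg_152,tg_153,tg_154,tg_155,tg_156,tg_157,tg_158,tg_159,tg_160,tg_161,tg_162,tg_163,tg_164,tg_165,tg_166,tg_167,tg_168,tg_169,tg_170,tg_171,tg_172,tg_173,tg_174,tg_175,tg_176,tg_177,tg_178,tg_179,tg_180,tg_181,tg_182,tg_183,tg_184,tg_185,tg_186,tg_187,tg_188,tg_189,tg_190,tg_191,tg_192,tg_193,tg_194,tg_195,tg_196,tg_197,tg_198,tg_199,tg_200,tg_201,tg_202,tg_203,tg_204,tg_205,tg_206,tg_207,tg_208,tg_209,tg_210,tg_211,tg_212,tg_213,tg_214,tg_215,tg_216,tg_217,tg_218,tg_219,tg_220,tg_221,tg_222,tg_223,tg_224,tg_225]) = true :=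
  rt_step ck_tg0 (by decide +kernel) rt_1

theorem ck_z : decide (C.combo C.zcomb = normS [(C.k0, (C.zm : ℤ))]) = true := by decide +kernel

theorem ck_all : ((List.range C.n).all fun j =>
      (decide (j < C.r) || decide (tidx j j ∈ C.targets.map (·.1))) &&
      (List.range j).all fun i => decide (tidx j i ∈ C.targets.map (·.1))) = true := by decide +kernel

theorem ck_tgs : C.chkTargets = true := targets_of_parts rt_0 ck_z ck_all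

theorem check_ok : C.check = true := check_of_parts ck_tb ck_df ck_ov ck_frs ck_tgs


theorem hwE : ∀ l ∈ wE, ∀ z ∈ l, z < 12 := by decide +kernel

theorem hwY : ∀ l ∈ wY, ∀ z ∈ l, z < 12 := by decide +kernel

theorem hwEe : ∀ l ∈ wE, Even l.length := by
  have h : ∀ l ∈ wE, l.length % 2 = 0 := by decide +kernel
  exact fun l hl => Nat.even_iff.2 (h l hl)

theorem hwYe : ∀ l ∈ wY, Even l.length := by
  have h : ∀ l ∈ wY, l.length % 2 = 0 := by decide +kernel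
  exact fun l hl => Nat.even_iff.2 (h l hl)

theorem hlvn : ∀ t ∈ lv, ∀ u ∈ t.2, ∀ y ∈ u, y < C.n := by decide +kernel

theorem hprod : (lv.map fun t => t.2.length).prod = C.p ^ C.n := by decide +kernel

theorem hitems : ∀ f < C.items.length, chkItem Cfsg.Agent.Lib.TC.D.Fi24a.Tab.pt C wE wY base f = true := by
  intro f hf
  have h : C.items.length = 3 := by decide +kernel
  rw [h] at hf
  interval_cases f
  · exact hitem0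
  · exact hitem1
  · exact hitem2


end Cfsg.Agent.Lib.Schur.Cert.Fi24p2
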