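import Cfsg.Agent.Lib.Schur.Cert.Fi24p3.A
import Cfsg.Agent.Lib.Schur.Cert.Fi24p3.F0
import Cfsg.Agent.Lib.Schur.Cert.Fi24p3.F1
import Cfsg.Agent.Lib.Schur.Cert.Fi24p3.F2
import Cfsg.Agent.Lib.Schur.Cert.Fi24p3.F3
import Cfsg.Agent.Lib.Schur.Cert.Fi24p3.T0
import Cfsg.Agent.Lib.Schur.Cert.Fi24p3.T1
import Cfsg.Agent.Lib.Schur.Cert.Fi24p3.T2
import Cfsg.Agent.Lib.Schur.Cert.Fi24p3.R
import Cfsg.Agent.Lib.Schur.Cert.Fi24p3.I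
import Cfsg.Agent.Lib.Schur.Cert.Fi24p3.L

set_option autoImplicit false
set_option maxRecDepth 100000
set_option maxHeartbeats 0
set_option Elab.async false

namespace Cfsg.Agent.Lib.Schur.Cert.Fi24p3

open Cfsg.Agent.Lib.Schur.PcMain Cfsg.Agent.Lib.Schur.PcBase Cfsg.Agent.Lib.Schur.PcCert Cfsg.Agent.Lib.Schur.PcSplit

theorem ck_frs : C.chkFrs = true := by
  refine frs_of_parts ?_
  show ∀ q ∈ [fr_0,fr_1,fr_2,fr_3,fr_4,fr_5,fr_6,fr_7,fr_8,fr_9,fr_10,fr_11,fr_12,fr_13,fr_14,fr_15,fr_16,fr_17,fr_18,fr_19,fr_20,fr_21,fr_22,fr_23,fr_24,fr_25,fr_26,fr_27,fr_28,fr_29,fr_30,fr_31,fr_32,fr_33,fr_34], _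
  intro q hq
  simp only [List.mem_cons, List.not_mem_nil, or_false] at hq
  rcases hq with rfl | rfl | rfl | rfl | rfl | rfl | rfl | rfl | rfl | rfl | rfl | rfl | rfl | rfl | rfl | rfl | rfl | rfl | rfl | rfl | rfl | rfl | rfl | rfl | rfl | rfl | rfl | rfl | rfl | rfl | rfl | rfl | rfl | rfl | rfl
  · exact ck_fr0
  · exact ck_fr1
  · exact ck_fr2
  · exact ck_fr3
  · exact ck_fr4
  · exact ck_fr5
  · exact ck_fr6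
  · exact ck_fr7
  · exact ck_fr8
  · exact ck_fr9
  · exact ck_fr10
  · exact ck_fr11
  · exact ck_fr12
  · exact ck_fr13
  · exact ck_fr14
  · exact ck_fr15
  · exact ck_fr16
  · exact ck_fr17
  · exact ck_fr18
  · exact ck_fr19
  · exact ck_fr20
  · exact ck_fr21
  · exact ck_fr22
  · exact ck_fr23
  · exact ck_fr24
  · exact ck_fr25
  · exact ck_fr26
  · exact ck_fr27
  · exact ck_fr28
  · exact ck_fr29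
  · exact ck_fr30
  · exact ck_fr31
  · exact ck_fr32
  · exact ck_fr33
  · exact ck_fr34

theorem rt_132 : C.runTargets tS_132 [] = true := rt_nil C _

theorem rt_131 : C.runTargets tS_131 (tg_131 :: []) = true :=
  rt_step ck_tg131 (by decide +kernel) rt_132

theorem rt_130 : C.runTargets tS_130 (tg_130 :: [tg_131]) = true :=
  rt_step ck_tg130 (by decide +kernel) rt_131

theorem rt_129 : C.runTargets tS_129 (tg_129 :: [tg_130,tg_131]) = true :=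
  rt_step ck_tg129 (by decide +kernel) rt_130

theorem rt_128 : C.runTargets tS_128 (tg_128 :: [tg_129,tg_130,tg_131]) = true :=
  rt_step ck_tg128 (by decide +kernel) rt_129

theorem rt_127 : C.runTargets tS_127 (tg_127 :: [tg_128,tg_129,tg_130,tg_131]) = true :=
  rt_step ck_tg127 (by decide +kernel) rt_128

theorem rt_126 : C.runTargets tS_126 (tg_126 :: [tg_127,tg_128,tg_129,tg_130,tg_131]) = true :=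
  rt_step ck_tg126 (by decide +kernel) rt_127

theorem rt_125 : C.runTargets tS_125 (tg_125 :: [tg_126,tg_127,tg_128,tg_129,tg_130,tg_131]) = true :=
  rt_step ck_tg125 (by decide +kernel) rt_126

theorem rt_124 : C.runTargets tS_124 (tg_124 :: [tg_125,tg_126,tg_127,tg_128,tg_129,tg_130,tg_131]) = true :=
  rt_step ck_tg124 (by decide +kernel) rt_125

theorem rt_123 : C.runTargets tS_123 (tg_123 :: [tg_124,tg_125,tg_126,tg_127,tg_128,tg_129,tg_130,tg_131]) = true :=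
  rt_step ck_tg123 (by decide +kernel) rt_124

theorem rt_122 : C.runTargets tS_122 (tg_122 :: [tg_123,tg_124,tg_125,tg_126,tg_127,tg_128,tg_129,tg_130,tg_131]) = true :=
  rt_step ck_tg122 (by decide +kernel) rt_123

theorem rt_121 : C.runTargets tS_121 (tg_121 :: [tg_122,tg_123,tg_124,tg_125,tg_126,tg_127,tg_128,tg_129,tg_130,tg_131]) = true :=
  rt_step ck_tg121 (by decide +kernel) rt_122

theorem rt_120 : C.runTargets tS_120 (tg_120 :: [tg_121,tg_122,tg_123,tg_124,tg_125,tg_126,tg_127,tg_128,tg_129,tg_130,tg_131]) = true :=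
  rt_step ck_tg120 (by decide +kernel) rt_121

theorem rt_119 : C.runTargets tS_119 (tg_119 :: [tg_120,tg_121,tg_122,tg_123,tg_124,tg_125,tg_126,tg_127,tg_128,tg_129,tg_130,tg_131]) = true :=
  rt_step ck_tg119 (by decide +kernel) rt_120

theorem rt_118 : C.runTargets tS_118 (tg_118 :: [tg_119,tg_120,tg_121,tg_122,tg_123,tg_124,tg_125,tg_126,tg_127,tg_128,tg_129,tg_130,tg_131]) = true :=
  rt_step ck_tg118 (by decide +kernel) rt_119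

theorem rt_117 : C.runTargets tS_117 (tg_117 :: [tg_118,tg_119,tg_120,tg_121,tg_122,tg_123,tg_124,tg_125,tg_126,tg_127,tg_128,tg_129,tg_130,tg_131]) = true :=
  rt_step ck_tg117 (by decide +kernel) rt_118

theorem rt_116 : C.runTargets tS_116 (tg_116 :: [tg_117,tg_118,tg_119,tg_120,tg_121,tg_122,tg_123,tg_124,tg_125,tg_126,tg_127,tg_128,tg_129,tg_130,tg_131]) = true :=
  rt_step ck_tg116 (by decide +kernel) rt_117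

theorem rt_115 : C.runTargets tS_115 (tg_115 :: [tg_116,tg_117,tg_118,tg_119,tg_120,tg_121,tg_122,tg_123,tg_124,tg_125,tg_126,tg_127,tg_128,tg_129,tg_130,tg_131]) = true :=
  rt_step ck_tg115 (by decide +kernel) rt_116

theorem rt_114 : C.runTargets tS_114 (tg_114 :: [tg_115,tg_116,tg_117,tg_118,tg_119,tg_120,tg_121,tg_122,tg_123,tg_124,tg_125,tg_126,tg_127,tg_128,tg_129,tg_130,tg_131]) = true :=
  rt_step ck_tg114 (by decide +kernel) rt_115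

theorem rt_113 : C.runTargets tS_113 (tg_113 :: [tg_114,tg_115,tg_116,tg_117,tg_118,tg_119,tg_120,tg_121,tg_122,tg_123,tg_124,tg_125,tg_126,tg_127,tg_128,tg_129,tg_130,tg_131]) = true :=
  rt_step ck_tg113 (by decide +kernel) rt_114

theorem rt_112 : C.runTargets tS_112 (tg_112 :: [tg_113,tg_114,tg_115,tg_116,tg_117,tg_118,tg_119,tg_120,tg_121,tg_122,tg_123,tg_124,tg_125,tg_126,tg_127,tg_128,tg_129,tg_130,tg_131]) = true :=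
  rt_step ck_tg112 (by decide +kernel) rt_113

theorem rt_111 : C.runTargets tS_111 (tg_111 :: [tg_112,tg_113,tg_114,tg_115,tg_116,tg_117,tg_118,tg_119,tg_120,tg_121,tg_122,tg_123,tg_124,tg_125,tg_126,tg_127,tg_128,tg_129,tg_130,tg_131]) = true :=
  rt_step ck_tg111 (by decide +kernel) rt_112

theorem rt_110 : C.runTargets tS_110 (tg_110 :: [tg_111,tg_112,tg_113,tg_114,tg_115,tg_116,tg_117,tg_118,tg_119,tg_120,tg_121,tg_122,tg_123,tg_124,tg_125,tg_126,tg_127,tg_128,tg_129,tg_130,tg_131]) = true :=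
  rt_step ck_tg110 (by decide +kernel) rt_111

theorem rt_109 : C.runTargets tS_109 (tg_109 :: [tg_110,tg_111,tg_112,tg_113,tg_114,tg_115,tg_116,tg_117,tg_118,tg_119,tg_120,tg_121,tg_122,tg_123,tg_124,tg_125,tg_126,tg_127,tg_128,tg_129,tg_130,tg_131]) = true :=
  rt_step ck_tg109 (by decide +kernel) rt_110

theorem rt_108 : C.runTargets tS_108 (tg_108 :: [tg_109,tg_110,tg_111,tg_112,tg_113,tg_114,tg_115,tg_116,tg_117,tg_118,tg_119,tg_120,tg_121,tg_122,tg_123,tg_124,tg_125,tg_126,tg_127,tg_128,tg_129,tg_130,tg_131]) = true :=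
  rt_step ck_tg108 (by decide +kernel) rt_109

theorem rt_107 : C.runTargets tS_107 (tg_107 :: [tg_108,tg_109,tg_110,tg_111,tg_112,tg_113,tg_114,tg_115,tg_116,tg_117,tg_118,tg_119,tg_120,tg_121,tg_122,tg_123,tg_124,tg_125,tg_126,tg_127,tg_128,tg_129,tg_130,tg_131]) = true :=
  rt_step ck_tg107 (by decide +kernel) rt_108

theorem rt_106 : C.runTargets tS_106 (tg_106 :: [tg_107,tg_108,tg_109,tg_110,tg_111,tg_112,tg_113,tg_114,tg_115,tg_116,tg_117,tg_118,tg_119,tg_120,tg_121,tg_122,tg_123,tg_124,tg_125,tg_126,tg_127,tg_128,tg_129,tg_130,tg_131]) = true :=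
  rt_step ck_tg106 (by decide +kernel) rt_107

theorem rt_105 : C.runTargets tS_105 (tg_105 :: [tg_106,tg_107,tg_108,tg_109,tg_110,tg_111,tg_112,tg_113,tg_114,tg_115,tg_116,tg_117,tg_118,tg_119,tg_120,tg_121,tg_122,tg_123,tg_124,tg_125,tg_126,tg_127,tg_128,tg_129,tg_130,tg_131]) = true :=
  rt_step ck_tg105 (by decide +kernel) rt_106

theorem rt_104 : C.runTargets tS_104 (tg_104 :: [tg_105,tg_106,tg_107,tg_108,tg_109,tg_110,tg_111,tg_112,tg_113,tg_114,tg_115,tg_116,tg_117,tg_118,tg_119,tg_120,tg_121,tg_122,tg_123,tg_124,tg_125,tg_126,tg_127,tg_128,tg_129,tg_130,tg_131]) = true :=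
  rt_step ck_tg104 (by decide +kernel) rt_105

theorem rt_103 : C.runTargets tS_103 (tg_103 :: [tg_104,tg_105,tg_106,tg_107,tg_108,tg_109,tg_110,tg_111,tg_112,tg_113,tg_114,tg_115,tg_116,tg_117,tg_118,tg_119,tg_120,tg_121,tg_122,tg_123,tg_124,tg_125,tg_126,tg_127,tg_128,tg_129,tg_130,tg_131]) = true :=
  rt_step ck_tg103 (by decide +kernel) rt_104

theorem rt_102 : C.runTargets tS_102 (tg_102 :: [tg_103,tg_104,tg_105,tg_106,tg_107,tg_108,tg_109,tg_110,tg_111,tg_112,tg_113,tg_114,tg_115,tg_116,tg_117,tg_118,tg_119,tg_120,tg_121,tg_122,tg_123,tg_124,tg_125,tg_126,tg_127,tg_128,tg_129,tg_130,tg_131]) = true :=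
  rt_step ck_tg102 (by decide +kernel) rt_103

theorem rt_101 : C.runTargets tS_101 (tg_101 :: [tg_102,tg_103,tg_104,tg_105,tg_106,tg_107,tg_108,tg_109,tg_110,tg_111,tg_112,tg_113,tg_114,tg_115,tg_116,tg_117,tg_118,tg_119,tg_120,tg_121,tg_122,tg_123,tg_124,tg_125,tg_126,tg_127,tg_128,tg_129,tg_130,tg_131]) = true :=
  rt_step ck_tg101 (by decide +kernel) rt_102

theorem rt_100 : C.runTargets tS_100 (tg_100 :: [tg_101,tg_102,tg_103,tg_104,tg_105,tg_106,tg_107,tg_108,tg_109,tg_110,tg_111,tg_112,tg_113,tg_114,tg_115,tg_116,tg_117,tg_118,tg_119,tg_120,tg_121,tg_122,tg_123,tg_124,tg_125,tg_126,tg_127,tg_128,tg_129,tg_130,tg_131]) = true :=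
  rt_step ck_tg100 (by decide +kernel) rt_101

theorem rt_99 : C.runTargets tS_99 (tg_99 :: [tg_100,tg_101,tg_102,tg_103,tg_104,tg_105,tg_106,tg_107,tg_108,tg_109,tg_110,tg_111,tg_112,tg_113,tg_114,tg_115,tg_116,tg_117,tg_118,tg_119,tg_120,tg_121,tg_122,tg_123,tg_124,tg_125,tg_126,tg_127,tg_128,tg_129,tg_130,tg_131]) = true :=
  rt_step ck_tg99 (by decide +kernel) rt_100

theorem rt_98 : C.runTargets tS_98 (tg_98 :: [tg_99,tg_100,tg_101,tg_102,tg_103,tg_104,tg_105,tg_106,tg_107,tg_108,tg_109,tg_110,tg_111,tg_112,tg_113,tg_114,tg_115,tg_116,tg_117,tg_118,tg_119,tg_120,tg_121,tg_122,tg_123,tg_124,tg_125,tg_126,tg_127,tg_128,tg_129,tg_130,tg_131]) = true :=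
  rt_step ck_tg98 (by decide +kernel) rt_99

theorem rt_97 : C.runTargets tS_97 (tg_97 :: [tg_98,tg_99,tg_100,tg_101,tg_102,tg_103,tg_104,tg_105,tg_106,tg_107,tg_108,tg_109,tg_110,tg_111,tg_112,tg_113,tg_114,tg_115,tg_116,tg_117,tg_118,tg_119,tg_120,tg_121,tg_122,tg_123,tg_124,tg_125,tg_126,tg_127,tg_128,tg_129,tg_130,tg_131]) = true :=
  rt_step ck_tg97 (by decide +kernel) rt_98

theorem rt_96 : C.runTargets tS_96 (tg_96 :: [tg_97,tg_98,tg_99,tg_100,tg_101,tg_102,tg_103,tg_104,tg_105,tg_106,tg_107,tg_108,tg_109,tg_110,tg_111,tg_112,tg_113,tg_114,tg_115,tg_116,tg_117,tg_118,tg_119,tg_120,tg_121,tg_122,tg_123,tg_124,tg_125,tg_126,tg_127,tg_128,tg_129,tg_130,tg_131]) = true :=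
  rt_step ck_tg96 (by decide +kernel) rt_97

theorem rt_95 : C.runTargets tS_95 (tg_95 :: [tg_96,tg_97,tg_98,tg_99,tg_100,tg_101,tg_102,tg_103,tg_104,tg_105,tg_106,tg_107,tg_108,tg_109,tg_110,tg_111,tg_112,tg_113,tg_114,tg_115,tg_116,tg_117,tg_118,tg_119,tg_120,tg_121,tg_122,tg_123,tg_124,tg_125,tg_126,tg_127,tg_128,tg_129,tg_130,tg_131]) = true :=
  rt_step ck_tg95 (by decide +kernel) rt_96

theorem rt_94 : C.runTargets tS_94 (tg_94 :: [tg_95,tg_96,tg_97,tg_98,tg_99,tg_100,tg_101,tg_102,tg_103,tg_104,tg_105,tg_106,tg_107,tg_108,tg_109,tg_110,tg_111,tg_112,tg_113,tg_114,tg_115,tg_116,tg_117,tg_118,tg_119,tg_120,tg_121,tg_122,tg_123,tg_124,tg_125,tg_126,tg_127,tg_128,tg_129,tg_130,tg_131]) = true :=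
  rt_step ck_tg94 (by decide +kernel) rt_95

theorem rt_93 : C.runTargets tS_93 (tg_93 :: [tg_94,tg_95,tg_96,tg_97,tg_98,tg_99,tg_100,tg_101,tg_102,tg_103,tg_104,tg_105,tg_106,tg_107,tg_108,tg_109,tg_110,tg_111,tg_112,tg_113,tg_114,tg_115,tg_116,tg_117,tg_118,tg_119,tg_120,tg_121,tg_122,tg_123,tg_124,tg_125,tg_126,tg_127,tg_128,tg_129,tg_130,tg_131]) = true :=
  rt_step ck_tg93 (by decide +kernel) rt_94

theorem rt_92 : C.runTargets tS_92 (tg_92 :: [tg_93,tg_94,tg_95,tg_96,tg_97,tg_98,tg_99,tg_100,tg_101,tg_102,tg_103,tg_104,tg_105,tg_106,tg_107,tg_108,tg_109,tg_110,tg_111,tg_112,tg_113,tg_114,tg_115,tg_116,tg_117,tg_118,tg_119,tg_120,tg_121,tg_122,tg_123,tg_124,tg_125,tg_126,tg_127,tg_128,tg_129,tg_130,tg_131]) = true :=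
  rt_step ck_tg92 (by decide +kernel) rt_93

theorem rt_91 : C.runTargets tS_91 (tg_91 :: [tg_92,tg_93,tg_94,tg_95,tg_96,tg_97,tg_98,tg_99,tg_100,tg_101,tg_102,tg_103,tg_104,tg_105,tg_106,tg_107,tg_108,tg_109,tg_110,tg_111,tg_112,tg_113,tg_114,tg_115,tg_116,tg_117,tg_118,tg_119,tg_120,tg_121,tg_122,tg_123,tg_124,tg_125,tg_126,tg_127,tg_128,tg_129,tg_130,tg_131]) = true :=
  rt_step ck_tg91 (by decide +kernel) rt_92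

theorem rt_90 : C.runTargets tS_90 (tg_90 :: [tg_91,tg_92,tg_93,tg_94,tg_95,tg_96,tg_97,tg_98,tg_99,tg_100,tg_101,tg_102,tg_103,tg_104,tg_105,tg_106,tg_107,tg_108,tg_109,tg_110,tg_111,tg_112,tg_113,tg_114,tg_115,tg_116,tg_117,tg_118,tg_119,tg_120,tg_121,tg_122,tg_123,tg_124,tg_125,tg_126,tg_127,tg_128,tg_129,tg_130,tg_131]) = true :=
  rt_step ck_tg90 (by decide +kernel) rt_91

theorem rt_89 : C.runTargets tS_89 (tg_89 :: [tg_90,tg_91,tg_92,tg_93,tg_94,tg_95,tg_96,tg_97,tg_98,tg_99,tg_100,tg_101,tg_102,tg_103,tg_104,tg_105,tg_106,tg_107,tg_108,tg_109,tg_110,tg_111,tg_112,tg_113,tg_114,tg_115,tg_116,tg_117,tg_118,tg_119,tg_120,tg_121,tg_122,tg_123,tg_124,tg_125,tg_126,tg_127,tg_128,tg_129,tg_130,tg_131]) = true :=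
  rt_step ck_tg89 (by decide +kernel) rt_90

theorem rt_88 : C.runTargets tS_88 (tg_88 :: [tg_89,tg_90,tg_91,tg_92,tg_93,tg_94,tg_95,tg_96,tg_97,tg_98,tg_99,tg_100,tg_101,tg_102,tg_103,tg_104,tg_105,tg_106,tg_107,tg_108,tg_109,tg_110,tg_111,tg_112,tg_113,tg_114,tg_115,tg_116,tg_117,tg_118,tg_119,tg_120,tg_121,tg_122,tg_123,tg_124,tg_125,tg_126,tg_127,tg_128,tg_129,tg_130,tg_131]) = true :=
  rt_step ck_tg88 (by decide +kernel) rt_89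

theorem rt_87 : C.runTargets tS_87 (tg_87 :: [tg_88,tg_89,tg_90,tg_91,tg_92,tg_93,tg_94,tg_95,tg_96,tg_97,tg_98,tg_99,tg_100,tg_101,tg_102,tg_103,tg_104,tg_105,tg_106,tg_107,tg_108,tg_109,tg_110,tg_111,tg_112,tg_113,tg_114,tg_115,tg_116,tg_117,tg_118,tg_119,tg_120,tg_121,tg_122,tg_123,tg_124,tg_125,tg_126,tg_127,tg_128,tg_129,tg_130,tg_131]) = true :=
  rt_step ck_tg87 (by decide +kernel) rt_88

theorem rt_86 : C.runTargets tS_86 (tg_86 :: [tg_87,tg_88,tg_89,tg_90,tg_91,tg_92,tg_93,tg_94,tg_95,tg_96,tg_97,tg_98,tg_99,tg_100,tg_101,tg_102,tg_103,tg_104,tg_105,tg_106,tg_107,tg_108,tg_109,tg_110,tg_111,tg_112,tg_113,tg_114,tg_115,tg_116,tg_117,tg_118,tg_119,tg_120,tg_121,tg_122,tg_123,tg_124,tg_125,tg_126,tg_127,tg_128,tg_129,tg_130,tg_131]) = true :=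
  rt_step ck_tg86 (by decide +kernel) rt_87

theorem rt_85 : C.runTargets tS_85 (tg_85 :: [tg_86,tg_87,tg_88,tg_89,tg_90,tg_91,tg_92,tg_93,tg_94,tg_95,tg_96,tg_97,tg_98,tg_99,tg_100,tg_101,tg_102,tg_103,tg_104,tg_105,tg_106,tg_107,tg_108,tg_109,tg_110,tg_111,tg_112,tg_113,tg_114,tg_115,tg_116,tg_117,tg_118,tg_119,tg_120,tg_121,tg_122,tg_123,tg_124,tg_125,tg_126,tg_127,tg_128,tg_129,tg_130,tg_131]) = true :=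
  rt_step ck_tg85 (by decide +kernel) rt_86

theorem rt_84 : C.runTargets tS_84 (tg_84 :: [tg_85,tg_86,tg_87,tg_88,tg_89,tg_90,tg_91,tg_92,tg_93,tg_94,tg_95,tg_96,tg_97,tg_98,tg_99,tg_100,tg_101,tg_102,tg_103,tg_104,tg_105,tg_106,tg_107,tg_108,tg_109,tg_110,tg_111,tg_112,tg_113,tg_114,tg_115,tg_116,tg_117,tg_118,tg_119,tg_120,tg_121,tg_122,tg_123,tg_124,tg_125,tg_126,tg_127,tg_128,tg_129,tg_130,tg_131]) = true :=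
  rt_step ck_tg84 (by decide +kernel) rt_85

theorem rt_83 : C.runTargets tS_83 (tg_83 :: [tg_84,tg_85,tg_86,tg_87,tg_88,tg_89,tg_90,tg_91,tg_92,tg_93,tg_94,tg_95,tg_96,tg_97,tg_98,tg_99,tg_100,tg_101,tg_102,tg_103,tg_104,tg_105,tg_106,tg_107,tg_108,tg_109,tg_110,tg_111,tg_112,tg_113,tg_114,tg_115,tg_116,tg_117,tg_118,tg_119,tg_120,tg_121,tg_122,tg_123,tg_124,tg_125,tg_126,tg_127,tg_128,tg_129,tg_130,tg_131]) = true :=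
  rt_step ck_tg83 (by decide +kernel) rt_84

theorem rt_82 : C.runTargets tS_82 (tg_82 :: [tg_83,tg_84,tg_85,tg_86,tg_87,tg_88,tg_89,tg_90,tg_91,tg_92,tg_93,tg_94,tg_95,tg_96,tg_97,tg_98,tg_99,tg_100,tg_101,tg_102,tg_103,tg_104,tg_105,tg_106,tg_107,tg_108,tg_109,tg_110,tg_111,tg_112,tg_113,tg_114,tg_115,tg_116,tg_117,tg_118,tg_119,tg_120,tg_121,tg_122,tg_123,tg_124,tg_125,tg_126,tg_127,tg_128,tg_129,tg_130,tg_131]) = true :=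
  rt_step ck_tg82 (by decide +kernel) rt_83

theorem rt_81 : C.runTargets tS_81 (tg_81 :: [tg_82,tg_83,tg_84,tg_85,tg_86,tg_87,tg_88,tg_89,tg_90,tg_91,tg_92,tg_93,tg_94,tg_95,tg_96,tg_97,tg_98,tg_99,tg_100,tg_101,tg_102,tg_103,tg_104,tg_105,tg_106,tg_107,tg_108,tg_109,tg_110,tg_111,tg_112,tg_113,tg_114,tg_115,tg_116,tg_117,tg_118,tg_119,tg_120,tg_121,tg_122,tg_123,tg_124,tg_125,tg_126,tg_127,tg_128,tg_129,tg_130,tg_131]) = true :=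
  rt_step ck_tg81 (by decide +kernel) rt_82

theorem rt_80 : C.runTargets tS_80 (tg_80 :: [tg_81,tg_82,tg_83,tg_84,tg_85,tg_86,tg_87,tg_88,tg_89,tg_90,tg_91,tg_92,tg_93,tg_94,tg_95,tg_96,tg_97,tg_98,tg_99,tg_100,tg_101,tg_102,tg_103,tg_104,tg_105,tg_106,tg_107,tg_108,tg_109,tg_110,tg_111,tg_112,tg_113,tg_114,tg_115,tg_116,tg_117,tg_118,tg_119,tg_120,tg_121,tg_122,tg_123,tg_124,tg_125,tg_126,tg_127,tg_128,tg_129,tg_130,tg_131]) = true :=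
  rt_step ck_tg80 (by decide +kernel) rt_81

theorem rt_79 : C.runTargets tS_79 (tg_79 :: [tg_80,tg_81,tg_82,tg_83,tg_84,tg_85,tg_86,tg_87,tg_88,tg_89,tg_90,tg_91,tg_92,tg_93,tg_94,tg_95,tg_96,tg_97,tg_98,tg_99,tg_100,tg_101,tg_102,tg_103,tg_104,tg_105,tg_106,tg_107,tg_108,tg_109,tg_110,tg_111,tg_112,tg_113,tg_114,tg_115,tg_116,tg_117,tg_118,tg_119,tg_120,tg_121,tg_122,tg_123,tg_124,tg_125,tg_126,tg_127,tg_128,tg_129,tg_130,tg_131]) = true :=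
  rt_step ck_tg79 (by decide +kernel) rt_80

theorem rt_78 : C.runTargets tS_78 (tg_78 :: [tg_79,tg_80,tg_81,tg_82,tg_83,tg_84,tg_85,tg_86,tg_87,tg_88,tg_89,tg_90,tg_91,tg_92,tg_93,tg_94,tg_95,tg_96,tg_97,tg_98,tg_99,tg_100,tg_101,tg_102,tg_103,tg_104,tg_105,tg_106,tg_107,tg_108,tg_109,tg_110,tg_111,tg_112,tg_113,tg_114,tg_115,tg_116,tg_117,tg_118,tg_119,tg_120,tg_121,tg_122,tg_123,tg_124,tg_125,tg_126,tg_127,tg_128,tg_129,tg_130,tg_131]) = true :=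
  rt_step ck_tg78 (by decide +kernel) rt_79

theorem rt_77 : C.runTargets tS_77 (tg_77 :: [tg_78,tg_79,tg_80,tg_81,tg_82,tg_83,tg_84,tg_85,tg_86,tg_87,tg_88,tg_89,tg_90,tg_91,tg_92,tg_93,tg_94,tg_95,tg_96,tg_97,tg_98,tg_99,tg_100,tg_101,tg_102,tg_103,tg_104,tg_105,tg_106,tg_107,tg_108,tg_109,tg_110,tg_111,tg_112,tg_113,tg_114,tg_115,tg_116,tg_117,tg_118,tg_119,tg_120,tg_121,tg_122,tg_123,tg_124,tg_125,tg_126,tg_127,tg_128,tg_129,tg_130,tg_131]) = true :=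
  rt_step ck_tg77 (by decide +kernel) rt_78

theorem rt_76 : C.runTargets tS_76 (tg_76 :: [tg_77,tg_78,tg_79,tg_80,tg_81,tg_82,tg_83,tg_84,tg_85,tg_86,tg_87,tg_88,tg_89,tg_90,tg_91,tg_92,tg_93,tg_94,tg_95,tg_96,tg_97,tg_98,tg_99,tg_100,tg_101,tg_102,tg_103,tg_104,tg_105,tg_106,tg_107,tg_108,tg_109,tg_110,tg_111,tg_112,tg_113,tg_114,tg_115,tg_116,tg_117,tg_118,tg_119,tg_120,tg_121,tg_122,tg_123,tg_124,tg_125,tg_126,tg_127,tg_128,tg_129,tg_130,tg_131]) = true :=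
  rt_step ck_tg76 (by decide +kernel) rt_77

theorem rt_75 : C.runTargets tS_75 (tg_75 :: [tg_76,tg_77,tg_78,tg_79,tg_80,tg_81,tg_82,tg_83,tg_84,tg_85,tg_86,tg_87,tg_88,tg_89,tg_90,tg_91,tg_92,tg_93,tg_94,tg_95,tg_96,tg_97,tg_98,tg_99,tg_100,tg_101,tg_102,tg_103,tg_104,tg_105,tg_106,tg_107,tg_108,tg_109,tg_110,tg_111,tg_112,tg_113,tg_114,tg_115,tg_116,tg_117,tg_118,tg_119,tg_120,tg_121,tg_122,tg_123,tg_124,tg_125,tg_126,tg_127,tg_128,tg_129,tg_130,tg_131]) = true :=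
  rt_step ck_tg75 (by decide +kernel) rt_76

theorem rt_74 : C.runTargets tS_74 (tg_74 :: [tg_75,tg_76,tg_77,tg_78,tg_79,tg_80,tg_81,tg_82,tg_83,tg_84,tg_85,tg_86,tg_87,tg_88,tg_89,tg_90,tg_91,tg_92,tg_93,tg_94,tg_95,tg_96,tg_97,tg_98,tg_99,tg_100,tg_101,tg_102,tg_103,tg_104,tg_105,tg_106,tg_107,tg_108,tg_109,tg_110,tg_111,tg_112,tg_113,tg_114,tg_115,tg_116,tg_117,tg_118,tg_119,tg_120,tg_121,tg_122,tg_123,tg_124,tg_125,tg_126,tg_127,tg_128,tg_129,tg_130,tg_131]) = true :=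
  rt_step ck_tg74 (by decide +kernel) rt_75

theorem rt_73 : C.runTargets tS_73 (tg_73 :: [tg_74,tg_75,tg_76,tg_77,tg_78,tg_79,tg_80,tg_81,tg_82,tg_83,tg_84,tg_85,tg_86,tg_87,tg_88,tg_89,tg_90,tg_91,tg_92,tg_93,tg_94,tg_95,tg_96,tg_97,tg_98,tg_99,tg_100,tg_101,tg_102,tg_103,tg_104,tg_105,tg_106,tg_107,tg_108,tg_109,tg_110,tg_111,tg_112,tg_113,tg_114,tg_115,tg_116,tg_117,tg_118,tg_119,tg_120,tg_121,tg_122,tg_123,tg_124,tg_125,tg_126,tg_127,tg_128,tg_129,tg_130,tg_131]) = true :=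
  rt_step ck_tg73 (by decide +kernel) rt_74

theorem rt_72 : C.runTargets tS_72 (tg_72 :: [tg_73,tg_74,tg_75,tg_76,tg_77,tg_78,tg_79,tg_80,tg_81,tg_82,tg_83,tg_84,tg_85,tg_86,tg_87,tg_88,tg_89,tg_90,tg_91,tg_92,tg_93,tg_94,tg_95,tg_96,tg_97,tg_98,tg_99,tg_100,tg_101,tg_102,tg_103,tg_104,tg_105,tg_106,tg_107,tg_108,tg_109,tg_110,tg_111,tg_112,tg_113,tg_114,tg_115,tg_116,tg_117,tg_118,tg_119,tg_120,tg_121,tg_122,tg_123,tg_124,tg_125,tg_126,tg_127,tg_128,tg_129,tg_130,tg_131]) = true :=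
  rt_step ck_tg72 (by decide +kernel) rt_73

theorem rt_71 : C.runTargets tS_71 (tg_71 :: [tg_72,tg_73,tg_74,tg_75,tg_76,tg_77,tg_78,tg_79,tg_80,tg_81,tg_82,tg_83,tg_84,tg_85,tg_86,tg_87,tg_88,tg_89,tg_90,tg_91,tg_92,tg_93,tg_94,tg_95,tg_96,tg_97,tg_98,tg_99,tg_100,tg_101,tg_102,tg_103,tg_104,tg_105,tg_106,tg_107,tg_108,tg_109,tg_110,tg_111,tg_112,tg_113,tg_114,tg_115,tg_116,tg_117,tg_118,tg_119,tg_120,tg_121,tg_122,tg_123,tg_124,tg_125,tg_126,tg_127,tg_128,tg_129,tg_130,tg_131]) = true :=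
  rt_step ck_tg71 (by decide +kernel) rt_72

theorem rt_70 : C.runTargets tS_70 (tg_70 :: [tg_71,tg_72,tg_73,tg_74,tg_75,tg_76,tg_77,tg_78,tg_79,tg_80,tg_81,tg_82,tg_83,tg_84,tg_85,tg_86,tg_87,tg_88,tg_89,tg_90,tg_91,tg_92,tg_93,tg_94,tg_95,tg_96,tg_97,tg_98,tg_99,tg_100,tg_101,tg_102,tg_103,tg_104,tg_105,tg_106,tg_107,tg_108,tg_109,tg_110,tg_111,tg_112,tg_113,tg_114,tg_115,tg_116,tg_117,tg_118,tg_119,tg_120,tg_121,tg_122,tg_123,tg_124,tg_125,tg_126,tg_127,tg_128,tg_129,tg_130,tg_131]) = true :=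
  rt_step ck_tg70 (by decide +kernel) rt_71

theorem rt_69 : C.runTargets tS_69 (tg_69 :: [tg_70,tg_71,tg_72,tg_73,tg_74,tg_75,tg_76,tg_77,tg_78,tg_79,tg_80,tg_81,tg_82,tg_83,tg_84,tg_85,tg_86,tg_87,tg_88,tg_89,tg_90,tg_91,tg_92,tg_93,tg_94,tg_95,tg_96,tg_97,tg_98,tg_99,tg_100,tg_101,tg_102,tg_103,tg_104,tg_105,tg_106,tg_107,tg_108,tg_109,tg_110,tg_111,tg_112,tg_113,tg_114,tg_115,tg_116,tg_117,tg_118,tg_119,tg_120,tg_121,tg_122,tg_123,tg_124,tg_125,tg_126,tg_127,tg_128,tg_129,tg_130,tg_131]) = true :=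
  rt_step ck_tg69 (by decide +kernel) rt_70

theorem rt_68 : C.runTargets tS_68 (tg_68 :: [tg_69,tg_70,tg_71,tg_72,tg_73,tg_74,tg_75,tg_76,tg_77,tg_78,tg_79,tg_80,tg_81,tg_82,tg_83,tg_84,tg_85,tg_86,tg_87,tg_88,tg_89,tg_90,tg_91,tg_92,tg_93,tg_94,tg_95,tg_96,tg_97,tg_98,tg_99,tg_100,tg_101,tg_102,tg_103,tg_104,tg_105,tg_106,tg_107,tg_108,tg_109,tg_110,tg_111,tg_112,tg_113,tg_114,tg_115,tg_116,tg_117,tg_118,tg_119,tg_120,tg_121,tg_122,tg_123,tg_124,tg_125,tg_126,tg_127,tg_128,tg_129,tg_130,tg_131]) = true :=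
  rt_step ck_tg68 (by decide +kernel) rt_69

theorem rt_67 : C.runTargets tS_67 (tg_67 :: [tg_68,tg_69,tg_70,tg_71,tg_72,tg_73,tg_74,tg_75,tg_76,tg_77,tg_78,tg_79,tg_80,tg_81,tg_82,tg_83,tg_84,tg_85,tg_86,tg_87,tg_88,tg_89,tg_90,tg_91,tg_92,tg_93,tg_94,tg_95,tg_96,tg_97,tg_98,tg_99,tg_100,tg_101,tg_102,tg_103,tg_104,tg_105,tg_106,tg_107,tg_108,tg_109,tg_110,tg_111,tg_112,tg_113,tg_114,tg_115,tg_116,tg_117,tg_118,tg_119,tg_120,tg_121,tg_122,tg_123,tg_124,tg_125,tg_126,tg_127,tg_128,tg_129,tg_130,tg_131]) = true :=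
  rt_step ck_tg67 (by decide +kernel) rt_68

theorem rt_66 : C.runTargets tS_66 (tg_66 :: [tg_67,tg_68,tg_69,tg_70,tg_71,tg_72,tg_73,tg_74,tg_75,tg_76,tg_77,tg_78,tg_79,tg_80,tg_81,tg_82,tg_83,tg_84,tg_85,tg_86,tg_87,tg_88,tg_89,tg_90,tg_91,tg_92,tg_93,tg_94,tg_95,tg_96,tg_97,tg_98,tg_99,tg_100,tg_101,tg_102,tg_103,tg_104,tg_105,tg_106,tg_107,tg_108,tg_109,tg_110,tg_111,tg_112,tg_113,tg_114,tg_115,tg_116,tg_117,tg_118,tg_119,tg_120,tg_121,tg_122,tg_123,tg_124,tg_125,tg_126,tg_127,tg_128,tg_129,tg_130,tg_131]) = true :=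
  rt_step ck_tg66 (by decide +kernel) rt_67

theorem rt_65 : C.runTargets tS_65 (tg_65 :: [tg_66,tg_67,tg_68,tg_69,tg_70,tg_71,tg_72,tg_73,tg_74,tg_75,tg_76,tg_77,tg_78,tg_79,tg_80,tg_81,tg_82,tg_83,tg_84,tg_85,tg_86,tg_87,tg_88,tg_89,tg_90,tg_91,tg_92,tg_93,tg_94,tg_95,tg_96,tg_97,tg_98,tg_99,tg_100,tg_101,tg_102,tg_103,tg_104,tg_105,tg_106,tg_107,tg_108,tg_109,tg_110,tg_111,tg_112,tg_113,tg_114,tg_115,tg_116,tg_117,tg_118,tg_119,tg_120,tg_121,tg_122,tg_123,tg_124,tg_125,tg_126,tg_127,tg_128,tg_129,tg_130,tg_131]) = true :=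
  rt_step ck_tg65 (by decide +kernel) rt_66

theorem rt_64 : C.runTargets tS_64 (tg_64 :: [tg_65,tg_66,tg_67,tg_68,tg_69,tg_70,tg_71,tg_72,tg_73,tg_74,tg_75,tg_76,tg_77,tg_78,tg_79,tg_80,tg_81,tg_82,tg_83,tg_84,tg_85,tg_86,tg_87,tg_88,tg_89,tg_90,tg_91,tg_92,tg_93,tg_94,tg_95,tg_96,tg_97,tg_98,tg_99,tg_100,tg_101,tg_102,tg_103,tg_104,tg_105,tg_106,tg_107,tg_108,tg_109,tg_110,tg_111,tg_112,tg_113,tg_114,tg_115,tg_116,tg_117,tg_118,tg_119,tg_120,tg_121,tg_122,tg_123,tg_124,tg_125,tg_126,tg_127,tg_128,tg_129,tg_130,tg_131]) = true :=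
  rt_step ck_tg64 (by decide +kernel) rt_65

theorem rt_63 : C.runTargets tS_63 (tg_63 :: [tg_64,tg_65,tg_66,tg_67,tg_68,tg_69,tg_70,tg_71,tg_72,tg_73,tg_74,tg_75,tg_76,tg_77,tg_78,tg_79,tg_80,tg_81,tg_82,tg_83,tg_84,tg_85,tg_86,tg_87,tg_88,tg_89,tg_90,tg_91,tg_92,tg_93,tg_94,tg_95,tg_96,tg_97,tg_98,tg_99,tg_100,tg_101,tg_102,tg_103,tg_104,tg_105,tg_106,tg_107,tg_108,tg_109,tg_110,tg_111,tg_112,tg_113,tg_114,tg_115,tg_116,tg_117,tg_118,tg_119,tg_120,tg_121,tg_122,tg_123,tg_124,tg_125,tg_126,tg_127,tg_128,tg_129,tg_130,tg_131]) = true :=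
  rt_step ck_tg63 (by decide +kernel) rt_64

theorem rt_62 : C.runTargets tS_62 (tg_62 :: [tg_63,tg_64,tg_65,tg_66,tg_67,tg_68,tg_69,tg_70,tg_71,tg_72,tg_73,tg_74,tg_75,tg_76,tg_77,tg_78,tg_79,tg_80,tg_81,tg_82,tg_83,tg_84,tg_85,tg_86,tg_87,tg_88,tg_89,tg_90,tg_91,tg_92,tg_93,tg_94,tg_95,tg_96,tg_97,tg_98,tg_99,tg_100,tg_101,tg_102,tg_103,tg_104,tg_105,tg_106,tg_107,tg_108,tg_109,tg_110,tg_111,tg_112,tg_113,tg_114,tg_115,tg_116,tg_117,tg_118,tg_119,tg_120,tg_121,tg_122,tg_123,tg_124,tg_125,tg_126,tg_127,tg_128,tg_129,tg_130,tg_131]) = true :=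
  rt_step ck_tg62 (by decide +kernel) rt_63

theorem rt_61 : C.runTargets tS_61 (tg_61 :: [tg_62,tg_63,tg_64,tg_65,tg_66,tg_67,tg_68,tg_69,tg_70,tg_71,tg_72,tg_73,tg_74,tg_75,tg_76,tg_77,tg_78,tg_79,tg_80,tg_81,tg_82,tg_83,tg_84,tg_85,tg_86,tg_87,tg_88,tg_89,tg_90,tg_91,tg_92,tg_93,tg_94,tg_95,tg_96,tg_97,tg_98,tg_99,tg_100,tg_101,tg_102,tg_103,tg_104,tg_105,tg_106,tg_107,tg_108,tg_109,tg_110,tg_111,tg_112,tg_113,tg_114,tg_115,tg_116,tg_117,tg_118,tg_119,tg_120,tg_121,tg_122,tg_123,tg_124,tg_125,tg_126,tg_127,tg_128,tg_129,tg_130,tg_131]) = true :=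
  rt_step ck_tg61 (by decide +kernel) rt_62

theorem rt_60 : C.runTargets tS_60 (tg_60 :: [tg_61,tg_62,tg_63,tg_64,tg_65,tg_66,tg_67,tg_68,tg_69,tg_70,tg_71,tg_72,tg_73,tg_74,tg_75,tg_76,tg_77,tg_78,tg_79,tg_80,tg_81,tg_82,tg_83,tg_84,tg_85,tg_86,tg_87,tg_88,tg_89,tg_90,tg_91,tg_92,tg_93,tg_94,tg_95,tg_96,tg_97,tg_98,tg_99,tg_100,tg_101,tg_102,tg_103,tg_104,tg_105,tg_106,tg_107,tg_108,tg_109,tg_110,tg_111,tg_112,tg_113,tg_114,tg_115,tg_116,tg_117,tg_118,tg_119,tg_120,tg_121,tg_122,tg_123,tg_124,tg_125,tg_126,tg_127,tg_128,tg_129,tg_130,tg_131]) = true :=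
  rt_step ck_tg60 (by decide +kernel) rt_61

theorem rt_59 : C.runTargets tS_59 (tg_59 :: [tg_60,tg_61,tg_62,tg_63,tg_64,tg_65,tg_66,tg_67,tg_68,tg_69,tg_70,tg_71,tg_72,tg_73,tg_74,tg_75,tg_76,tg_77,tg_78,tg_79,tg_80,tg_81,tg_82,tg_83,tg_84,tg_85,tg_86,tg_87,tg_88,tg_89,tg_90,tg_91,tg_92,tg_93,tg_94,tg_95,tg_96,tg_97,tg_98,tg_99,tg_100,tg_101,tg_102,tg_103,tg_104,tg_105,tg_106,tg_107,tg_108,tg_109,tg_110,tg_111,tg_112,tg_113,tg_114,tg_115,tg_116,tg_117,tg_118,tg_119,tg_120,tg_121,tg_122,tg_123,tg_124,tg_125,tg_126,tg_127,tg_128,tg_129,tg_130,tg_131]) = true :=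
  rt_step ck_tg59 (by decide +kernel) rt_60

theorem rt_58 : C.runTargets tS_58 (tg_58 :: [tg_59,tg_60,tg_61,tg_62,tg_63,tg_64,tg_65,tg_66,tg_67,tg_68,tg_69,tg_70,tg_71,tg_72,tg_73,tg_74,tg_75,tg_76,tg_77,tg_78,tg_79,tg_80,tg_81,tg_82,tg_83,tg_84,tg_85,tg_86,tg_87,tg_88,tg_89,tg_90,tg_91,tg_92,tg_93,tg_94,tg_95,tg_96,tg_97,tg_98,tg_99,tg_100,tg_101,tg_102,tg_103,tg_104,tg_105,tg_106,tg_107,tg_108,tg_109,tg_110,tg_111,tg_112,tg_113,tg_114,tg_115,tg_116,tg_117,tg_118,tg_119,tg_120,tg_121,tg_122,tg_123,tg_124,tg_125,tg_126,tg_127,tg_128,tg_129,tg_130,tg_131]) = true :=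
  rt_step ck_tg58 (by decide +kernel) rt_59

theorem rt_57 : C.runTargets tS_57 (tg_57 :: [tg_58,tg_59,tg_60,tg_61,tg_62,tg_63,tg_64,tg_65,tg_66,tg_67,tg_68,tg_69,tg_70,tg_71,tg_72,tg_73,tg_74,tg_75,tg_76,tg_77,tg_78,tg_79,tg_80,tg_81,tg_82,tg_83,tg_84,tg_85,tg_86,tg_87,tg_88,tg_89,tg_90,tg_91,tg_92,tg_93,tg_94,tg_95,tg_96,tg_97,tg_98,tg_99,tg_100,tg_101,tg_102,tg_103,tg_104,tg_105,tg_106,tg_107,tg_108,tg_109,tg_110,tg_111,tg_112,tg_113,tg_114,tg_115,tg_116,tg_117,tg_118,tg_119,tg_120,tg_121,tg_122,tg_123,tg_124,tg_125,tg_126,tg_127,tg_128,tg_129,tg_130,tg_131]) = true :=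
  rt_step ck_tg57 (by decide +kernel) rt_58

theorem rt_56 : C.runTargets tS_56 (tg_56 :: [tg_57,tg_58,tg_59,tg_60,tg_61,tg_62,tg_63,tg_64,tg_65,tg_66,tg_67,tg_68,tg_69,tg_70,tg_71,tg_72,tg_73,tg_74,tg_75,tg_76,tg_77,tg_78,tg_79,tg_80,tg_81,tg_82,tg_83,tg_84,tg_85,tg_86,tg_87,tg_88,tg_89,tg_90,tg_91,tg_92,tg_93,tg_94,tg_95,tg_96,tg_97,tg_98,tg_99,tg_100,tg_101,tg_102,tg_103,tg_104,tg_105,tg_106,tg_107,tg_108,tg_109,tg_110,tg_111,tg_112,tg_113,tg_114,tg_115,tg_116,tg_117,tg_118,tg_119,tg_120,tg_121,tg_122,tg_123,tg_124,tg_125,tg_126,tg_127,tg_128,tg_129,tg_130,tg_131]) = true :=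
  rt_step ck_tg56 (by decide +kernel) rt_57

theorem rt_55 : C.runTargets tS_55 (tg_55 :: [tg_56,tg_57,tg_58,tg_59,tg_60,tg_61,tg_62,tg_63,tg_64,tg_65,tg_66,tg_67,tg_68,tg_69,tg_70,tg_71,tg_72,tg_73,tg_74,tg_75,tg_76,tg_77,tg_78,tg_79,tg_80,tg_81,tg_82,tg_83,tg_84,tg_85,tg_86,tg_87,tg_88,tg_89,tg_90,tg_91,tg_92,tg_93,tg_94,tg_95,tg_96,tg_97,tg_98,tg_99,tg_100,tg_101,tg_102,tg_103,tg_104,tg_105,tg_106,tg_107,tg_108,tg_109,tg_110,tg_111,tg_112,tg_113,tg_114,tg_115,tg_116,tg_117,tg_118,tg_119,tg_120,tg_121,tg_122,tg_123,tg_124,tg_125,tg_126,tg_127,tg_128,tg_129,tg_130,tg_131]) = true :=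
  rt_step ck_tg55 (by decide +kernel) rt_56

theorem rt_54 : C.runTargets tS_54 (tg_54 :: [tg_55,tg_56,tg_57,tg_58,tg_59,tg_60,tg_61,tg_62,tg_63,tg_64,tg_65,tg_66,tg_67,tg_68,tg_69,tg_70,tg_71,tg_72,tg_73,tg_74,tg_75,tg_76,tg_77,tg_78,tg_79,tg_80,tg_81,tg_82,tg_83,tg_84,tg_85,tg_86,tg_87,tg_88,tg_89,tg_90,tg_91,tg_92,tg_93,tg_94,tg_95,tg_96,tg_97,tg_98,tg_99,tg_100,tg_101,tg_102,tg_103,tg_104,tg_105,tg_106,tg_107,tg_108,tg_109,tg_110,tg_111,tg_112,tg_113,tg_114,tg_115,tg_116,tg_117,tg_118,tg_119,tg_120,tg_121,tg_122,tg_123,tg_124,tg_125,tg_126,tg_127,tg_128,tg_129,tg_130,tg_131]) = true :=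
  rt_step ck_tg54 (by decide +kernel) rt_55

theorem rt_53 : C.runTargets tS_53 (tg_53 :: [tg_54,tg_55,tg_56,tg_57,tg_58,tg_59,tg_60,tg_61,tg_62,tg_63,tg_64,tg_65,tg_66,tg_67,tg_68,tg_69,tg_70,tg_71,tg_72,tg_73,tg_74,tg_75,tg_76,tg_77,tg_78,tg_79,tg_80,tg_81,tg_82,tg_83,tg_84,tg_85,tg_86,tg_87,tg_88,tg_89,tg_90,tg_91,tg_92,tg_93,tg_94,tg_95,tg_96,tg_97,tg_98,tg_99,tg_100,tg_101,tg_102,tg_103,tg_104,tg_105,tg_106,tg_107,tg_108,tg_109,tg_110,tg_111,tg_112,tg_113,tg_114,tg_115,tg_116,tg_117,tg_118,tg_119,tg_120,tg_121,tg_122,tg_123,tg_124,tg_125,tg_126,tg_127,tg_128,tg_129,tg_130,tg_131]) = true :=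
  rt_step ck_tg53 (by decide +kernel) rt_54

theorem rt_52 : C.runTargets tS_52 (tg_52 :: [tg_53,tg_54,tg_55,tg_56,tg_57,tg_58,tg_59,tg_60,tg_61,tg_62,tg_63,tg_64,tg_65,tg_66,tg_67,tg_68,tg_69,tg_70,tg_71,tg_72,tg_73,tg_74,tg_75,tg_76,tg_77,tg_78,tg_79,tg_80,tg_81,tg_82,tg_83,tg_84,tg_85,tg_86,tg_87,tg_88,tg_89,tg_90,tg_91,tg_92,tg_93,tg_94,tg_95,tg_96,tg_97,tg_98,tg_99,tg_100,tg_101,tg_102,tg_103,tg_104,tg_105,tg_106,tg_107,tg_108,tg_109,tg_110,tg_111,tg_112,tg_113,tg_114,tg_115,tg_116,tg_117,tg_118,tg_119,tg_120,tg_121,tg_122,tg_123,tg_124,tg_125,tg_126,tg_127,tg_128,tg_129,tg_130,tg_131]) = true :=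
  rt_step ck_tg52 (by decide +kernel) rt_53

theorem rt_51 : C.runTargets tS_51 (tg_51 :: [tg_52,tg_53,tg_54,tg_55,tg_56,tg_57,tg_58,tg_59,tg_60,tg_61,tg_62,tg_63,tg_64,tg_65,tg_66,tg_67,tg_68,tg_69,tg_70,tg_71,tg_72,tg_73,tg_74,tg_75,tg_76,tg_77,tg_78,tg_79,tg_80,tg_81,tg_82,tg_83,tg_84,tg_85,tg_86,tg_87,tg_88,tg_89,tg_90,tg_91,tg_92,tg_93,tg_94,tg_95,tg_96,tg_97,tg_98,tg_99,tg_100,tg_101,tg_102,tg_103,tg_104,tg_105,tg_106,tg_107,tg_108,tg_109,tg_110,tg_111,tg_112,tg_113,tg_114,tg_115,tg_116,tg_117,tg_118,tg_119,tg_120,tg_121,tg_122,tg_123,tg_124,tg_125,tg_126,tg_127,tg_128,tg_129,tg_130,tg_131]) = true :=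
  rt_step ck_tg51 (by decide +kernel) rt_52

theorem rt_50 : C.runTargets tS_50 (tg_50 :: [tg_51,tg_52,tg_53,tg_54,tg_55,tg_56,tg_57,tg_58,tg_59,tg_60,tg_61,tg_62,tg_63,tg_64,tg_65,tg_66,tg_67,tg_68,tg_69,tg_70,tg_71,tg_72,tg_73,tg_74,tg_75,tg_76,tg_77,tg_78,tg_79,tg_80,tg_81,tg_82,tg_83,tg_84,tg_85,tg_86,tg_87,tg_88,tg_89,tg_90,tg_91,tg_92,tg_93,tg_94,tg_95,tg_96,tg_97,tg_98,tg_99,tg_100,tg_101,tg_102,tg_103,tg_104,tg_105,tg_106,tg_107,tg_108,tg_109,tg_110,tg_111,tg_112,tg_113,tg_114,tg_115,tg_116,tg_117,tg_118,tg_119,tg_120,tg_121,tg_122,tg_123,tg_124,tg_125,tg_126,tg_127,tg_128,tg_129,tg_130,tg_131]) = true :=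
  rt_step ck_tg50 (by decide +kernel) rt_51

theorem rt_49 : C.runTargets tS_49 (tg_49 :: [tg_50,tg_51,tg_52,tg_53,tg_54,tg_55,tg_56,tg_57,tg_58,tg_59,tg_60,tg_61,tg_62,tg_63,tg_64,tg_65,tg_66,tg_67,tg_68,tg_69,tg_70,tg_71,tg_72,tg_73,tg_74,tg_75,tg_76,tg_77,tg_78,tg_79,tg_80,tg_81,tg_82,tg_83,tg_84,tg_85,tg_86,tg_87,tg_88,tg_89,tg_90,tg_91,tg_92,tg_93,tg_94,tg_95,tg_96,tg_97,tg_98,tg_99,tg_100,tg_101,tg_102,tg_103,tg_104,tg_105,tg_106,tg_107,tg_108,tg_109,tg_110,tg_111,tg_112,tg_113,tg_114,tg_115,tg_116,tg_117,tg_118,tg_119,tg_120,tg_121,tg_122,tg_123,tg_124,tg_125,tg_126,tg_127,tg_128,tg_129,tg_130,tg_131]) = true :=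
  rt_step ck_tg49 (by decide +kernel) rt_50

theorem rt_48 : C.runTargets tS_48 (tg_48 :: [tg_49,tg_50,tg_51,tg_52,tg_53,tg_54,tg_55,tg_56,tg_57,tg_58,tg_59,tg_60,tg_61,tg_62,tg_63,tg_64,tg_65,tg_66,tg_67,tg_68,tg_69,tg_70,tg_71,tg_72,tg_73,tg_74,tg_75,tg_76,tg_77,tg_78,tg_79,tg_80,tg_81,tg_82,tg_83,tg_84,tg_85,tg_86,tg_87,tg_88,tg_89,tg_90,tg_91,tg_92,tg_93,tg_94,tg_95,tg_96,tg_97,tg_98,tg_99,tg_100,tg_101,tg_102,tg_103,tg_104,tg_105,tg_106,tg_107,tg_108,tg_109,tg_110,tg_111,tg_112,tg_113,tg_114,tg_115,tg_116,tg_117,tg_118,tg_119,tg_120,tg_121,tg_122,tg_123,tg_124,tg_125,tg_126,tg_127,tg_128,tg_129,tg_130,tg_131]) = true :=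
  rt_step ck_tg48 (by decide +kernel) rt_49

theorem rt_47 : C.runTargets tS_47 (tg_47 :: [tg_48,tg_49,tg_50,tg_51,tg_52,tg_53,tg_54,tg_55,tg_56,tg_57,tg_58,tg_59,tg_60,tg_61,tg_62,tg_63,tg_64,tg_65,tg_66,tg_67,tg_68,tg_69,tg_70,tg_71,tg_72,tg_73,tg_74,tg_75,tg_76,tg_77,tg_78,tg_79,tg_80,tg_81,tg_82,tg_83,tg_84,tg_85,tg_86,tg_87,tg_88,tg_89,tg_90,tg_91,tg_92,tg_93,tg_94,tg_95,tg_96,tg_97,tg_98,tg_99,tg_100,tg_101,tg_102,tg_103,tg_104,tg_105,tg_106,tg_107,tg_108,tg_109,tg_110,tg_111,tg_112,tg_113,tg_114,tg_115,tg_116,tg_117,tg_118,tg_119,tg_120,tg_121,tg_122,tg_123,tg_124,tg_125,tg_126,tg_127,tg_128,tg_129,tg_130,tg_131]) = true :=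
  rt_step ck_tg47 (by decide +kernel) rt_48

theorem rt_46 : C.runTargets tS_46 (tg_46 :: [tg_47,tg_48,tg_49,tg_50,tg_51,tg_52,tg_53,tg_54,tg_55,tg_56,tg_57,tg_58,tg_59,tg_60,tg_61,tg_62,tg_63,tg_64,tg_65,tg_66,tg_67,tg_68,tg_69,tg_70,tg_71,tg_72,tg_73,tg_74,tg_75,tg_76,tg_77,tg_78,tg_79,tg_80,tg_81,tg_82,tg_83,tg_84,tg_85,tg_86,tg_87,tg_88,tg_89,tg_90,tg_91,tg_92,tg_93,tg_94,tg_95,tg_96,tg_97,tg_98,tg_99,tg_100,tg_101,tg_102,tg_103,tg_104,tg_105,tg_106,tg_107,tg_108,tg_109,tg_110,tg_111,tg_112,tg_113,tg_114,tg_115,tg_116,tg_117,tg_118,tg_119,tg_120,tg_121,tg_122,tg_123,tg_124,tg_125,tg_126,tg_127,tg_128,tg_129,tg_130,tg_131]) = true :=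
  rt_step ck_tg46 (by decide +kernel) rt_47

theorem rt_45 : C.runTargets tS_45 (tg_45 :: [tg_46,tg_47,tg_48,tg_49,tg_50,tg_51,tg_52,tg_53,tg_54,tg_55,tg_56,tg_57,tg_58,tg_59,tg_60,tg_61,tg_62,tg_63,tg_64,tg_65,tg_66,tg_67,tg_68,tg_69,tg_70,tg_71,tg_72,tg_73,tg_74,tg_75,tg_76,tg_77,tg_78,tg_79,tg_80,tg_81,tg_82,tg_83,tg_84,tg_85,tg_86,tg_87,tg_88,tg_89,tg_90,tg_91,tg_92,tg_93,tg_94,tg_95,tg_96,tg_97,tg_98,tg_99,tg_100,tg_101,tg_102,tg_103,tg_104,tg_105,tg_106,tg_107,tg_108,tg_109,tg_110,tg_111,tg_112,tg_113,tg_114,tg_115,tg_116,tg_117,tg_118,tg_119,tg_120,tg_121,tg_122,tg_123,tg_124,tg_125,tg_126,tg_127,tg_128,tg_129,tg_130,tg_131]) = true :=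
  rt_step ck_tg45 (by decide +kernel) rt_46

theorem rt_44 : C.runTargets tS_44 (tg_44 :: [tg_45,tg_46,tg_47,tg_48,tg_49,tg_50,tg_51,tg_52,tg_53,tg_54,tg_55,tg_56,tg_57,tg_58,tg_59,tg_60,tg_61,tg_62,tg_63,tg_64,tg_65,tg_66,tg_67,tg_68,tg_69,tg_70,tg_71,tg_72,tg_73,tg_74,tg_75,tg_76,tg_77,tg_78,tg_79,tg_80,tg_81,tg_82,tg_83,tg_84,tg_85,tg_86,tg_87,tg_88,tg_89,tg_90,tg_91,tg_92,tg_93,tg_94,tg_95,tg_96,tg_97,tg_98,tg_99,tg_100,tg_101,tg_102,tg_103,tg_104,tg_105,tg_106,tg_107,tg_108,tg_109,tg_110,tg_111,tg_112,tg_113,tg_114,tg_115,tg_116,tg_117,tg_118,tg_119,tg_120,tg_121,tg_122,tg_123,tg_124,tg_125,tg_126,tg_127,tg_128,tg_129,tg_130,tg_131]) = true :=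
  rt_step ck_tg44 (by decide +kernel) rt_45

theorem rt_43 : C.runTargets tS_43 (tg_43 :: [tg_44,tg_45,tg_46,tg_47,tg_48,tg_49,tg_50,tg_51,tg_52,tg_53,tg_54,tg_55,tg_56,tg_57,tg_58,tg_59,tg_60,tg_61,tg_62,tg_63,tg_64,tg_65,tg_66,tg_67,tg_68,tg_69,tg_70,tg_71,tg_72,tg_73,tg_74,tg_75,tg_76,tg_77,tg_78,tg_79,tg_80,tg_81,tg_82,tg_83,tg_84,tg_85,tg_86,tg_87,tg_88,tg_89,tg_90,tg_91,tg_92,tg_93,tg_94,tg_95,tg_96,tg_97,tg_98,tg_99,tg_100,tg_101,tg_102,tg_103,tg_104,tg_105,tg_106,tg_107,tg_108,tg_109,tg_110,tg_111,tg_112,tg_113,tg_114,tg_115,tg_116,tg_117,tg_118,tg_119,tg_120,tg_121,tg_122,tg_123,tg_124,tg_125,tg_126,tg_127,tg_128,tg_129,tg_130,tg_131]) = true :=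
  rt_step ck_tg43 (by decide +kernel) rt_44

theorem rt_42 : C.runTargets tS_42 (tg_42 :: [tg_43,tg_44,tg_45,tg_46,tg_47,tg_48,tg_49,tg_50,tg_51,tg_52,tg_53,tg_54,tg_55,tg_56,tg_57,tg_58,tg_59,tg_60,tg_61,tg_62,tg_63,tg_64,tg_65,tg_66,tg_67,tg_68,tg_69,tg_70,tg_71,tg_72,tg_73,tg_74,tg_75,tg_76,tg_77,tg_78,tg_79,tg_80,tg_81,tg_82,tg_83,tg_84,tg_85,tg_86,tg_87,tg_88,tg_89,tg_90,tg_91,tg_92,tg_93,tg_94,tg_95,tg_96,tg_97,tg_98,tg_99,tg_100,tg_101,tg_102,tg_103,tg_104,tg_105,tg_106,tg_107,tg_108,tg_109,tg_110,tg_111,tg_112,tg_113,tg_114,tg_115,tg_116,tg_117,tg_118,tg_119,tg_120,tg_121,tg_122,tg_123,tg_124,tg_125,tg_126,tg_127,tg_128,tg_129,tg_130,tg_131]) = true :=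
  rt_step ck_tg42 (by decide +kernel) rt_43

theorem rt_41 : C.runTargets tS_41 (tg_41 :: [tg_42,tg_43,tg_44,tg_45,tg_46,tg_47,tg_48,tg_49,tg_50,tg_51,tg_52,tg_53,tg_54,tg_55,tg_56,tg_57,tg_58,tg_59,tg_60,tg_61,tg_62,tg_63,tg_64,tg_65,tg_66,tg_67,tg_68,tg_69,tg_70,tg_71,tg_72,tg_73,tg_74,tg_75,tg_76,tg_77,tg_78,tg_79,tg_80,tg_81,tg_82,tg_83,tg_84,tg_85,tg_86,tg_87,tg_88,tg_89,tg_90,tg_91,tg_92,tg_93,tg_94,tg_95,tg_96,tg_97,tg_98,tg_99,tg_100,tg_101,tg_102,tg_103,tg_104,tg_105,tg_106,tg_107,tg_108,tg_109,tg_110,tg_111,tg_112,tg_113,tg_114,tg_115,tg_116,tg_117,tg_118,tg_119,tg_120,tg_121,tg_122,tg_123,tg_124,tg_125,tg_126,tg_127,tg_128,tg_129,tg_130,tg_131]) = true :=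
  rt_step ck_tg41 (by decide +kernel) rt_42

theorem rt_40 : C.runTargets tS_40 (tg_40 :: [tg_41,tg_42,tg_43,tg_44,tg_45,tg_46,tg_47,tg_48,tg_49,tg_50,tg_51,tg_52,tg_53,tg_54,tg_55,tg_56,tg_57,tg_58,tg_59,tg_60,tg_61,tg_62,tg_63,tg_64,tg_65,tg_66,tg_67,tg_68,tg_69,tg_70,tg_71,tg_72,tg_73,tg_74,tg_75,tg_76,tg_77,tg_78,tg_79,tg_80,tg_81,tg_82,tg_83,tg_84,tg_85,tg_86,tg_87,tg_88,tg_89,tg_90,tg_91,tg_92,tg_93,tg_94,tg_95,tg_96,tg_97,tg_98,tg_99,tg_100,tg_101,tg_102,tg_103,tg_104,tg_105,tg_106,tg_107,tg_108,tg_109,tg_110,tg_111,tg_112,tg_113,tg_114,tg_115,tg_116,tg_117,tg_118,tg_119,tg_120,tg_121,tg_122,tg_123,tg_124,tg_125,tg_126,tg_127,tg_128,tg_129,tg_130,tg_131]) = true :=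
  rt_step ck_tg40 (by decide +kernel) rt_41

theorem rt_39 : C.runTargets tS_39 (tg_39 :: [tg_40,tg_41,tg_42,tg_43,tg_44,tg_45,tg_46,tg_47,tg_48,tg_49,tg_50,tg_51,tg_52,tg_53,tg_54,tg_55,tg_56,tg_57,tg_58,tg_59,tg_60,tg_61,tg_62,tg_63,tg_64,tg_65,tg_66,tg_67,tg_68,tg_69,tg_70,tg_71,tg_72,tg_73,tg_74,tg_75,tg_76,tg_77,tg_78,tg_79,tg_80,tg_81,tg_82,tg_83,tg_84,tg_85,tg_86,tg_87,tg_88,tg_89,tg_90,tg_91,tg_92,tg_93,tg_94,tg_95,tg_96,tg_97,tg_98,tg_99,tg_100,tg_101,tg_102,tg_103,tg_104,tg_105,tg_106,tg_107,tg_108,tg_109,tg_110,tg_111,tg_112,tg_113,tg_114,tg_115,tg_116,tg_117,tg_118,tg_119,tg_120,tg_121,tg_122,tg_123,tg_124,tg_125,tg_126,tg_127,tg_128,tg_129,tg_130,tg_131]) = true :=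
  rt_step ck_tg39 (by decide +kernel) rt_40

theorem rt_38 : C.runTargets tS_38 (tg_38 :: [tg_39,tg_40,tg_41,tg_42,tg_43,tg_44,tg_45,tg_46,tg_47,tg_48,tg_49,tg_50,tg_51,tg_52,tg_53,tg_54,tg_55,tg_56,tg_57,tg_58,tg_59,tg_60,tg_61,tg_62,tg_63,tg_64,tg_65,tg_66,tg_67,tg_68,tg_69,tg_70,tg_71,tg_72,tg_73,tg_74,tg_75,tg_76,tg_77,tg_78,tg_79,tg_80,tg_81,tg_82,tg_83,tg_84,tg_85,tg_86,tg_87,tg_88,tg_89,tg_90,tg_91,tg_92,tg_93,tg_94,tg_95,tg_96,tg_97,tg_98,tg_99,tg_100,tg_101,tg_102,tg_103,tg_104,tg_105,tg_106,tg_107,tg_108,tg_109,tg_110,tg_111,tg_112,tg_113,tg_114,tg_115,tg_116,tg_117,tg_118,tg_119,tg_120,tg_121,tg_122,tg_123,tg_124,tg_125,tg_126,tg_127,tg_128,tg_129,tg_130,tg_131]) = true :=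
  rt_step ck_tg38 (by decide +kernel) rt_39

theorem rt_37 : C.runTargets tS_37 (tg_37 :: [tg_38,tg_39,tg_40,tg_41,tg_42,tg_43,tg_44,tg_45,tg_46,tg_47,tg_48,tg_49,tg_50,tg_51,tg_52,tg_53,tg_54,tg_55,tg_56,tg_57,tg_58,tg_59,tg_60,tg_61,tg_62,tg_63,tg_64,tg_65,tg_66,tg_67,tg_68,tg_69,tg_70,tg_71,tg_72,tg_73,tg_74,tg_75,tg_76,tg_77,tg_78,tg_79,tg_80,tg_81,tg_82,tg_83,tg_84,tg_85,tg_86,tg_87,tg_88,tg_89,tg_90,tg_91,tg_92,tg_93,tg_94,tg_95,tg_96,tg_97,tg_98,tg_99,tg_100,tg_101,tg_102,tg_103,tg_104,tg_105,tg_106,tg_107,tg_108,tg_109,tg_110,tg_111,tg_112,tg_113,tg_114,tg_115,tg_116,tg_117,tg_118,tg_119,tg_120,tg_121,tg_122,tg_123,tg_124,tg_125,tg_126,tg_127,tg_128,tg_129,tg_130,tg_131]) = true :=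
  rt_step ck_tg37 (by decide +kernel) rt_38

theorem rt_36 : C.runTargets tS_36 (tg_36 :: [tg_37,tg_38,tg_39,tg_40,tg_41,tg_42,tg_43,tg_44,tg_45,tg_46,tg_47,tg_48,tg_49,tg_50,tg_51,tg_52,tg_53,tg_54,tg_55,tg_56,tg_57,tg_58,tg_59,tg_60,tg_61,tg_62,tg_63,tg_64,tg_65,tg_66,tg_67,tg_68,tg_69,tg_70,tg_71,tg_72,tg_73,tg_74,tg_75,tg_76,tg_77,tg_78,tg_79,tg_80,tg_81,tg_82,tg_83,tg_84,tg_85,tg_86,tg_87,tg_88,tg_89,tg_90,tg_91,tg_92,tg_93,tg_94,tg_95,tg_96,tg_97,tg_98,tg_99,tg_100,tg_101,tg_102,tg_103,tg_104,tg_105,tg_106,tg_107,tg_108,tg_109,tg_110,tg_111,tg_112,tg_113,tg_114,tg_115,tg_116,tg_117,tg_118,tg_119,tg_120,tg_121,tg_122,tg_123,tg_124,tg_125,tg_126,tg_127,tg_128,tg_129,tg_130,tg_131]) = true :=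
  rt_step ck_tg36 (by decide +kernel) rt_37

theorem rt_35 : C.runTargets tS_35 (tg_35 :: [tg_36,tg_37,tg_38,tg_39,tg_40,tg_41,tg_42,tg_43,tg_44,tg_45,tg_46,tg_47,tg_48,tg_49,tg_50,tg_51,tg_52,tg_53,tg_54,tg_55,tg_56,tg_57,tg_58,tg_59,tg_60,tg_61,tg_62,tg_63,tg_64,tg_65,tg_66,tg_67,tg_68,tg_69,tg_70,tg_71,tg_72,tg_73,tg_74,tg_75,tg_76,tg_77,tg_78,tg_79,tg_80,tg_81,tg_82,tg_83,tg_84,tg_85,tg_86,tg_87,tg_88,tg_89,tg_90,tg_91,tg_92,tg_93,tg_94,tg_95,tg_96,tg_97,tg_98,tg_99,tg_100,tg_101,tg_102,tg_103,tg_104,tg_105,tg_106,tg_107,tg_108,tg_109,tg_110,tg_111,tg_112,tg_113,tg_114,tg_115,tg_116,tg_117,tg_118,tg_119,tg_120,tg_121,tg_122,tg_123,tg_124,tg_125,tg_126,tg_127,tg_128,tg_129,tg_130,tg_131]) = true :=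
  rt_step ck_tg35 (by decide +kernel) rt_36

theorem rt_34 : C.runTargets tS_34 (tg_34 :: [tg_35,tg_36,tg_37,tg_38,tg_39,tg_40,tg_41,tg_42,tg_43,tg_44,tg_45,tg_46,tg_47,tg_48,tg_49,tg_50,tg_51,tg_52,tg_53,tg_54,tg_55,tg_56,tg_57,tg_58,tg_59,tg_60,tg_61,tg_62,tg_63,tg_64,tg_65,tg_66,tg_67,tg_68,tg_69,tg_70,tg_71,tg_72,tg_73,tg_74,tg_75,tg_76,tg_77,tg_78,tg_79,tg_80,tg_81,tg_82,tg_83,tg_84,tg_85,tg_86,tg_87,tg_88,tg_89,tg_90,tg_91,tg_92,tg_93,tg_94,tg_95,tg_96,tg_97,tg_98,tg_99,tg_100,tg_101,tg_102,tg_103,tg_104,tg_105,tg_106,tg_107,tg_108,tg_109,tg_110,tg_111,tg_112,tg_113,tg_114,tg_115,tg_116,tg_117,tg_118,tg_119,tg_120,tg_121,tg_122,tg_123,tg_124,tg_125,tg_126,tg_127,tg_128,tg_129,tg_130,tg_131]) = true :=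
  rt_step ck_tg34 (by decide +kernel) rt_35

theorem rt_33 : C.runTargets tS_33 (tg_33 :: [tg_34,tg_35,tg_36,tg_37,tg_38,tg_39,tg_40,tg_41,tg_42,tg_43,tg_44,tg_45,tg_46,tg_47,tg_48,tg_49,tg_50,tg_51,tg_52,tg_53,tg_54,tg_55,tg_56,tg_57,tg_58,tg_59,tg_60,tg_61,tg_62,tg_63,tg_64,tg_65,tg_66,tg_67,tg_68,tg_69,tg_70,tg_71,tg_72,tg_73,tg_74,tg_75,tg_76,tg_77,tg_78,tg_79,tg_80,tg_81,tg_82,tg_83,tg_84,tg_85,tg_86,tg_87,tg_88,tg_89,tg_90,tg_91,tg_92,tg_93,tg_94,tg_95,tg_96,tg_97,tg_98,tg_99,tg_100,tg_101,tg_102,tg_103,tg_104,tg_105,tg_106,tg_107,tg_108,tg_109,tg_110,tg_111,tg_112,tg_113,tg_114,tg_115,tg_116,tg_117,tg_118,tg_119,tg_120,tg_121,tg_122,tg_123,tg_124,tg_125,tg_126,tg_127,tg_128,tg_129,tg_130,tg_131]) = true :=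
  rt_step ck_tg33 (by decide +kernel) rt_34

theorem rt_32 : C.runTargets tS_32 (tg_32 :: [tg_33,tg_34,tg_35,tg_36,tg_37,tg_38,tg_39,tg_40,tg_41,tg_42,tg_43,tg_44,tg_45,tg_46,tg_47,tg_48,tg_49,tg_50,tg_51,tg_52,tg_53,tg_54,tg_55,tg_56,tg_57,tg_58,tg_59,tg_60,tg_61,tg_62,tg_63,tg_64,tg_65,tg_66,tg_67,tg_68,tg_69,tg_70,tg_71,tg_72,tg_73,tg_74,tg_75,tg_76,tg_77,tg_78,tg_79,tg_80,tg_81,tg_82,tg_83,tg_84,tg_85,tg_86,tg_87,tg_88,tg_89,tg_90,tg_91,tg_92,tg_93,tg_94,tg_95,tg_96,tg_97,tg_98,tg_99,tg_100,tg_101,tg_102,tg_103,tg_104,tg_105,tg_106,tg_107,tg_108,tg_109,tg_110,tg_111,tg_112,tg_113,tg_114,tg_115,tg_116,tg_117,tg_118,tg_119,tg_120,tg_121,tg_122,tg_123,tg_124,tg_125,tg_126,tg_127,tg_128,tg_129,tg_130,tg_131]) = true :=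
  rt_step ck_tg32 (by decide +kernel) rt_33

theorem rt_31 : C.runTargets tS_31 (tg_31 :: [tg_32,tg_33,tg_34,tg_35,tg_36,tg_37,tg_38,tg_39,tg_40,tg_41,tg_42,tg_43,tg_44,tg_45,tg_46,tg_47,tg_48,tg_49,tg_50,tg_51,tg_52,tg_53,tg_54,tg_55,tg_56,tg_57,tg_58,tg_59,tg_60,tg_61,tg_62,tg_63,tg_64,tg_65,tg_66,tg_67,tg_68,tg_69,tg_70,tg_71,tg_72,tg_73,tg_74,tg_75,tg_76,tg_77,tg_78,tg_79,tg_80,tg_81,tg_82,tg_83,tg_84,tg_85,tg_86,tg_87,tg_88,tg_89,tg_90,tg_91,tg_92,tg_93,tg_94,tg_95,tg_96,tg_97,tg_98,tg_99,tg_100,tg_101,tg_102,tg_103,tg_104,tg_105,tg_106,tg_107,tg_108,tg_109,tg_110,tg_111,tg_112,tg_113,tg_114,tg_115,tg_116,tg_117,tg_118,tg_119,tg_120,tg_121,tg_122,tg_123,tg_124,tg_125,tg_126,tg_127,tg_128,tg_129,tg_130,tg_131]) = true :=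
  rt_step ck_tg31 (by decide +kernel) rt_32

theorem rt_30 : C.runTargets tS_30 (tg_30 :: [tg_31,tg_32,tg_33,tg_34,tg_35,tg_36,tg_37,tg_38,tg_39,tg_40,tg_41,tg_42,tg_43,tg_44,tg_45,tg_46,tg_47,tg_48,tg_49,tg_50,tg_51,tg_52,tg_53,tg_54,tg_55,tg_56,tg_57,tg_58,tg_59,tg_60,tg_61,tg_62,tg_63,tg_64,tg_65,tg_66,tg_67,tg_68,tg_69,tg_70,tg_71,tg_72,tg_73,tg_74,tg_75,tg_76,tg_77,tg_78,tg_79,tg_80,tg_81,tg_82,tg_83,tg_84,tg_85,tg_86,tg_87,tg_88,tg_89,tg_90,tg_91,tg_92,tg_93,tg_94,tg_95,tg_96,tg_97,tg_98,tg_99,tg_100,tg_101,tg_102,tg_103,tg_104,tg_105,tg_106,tg_107,tg_108,tg_109,tg_110,tg_111,tg_112,tg_113,tg_114,tg_115,tg_116,tg_117,tg_118,tg_119,tg_120,tg_121,tg_122,tg_123,tg_124,tg_125,tg_126,tg_127,tg_128,tg_129,tg_130,tg_131]) = true :=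
  rt_step ck_tg30 (by decide +kernel) rt_31

theorem rt_29 : C.runTargets tS_29 (tg_29 :: [tg_30,tg_31,tg_32,tg_33,tg_34,tg_35,tg_36,tg_37,tg_38,tg_39,tg_40,tg_41,tg_42,tg_43,tg_44,tg_45,tg_46,tg_47,tg_48,tg_49,tg_50,tg_51,tg_52,tg_53,tg_54,tg_55,tg_56,tg_57,tg_58,tg_59,tg_60,tg_61,tg_62,tg_63,tg_64,tg_65,tg_66,tg_67,tg_68,tg_69,tg_70,tg_71,tg_72,tg_73,tg_74,tg_75,tg_76,tg_77,tg_78,tg_79,tg_80,tg_81,tg_82,tg_83,tg_84,tg_85,tg_86,tg_87,tg_88,tg_89,tg_90,tg_91,tg_92,tg_93,tg_94,tg_95,tg_96,tg_97,tg_98,tg_99,tg_100,tg_101,tg_102,tg_103,tg_104,tg_105,tg_106,tg_107,tg_108,tg_109,tg_110,tg_111,tg_112,tg_113,tg_114,tg_115,tg_116,tg_117,tg_118,tg_119,tg_120,tg_121,tg_122,tg_123,tg_124,tg_125,tg_126,tg_127,tg_128,tg_129,tg_130,tg_131]) = true :=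
  rt_step ck_tg29 (by decide +kernel) rt_30

theorem rt_28 : C.runTargets tS_28 (tg_28 :: [tg_29,tg_30,tg_31,tg_32,tg_33,tg_34,tg_35,tg_36,tg_37,tg_38,tg_39,tg_40,tg_41,tg_42,tg_43,tg_44,tg_45,tg_46,tg_47,tg_48,tg_49,tg_50,tg_51,tg_52,tg_53,tg_54,tg_55,tg_56,tg_57,tg_58,tg_59,tg_60,tg_61,tg_62,tg_63,tg_64,tg_65,tg_66,tg_67,tg_68,tg_69,tg_70,tg_71,tg_72,tg_73,tg_74,tg_75,tg_76,tg_77,tg_78,tg_79,tg_80,tg_81,tg_82,tg_83,tg_84,tg_85,tg_86,tg_87,tg_88,tg_89,tg_90,tg_91,tg_92,tg_93,tg_94,tg_95,tg_96,tg_97,tg_98,tg_99,tg_100,tg_101,tg_102,tg_103,tg_104,tg_105,tg_106,tg_107,tg_108,tg_109,tg_110,tg_111,tg_112,tg_113,tg_114,tg_115,tg_116,tg_117,tg_118,tg_119,tg_120,tg_121,tg_122,tg_123,tg_124,tg_125,tg_126,tg_127,tg_128,tg_129,tg_130,tg_131]) = true :=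
  rt_step ck_tg28 (by decide +kernel) rt_29

theorem rt_27 : C.runTargets tS_27 (tg_27 :: [tg_28,tg_29,tg_30,tg_31,tg_32,tg_33,tg_34,tg_35,tg_36,tg_37,tg_38,tg_39,tg_40,tg_41,tg_42,tg_43,tg_44,tg_45,tg_46,tg_47,tg_48,tg_49,tg_50,tg_51,tg_52,tg_53,tg_54,tg_55,tg_56,tg_57,tg_58,tg_59,tg_60,tg_61,tg_62,tg_63,tg_64,tg_65,tg_66,tg_67,tg_68,tg_69,tg_70,tg_71,tg_72,tg_73,tg_74,tg_75,tg_76,tg_77,tg_78,tg_79,tg_80,tg_81,tg_82,tg_83,tg_84,tg_85,tg_86,tg_87,tg_88,tg_89,tg_90,tg_91,tg_92,tg_93,tg_94,tg_95,tg_96,tg_97,tg_98,tg_99,tg_100,tg_101,tg_102,tg_103,tg_104,tg_105,tg_106,tg_107,tg_108,tg_109,tg_110,tg_111,tg_112,tg_113,tg_114,tg_115,tg_116,tg_117,tg_118,tg_119,tg_120,tg_121,tg_122,tg_123,tg_124,tg_125,tg_126,tg_127,tg_128,tg_129,tg_130,tg_131]) = true :=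
  rt_step ck_tg27 (by decide +kernel) rt_28

theorem rt_26 : C.runTargets tS_26 (tg_26 :: [tg_27,tg_28,tg_29,tg_30,tg_31,tg_32,tg_33,tg_34,tg_35,tg_36,tg_37,tg_38,tg_39,tg_40,tg_41,tg_42,tg_43,tg_44,tg_45,tg_46,tg_47,tg_48,tg_49,tg_50,tg_51,tg_52,tg_53,tg_54,tg_55,tg_56,tg_57,tg_58,tg_59,tg_60,tg_61,tg_62,tg_63,tg_64,tg_65,tg_66,tg_67,tg_68,tg_69,tg_70,tg_71,tg_72,tg_73,tg_74,tg_75,tg_76,tg_77,tg_78,tg_79,tg_80,tg_81,tg_82,tg_83,tg_84,tg_85,tg_86,tg_87,tg_88,tg_89,tg_90,tg_91,tg_92,tg_93,tg_94,tg_95,tg_96,tg_97,tg_98,tg_99,tg_100,tg_101,tg_102,tg_103,tg_104,tg_105,tg_106,tg_107,tg_108,tg_109,tg_110,tg_111,tg_112,tg_113,tg_114,tg_115,tg_116,tg_117,tg_118,tg_119,tg_120,tg_121,tg_122,tg_123,tg_124,tg_125,tg_126,tg_127,tg_128,tg_129,tg_130,tg_131]) = true :=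
  rt_step ck_tg26 (by decide +kernel) rt_27

theorem rt_25 : C.runTargets tS_25 (tg_25 :: [tg_26,tg_27,tg_28,tg_29,tg_30,tg_31,tg_32,tg_33,tg_34,tg_35,tg_36,tg_37,tg_38,tg_39,tg_40,tg_41,tg_42,tg_43,tg_44,tg_45,tg_46,tg_47,tg_48,tg_49,tg_50,tg_51,tg_52,tg_53,tg_54,tg_55,tg_56,tg_57,tg_58,tg_59,tg_60,tg_61,tg_62,tg_63,tg_64,tg_65,tg_66,tg_67,tg_68,tg_69,tg_70,tg_71,tg_72,tg_73,tg_74,tg_75,tg_76,tg_77,tg_78,tg_79,tg_80,tg_81,tg_82,tg_83,tg_84,tg_85,tg_86,tg_87,tg_88,tg_89,tg_90,tg_91,tg_92,tg_93,tg_94,tg_95,tg_96,tg_97,tg_98,tg_99,tg_100,tg_101,tg_102,tg_103,tg_104,tg_105,tg_106,tg_107,tg_108,tg_109,tg_110,tg_111,tg_112,tg_113,tg_114,tg_115,tg_116,tg_117,tg_118,tg_119,tg_120,tg_121,tg_122,tg_123,tg_124,tg_125,tg_126,tg_127,tg_128,tg_129,tg_130,tg_131]) = true :=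
  rt_step ck_tg25 (by decide +kernel) rt_26

theorem rt_24 : C.runTargets tS_24 (tg_24 :: [tg_25,tg_26,tg_27,tg_28,tg_29,tg_30,tg_31,tg_32,tg_33,tg_34,tg_35,tg_36,tg_37,tg_38,tg_39,tg_40,tg_41,tg_42,tg_43,tg_44,tg_45,tg_46,tg_47,tg_48,tg_49,tg_50,tg_51,tg_52,tg_53,tg_54,tg_55,tg_56,tg_57,tg_58,tg_59,tg_60,tg_61,tg_62,tg_63,tg_64,tg_65,tg_66,tg_67,tg_68,tg_69,tg_70,tg_71,tg_72,tg_73,tg_74,tg_75,tg_76,tg_77,tg_78,tg_79,tg_80,tg_81,tg_82,tg_83,tg_84,tg_85,tg_86,tg_87,tg_88,tg_89,tg_90,tg_91,tg_92,tg_93,tg_94,tg_95,tg_96,tg_97,tg_98,tg_99,tg_100,tg_101,tg_102,tg_103,tg_104,tg_105,tg_106,tg_107,tg_108,tg_109,tg_110,tg_111,tg_112,tg_113,tg_114,tg_115,tg_116,tg_117,tg_118,tg_119,tg_120,tg_121,tg_122,tg_123,tg_124,tg_125,tg_126,tg_127,tg_128,tg_129,tg_130,tg_131]) = true :=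
  rt_step ck_tg24 (by decide +kernel) rt_25

theorem rt_23 : C.runTargets tS_23 (tg_23 :: [tg_24,tg_25,tg_26,tg_27,tg_28,tg_29,tg_30,tg_31,tg_32,tg_33,tg_34,tg_35,tg_36,tg_37,tg_38,tg_39,tg_40,tg_41,tg_42,tg_43,tg_44,tg_45,tg_46,tg_47,tg_48,tg_49,tg_50,tg_51,tg_52,tg_53,tg_54,tg_55,tg_56,tg_57,tg_58,tg_59,tg_60,tg_61,tg_62,tg_63,tg_64,tg_65,tg_66,tg_67,tg_68,tg_69,tg_70,tg_71,tg_72,tg_73,tg_74,tg_75,tg_76,tg_77,tg_78,tg_79,tg_80,tg_81,tg_82,tg_83,tg_84,tg_85,tg_86,tg_87,tg_88,tg_89,tg_90,tg_91,tg_92,tg_93,tg_94,tg_95,tg_96,tg_97,tg_98,tg_99,tg_100,tg_101,tg_102,tg_103,tg_104,tg_105,tg_106,tg_107,tg_108,tg_109,tg_110,tg_111,tg_112,tg_113,tg_114,tg_115,tg_116,tg_117,tg_118,tg_119,tg_120,tg_121,tg_122,tg_123,tg_124,tg_125,tg_126,tg_127,tg_128,tg_129,tg_130,tg_131]) = true :=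
  rt_step ck_tg23 (by decide +kernel) rt_24

theorem rt_22 : C.runTargets tS_22 (tg_22 :: [tg_23,tg_24,tg_25,tg_26,tg_27,tg_28,tg_29,tg_30,tg_31,tg_32,tg_33,tg_34,tg_35,tg_36,tg_37,tg_38,tg_39,tg_40,tg_41,tg_42,tg_43,tg_44,tg_45,tg_46,tg_47,tg_48,tg_49,tg_50,tg_51,tg_52,tg_53,tg_54,tg_55,tg_56,tg_57,tg_58,tg_59,tg_60,tg_61,tg_62,tg_63,tg_64,tg_65,tg_66,tg_67,tg_68,tg_69,tg_70,tg_71,tg_72,tg_73,tg_74,tg_75,tg_76,tg_77,tg_78,tg_79,tg_80,tg_81,tg_82,tg_83,tg_84,tg_85,tg_86,tg_87,tg_88,tg_89,tg_90,tg_91,tg_92,tg_93,tg_94,tg_95,tg_96,tg_97,tg_98,tg_99,tg_100,tg_101,tg_102,tg_103,tg_104,tg_105,tg_106,tg_107,tg_108,tg_109,tg_110,tg_111,tg_112,tg_113,tg_114,tg_115,tg_116,tg_117,tg_118,tg_119,tg_120,tg_121,tg_122,tg_123,tg_124,tg_125,tg_126,tg_127,tg_128,tg_129,tg_130,tg_131]) = true :=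
  rt_step ck_tg22 (by decide +kernel) rt_23

theorem rt_21 : C.runTargets tS_21 (tg_21 :: [tg_22,tg_23,tg_24,tg_25,tg_26,tg_27,tg_28,tg_29,tg_30,tg_31,tg_32,tg_33,tg_34,tg_35,tg_36,tg_37,tg_38,tg_39,tg_40,tg_41,tg_42,tg_43,tg_44,tg_45,tg_46,tg_47,tg_48,tg_49,tg_50,tg_51,tg_52,tg_53,tg_54,tg_55,tg_56,tg_57,tg_58,tg_59,tg_60,tg_61,tg_62,tg_63,tg_64,tg_65,tg_66,tg_67,tg_68,tg_69,tg_70,tg_71,tg_72,tg_73,tg_74,tg_75,tg_76,tg_77,tg_78,tg_79,tg_80,tg_81,tg_82,tg_83,tg_84,tg_85,tg_86,tg_87,tg_88,tg_89,tg_90,tg_91,tg_92,tg_93,tg_94,tg_95,tg_96,tg_97,tg_98,tg_99,tg_100,tg_101,tg_102,tg_103,tg_104,tg_105,tg_106,tg_107,tg_108,tg_109,tg_110,tg_111,tg_112,tg_113,tg_114,tg_115,tg_116,tg_117,tg_118,tg_119,tg_120,tg_121,tg_122,tg_123,tg_124,tg_125,tg_126,tg_127,tg_128,tg_129,tg_130,tg_131]) = true :=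
  rt_step ck_tg21 (by decide +kernel) rt_22

theorem rt_20 : C.runTargets tS_20 (tg_20 :: [tg_21,tg_22,tg_23,tg_24,tg_25,tg_26,tg_27,tg_28,tg_29,tg_30,tg_31,tg_32,tg_33,tg_34,tg_35,tg_36,tg_37,tg_38,tg_39,tg_40,tg_41,tg_42,tg_43,tg_44,tg_45,tg_46,tg_47,tg_48,tg_49,tg_50,tg_51,tg_52,tg_53,tg_54,tg_55,tg_56,tg_57,tg_58,tg_59,tg_60,tg_61,tg_62,tg_63,tg_64,tg_65,tg_66,tg_67,tg_68,tg_69,tg_70,tg_71,tg_72,tg_73,tg_74,tg_75,tg_76,tg_77,tg_78,tg_79,tg_80,tg_81,tg_82,tg_83,tg_84,tg_85,tg_86,tg_87,tg_88,tg_89,tg_90,tg_91,tg_92,tg_93,tg_94,tg_95,tg_96,tg_97,tg_98,tg_99,tg_100,tg_101,tg_102,tg_103,tg_104,tg_105,tg_106,tg_107,tg_108,tg_109,tg_110,tg_111,tg_112,tg_113,tg_114,tg_115,tg_116,tg_117,tg_118,tg_119,tg_120,tg_121,tg_122,tg_123,tg_124,tg_125,tg_126,tg_127,tg_128,tg_129,tg_130,tg_131]) = true :=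
  rt_step ck_tg20 (by decide +kernel) rt_21

theorem rt_19 : C.runTargets tS_19 (tg_19 :: [tg_20,tg_21,tg_22,tg_23,tg_24,tg_25,tg_26,tg_27,tg_28,tg_29,tg_30,tg_31,tg_32,tg_33,tg_34,tg_35,tg_36,tg_37,tg_38,tg_39,tg_40,tg_41,tg_42,tg_43,tg_44,tg_45,tg_46,tg_47,tg_48,tg_49,tg_50,tg_51,tg_52,tg_53,tg_54,tg_55,tg_56,tg_57,tg_58,tg_59,tg_60,tg_61,tg_62,tg_63,tg_64,tg_65,tg_66,tg_67,tg_68,tg_69,tg_70,tg_71,tg_72,tg_73,tg_74,tg_75,tg_76,tg_77,tg_78,tg_79,tg_80,tg_81,tg_82,tg_83,tg_84,tg_85,tg_86,tg_87,tg_88,tg_89,tg_90,tg_91,tg_92,tg_93,tg_94,tg_95,tg_96,tg_97,tg_98,tg_99,tg_100,tg_101,tg_102,tg_103,tg_104,tg_105,tg_106,tg_107,tg_108,tg_109,tg_110,tg_111,tg_112,tg_113,tg_114,tg_115,tg_116,tg_117,tg_118,tg_119,tg_120,tg_121,tg_122,tg_123,tg_124,tg_125,tg_126,tg_127,tg_128,tg_129,tg_130,tg_131]) = true :=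
  rt_step ck_tg19 (by decide +kernel) rt_20

theorem rt_18 : C.runTargets tS_18 (tg_18 :: [tg_19,tg_20,tg_21,tg_22,tg_23,tg_24,tg_25,tg_26,tg_27,tg_28,tg_29,tg_30,tg_31,tg_32,tg_33,tg_34,tg_35,tg_36,tg_37,tg_38,tg_39,tg_40,tg_41,tg_42,tg_43,tg_44,tg_45,tg_46,tg_47,tg_48,tg_49,tg_50,tg_51,tg_52,tg_53,tg_54,tg_55,tg_56,tg_57,tg_58,tg_59,tg_60,tg_61,tg_62,tg_63,tg_64,tg_65,tg_66,tg_67,tg_68,tg_69,tg_70,tg_71,tg_72,tg_73,tg_74,tg_75,tg_76,tg_77,tg_78,tg_79,tg_80,tg_81,tg_82,tg_83,tg_84,tg_85,tg_86,tg_87,tg_88,tg_89,tg_90,tg_91,tg_92,tg_93,tg_94,tg_95,tg_96,tg_97,tg_98,tg_99,tg_100,tg_101,tg_102,tg_103,tg_104,tg_105,tg_106,tg_107,tg_108,tg_109,tg_110,tg_111,tg_112,tg_113,tg_114,tg_115,tg_116,tg_117,tg_118,tg_119,tg_120,tg_121,tg_122,tg_123,tg_124,tg_125,tg_126,tg_127,tg_128,tg_129,tg_130,tg_131]) = true :=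
  rt_step ck_tg18 (by decide +kernel) rt_19

theorem rt_17 : C.runTargets tS_17 (tg_17 :: [tg_18,tg_19,tg_20,tg_21,tg_22,tg_23,tg_24,tg_25,tg_26,tg_27,tg_28,tg_29,tg_30,tg_31,tg_32,tg_33,tg_34,tg_35,tg_36,tg_37,tg_38,tg_39,tg_40,tg_41,tg_42,tg_43,tg_44,tg_45,tg_46,tg_47,tg_48,tg_49,tg_50,tg_51,tg_52,tg_53,tg_54,tg_55,tg_56,tg_57,tg_58,tg_59,tg_60,tg_61,tg_62,tg_63,tg_64,tg_65,tg_66,tg_67,tg_68,tg_69,tg_70,tg_71,tg_72,tg_73,tg_74,tg_75,tg_76,tg_77,tg_78,tg_79,tg_80,tg_81,tg_82,tg_83,tg_84,tg_85,tg_86,tg_87,tg_88,tg_89,tg_90,tg_91,tg_92,tg_93,tg_94,tg_95,tg_96,tg_97,tg_98,tg_99,tg_100,tg_101,tg_102,tg_103,tg_104,tg_105,tg_106,tg_107,tg_108,tg_109,tg_110,tg_111,tg_112,tg_113,tg_114,tg_115,tg_116,tg_117,tg_118,tg_119,tg_120,tg_121,tg_122,tg_123,tg_124,tg_125,tg_126,tg_127,tg_128,tg_129,tg_130,tg_131]) = true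 :=
  rt_step ck_tg17 (by decide +kernel) rt_18

theorem rt_16 : C.runTargets tS_16 (tg_16 :: [tg_17,tg_18,tg_19,tg_20,tg_21,tg_22,tg_23,tg_24,tg_25,tg_26,tg_27,tg_28,tg_29,tg_30,tg_31,tg_32,tg_33,tg_34,tg_35,tg_36,tg_37,tg_38,tg_39,tg_40,tg_41,tg_42,tg_43,tg_44,tg_45,tg_46,tg_47,tg_48,tg_49,tg_50,tg_51,tg_52,tg_53,tg_54,tg_55,tg_56,tg_57,tg_58,tg_59,tg_60,tg_61,tg_62,tg_63,tg_64,tg_65,tg_66,tg_67,tg_68,tg_69,tg_70,tg_71,tg_72,tg_73,tg_74,tg_75,tg_76,tg_77,tg_78,tg_79,tg_80,tg_81,tg_82,tg_83,tg_84,tg_85,tg_86,tg_87,tg_88,tg_89,tg_90,tg_91,tg_92,tg_93,tg_94,tg_95,tg_96,tg_97,tg_98,tg_99,tg_100,tg_101,tg_102,tg_103,tg_104,tg_105,tg_106,tg_107,tg_108,tg_109,tg_110,tg_111,tg_112,tg_113,tg_114,tg_115,tg_116,tg_117,tg_118,tg_119,tg_120,tg_121,tg_122,tg_123,tg_124,tg_125,tg_126,tg_127,tg_128,tg_129,tg_130,tg_131])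 = true :=
  rt_step ck_tg16 (by decide +kernel) rt_17

theorem rt_15 : C.runTargets tS_15 (tg_15 :: [tg_16,tg_17,tg_18,tg_19,tg_20,tg_21,tg_22,tg_23,tg_24,tg_25,tg_26,tg_27,tg_28,tg_29,tg_30,tg_31,tg_32,tg_33,tg_34,tg_35,tg_36,tg_37,tg_38,tg_39,tg_40,tg_41,tg_42,tg_43,tg_44,tg_45,tg_46,tg_47,tg_48,tg_49,tg_50,tg_51,tg_52,tg_53,tg_54,tg_55,tg_56,tg_57,tg_58,tg_59,tg_60,tg_61,tg_62,tg_63,tg_64,tg_65,tg_66,tg_67,tg_68,tg_69,tg_70,tg_71,tg_72,tg_73,tg_74,tg_75,tg_76,tg_77,tg_78,tg_79,tg_80,tg_81,tg_82,tg_83,tg_84,tg_85,tg_86,tg_87,tg_88,tg_89,tg_90,tg_91,tg_92,tg_93,tg_94,tg_95,tg_96,tg_97,tg_98,tg_99,tg_100,tg_101,tg_102,tg_103,tg_104,tg_105,tg_106,tg_107,tg_108,tg_109,tg_110,tg_111,tg_112,tg_113,tg_114,tg_115,tg_116,tg_117,tg_118,tg_119,tg_120,tg_121,tg_122,tg_123,tg_124,tg_125,tg_126,tg_127,tg_128,tg_129,tg_130,tg_131])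 = true :=
  rt_step ck_tg15 (by decide +kernel) rt_16

theorem rt_14 : C.runTargets tS_14 (tg_14 :: [tg_15,tg_16,tg_17,tg_18,tg_19,tg_20,tg_21,tg_22,tg_23,tg_24,tg_25,tg_26,tg_27,tg_28,tg_29,tg_30,tg_31,tg_32,tg_33,tg_34,tg_35,tg_36,tg_37,tg_38,tg_39,tg_40,tg_41,tg_42,tg_43,tg_44,tg_45,tg_46,tg_47,tg_48,tg_49,tg_50,tg_51,tg_52,tg_53,tg_54,tg_55,tg_56,tg_57,tg_58,tg_59,tg_60,tg_61,tg_62,tg_63,tg_64,tg_65,tg_66,tg_67,tg_68,tg_69,tg_70,tg_71,tg_72,tg_73,tg_74,tg_75,tg_76,tg_77,tg_78,tg_79,tg_80,tg_81,tg_82,tg_83,tg_84,tg_85,tg_86,tg_87,tg_88,tg_89,tg_90,tg_91,tg_92,tg_93,tg_94,tg_95,tg_96,tg_97,tg_98,tg_99,tg_100,tg_101,tg_102,tg_103,tg_104,tg_105,tg_106,tg_107,tg_108,tg_109,tg_110,tg_111,tg_112,tg_113,tg_114,tg_115,tg_116,tg_117,tg_118,tg_119,tg_120,tg_121,tg_122,tg_123,tg_124,tg_125,tg_126,tg_127,tg_128,tg_129,tg_130,tg_131])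 = true :=
  rt_step ck_tg14 (by decide +kernel) rt_15

theorem rt_13 : C.runTargets tS_13 (tg_13 :: [tg_14,tg_15,tg_16,tg_17,tg_18,tg_19,tg_20,tg_21,tg_22,tg_23,tg_24,tg_25,tg_26,tg_27,tg_28,tg_29,tg_30,tg_31,tg_32,tg_33,tg_34,tg_35,tg_36,tg_37,tg_38,tg_39,tg_40,tg_41,tg_42,tg_43,tg_44,tg_45,tg_46,tg_47,tg_48,tg_49,tg_50,tg_51,tg_52,tg_53,tg_54,tg_55,tg_56,tg_57,tg_58,tg_59,tg_60,tg_61,tg_62,tg_63,tg_64,tg_65,tg_66,tg_67,tg_68,tg_69,tg_70,tg_71,tg_72,tg_73,tg_74,tg_75,tg_76,tg_77,tg_78,tg_79,tg_80,tg_81,tg_82,tg_83,tg_84,tg_85,tg_86,tg_87,tg_88,tg_89,tg_90,tg_91,tg_92,tg_93,tg_94,tg_95,tg_96,tg_97,tg_98,tg_99,tg_100,tg_101,tg_102,tg_103,tg_104,tg_105,tg_106,tg_107,tg_108,tg_109,tg_110,tg_111,tg_112,tg_113,tg_114,tg_115,tg_116,tg_117,tg_118,tg_119,tg_120,tg_121,tg_122,tg_123,tg_124,tg_125,tg_126,tg_127,tg_128,tg_129,tg_130,tg_131])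 = true :=
  rt_step ck_tg13 (by decide +kernel) rt_14

theorem rt_12 : C.runTargets tS_12 (tg_12 :: [tg_13,tg_14,tg_15,tg_16,tg_17,tg_18,tg_19,tg_20,tg_21,tg_22,tg_23,tg_24,tg_25,tg_26,tg_27,tg_28,tg_29,tg_30,tg_31,tg_32,tg_33,tg_34,tg_35,tg_36,tg_37,tg_38,tg_39,tg_40,tg_41,tg_42,tg_43,tg_44,tg_45,tg_46,tg_47,tg_48,tg_49,tg_50,tg_51,tg_52,tg_53,tg_54,tg_55,tg_56,tg_57,tg_58,tg_59,tg_60,tg_61,tg_62,tg_63,tg_64,tg_65,tg_66,tg_67,tg_68,tg_69,tg_70,tg_71,tg_72,tg_73,tg_74,tg_75,tg_76,tg_77,tg_78,tg_79,tg_80,tg_81,tg_82,tg_83,tg_84,tg_85,tg_86,tg_87,tg_88,tg_89,tg_90,tg_91,tg_92,tg_93,tg_94,tg_95,tg_96,tg_97,tg_98,tg_99,tg_100,tg_101,tg_102,tg_103,tg_104,tg_105,tg_106,tg_107,tg_108,tg_109,tg_110,tg_111,tg_112,tg_113,tg_114,tg_115,tg_116,tg_117,tg_118,tg_119,tg_120,tg_121,tg_122,tg_123,tg_124,tg_125,tg_126,tg_127,tg_128,tg_129,tg_130,tg_131])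 = true :=
  rt_step ck_tg12 (by decide +kernel) rt_13

theorem rt_11 : C.runTargets tS_11 (tg_11 :: [tg_12,tg_13,tg_14,tg_15,tg_16,tg_17,tg_18,tg_19,tg_20,tg_21,tg_22,tg_23,tg_24,tg_25,tg_26,tg_27,tg_28,tg_29,tg_30,tg_31,tg_32,tg_33,tg_34,tg_35,tg_36,tg_37,tg_38,tg_39,tg_40,tg_41,tg_42,tg_43,tg_44,tg_45,tg_46,tg_47,tg_48,tg_49,tg_50,tg_51,tg_52,tg_53,tg_54,tg_55,tg_56,tg_57,tg_58,tg_59,tg_60,tg_61,tg_62,tg_63,tg_64,tg_65,tg_66,tg_67,tg_68,tg_69,tg_70,tg_71,tg_72,tg_73,tg_74,tg_75,tg_76,tg_77,tg_78,tg_79,tg_80,tg_81,tg_82,tg_83,tg_84,tg_85,tg_86,tg_87,tg_88,tg_89,tg_90,tg_91,tg_92,tg_93,tg_94,tg_95,tg_96,tg_97,tg_98,tg_99,tg_100,tg_101,tg_102,tg_103,tg_104,tg_105,tg_106,tg_107,tg_108,tg_109,tg_110,tg_111,tg_112,tg_113,tg_114,tg_115,tg_116,tg_117,tg_118,tg_119,tg_120,tg_121,tg_122,tg_123,tg_124,tg_125,tg_126,tg_127,tg_128,tg_129,tg_130,tg_131])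 = true :=
  rt_step ck_tg11 (by decide +kernel) rt_12

theorem rt_10 : C.runTargets tS_10 (tg_10 :: [tg_11,tg_12,tg_13,tg_14,tg_15,tg_16,tg_17,tg_18,tg_19,tg_20,tg_21,tg_22,tg_23,tg_24,tg_25,tg_26,tg_27,tg_28,tg_29,tg_30,tg_31,tg_32,tg_33,tg_34,tg_35,tg_36,tg_37,tg_38,tg_39,tg_40,tg_41,tg_42,tg_43,tg_44,tg_45,tg_46,tg_47,tg_48,tg_49,tg_50,tg_51,tg_52,tg_53,tg_54,tg_55,tg_56,tg_57,tg_58,tg_59,tg_60,tg_61,tg_62,tg_63,tg_64,tg_65,tg_66,tg_67,tg_68,tg_69,tg_70,tg_71,tg_72,tg_73,tg_74,tg_75,tg_76,tg_77,tg_78,tg_79,tg_80,tg_81,tg_82,tg_83,tg_84,tg_85,tg_86,tg_87,tg_88,tg_89,tg_90,tg_91,tg_92,tg_93,tg_94,tg_95,tg_96,tg_97,tg_98,tg_99,tg_100,tg_101,tg_102,tg_103,tg_104,tg_105,tg_106,tg_107,tg_108,tg_109,tg_110,tg_111,tg_112,tg_113,tg_114,tg_115,tg_116,tg_117,tg_118,tg_119,tg_120,tg_121,tg_122,tg_123,tg_124,tg_125,tg_126,tg_127,tg_128,tg_129,tg_130,tg_131])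 = true :=
  rt_step ck_tg10 (by decide +kernel) rt_11

theorem rt_9 : C.runTargets tS_9 (tg_9 :: [tg_10,tg_11,tg_12,tg_13,tg_14,tg_15,tg_16,tg_17,tg_18,tg_19,tg_20,tg_21,tg_22,tg_23,tg_24,tg_25,tg_26,tg_27,tg_28,tg_29,tg_30,tg_31,tg_32,tg_33,tg_34,tg_35,tg_36,tg_37,tg_38,tg_39,tg_40,tg_41,tg_42,tg_43,tg_44,tg_45,tg_46,tg_47,tg_48,tg_49,tg_50,tg_51,tg_52,tg_53,tg_54,tg_55,tg_56,tg_57,tg_58,tg_59,tg_60,tg_61,tg_62,tg_63,tg_64,tg_65,tg_66,tg_67,tg_68,tg_69,tg_70,tg_71,tg_72,tg_73,tg_74,tg_75,tg_76,tg_77,tg_78,tg_79,tg_80,tg_81,tg_82,tg_83,tg_84,tg_85,tg_86,tg_87,tg_88,tg_89,tg_90,tg_91,tg_92,tg_93,tg_94,tg_95,tg_96,tg_97,tg_98,tg_99,tg_100,tg_101,tg_102,tg_103,tg_104,tg_105,tg_106,tg_107,tg_108,tg_109,tg_110,tg_111,tg_112,tg_113,tg_114,tg_115,tg_116,tg_117,tg_118,tg_119,tg_120,tg_121,tg_122,tg_123,tg_124,tg_125,tg_126,tg_127,tg_128,tg_129,tg_130,tg_131])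 = true :=
  rt_step ck_tg9 (by decide +kernel) rt_10

theorem rt_8 : C.runTargets tS_8 (tg_8 :: [tg_9,tg_10,tg_11,tg_12,tg_13,tg_14,tg_15,tg_16,tg_17,tg_18,tg_19,tg_20,tg_21,tg_22,tg_23,tg_24,tg_25,tg_26,tg_27,tg_28,tg_29,tg_30,tg_31,tg_32,tg_33,tg_34,tg_35,tg_36,tg_37,tg_38,tg_39,tg_40,tg_41,tg_42,tg_43,tg_44,tg_45,tg_46,tg_47,tg_48,tg_49,tg_50,tg_51,tg_52,tg_53,tg_54,tg_55,tg_56,tg_57,tg_58,tg_59,tg_60,tg_61,tg_62,tg_63,tg_64,tg_65,tg_66,tg_67,tg_68,tg_69,tg_70,tg_71,tg_72,tg_73,tg_74,tg_75,tg_76,tg_77,tg_78,tg_79,tg_80,tg_81,tg_82,tg_83,tg_84,tg_85,tg_86,tg_87,tg_88,tg_89,tg_90,tg_91,tg_92,tg_93,tg_94,tg_95,tg_96,tg_97,tg_98,tg_99,tg_100,tg_101,tg_102,tg_103,tg_104,tg_105,tg_106,tg_107,tg_108,tg_109,tg_110,tg_111,tg_112,tg_113,tg_114,tg_115,tg_116,tg_117,tg_118,tg_119,tg_120,tg_121,tg_122,tg_123,tg_124,tg_125,tg_126,tg_127,tg_128,tg_129,tg_130,tg_131])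 = true :=
  rt_step ck_tg8 (by decide +kernel) rt_9

theorem rt_7 : C.runTargets tS_7 (tg_7 :: [tg_8,tg_9,tg_10,tg_11,tg_12,tg_13,tg_14,tg_15,tg_16,tg_17,tg_18,tg_19,tg_20,tg_21,tg_22,tg_23,tg_24,tg_25,tg_26,tg_27,tg_28,tg_29,tg_30,tg_31,tg_32,tg_33,tg_34,tg_35,tg_36,tg_37,tg_38,tg_39,tg_40,tg_41,tg_42,tg_43,tg_44,tg_45,tg_46,tg_47,tg_48,tg_49,tg_50,tg_51,tg_52,tg_53,tg_54,tg_55,tg_56,tg_57,tg_58,tg_59,tg_60,tg_61,tg_62,tg_63,tg_64,tg_65,tg_66,tg_67,tg_68,tg_69,tg_70,tg_71,tg_72,tg_73,tg_74,tg_75,tg_76,tg_77,tg_78,tg_79,tg_80,tg_81,tg_82,tg_83,tg_84,tg_85,tg_86,tg_87,tg_88,tg_89,tg_90,tg_91,tg_92,tg_93,tg_94,tg_95,tg_96,tg_97,tg_98,tg_99,tg_100,tg_101,tg_102,tg_103,tg_104,tg_105,tg_106,tg_107,tg_108,tg_109,tg_110,tg_111,tg_112,tg_113,tg_114,tg_115,tg_116,tg_117,tg_118,tg_119,tg_120,tg_121,tg_122,tg_123,tg_124,tg_125,tg_126,tg_127,tg_128,tg_129,tg_130,tg_131])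 = true :=
  rt_step ck_tg7 (by decide +kernel) rt_8

theorem rt_6 : C.runTargets tS_6 (tg_6 :: [tg_7,tg_8,tg_9,tg_10,tg_11,tg_12,tg_13,tg_14,tg_15,tg_16,tg_17,tg_18,tg_19,tg_20,tg_21,tg_22,tg_23,tg_24,tg_25,tg_26,tg_27,tg_28,tg_29,tg_30,tg_31,tg_32,tg_33,tg_34,tg_35,tg_36,tg_37,tg_38,tg_39,tg_40,tg_41,tg_42,tg_43,tg_44,tg_45,tg_46,tg_47,tg_48,tg_49,tg_50,tg_51,tg_52,tg_53,tg_54,tg_55,tg_56,tg_57,tg_58,tg_59,tg_60,tg_61,tg_62,tg_63,tg_64,tg_65,tg_66,tg_67,tg_68,tg_69,tg_70,tg_71,tg_72,tg_73,tg_74,tg_75,tg_76,tg_77,tg_78,tg_79,tg_80,tg_81,tg_82,tg_83,tg_84,tg_85,tg_86,tg_87,tg_88,tg_89,tg_90,tg_91,tg_92,tg_93,tg_94,tg_95,tg_96,tg_97,tg_98,tg_99,tg_100,tg_101,tg_102,tg_103,tg_104,tg_105,tg_106,tg_107,tg_108,tg_109,tg_110,tg_111,tg_112,tg_113,tg_114,tg_115,tg_116,tg_117,tg_118,tg_119,tg_120,tg_121,tg_122,tg_123,tg_124,tg_125,tg_126,tg_127,tg_128,tg_129,tg_130,tg_131])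 = true :=
  rt_step ck_tg6 (by decide +kernel) rt_7

theorem rt_5 : C.runTargets tS_5 (tg_5 :: [tg_6,tg_7,tg_8,tg_9,tg_10,tg_11,tg_12,tg_13,tg_14,tg_15,tg_16,tg_17,tg_18,tg_19,tg_20,tg_21,tg_22,tg_23,tg_24,tg_25,tg_26,tg_27,tg_28,tg_29,tg_30,tg_31,tg_32,tg_33,tg_34,tg_35,tg_36,tg_37,tg_38,tg_39,tg_40,tg_41,tg_42,tg_43,tg_44,tg_45,tg_46,tg_47,tg_48,tg_49,tg_50,tg_51,tg_52,tg_53,tg_54,tg_55,tg_56,tg_57,tg_58,tg_59,tg_60,tg_61,tg_62,tg_63,tg_64,tg_65,tg_66,tg_67,tg_68,tg_69,tg_70,tg_71,tg_72,tg_73,tg_74,tg_75,tg_76,tg_77,tg_78,tg_79,tg_80,tg_81,tg_82,tg_83,tg_84,tg_85,tg_86,tg_87,tg_88,tg_89,tg_90,tg_91,tg_92,tg_93,tg_94,tg_95,tg_96,tg_97,tg_98,tg_99,tg_100,tg_101,tg_102,tg_103,tg_104,tg_105,tg_106,tg_107,tg_108,tg_109,tg_110,tg_111,tg_112,tg_113,tg_114,tg_115,tg_116,tg_117,tg_118,tg_119,tg_120,tg_121,tg_122,tg_123,tg_124,tg_125,tg_126,tg_127,tg_128,tg_129,tg_130,tg_131])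 = true :=
  rt_step ck_tg5 (by decide +kernel) rt_6

theorem rt_4 : C.runTargets tS_4 (tg_4 :: [tg_5,tg_6,tg_7,tg_8,tg_9,tg_10,tg_11,tg_12,tg_13,tg_14,tg_15,tg_16,tg_17,tg_18,tg_19,tg_20,tg_21,tg_22,tg_23,tg_24,tg_25,tg_26,tg_27,tg_28,tg_29,tg_30,tg_31,tg_32,tg_33,tg_34,tg_35,tg_36,tg_37,tg_38,tg_39,tg_40,tg_41,tg_42,tg_43,tg_44,tg_45,tg_46,tg_47,tg_48,tg_49,tg_50,tg_51,tg_52,tg_53,tg_54,tg_55,tg_56,tg_57,tg_58,tg_59,tg_60,tg_61,tg_62,tg_63,tg_64,tg_65,tg_66,tg_67,tg_68,tg_69,tg_70,tg_71,tg_72,tg_73,tg_74,tg_75,tg_76,tg_77,tg_78,tg_79,tg_80,tg_81,tg_82,tg_83,tg_84,tg_85,tg_86,tg_87,tg_88,tg_89,tg_90,tg_91,tg_92,tg_93,tg_94,tg_95,tg_96,tg_97,tg_98,tg_99,tg_100,tg_101,tg_102,tg_103,tg_104,tg_105,tg_106,tg_107,tg_108,tg_109,tg_110,tg_111,tg_112,tg_113,tg_114,tg_115,tg_116,tg_117,tg_118,tg_119,tg_120,tg_121,tg_122,tg_123,tg_124,tg_125,tg_126,tg_127,tg_128,tg_129,tg_130,tg_131])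 = true :=
  rt_step ck_tg4 (by decide +kernel) rt_5

theorem rt_3 : C.runTargets tS_3 (tg_3 :: [tg_4,tg_5,tg_6,tg_7,tg_8,tg_9,tg_10,tg_11,tg_12,tg_13,tg_14,tg_15,tg_16,tg_17,tg_18,tg_19,tg_20,tg_21,tg_22,tg_23,tg_24,tg_25,tg_26,tg_27,tg_28,tg_29,tg_30,tg_31,tg_32,tg_33,tg_34,tg_35,tg_36,tg_37,tg_38,tg_39,tg_40,tg_41,tg_42,tg_43,tg_44,tg_45,tg_46,tg_47,tg_48,tg_49,tg_50,tg_51,tg_52,tg_53,tg_54,tg_55,tg_56,tg_57,tg_58,tg_59,tg_60,tg_61,tg_62,tg_63,tg_64,tg_65,tg_66,tg_67,tg_68,tg_69,tg_70,tg_71,tg_72,tg_73,tg_74,tg_75,tg_76,tg_77,tg_78,tg_79,tg_80,tg_81,tg_82,tg_83,tg_84,tg_85,tg_86,tg_87,tg_88,tg_89,tg_90,tg_91,tg_92,tg_93,tg_94,tg_95,tg_96,tg_97,tg_98,tg_99,tg_100,tg_101,tg_102,tg_103,tg_104,tg_105,tg_106,tg_107,tg_108,tg_109,tg_110,tg_111,tg_112,tg_113,tg_114,tg_115,tg_116,tg_117,tg_118,tg_119,tg_120,tg_121,tg_122,tg_123,tg_124,tg_125,tg_126,tg_127,tg_128,tg_129,tg_130,tg_131])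 = true :=
  rt_step ck_tg3 (by decide +kernel) rt_4

theorem rt_2 : C.runTargets tS_2 (tg_2 :: [tg_3,tg_4,tg_5,tg_6,tg_7,tg_8,tg_9,tg_10,tg_11,tg_12,tg_13,tg_14,tg_15,tg_16,tg_17,tg_18,tg_19,tg_20,tg_21,tg_22,tg_23,tg_24,tg_25,tg_26,tg_27,tg_28,tg_29,tg_30,tg_31,tg_32,tg_33,tg_34,tg_35,tg_36,tg_37,tg_38,tg_39,tg_40,tg_41,tg_42,tg_43,tg_44,tg_45,tg_46,tg_47,tg_48,tg_49,tg_50,tg_51,tg_52,tg_53,tg_54,tg_55,tg_56,tg_57,tg_58,tg_59,tg_60,tg_61,tg_62,tg_63,tg_64,tg_65,tg_66,tg_67,tg_68,tg_69,tg_70,tg_71,tg_72,tg_73,tg_74,tg_75,tg_76,tg_77,tg_78,tg_79,tg_80,tg_81,tg_82,tg_83,tg_84,tg_85,tg_86,tg_87,tg_88,tg_89,tg_90,tg_91,tg_92,tg_93,tg_94,tg_95,tg_96,tg_97,tg_98,tg_99,tg_100,tg_101,tg_102,tg_103,tg_104,tg_105,tg_106,tg_107,tg_108,tg_109,tg_110,tg_111,tg_112,tg_113,tg_114,tg_115,tg_116,tg_117,tg_118,tg_119,tg_120,tg_121,tg_122,tg_123,tg_124,tg_125,tg_126,tg_127,tg_128,tg_129,tg_130,tg_131])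 = true :=
  rt_step ck_tg2 (by decide +kernel) rt_3

theorem rt_1 : C.runTargets tS_1 (tg_1 :: [tg_2,tg_3,tg_4,tg_5,tg_6,tg_7,tg_8,tg_9,tg_10,tg_11,tg_12,tg_13,tg_14,tg_15,tg_16,tg_17,tg_18,tg_19,tg_20,tg_21,tg_22,tg_23,tg_24,tg_25,tg_26,tg_27,tg_28,tg_29,tg_30,tg_31,tg_32,tg_33,tg_34,tg_35,tg_36,tg_37,tg_38,tg_39,tg_40,tg_41,tg_42,tg_43,tg_44,tg_45,tg_46,tg_47,tg_48,tg_49,tg_50,tg_51,tg_52,tg_53,tg_54,tg_55,tg_56,tg_57,tg_58,tg_59,tg_60,tg_61,tg_62,tg_63,tg_64,tg_65,tg_66,tg_67,tg_68,tg_69,tg_70,tg_71,tg_72,tg_73,tg_74,tg_75,tg_76,tg_77,tg_78,tg_79,tg_80,tg_81,tg_82,tg_83,tg_84,tg_85,tg_86,tg_87,tg_88,tg_89,tg_90,tg_91,tg_92,tg_93,tg_94,tg_95,tg_96,tg_97,tg_98,tg_99,tg_100,tg_101,tg_102,tg_103,tg_104,tg_105,tg_106,tg_107,tg_108,tg_109,tg_110,tg_111,tg_112,tg_113,tg_114,tg_115,tg_116,tg_117,tg_118,tg_119,tg_120,tg_121,tg_122,tg_123,tg_124,tg_125,tg_126,tg_127,tg_128,tg_129,tg_130,tg_131])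 = true :=
  rt_step ck_tg1 (by decide +kernel) rt_2

theorem rt_0 : C.runTargets tS_0 (tg_0 :: [tg_1,tg_2,tg_3,tg_4,tg_5,tg_6,tg_7,tg_8,tg_9,tg_10,tg_11,tg_12,tg_13,tg_14,tg_15,tg_16,tg_17,tg_18,tg_19,tg_20,tg_21,tg_22,tg_23,tg_24,tg_25,tg_26,tg_27,tg_28,tg_29,tg_30,tg_31,tg_32,tg_33,tg_34,tg_35,tg_36,tg_37,tg_38,tg_39,tg_40,tg_41,tg_42,tg_43,tg_44,tg_45,tg_46,tg_47,tg_48,tg_49,tg_50,tg_51,tg_52,tg_53,tg_54,tg_55,tg_56,tg_57,tg_58,tg_59,tg_60,tg_61,tg_62,tg_63,tg_64,tg_65,tg_66,tg_67,tg_68,tg_69,tg_70,tg_71,tg_72,tg_73,tg_74,tg_75,tg_76,tg_77,tg_78,tg_79,tg_80,tg_81,tg_82,tg_83,tg_84,tg_85,tg_86,tg_87,tg_88,tg_89,tg_90,tg_91,tg_92,tg_93,tg_94,tg_95,tg_96,tg_97,tg_98,tg_99,tg_100,tg_101,tg_102,tg_103,tg_104,tg_105,tg_106,tg_107,tg_108,tg_109,tg_110,tg_111,tg_112,tg_113,tg_114,tg_115,tg_116,tg_117,tg_118,tg_119,tg_120,tg_121,tg_122,tg_123,tg_124,tg_125,tg_126,tg_127,tg_128,tg_129,tg_130,tg_131])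 = true :=
  rt_step ck_tg0 (by decide +kernel) rt_1

theorem ck_z : decide (C.combo C.zcomb = normS [(C.k0, (C.zm : ℤ))]) = true := by decide +kernel

theorem ck_all : ((List.range C.n).all fun j =>
      (decide (j < C.r) || decide (tidx j j ∈ C.targets.map (·.1))) &&
      (List.range j).all fun i => decide (tidx j i ∈ C.targets.map (·.1))) = true := by decide +kernel

theorem ck_tgs : C.chkTargets = true := targets_of_parts rt_0 ck_z ck_all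

theorem check_ok : C.check = true := check_of_parts ck_tb ck_df ck_ov ck_frs ck_tgs


theorem hwE : ∀ l ∈ wE, ∀ z ∈ l, z < 12 := by decide +kernel

theorem hwY : ∀ l ∈ wY, ∀ z ∈ l, z < 12 := by decide +kernel

theorem hwEe : ∀ l ∈ wE, Even l.length := by
  have h : ∀ l ∈ wE, l.length % 2 = 0 := by decide +kernel
  exact fun l hl => Nat.even_iff.2 (h l hl)

theorem hwYe : ∀ l ∈ wY, Even l.length := by
  have h : ∀ l ∈ wY, l.length % 2 = 0 := by decide +kernel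
  exact fun l hl => Nat.even_iff.2 (h l hl)

theorem hlvn : ∀ t ∈ lv, ∀ u ∈ t.2, ∀ y ∈ u, y < C.n := by decide +kernel

theorem hprod : (lv.map fun t => t.2.length).prod = C.p ^ C.n := by decide +kernel

theorem hitems : ∀ f < C.items.length, chkItem Cfsg.Agent.Lib.TC.D.Fi24a.Tab.pt C wE wY base f = true := by
  intro f hf
  have h : C.items.length = 2 := by decide +kernel
  rw [h] at hf
  interval_cases f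
  · exact hitem0
  · exact hitem1


end Cfsg.Agent.Lib.Schur.Cert.Fi24p3
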