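import Cfsg.Agent.Lib.Schur.PcGolay

/-!
# A tail certificate for a Sylow subgroup of a Mathieu group
-/

set_option autoImplicit false
set_option maxRecDepth 100000
set_option maxHeartbeats 0

namespace Cfsg.Agent.Lib.Schur.Cert.M12p2

open Cfsg.Agent.Lib.Schur.PcMain Cfsg.Agent.Lib.Schur.PcGolay

def rule_0 : List (List ℕ) := [[3, 4, 5]]

def rule_1 : List (List ℕ) := [[1, 3], []]

def rule_2 : List (List ℕ) := [[2, 4], [2, 3, 5], [3, 5]]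

def rule_3 : List (List ℕ) := [[3, 5], [3], [3], []]

def rule_4 : List (List ℕ) := [[4, 5], [4, 5], [4], [4], [5]]

def rule_5 : List (List ℕ) := [[5], [5], [5], [5], [5], []]

def item_0 : List (List ℕ) × List (List ℕ) := ([[4], [1], [0, 2, 3, 4], [0, 1, 2, 3, 4, 5], [5]], [[0, 2], [1], [0, 1, 2, 4], [0, 1, 2, 3, 4], [5]])

def item_1 : List (List ℕ) × List (List ℕ) := ([[4], [1], [2], [5], [3, 5]], [[2, 4], [1, 2, 3, 5], [2, 3, 5], [3], [3, 5]])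

def ov_0 : List ℕ × ℕ × ℕ × List (ℕ × ℤ) := ([2, 1, 0], 0, 1, [(3000, 1), (3002, 1), (4001, -1), (5000, 1), (5004, -1)])

def ov_1 : List ℕ × ℕ × ℕ × List (ℕ × ℤ) := ([3, 1, 0], 0, 1, [(5001, -1), (5003, -1)])

def ov_2 : List ℕ × ℕ × ℕ × List (ℕ × ℤ) := ([3, 2, 0], 0, 1, [(4003, 1), (5002, -1), (5004, -1)])

def ov_3 : List ℕ × ℕ × ℕ × List (ℕ × ℤ) := ([3, 2, 1], 0, 1, [(5003, 1)])

def ov_4 : List ℕ × ℕ × ℕ × List (ℕ × ℤ) := ([4, 1, 0], 0, 1, [(4003, -1), (5000, 1), (5001, -1)])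

def ov_5 : List ℕ × ℕ × ℕ × List (ℕ × ℤ) := ([4, 2, 0], 0, 1, [(5002, -1), (5004, -1)])

def ov_6 : List ℕ × ℕ × ℕ × List (ℕ × ℤ) := ([4, 3, 0], 0, 1, [(5003, -1), (5004, 1)])

def ov_7 : List ℕ × ℕ × ℕ × List (ℕ × ℤ) := ([5, 2, 0], 0, 1, [(5004, -1)])

def ov_8 : List ℕ × ℕ × ℕ × List (ℕ × ℤ) := ([1, 0, 0], 0, 1, [(1000, 2), (3000, 1), (3001, 1), (3003, 1), (4001, 1), (4003, 2), (5001, 1), (5005, 1)])

def ov_9 : List ℕ × ℕ × ℕ × List (ℕ × ℤ) := ([2, 2, 0], 0, 1, [(2000, -2), (3000, 1), (4002, -1), (4004, -1), (5000, 1), (5004, -2)])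

def ov_10 : List ℕ × ℕ × ℕ × List (ℕ × ℤ) := ([3, 3, 0], 0, 1, [(3000, -2), (5003, -1), (5005, -1)])

def ov_11 : List ℕ × ℕ × ℕ × List (ℕ × ℤ) := ([4, 4, 2], 0, 1, [(4002, -2), (5002, 1)])

def ov_12 : List ℕ × ℕ × ℕ × List (ℕ × ℤ) := ([0, 0, 0], 0, 1, [(3000, 1), (4000, 1), (5000, 1), (5004, 1), (5005, 1)])

def ov_13 : List ℕ × ℕ × ℕ × List (ℕ × ℤ) := ([2, 2, 2], 0, 1, [(3002, 1), (5002, 1)])

def fr_0 : ℕ × List ℕ × List ℕ × List (ℕ × ℤ) := (0, [3, 0], [0, 3], [(1000, 1), (2001, -1), (3000, 1), (4000, 2), (4001, 2), (4002, 2), (4003, 2), (5001, 2), (5002, -1), (5003, 1), (5004, -1), (5005, 2)])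

def fr_1 : ℕ × List ℕ × List ℕ × List (ℕ × ℤ) := (0, [3, 1], [1, 3], [(5001, -1)])

def fr_2 : ℕ × List ℕ × List ℕ × List (ℕ × ℤ) := (1, [3, 1], [1, 3], [(3001, 1), (3002, 1), (5001, -1), (5003, -1)])

def tg_0 : ℕ × ℤ × List (ℕ × ℤ) := (1000, 0, [(0, 1)])

def tg_1 : ℕ × ℤ × List (ℕ × ℤ) := (2000, 0, [(1, 1)])

def tg_2 : ℕ × ℤ × List (ℕ × ℤ) := (3000, 0, [(2, 1)])

def tg_3 : ℕ × ℤ × List (ℕ × ℤ) := (5003, 0, [(6, 1)])

def tg_4 : ℕ × ℤ × List (ℕ × ℤ) := (5004, 0, [(10, -1)])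

def tg_5 : ℕ × ℤ × List (ℕ × ℤ) := (5001, 0, [(18, -1)])

def tg_6 : ℕ × ℤ × List (ℕ × ℤ) := (5002, 0, [(8, -1)])

def tg_7 : ℕ × ℤ × List (ℕ × ℤ) := (3002, 0, [(16, 1)])

def tg_8 : ℕ × ℤ × List (ℕ × ℤ) := (4003, 0, [(5, 1)])

def tg_9 : ℕ × ℤ × List (ℕ × ℤ) := (5000, 0, [(7, 1)])

def tg_10 : ℕ × ℤ × List (ℕ × ℤ) := (5005, 0, [(13, -1)])

def tg_11 : ℕ × ℤ × List (ℕ × ℤ) := (3001, 0, [(19, 1)])

def tg_12 : ℕ × ℤ × List (ℕ × ℤ) := (4001, 0, [(3, -1)])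

def tg_13 : ℕ × ℤ × List (ℕ × ℤ) := (4000, 0, [(15, 1)])

def tg_14 : ℕ × ℤ × List (ℕ × ℤ) := (3003, 0, [(11, 1)])

def tg_15 : ℕ × ℤ × List (ℕ × ℤ) := (2001, 0, [(14, -1), (17, -1)])

def tg_16 : ℕ × ℤ × List (ℕ × ℤ) := (4004, 1, [(12, -2), (14, 1)])

def tg_17 : ℕ × ℤ × List (ℕ × ℤ) := (4002, 1, [(12, -1)])

def C : Cert where
  p := 2
  n := 6
  r := 3
  fuel := 25
  rules := [rule_0, rule_1, rule_2, rule_3, rule_4, rule_5]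
  defs := [(1, 0), (2, 0), (3, 0)]
  items := [item_0, item_1]
  ovs := [ov_0, ov_1, ov_2, ov_3, ov_4, ov_5, ov_6, ov_7, ov_8, ov_9, ov_10, ov_11, ov_12, ov_13]
  frs := [fr_0, fr_1, fr_2]
  k0 := 4004
  zm := 2
  zcomb := [(1, -4), (2, 2), (4, -2), (5, 2), (6, -5), (7, 2), (8, -1), (9, -3), (12, -2), (14, 1)]
  targets := [tg_0, tg_1, tg_2, tg_3, tg_4, tg_5, tg_6, tg_7, tg_8, tg_9, tg_10, tg_11, tg_12, tg_13, tg_14, tg_15, tg_16, tg_17]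

def codes : List ℕ := [853309138184576746122428312107287843, 610972711791184720857040928538394722, 984165239980329847219554819969685609, 596693691629046116550990400692717664, 932713983447018805904452500882627145, 596654750537752186788767474980520034]

def conj : List ℕ := [609703779158974565844330200338366498, 596433612541966165144827577493954988]

def base : List ℕ := [0, 1, 4]

def ord : List ℕ := [31, 17, 0, 46, 63, 49, 32, 14, 9, 39, 41, 7, 22, 24, 54, 56, 29, 19, 10, 36, 61, 51, 42, 4, 43, 5, 11, 37, 60, 50, 28, 18, 53, 59, 34, 12, 21, 27, 2, 44, 3, 45, 35, 13, 20, 26, 52, 58, 55, 57, 40, 6, 23, 25, 8, 38, 33, 15, 1, 47, 62, 48, 30, 16]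

theorem check_ok : C.check = true := by decide +kernel

theorem chk_ok : chkG C codes conj base ord = true := by decide +kernel

end Cfsg.Agent.Lib.Schur.Cert.M12p2
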