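import Cfsg.Agent.Lib.Schur.PcGolay

/-!
# A tail certificate for a Sylow subgroup of a Mathieu group
-/

set_option autoImplicit false
set_option maxRecDepth 100000
set_option maxHeartbeats 0

namespace Cfsg.Agent.Lib.Schur.Cert.M22p2

open Cfsg.Agent.Lib.Schur.PcMain Cfsg.Agent.Lib.Schur.PcGolay

def rule_0 : List (List ℕ) := [[]]

def rule_1 : List (List ℕ) := [[1, 3], [3, 6]]

def rule_2 : List (List ℕ) := [[2, 3, 6], [2, 4], [3, 4, 6]]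

def rule_3 : List (List ℕ) := [[3], [3], [3, 5], []]

def rule_4 : List (List ℕ) := [[4, 5], [4, 5], [4, 5], [4, 6], []]

def rule_5 : List (List ℕ) := [[5], [5, 6], [5, 6], [5], [5], []]

def rule_6 : List (List ℕ) := [[6], [6], [6], [6], [6], [6], []]

def item_0 : List (List ℕ) × List (List ℕ) := ([[0, 1, 6], [1, 2, 4], [0, 2, 6], [4, 5, 6], [4, 6], [6]], [[0, 1, 4, 5, 6], [0, 2, 3, 6], [0, 2, 4], [4, 5], [5], [6]])

def item_1 : List (List ℕ) × List (List ℕ) := ([[0], [1], [0, 3, 5], [3], [3, 6]], [[0], [0, 1, 3], [5], [3], [6]])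

def ov_0 : List ℕ × ℕ × ℕ × List (ℕ × ℤ) := ([3, 2, 1], 0, 1, [(4003, 1), (5001, 1), (5004, -1), (6005, 1), (6006, 1)])

def ov_1 : List ℕ × ℕ × ℕ × List (ℕ × ℤ) := ([4, 2, 1], 0, 1, [(5001, 1), (5002, -1), (6004, -1)])

def ov_2 : List ℕ × ℕ × ℕ × List (ℕ × ℤ) := ([4, 3, 0], 0, 1, [(5003, -1), (6000, 1), (6005, -1)])

def ov_3 : List ℕ × ℕ × ℕ × List (ℕ × ℤ) := ([5, 1, 0], 0, 1, [(5003, -1), (6000, 1), (6003, -1)])

def ov_4 : List ℕ × ℕ × ℕ × List (ℕ × ℤ) := ([5, 2, 0], 0, 1, [(5003, -1), (6000, 1), (6003, -1), (6005, 1)])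

def ov_5 : List ℕ × ℕ × ℕ × List (ℕ × ℤ) := ([5, 2, 1], 0, 1, [(5004, -1), (6001, 1), (6002, -1)])

def ov_6 : List ℕ × ℕ × ℕ × List (ℕ × ℤ) := ([5, 3, 1], 0, 1, [(6003, -1)])

def ov_7 : List ℕ × ℕ × ℕ × List (ℕ × ℤ) := ([5, 4, 1], 0, 1, [(6004, -1), (6005, -1)])

def ov_8 : List ℕ × ℕ × ℕ × List (ℕ × ℤ) := ([5, 4, 3], 0, 1, [(6005, 1)])

def ov_9 : List ℕ × ℕ × ℕ × List (ℕ × ℤ) := ([6, 2, 1], 0, 1, [(6004, -1)])

def ov_10 : List ℕ × ℕ × ℕ × List (ℕ × ℤ) := ([1, 1, 0], 0, 1, [(1000, -2), (3000, 1), (3001, -1), (3003, -1), (6000, 1), (6003, -2)])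

def ov_11 : List ℕ × ℕ × ℕ × List (ℕ × ℤ) := ([1, 0, 0], 0, 1, [(1000, 2), (3000, 1), (3003, 1)])

def ov_12 : List ℕ × ℕ × ℕ × List (ℕ × ℤ) := ([2, 0, 0], 0, 1, [(2000, 2), (3000, 1), (3003, 1), (6000, 1), (6003, 1), (6006, 1)])

def ov_13 : List ℕ × ℕ × ℕ × List (ℕ × ℤ) := ([2, 2, 1], 0, 1, [(2001, -2), (3001, 1), (4001, 1), (4002, -1), (4004, -1), (5004, -1), (6001, 1), (6004, -2), (6005, -1)])

def ov_14 : List ℕ × ℕ × ℕ × List (ℕ × ℤ) := ([3, 3, 0], 0, 1, [(3000, -2)])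

def ov_15 : List ℕ × ℕ × ℕ × List (ℕ × ℤ) := ([3, 3, 1], 0, 1, [(3001, -2)])

def ov_16 : List ℕ × ℕ × ℕ × List (ℕ × ℤ) := ([3, 3, 2], 0, 1, [(3002, -2), (5003, -1), (5005, -1)])

def ov_17 : List ℕ × ℕ × ℕ × List (ℕ × ℤ) := ([4, 4, 0], 0, 1, [(4000, -2), (5004, -1), (5005, -1)])

def ov_18 : List ℕ × ℕ × ℕ × List (ℕ × ℤ) := ([4, 0, 0], 0, 1, [(4000, 2), (5000, 1), (5005, 1)])

def ov_19 : List ℕ × ℕ × ℕ × List (ℕ × ℤ) := ([4, 4, 1], 0, 1, [(4001, -2), (5004, -1), (5005, -1)])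

def ov_20 : List ℕ × ℕ × ℕ × List (ℕ × ℤ) := ([4, 1, 1], 0, 1, [(4001, 2), (4003, -1), (5001, 1), (5005, 1), (6004, 1), (6005, 2)])

def ov_21 : List ℕ × ℕ × ℕ × List (ℕ × ℤ) := ([4, 4, 2], 0, 1, [(4002, -2), (5004, -1), (5005, -1)])

def ov_22 : List ℕ × ℕ × ℕ × List (ℕ × ℤ) := ([4, 4, 3], 0, 1, [(4003, -2), (6004, -1), (6006, -1)])

def ov_23 : List ℕ × ℕ × ℕ × List (ℕ × ℤ) := ([6, 6, 1], 0, 1, [(6001, -2)])

def ov_24 : List ℕ × ℕ × ℕ × List (ℕ × ℤ) := ([1, 1, 1], 0, 1, [(3001, 1), (6001, 1)])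

def ov_25 : List ℕ × ℕ × ℕ × List (ℕ × ℤ) := ([2, 2, 2], 0, 1, [(3002, 1), (4002, 1), (5004, 1), (5005, 1), (6002, 1)])

def fr_0 : ℕ × List ℕ × List ℕ × List (ℕ × ℤ) := (0, [3, 0], [0, 3], [(6000, -1), (6001, -1)])

def fr_1 : ℕ × List ℕ × List ℕ × List (ℕ × ℤ) := (0, [4, 0], [0, 4, 5], [(4000, -1), (4001, -1), (5000, 1), (5004, 1), (5005, -1), (6000, -1), (6001, -1), (6004, 2), (1000005, -1)])

def fr_2 : ℕ × List ℕ × List ℕ × List (ℕ × ℤ) := (0, [4, 1], [1, 4, 5], [(4001, -1), (4002, -1), (5000, 1), (5003, 1), (5005, -1), (6001, -1), (6002, -1), (6003, 1), (6005, -1), (1000005, -1)])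

def fr_3 : ℕ × List ℕ × List ℕ × List (ℕ × ℤ) := (0, [4, 2], [2, 4, 5], [(4000, -1), (4002, -1), (5000, 1), (5004, 1), (5005, -1), (6000, -1), (6002, -1), (6004, 2), (1000005, -1)])

def fr_4 : ℕ × List ℕ × List ℕ × List (ℕ × ℤ) := (1, [2, 0], [0, 2], [(3000, -1)])

def tg_0 : ℕ × ℤ × List (ℕ × ℤ) := (1000, 0, [(0, 1)])

def tg_1 : ℕ × ℤ × List (ℕ × ℤ) := (2001, 0, [(1, 1)])

def tg_2 : ℕ × ℤ × List (ℕ × ℤ) := (3002, 0, [(2, 1)])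

def tg_3 : ℕ × ℤ × List (ℕ × ℤ) := (4003, 0, [(3, 1)])

def tg_4 : ℕ × ℤ × List (ℕ × ℤ) := (6003, 0, [(10, -1)])

def tg_5 : ℕ × ℤ × List (ℕ × ℤ) := (6005, 0, [(12, 1)])

def tg_6 : ℕ × ℤ × List (ℕ × ℤ) := (6004, 0, [(13, -1)])

def tg_7 : ℕ × ℤ × List (ℕ × ℤ) := (3000, 0, [(34, -1)])

def tg_8 : ℕ × ℤ × List (ℕ × ℤ) := (3003, 0, [(15, 1)])

def tg_9 : ℕ × ℤ × List (ℕ × ℤ) := (6006, 0, [(26, -1)])

def tg_10 : ℕ × ℤ × List (ℕ × ℤ) := (4002, 0, [(6, -1), (9, 1), (20, 1), (27, 1), (29, 1), (30, -1)])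

def tg_11 : ℕ × ℤ × List (ℕ × ℤ) := (6002, 0, [(6, 1), (9, -1), (20, -1), (25, 1), (27, -1), (30, 1)])

def tg_12 : ℕ × ℤ × List (ℕ × ℤ) := (4004, 0, [(9, 1), (17, -1), (27, 1), (28, 1), (31, -1), (33, 1)])

def tg_13 : ℕ × ℤ × List (ℕ × ℤ) := (2000, 3, [(16, 2), (27, -1), (30, 2)])

def tg_14 : ℕ × ℤ × List (ℕ × ℤ) := (3001, 2, [(16, 1), (28, 1), (30, 1)])

def tg_15 : ℕ × ℤ × List (ℕ × ℤ) := (4000, 2, [(6, 1), (9, -1), (16, 1), (27, -2), (30, 3), (31, -1), (32, 1)])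

def tg_16 : ℕ × ℤ × List (ℕ × ℤ) := (4001, 2, [(9, -1), (16, 1), (17, 1), (27, -1), (28, -1), (30, 1)])

def tg_17 : ℕ × ℤ × List (ℕ × ℤ) := (5005, 2, [(6, 1), (16, 1), (20, -1), (27, -1), (30, 2)])

def tg_18 : ℕ × ℤ × List (ℕ × ℤ) := (5000, 2, [(9, -1), (16, 1), (21, 1), (22, 1), (27, -1), (30, 1)])

def tg_19 : ℕ × ℤ × List (ℕ × ℤ) := (5001, 2, [(4, 1), (9, -1), (16, 1), (27, -1), (30, 1)])

def tg_20 : ℕ × ℤ × List (ℕ × ℤ) := (5002, 2, [(4, 1), (5, -1), (9, -1), (16, 1), (27, -1), (30, 1)])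

def tg_21 : ℕ × ℤ × List (ℕ × ℤ) := (5003, 2, [(6, -1), (16, 1)])

def tg_22 : ℕ × ℤ × List (ℕ × ℤ) := (5004, 2, [(9, -1), (16, 1), (27, -1), (30, 1)])

def tg_23 : ℕ × ℤ × List (ℕ × ℤ) := (6000, 2, [(16, 1)])

def tg_24 : ℕ × ℤ × List (ℕ × ℤ) := (6001, 2, [(16, 1), (27, -1), (30, 1)])

def C : Cert where
  p := 2
  n := 7
  r := 3
  fuel := 10
  rules := [rule_0, rule_1, rule_2, rule_3, rule_4, rule_5, rule_6]
  defs := [(1, 0), (2, 1), (3, 2), (4, 3)]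
  items := [item_0, item_1]
  ovs := [ov_0, ov_1, ov_2, ov_3, ov_4, ov_5, ov_6, ov_7, ov_8, ov_9, ov_10, ov_11, ov_12, ov_13, ov_14, ov_15, ov_16, ov_17, ov_18, ov_19, ov_20, ov_21, ov_22, ov_23, ov_24, ov_25]
  frs := [fr_0, fr_1, fr_2, fr_3, fr_4]
  k0 := 2000
  zm := 4
  zcomb := [(0, 4), (3, 4), (4, -2), (6, -6), (7, 12), (8, -6), (11, 2), (14, -2), (15, -4), (16, 2), (18, -2), (19, 1), (23, 2), (24, 2)]
  targets := [tg_0, tg_1, tg_2, tg_3, tg_4, tg_5, tg_6, tg_7, tg_8, tg_9, tg_10, tg_11, tg_12, tg_13, tg_14, tg_15, tg_16, tg_17, tg_18, tg_19, tg_20, tg_21, tg_22, tg_23, tg_24]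

def codes : List ℕ := [972996059600677449026813287464306816, 984673275181801658238472664575691904, 978191579753404976393264009724368000, 974902585042156701821246314532422304, 967926363940294739940147074577908768, 962733156616831236091280781744578592, 975727407205111171400172582656678944]

def conj : List ℕ := [983984045861924197493160782737064608, 979301354907185201765290190868725920]

def base : List ℕ := [2, 3]

def ord : List ℕ := [62, 4, 119, 118, 63, 13, 5, 12, 0, 35, 65, 73, 8, 98, 106, 43, 82, 88, 59, 26, 115, 16, 57, 113, 117, 70, 61, 20, 92, 103, 78, 111, 127, 77, 54, 55, 126, 68, 76, 69, 87, 108, 30, 31, 86, 101, 109, 100, 105, 75, 40, 32, 97, 10, 2, 67, 104, 66, 41, 33, 96, 3, 11, 74, 1, 42, 64, 72, 9, 107, 99, 34, 123, 121, 18, 51, 90, 49, 24, 80, 83, 112, 58, 27, 114, 56, 17, 89, 22, 37, 95, 94, 23, 44, 36, 45, 52, 46, 124, 85, 29,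 15, 38, 7, 28, 39, 84, 125, 53, 6, 47, 14, 93, 79, 21, 60, 116, 110, 71, 102, 122, 81, 19, 50, 91, 25, 48, 120]

theorem check_ok : C.check = true := by decide +kernel

theorem chk_ok : chkG C codes conj base ord = true := by decide +kernel

end Cfsg.Agent.Lib.Schur.Cert.M22p2
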