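import Cfsg.Agent.Lib.Schur.PcGolay

/-!
# A tail certificate for a Sylow subgroup of a Mathieu group
-/

set_option autoImplicit false
set_option maxRecDepth 100000
set_option maxHeartbeats 0

namespace Cfsg.Agent.Lib.Schur.Cert.M24p2

open Cfsg.Agent.Lib.Schur.PcMain Cfsg.Agent.Lib.Schur.PcGolay

def rule_0 : List (List ℕ) := [[4, 5, 6, 7, 8, 9]]

def rule_1 : List (List ℕ) := [[1, 4], [7]]

def rule_2 : List (List ℕ) := [[2, 5], [2, 4, 8], [4, 6, 7, 8]]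

def rule_3 : List (List ℕ) := [[3, 6], [3, 4, 5, 7], [3, 6, 9], [4, 5]]

def rule_4 : List (List ℕ) := [[4, 7], [4], [4, 7], [4, 8], [9]]

def rule_5 : List (List ℕ) := [[5, 8, 9], [5], [5, 8, 9], [5, 8], [5, 9], []]

def rule_6 : List (List ℕ) := [[6, 7, 8], [6, 7], [6, 7], [6, 7, 8], [6], [6, 9], [9]]

def rule_7 : List (List ℕ) := [[7, 9], [7], [7], [7], [7], [7], [7], []]

def rule_8 : List (List ℕ) := [[8], [8, 9], [8], [8, 9], [8], [8], [8], [8], []]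

def rule_9 : List (List ℕ) := [[9], [9], [9], [9], [9], [9], [9], [9], [9], []]

def item_0 : List (List ℕ) × List (List ℕ) := ([[1], [0, 1, 2, 3, 5, 6, 9], [3], [1, 3, 6, 7, 8], [0, 2, 3, 4, 6, 7, 8, 9], [4, 5, 7, 8, 9], [4, 5, 7], [4, 5], [9]], [[3, 8, 9], [0, 1, 2, 3, 5, 6, 9], [1, 8, 9], [0, 2, 8], [1, 4], [4, 5, 7, 8, 9], [4, 5, 7], [7, 9], [9]])

def item_1 : List (List ℕ) × List (List ℕ) := ([[0], [2], [0, 1, 2, 3, 5, 6, 9], [1, 3, 6, 7, 8], [5], [4, 5, 6], [4, 6, 7, 9], [9], [8, 9]], [[0, 1, 3, 4, 6, 8], [1, 2, 3, 6, 9], [0, 1, 2, 3, 5, 6, 9], [4, 8], [5, 9], [4, 5, 6, 9], [7, 8], [8, 9], [9]])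

def item_2 : List (List ℕ) × List (List ℕ) := ([[1], [0, 1, 3, 4, 6], [0, 2, 4, 5, 6, 9], [0, 3, 5, 7, 8], [0, 1, 3, 8, 9], [5, 8], [8], [5, 7, 8, 9], [9]], [[2, 3, 8], [0, 2, 4], [1, 5, 6, 7, 8, 9], [6, 7, 8, 9], [0, 1, 3, 7], [5, 8, 9], [5, 7, 8, 9], [8, 9], [9]])

def item_3 : List (List ℕ) × List (List ℕ) := ([[2], [0, 3, 5, 7, 8], [1, 3, 6, 7, 8], [0, 1, 6, 8, 9], [5, 6, 9], [4, 6, 7, 9], [4, 5, 7, 8, 9], [7, 8, 9], [9]], [[2, 4, 5, 6, 7], [0, 1, 2, 4, 5, 6, 7, 9], [2, 4, 6, 7, 9], [0, 2, 3, 8], [4, 5, 9], [8, 9], [5, 6, 7], [7, 8], [7, 8, 9]])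

def ov_0 : List ℕ × ℕ × ℕ × List (ℕ × ℤ) := ([3, 1, 0], 0, 1, [(4000, 1), (4003, 1), (5000, 1), (5004, -1), (6001, -1), (6005, 1), (7000, 1), (7005, 1), (7006, -1), (8004, 1), (8005, 1), (8006, 1), (8007, 1), (8008, 1), (9006, 1), (9007, 3), (9008, 2), (9009, 1)])

def ov_1 : List ℕ × ℕ × ℕ × List (ℕ × ℤ) := ([3, 2, 1], 0, 1, [(4002, -1), (4003, 1), (5002, -1), (5004, -1), (6001, 1), (6004, -2), (6005, -1), (7002, -1), (7005, -1), (7006, 1), (8003, 1), (8004, -1), (8007, -1), (9001, 1), (9004, -1), (9005, -2), (9007, -3), (9008, -1), (9009, -1)])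

def ov_2 : List ℕ × ℕ × ℕ × List (ℕ × ℤ) := ([4, 2, 1], 0, 1, [(7001, 1), (7004, -1), (8004, 1), (8007, 1)])

def ov_3 : List ℕ × ℕ × ℕ × List (ℕ × ℤ) := ([5, 1, 0], 0, 1, [(5004, -1), (8001, -1), (8004, -1), (9001, -1), (9008, -1), (9009, -1)])

def ov_4 : List ℕ × ℕ × ℕ × List (ℕ × ℤ) := ([5, 3, 2], 0, 1, [(6005, 1), (8002, 1), (8003, -1), (9003, -1), (9005, 1), (9008, 1)])

def ov_5 : List ℕ × ℕ × ℕ × List (ℕ × ℤ) := ([5, 4, 1], 0, 1, [(9001, 1)])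

def ov_6 : List ℕ × ℕ × ℕ × List (ℕ × ℤ) := ([6, 4, 1], 0, 1, [(7004, -1)])

def ov_7 : List ℕ × ℕ × ℕ × List (ℕ × ℤ) := ([6, 4, 2], 0, 1, [(7004, -1), (7006, 1)])

def ov_8 : List ℕ × ℕ × ℕ × List (ℕ × ℤ) := ([6, 4, 3], 0, 1, [(7004, -1), (8004, -1), (8006, 1), (8007, 1)])

def ov_9 : List ℕ × ℕ × ℕ × List (ℕ × ℤ) := ([7, 2, 0], 0, 1, [(7005, -1), (9002, -1), (9005, -1)])

def ov_10 : List ℕ × ℕ × ℕ × List (ℕ × ℤ) := ([7, 3, 0], 0, 1, [(7006, -1), (9003, -1), (9006, -1)])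

def ov_11 : List ℕ × ℕ × ℕ × List (ℕ × ℤ) := ([7, 3, 1], 0, 1, [(7004, -1), (7005, -1)])

def ov_12 : List ℕ × ℕ × ℕ × List (ℕ × ℤ) := ([7, 4, 3], 0, 1, [(8007, 1)])

def ov_13 : List ℕ × ℕ × ℕ × List (ℕ × ℤ) := ([7, 5, 4], 0, 1, [(9007, 1)])

def ov_14 : List ℕ × ℕ × ℕ × List (ℕ × ℤ) := ([8, 2, 0], 0, 1, [(8005, -1)])

def ov_15 : List ℕ × ℕ × ℕ × List (ℕ × ℤ) := ([8, 4, 1], 0, 1, [(9004, -1)])

def ov_16 : List ℕ × ℕ × ℕ × List (ℕ × ℤ) := ([8, 5, 0], 0, 1, [(9008, 1)])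

def ov_17 : List ℕ × ℕ × ℕ × List (ℕ × ℤ) := ([8, 5, 1], 0, 1, [(9005, -1)])

def ov_18 : List ℕ × ℕ × ℕ × List (ℕ × ℤ) := ([9, 3, 0], 0, 1, [(9006, -1)])

def ov_19 : List ℕ × ℕ × ℕ × List (ℕ × ℤ) := ([1, 1, 0], 0, 1, [(1000, -2), (4001, -1), (4004, -1), (7000, 1), (7004, -2), (9007, -1)])

def ov_20 : List ℕ × ℕ × ℕ × List (ℕ × ℤ) := ([2, 2, 0], 0, 1, [(2000, -2), (4000, 1), (5002, -1), (5005, -1), (6000, 1), (6005, -2), (7000, 1), (7005, -2), (7006, 1), (7007, 1), (8000, 1), (8005, -1), (8007, 1), (9007, -2), (9008, -1), (9009, -1)])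

def ov_21 : List ℕ × ℕ × ℕ × List (ℕ × ℤ) := ([3, 0, 0], 0, 1, [(3000, 2), (4003, 1), (5003, 1), (6000, 1), (6003, 1), (6006, 1), (7003, 1), (7007, 1), (8003, 1), (8005, 1), (8007, 1), (8008, 2), (9003, 1), (9006, 1), (9007, 1), (9008, 1), (9009, 1)])

def ov_22 : List ℕ × ℕ × ℕ × List (ℕ × ℤ) := ([3, 1, 1], 0, 1, [(3001, 2), (4001, 1), (4004, 1), (5001, 1), (5004, 1), (5005, 1), (7001, 1), (7003, 1), (7004, 1), (7005, 1), (7007, 1), (9005, 1), (9009, 1)])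

def ov_23 : List ℕ × ℕ × ℕ × List (ℕ × ℤ) := ([4, 4, 0], 0, 1, [(4000, -2), (7004, -1), (7007, -1), (9000, 1), (9007, -2)])

def ov_24 : List ℕ × ℕ × ℕ × List (ℕ × ℤ) := ([4, 0, 0], 0, 1, [(4000, 2), (5004, 1), (6004, 1), (7000, 1), (7004, 1), (7007, 1), (8004, 1), (8007, 2), (9004, 1), (9006, -1), (9007, 1), (9008, -1), (9009, 1)])

def ov_25 : List ℕ × ℕ × ℕ × List (ℕ × ℤ) := ([4, 4, 3], 0, 1, [(4003, -2), (8004, -1), (8008, -1), (9003, 1), (9008, -2)])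

def ov_26 : List ℕ × ℕ × ℕ × List (ℕ × ℤ) := ([4, 3, 3], 0, 1, [(4003, 2), (5004, 1), (8003, 1), (8008, 1), (9009, 1)])

def ov_27 : List ℕ × ℕ × ℕ × List (ℕ × ℤ) := ([5, 5, 4], 0, 1, [(5004, -2), (9005, -1), (9009, -1)])

def ov_28 : List ℕ × ℕ × ℕ × List (ℕ × ℤ) := ([0, 0, 0], 0, 1, [(4000, 1), (5000, 1), (6000, 1), (7000, 1), (7005, 1), (7006, 1), (7007, 1), (8000, 1), (8006, 1), (8007, 1), (8008, 1), (9000, 1), (9006, 1), (9007, 2), (9008, 1), (9009, 1)])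

def ov_29 : List ℕ × ℕ × ℕ × List (ℕ × ℤ) := ([1, 1, 1], 0, 1, [(7001, 1)])

def ov_30 : List ℕ × ℕ × ℕ × List (ℕ × ℤ) := ([2, 2, 2], 0, 1, [(4002, 1), (6002, 1), (7002, 1), (7006, 1), (7007, 1), (8002, 1)])

def fr_0 : ℕ × List ℕ × List ℕ × List (ℕ × ℤ) := (0, [4, 2], [2, 4, 8], [(3000, 1), (3002, 1), (4001, 1), (4003, -1), (6002, 1), (6003, -1), (6006, 1), (7004, 1), (7006, 1), (8001, -1), (8003, -1), (8004, -1), (8006, -1), (8007, -1), (8008, -1), (9001, -1), (9003, -1), (9006, 1), (1000008, -1)])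

def fr_1 : ℕ × List ℕ × List ℕ × List (ℕ × ℤ) := (0, [5, 0], [0, 5, 8], [(4001, -1), (4003, 1), (5001, -1), (5003, 1), (7001, -1), (7003, 1), (8001, -1), (8003, 1), (8004, -1), (8007, -1), (8008, 1), (9001, -1), (9003, 1), (9004, -1), (9005, -1), (9007, -1), (9008, -1), (1000008, -1)])

def fr_2 : ℕ × List ℕ × List ℕ × List (ℕ × ℤ) := (0, [5, 4], [4, 5], [(4000, -1), (4001, 1), (4002, -1), (4003, -1), (5000, -1), (5001, 1), (5002, -1), (5003, -1), (6004, 1), (6005, 1), (7000, -1), (7001, 1), (7003, -1), (7004, 1), (7005, -1), (7006, -1), (7007, -1), (8000, -1), (8001, 1), (8003, -1), (8004, 1), (8006, -1), (8007, -1), (8008, -2), (9000, -1), (9001, 1), (9002, -1), (9005, -1), (9008, 1), (9009, -1)])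

def fr_3 : ℕ × List ℕ × List ℕ × List (ℕ × ℤ) := (0, [7, 2], [2, 7], [(4003, -1), (5003, -1), (7001, 1), (8005, -1), (8007, -1), (8008, -1), (9001, 1), (9007, -1), (9008, 1)])

def fr_4 : ℕ × List ℕ × List ℕ × List (ℕ × ℤ) := (1, [3, 0], [0, 3, 6], [(1000, -1), (3000, -1), (4000, 1), (4001, 1), (6000, -1), (7000, -1), (7001, 1), (7003, 1), (7004, 2), (7006, 2), (8001, 1), (8003, 1), (8006, -1), (8007, 1), (8008, -1), (9003, 1), (9008, -3), (9009, 1), (1001006, -1)])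

def fr_5 : ℕ × List ℕ × List ℕ × List (ℕ × ℤ) := (1, [3, 1], [1, 3, 6], [(2001, 1), (3002, -1), (4001, 1), (4002, 1), (4003, 2), (4004, 1), (6002, -1), (7002, -1), (7003, 1), (7004, 1), (7006, 2), (8001, 1), (8003, 2), (8004, 1), (8006, 1), (8007, 1), (8008, 1), (9002, 1), (9003, 1), (9006, 1), (9007, 3), (9008, 1), (9009, 2), (1001006, -1)])

def fr_6 : ℕ × List ℕ × List ℕ × List (ℕ × ℤ) := (1, [6, 3], [3, 6], [(4001, -1), (4003, -1), (6001, -1), (6003, -1), (6004, 1), (7001, -1), (7004, 2), (7007, -1), (8004, 2), (8007, -1), (8008, -1), (9001, -1), (9003, -1), (9006, -1), (9007, 1), (9008, 1)])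

def fr_7 : ℕ × List ℕ × List ℕ × List (ℕ × ℤ) := (1, [8, 0], [0, 8], [(8000, -1), (9001, 1), (9003, 1), (9004, 1), (9006, 1), (9008, 1)])

def fr_8 : ℕ × List ℕ × List ℕ × List (ℕ × ℤ) := (1, [8, 1], [1, 8], [(8002, -1), (9001, 1), (9003, 1), (9006, 1)])

def fr_9 : ℕ × List ℕ × List ℕ × List (ℕ × ℤ) := (2, [1, 0], [0, 1, 5], [(1000, 1), (2000, -1), (3000, -1), (3001, -1), (3002, -1), (4002, 1), (5002, -1), (5003, -1), (5004, -2), (5005, -1), (6001, -1), (6002, -1), (6006, -1), (7003, -1), (7004, 1), (7005, -1), (7006, 1), (7007, -1), (8000, -1), (8004, 2), (8006, -2), (8007, 1), (8008, -1), (9003, 1), (9005, -2), (9006, 1), (9007, 3), (9009, -3), (1002005, -1)])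

def fr_10 : ℕ × List ℕ × List ℕ × List (ℕ × ℤ) := (2, [2, 0], [0, 2, 6], [(1000, 1), (2001, -2), (3001, -1), (4001, -1), (4002, 1), (4003, -1), (4004, -1), (5001, -1), (5002, 1), (5003, 1), (5005, -1), (6001, -1), (6002, 1), (6003, 1), (6005, -1), (7002, 1), (7004, 1), (8001, -1), (8002, 1), (8003, -1), (8004, -1), (8005, -2), (8007, 1), (9001, -1), (9002, 1), (9004, -1), (9005, -1), (9008, -2), (9009, -2), (1002006, -1)])

def fr_11 : ℕ × List ℕ × List ℕ × List (ℕ × ℤ) := (2, [4, 3], [3, 4, 5, 6, 8], [(1000, -1), (3001, 1), (4003, 1), (5000, 1), (5001, -1), (6000, -1), (6001, -2), (6003, -1), (6004, -1), (6005, -2), (7003, -1), (7004, 1), (7005, -3), (7007, -2), (8000, -1), (8001, -1), (8004, -1), (8005, -1), (8006, -2), (8007, -4), (9000, -2), (9003, 1), (9006, -1), (9007, -5), (9008, -3), (9009, -2), (1002005, -1), (1002006, -1), (1002008, -1)])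

def fr_12 : ℕ × List ℕ × List ℕ × List (ℕ × ℤ) := (2, [5, 4], [4, 5, 8], [(7005, -1), (8005, 1), (8007, 1), (9000, 1), (9001, -1), (9003, -1), (9005, 1), (1002008, -1)])

def fr_13 : ℕ × List ℕ × List ℕ × List (ℕ × ℤ) := (2, [6, 1], [1, 6], [(5000, 1), (5002, 1), (5004, 1), (7000, 1), (7002, 1), (7004, 1), (8001, -1), (8003, -1), (8006, -1), (8007, 2), (8008, 1), (9000, 1), (9002, 1), (9003, -1), (9007, 3), (9008, 1), (9009, 1)])

def fr_14 : ℕ × List ℕ × List ℕ × List (ℕ × ℤ) := (2, [6, 2], [2, 6], [(5001, 1), (6005, -1), (7001, 1), (7006, 1), (8000, -1), (8001, 1), (8002, -1), (8004, -1), (8005, -1), (9001, 1), (9005, -1), (9007, -1)])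

def fr_15 : ℕ × List ℕ × List ℕ × List (ℕ × ℤ) := (2, [6, 4], [4, 6], [(5000, 1), (5001, 1), (5003, 1), (7000, 1), (7001, 1), (7003, 1), (7005, -1), (8001, -1), (8003, -1), (8007, 3), (8008, 1), (9000, 1), (9001, 1), (9007, 2), (9008, 1)])

def fr_16 : ℕ × List ℕ × List ℕ × List (ℕ × ℤ) := (2, [8, 3], [3, 8], [(9000, -1), (9003, -1), (9005, -1), (9006, 1)])

def fr_17 : ℕ × List ℕ × List ℕ × List (ℕ × ℤ) := (3, [5, 4], [4, 5], [(5004, 1), (6004, 1), (6005, -1), (7005, -1), (7006, -1), (8004, 1), (8005, 1), (9004, 2), (9006, 1), (9007, -1), (9008, -1)])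

def fr_18 : ℕ × List ℕ × List ℕ × List (ℕ × ℤ) := (3, [7, 2], [2, 7], [(7001, -1), (7002, 1), (7003, -1), (7004, 1), (8001, -1), (8002, 1), (8003, -1), (8004, 1), (8007, 1), (9001, -1), (9006, -1), (9007, -2), (9008, -2), (9009, -1)])

def fr_19 : ℕ × List ℕ × List ℕ × List (ℕ × ℤ) := (3, [8, 0], [0, 8], [(7002, 1), (7004, 1), (7005, 1), (7006, 1), (8002, 1), (8004, 1), (8005, 1), (8006, 1), (8007, 1), (9004, 1), (9005, 1), (9006, 1), (9007, 1)])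

def tg_0 : ℕ × ℤ × List (ℕ × ℤ) := (1000, 0, [(0, 1)])

def tg_1 : ℕ × ℤ × List (ℕ × ℤ) := (2000, 0, [(1, 1)])

def tg_2 : ℕ × ℤ × List (ℕ × ℤ) := (3000, 0, [(2, 1)])

def tg_3 : ℕ × ℤ × List (ℕ × ℤ) := (4000, 0, [(3, 1)])

def tg_4 : ℕ × ℤ × List (ℕ × ℤ) := (4003, 0, [(4, 1)])

def tg_5 : ℕ × ℤ × List (ℕ × ℤ) := (5004, 0, [(5, 1)])

def tg_6 : ℕ × ℤ × List (ℕ × ℤ) := (9001, 0, [(11, 1)])

def tg_7 : ℕ × ℤ × List (ℕ × ℤ) := (7004, 0, [(12, -1)])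

def tg_8 : ℕ × ℤ × List (ℕ × ℤ) := (8007, 0, [(18, 1)])

def tg_9 : ℕ × ℤ × List (ℕ × ℤ) := (9007, 0, [(19, 1)])

def tg_10 : ℕ × ℤ × List (ℕ × ℤ) := (8005, 0, [(20, -1)])

def tg_11 : ℕ × ℤ × List (ℕ × ℤ) := (9004, 0, [(21, -1)])

def tg_12 : ℕ × ℤ × List (ℕ × ℤ) := (9008, 0, [(22, 1)])

def tg_13 : ℕ × ℤ × List (ℕ × ℤ) := (9005, 0, [(23, -1)])

def tg_14 : ℕ × ℤ × List (ℕ × ℤ) := (9006, 0, [(24, -1)])

def tg_15 : ℕ × ℤ × List (ℕ × ℤ) := (7001, 0, [(35, 1)])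

def tg_16 : ℕ × ℤ × List (ℕ × ℤ) := (7006, 0, [(13, 1)])

def tg_17 : ℕ × ℤ × List (ℕ × ℤ) := (7005, 0, [(17, -1)])

def tg_18 : ℕ × ℤ × List (ℕ × ℤ) := (9002, 0, [(15, -1)])

def tg_19 : ℕ × ℤ × List (ℕ × ℤ) := (9003, 0, [(16, -1)])

def tg_20 : ℕ × ℤ × List (ℕ × ℤ) := (9009, 0, [(33, -1)])

def tg_21 : ℕ × ℤ × List (ℕ × ℤ) := (8004, 0, [(8, 1)])

def tg_22 : ℕ × ℤ × List (ℕ × ℤ) := (8006, 0, [(14, 1)])

def tg_23 : ℕ × ℤ × List (ℕ × ℤ) := (8002, 0, [(45, -1)])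

def tg_24 : ℕ × ℤ × List (ℕ × ℤ) := (9000, 0, [(53, -1)])

def tg_25 : ℕ × ℤ × List (ℕ × ℤ) := (7007, 0, [(29, -1)])

def tg_26 : ℕ × ℤ × List (ℕ × ℤ) := (8008, 0, [(31, -1)])

def tg_27 : ℕ × ℤ × List (ℕ × ℤ) := (8003, 0, [(32, 1)])

def tg_28 : ℕ × ℤ × List (ℕ × ℤ) := (8001, 0, [(9, -1)])

def tg_29 : ℕ × ℤ × List (ℕ × ℤ) := (6005, 0, [(10, 1)])

def tg_30 : ℕ × ℤ × List (ℕ × ℤ) := (8000, 0, [(44, -1)])

def tg_31 : ℕ × ℤ × List (ℕ × ℤ) := (5003, 0, [(40, -1)])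

def tg_32 : ℕ × ℤ × List (ℕ × ℤ) := (6004, 0, [(54, 1)])

def tg_33 : ℕ × ℤ × List (ℕ × ℤ) := (5001, 0, [(51, 1)])

def tg_34 : ℕ × ℤ × List (ℕ × ℤ) := (7000, 0, [(30, 1)])

def tg_35 : ℕ × ℤ × List (ℕ × ℤ) := (7002, 0, [(56, 1)])

def tg_36 : ℕ × ℤ × List (ℕ × ℤ) := (7003, 0, [(55, -1)])

def tg_37 : ℕ × ℤ × List (ℕ × ℤ) := (5000, 0, [(52, 1)])

def tg_38 : ℕ × ℤ × List (ℕ × ℤ) := (6000, 0, [(34, 1)])

def tg_39 : ℕ × ℤ × List (ℕ × ℤ) := (5002, 0, [(50, 1)])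

def tg_40 : ℕ × ℤ × List (ℕ × ℤ) := (6001, 0, [(6, -1)])

def tg_41 : ℕ × ℤ × List (ℕ × ℤ) := (4002, 0, [(7, -1)])

def tg_42 : ℕ × ℤ × List (ℕ × ℤ) := (4001, 0, [(39, 1)])

def tg_43 : ℕ × ℤ × List (ℕ × ℤ) := (4004, 0, [(25, -1)])

def tg_44 : ℕ × ℤ × List (ℕ × ℤ) := (6002, 0, [(36, 1)])

def tg_45 : ℕ × ℤ × List (ℕ × ℤ) := (5005, 0, [(26, -1)])

def tg_46 : ℕ × ℤ × List (ℕ × ℤ) := (6003, 0, [(43, -1)])

def tg_47 : ℕ × ℤ × List (ℕ × ℤ) := (6006, 0, [(27, 1)])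

def tg_48 : ℕ × ℤ × List (ℕ × ℤ) := (3002, 0, [(37, 1), (38, -1)])

def tg_49 : ℕ × ℤ × List (ℕ × ℤ) := (2001, 0, [(41, -1), (42, 1)])

def tg_50 : ℕ × ℤ × List (ℕ × ℤ) := (3001, 0, [(28, -1), (46, -1), (47, -1), (48, 1), (49, -1)])

def C : Cert where
  p := 2
  n := 10
  r := 4
  fuel := 49
  rules := [rule_0, rule_1, rule_2, rule_3, rule_4, rule_5, rule_6, rule_7, rule_8, rule_9]
  defs := [(1, 0), (2, 0), (3, 0), (4, 0), (4, 3), (5, 4)]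
  items := [item_0, item_1, item_2, item_3]
  ovs := [ov_0, ov_1, ov_2, ov_3, ov_4, ov_5, ov_6, ov_7, ov_8, ov_9, ov_10, ov_11, ov_12, ov_13, ov_14, ov_15, ov_16, ov_17, ov_18, ov_19, ov_20, ov_21, ov_22, ov_23, ov_24, ov_25, ov_26, ov_27, ov_28, ov_29, ov_30]
  frs := [fr_0, fr_1, fr_2, fr_3, fr_4, fr_5, fr_6, fr_7, fr_8, fr_9, fr_10, fr_11, fr_12, fr_13, fr_14, fr_15, fr_16, fr_17, fr_18, fr_19]
  k0 := 1000
  zm := 1
  zcomb := [(0, 1)]
  targets := [tg_0, tg_1, tg_2, tg_3, tg_4, tg_5, tg_6, tg_7, tg_8, tg_9, tg_10, tg_11, tg_12, tg_13, tg_14, tg_15, tg_16, tg_17, tg_18, tg_19, tg_20, tg_21, tg_22, tg_23, tg_24, tg_25, tg_26, tg_27, tg_28, tg_29, tg_30, tg_31, tg_32, tg_33, tg_34, tg_35, tg_36, tg_37, tg_38, tg_39, tg_40, tg_41, tg_42, tg_43, tg_44, tg_45, tg_46, tg_47, tg_48, tg_49, tg_50]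

def codes : List ℕ := [390079006023504994798241980957706944, 682437851855792044197315056324248200, 756062617977733409974529116317296053, 2073062110368495918022523422457999, 375727924101520092268544191298232016, 306999091699315252303426558013095054, 652209088521182533928632482936560688, 296618300934323586198120382482260357, 795281806929549886699760206781785472, 818218676852592524990887735345652779]

def conj : List ℕ := [797429207620527867558927148106818961, 926119081189559478483406631406752241, 598521442914011972850297118400858762, 755931411181625233783414612444266133]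

def base : List ℕ := [0, 1, 2]

def ord : List ℕ := [519, 982, 887, 969, 697, 24, 166, 872, 722, 221, 940, 220, 418, 723, 419, 941, 105, 886, 793, 935, 215, 696, 518, 968, 626, 371, 268, 124, 770, 893, 525, 3, 201, 792, 441, 263, 119, 214, 104, 934, 988, 467, 674, 466, 172, 989, 173, 675, 892, 125, 2, 370, 524, 627, 771, 269, 167, 440, 983, 873, 25, 118, 200, 262, 0, 1022, 273, 654, 368, 367, 609, 543, 837, 565, 74, 395, 251, 314, 116, 260, 814, 720, 945, 416, 94, 463, 705, 191, 997, 149, 164, 811, 91, 980, 154, 1002, 398, 624, 287, 768, 254, 353, 623, 529, 651, 1019, 516, 69, 309, 884, 570, 842, 43, 859, 234, 229, 917, 922, 212, 932, 672, 862, 959, 46, 464, 449, 719, 177, 825, 806, 585, 759, 903, 232, 86, 920, 546, 35, 860, 44, 338, 557, 349, 851, 343, 390, 551, 665, 489, 72, 246, 312, 130, 909, 1020, 652, 498, 387, 243, 765, 503, 1000, 135, 57, 329, 38, 152, 854, 812, 301,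 594, 290, 92, 803, 83, 605, 396, 643, 754, 898, 252, 141, 509, 1011, 409, 840, 745, 599, 295, 646, 568, 1014, 929, 209, 304, 303, 607, 64, 846, 574, 378, 708, 629, 948, 10, 587, 773, 827, 257, 113, 926, 911, 767, 238, 992, 144, 532, 426, 725, 730, 356, 747, 421, 411, 559, 351, 318, 161, 977, 78, 832, 560, 180, 778, 59, 634, 452, 5, 331, 373, 474, 612, 667, 276, 682, 677, 491, 469, 143, 511, 912, 513, 881, 224, 1006, 158, 752, 270, 239, 126, 896, 145, 927, 993, 379, 11, 698, 949, 709, 970, 644, 1012, 990, 544, 79, 336, 174, 561, 319, 833, 475, 683, 84, 277, 613, 804, 106, 794, 894, 128, 225, 496, 526, 159, 913, 1007, 181, 453, 244, 635, 779, 388, 202, 442, 533, 357, 26, 731, 427, 874, 36, 852, 592, 942, 65, 222, 288, 575, 305, 847, 142, 880, 31, 512, 510, 97, 879, 785, 907, 763, 772, 325, 53, 628, 826, 586, 928, 606, 703, 302, 208, 193, 975, 433, 299, 603, 490, 485, 661, 666, 468,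 676, 256, 766, 17, 910, 112, 111, 865, 799, 581, 821, 330, 139, 507, 58, 372, 4, 741, 405, 420, 555, 347, 724, 410, 746, 558, 976, 689, 160, 350, 207, 961, 447, 870, 823, 88, 808, 22, 377, 9, 583, 1005, 482, 157, 99, 787, 620, 658, 284, 966, 729, 248, 392, 694, 663, 487, 425, 963, 322, 691, 77, 317, 716, 50, 956, 40, 633, 790, 102, 856, 55, 327, 777, 867, 364, 19, 237, 925, 738, 540, 402, 845, 460, 573, 195, 435, 578, 188, 818, 648, 407, 438, 198, 1016, 473, 681, 743, 457, 536, 185, 7, 375, 470, 360, 678, 732, 211, 930, 210, 428, 733, 429, 931, 423, 184, 727, 617, 281, 374, 456, 6, 636, 381, 258, 114, 780, 883, 515, 13, 775, 726, 631, 713, 953, 280, 422, 616, 978, 477, 684, 476, 162, 979, 163, 685, 882, 115, 12, 380, 514, 637, 781, 259, 361, 630, 537, 679, 471, 952, 774, 712, 247, 744, 391, 313, 73, 294, 408, 598, 556, 45, 850, 34, 348, 547, 339, 861, 153, 584, 1001, 855, 39,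 902, 824, 758, 140, 899, 1010, 642, 508, 397, 253, 755, 569, 550, 841, 1015, 647, 488, 342, 664, 802, 291, 604, 300, 82, 813, 93, 595, 386, 653, 764, 908, 242, 131, 499, 1021, 87, 134, 807, 921, 233, 328, 502, 56, 638, 384, 481, 240, 782, 415, 657, 751, 437, 197, 500, 891, 523, 132, 458, 186, 848, 686, 321, 478, 32, 831, 49, 591, 789, 101, 282, 987, 171, 618, 292, 596, 1008, 14, 495, 382, 640, 401, 671, 737, 123, 267, 954, 693, 965, 714, 900, 756, 219, 939, 340, 21, 869, 548, 362, 538, 734, 800, 335, 80, 430, 817, 63, 577, 472, 455, 742, 406, 680, 905, 761, 183, 797, 156, 109, 147, 995, 786, 1004, 98, 376, 553, 582, 822, 8, 615, 279, 345, 307, 572, 67, 701, 973, 434, 844, 194, 662, 137, 424, 728, 486, 711, 951, 505, 915, 18, 227, 29, 877, 924, 866, 236, 445, 690, 205, 563, 835, 316, 962, 76, 54, 359, 776, 632, 326, 297, 601, 535, 918, 393, 168, 984, 230, 967, 695, 249, 659, 274,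 483, 285, 621, 668, 610, 492, 310, 103, 520, 888, 70, 41, 857, 791, 189, 946, 461, 819, 579, 60, 706, 332, 216, 199, 998, 150, 936, 649, 1017, 439, 541, 412, 365, 403, 739, 530, 748, 354, 51, 828, 323, 957, 717, 178, 588, 450, 120, 809, 838, 566, 264, 871, 23, 89, 815, 95, 62, 417, 721, 334, 576, 816, 436, 522, 315, 890, 196, 261, 75, 117, 399, 255, 656, 769, 625, 480, 750, 414, 218, 868, 923, 20, 938, 933, 235, 213, 673, 465, 48, 47, 863, 320, 590, 830, 122, 964, 885, 692, 266, 843, 517, 571, 788, 170, 981, 986, 100, 1003, 165, 155, 1, 369, 670, 655, 1023, 494, 736, 400, 849, 33, 718, 479, 687, 958, 176, 448, 836, 250, 133, 394, 564, 187, 501, 459, 1009, 641, 608, 383, 15, 272, 542, 366, 42, 916, 549, 228, 858, 539, 341, 363, 735, 431, 704, 81, 801, 944, 190, 462, 650, 308, 715, 68, 1018, 757, 955, 901, 996, 90, 619, 810, 148, 597, 283, 293, 639, 783, 622, 241, 385, 286, 528,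 352, 296, 889, 534, 358, 600, 311, 71, 521, 611, 108, 275, 493, 669, 994, 796, 146, 904, 151, 182, 454, 760, 217, 937, 999, 589, 204, 829, 451, 179, 834, 444, 562, 614, 567, 344, 552, 278, 121, 265, 839, 749, 226, 413, 355, 531, 876, 914, 28, 707, 66, 947, 333, 61, 972, 306, 700, 710, 985, 504, 136, 950, 919, 231, 169, 991, 175, 960, 337, 545, 688, 446, 206, 906, 52, 971, 324, 762, 1013, 699, 645, 895, 527, 878, 497, 129, 30, 784, 96, 740, 346, 875, 554, 404, 853, 27, 37, 593, 289, 974, 223, 943, 702, 432, 192, 580, 506, 389, 138, 820, 443, 245, 203, 298, 660, 805, 484, 602, 795, 85, 107, 753, 897, 864, 127, 271, 16, 798, 110]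

theorem check_ok : C.check = true := by decide +kernel

theorem chk_ok : chkG C codes conj base ord = true := by decide +kernel

end Cfsg.Agent.Lib.Schur.Cert.M24p2
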