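import Cfsg.Agent.Lib.O73.Data
import Cfsg.Agent.Lib.PermComp.Core

/-! # The identity code and the generators for the orthogonal group on 364 points -/

set_option maxRecDepth 100000

namespace Cfsg.Agent.Lib.Schur.Cert.O73Base

/-- The code of the identity. -/
def idc : Nat := 0xb5daad368b3d9acb64b1d8ac360afd7abb5cadd6ab358abd5aab54a9d4aa350a7d3a9b4ca5d2a9348a3d1a8b44a1d0a83409fcfa7b3c9dcea73389bcda6b3499cca633097cba5b2c95caa532893c9a4b2491c8a43208fc7a3b1c8dc6a33188bc5a2b1489c4a231087c3a1b0c85c2a130883c1a0b0481c0a03007fbf9fafc7dbe9f2f87bbd9eaf479bc9e2f077bb9daec75ba9d2e873b99cae471b89c2e06fb79badc6db69b2d86bb59aad469b49a2d067b399acc65b2992c863b198ac461b0982c05faf97abc5dae972b85bad96ab459ac962b057ab95aac55aa952a853a994aa451a8942a04fa793a9c4da6932984ba592a9449a49229047a391a8c45a29128843a190a8441a0902803f9f8fa7c3d9e8f2783b9d8ea74399c8e270379b8da6c359a8d26833998ca6431988c2602f978ba5c2d968b2582b958aa5429948a250279389a4c259289248239188a442190882401f8f87a3c1d8e872381b8d86a34198c86230178b85a2c158a85228138984a241188842200f8783a1c0d86832180b8582a14098482210078381a0c058281208038180a04018080200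

theorem idc_ok : ∀ i < 364, Cfsg.Agent.Lib.PermComp.Core.app 9 511 idc i = i := by
  have h : (List.range 364).all
      (fun i => Nat.beq (Cfsg.Agent.Lib.PermComp.Core.app 9 511 idc i) i) = true := by
    decide +kernel
  intro i hi
  exact Nat.eq_of_beq_eq_true (List.all_eq_true.1 h i (List.mem_range.2 hi))

/-- The generators. -/
abbrev O73gens : List Nat := Cfsg.Agent.Lib.O73.Data.cA

end Cfsg.Agent.Lib.Schur.Cert.O73Base
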