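import Cfsg.Agent.Lib.Schur.PcPerm

/-!
# A tail certificate for a Sylow subgroup, on permutation codes
-/

set_option autoImplicit false
set_option maxRecDepth 100000
set_option maxHeartbeats 0

namespace Cfsg.Agent.Lib.Schur.Cert.Sp62p2

open Cfsg.Agent.Lib.Schur.PcMain Cfsg.Agent.Lib.Schur.PcPerm

def rule_0 : List (List ℕ) := [[]]

def rule_1 : List (List ℕ) := [[1, 4], [4, 6]]

def rule_2 : List (List ℕ) := [[2], [2, 5], []]

def rule_3 : List (List ℕ) := [[3, 4, 7, 8], [3, 6], [3, 4, 7, 8], [4, 7]]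

def rule_4 : List (List ℕ) := [[4], [4, 7], [4], [4, 8], []]

def rule_5 : List (List ℕ) := [[5], [5, 7, 8], [5], [5], [5], []]

def rule_6 : List (List ℕ) := [[6, 7], [6, 7], [6, 7, 8], [6, 7], [6, 8], [6, 8], [8]]

def rule_7 : List (List ℕ) := [[7], [7, 8], [7], [7, 8], [7], [7], [7], []]

def rule_8 : List (List ℕ) := [[8], [8], [8], [8], [8], [8], [8], [8], []]

def item_0 : List (List ℕ) × List (List ℕ) := ([[1, 3, 7, 8], [2, 4, 5, 6, 7], [5, 6], [0, 2, 4, 5, 7, 8], [1, 3, 5], [4, 5, 7, 8], [4, 5, 7], [7, 8]], [[0, 2, 4, 5, 6, 8], [0, 1, 3, 4, 5], [0, 1, 3, 5, 7], [0, 2, 7, 8], [0, 5, 6, 7], [7, 8], [4, 5, 7], [4, 5, 7, 8]])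

def item_1 : List (List ℕ) × List (List ℕ) := ([[2, 3, 4], [2, 4, 5, 6, 7], [0, 2, 3, 5, 8], [0, 2, 4, 5, 7, 8], [2, 3, 5, 8], [4, 8], [7, 8], [8]], [[0, 3, 5, 7, 8], [3, 4, 6, 7, 8], [3], [0, 2, 4, 5, 7, 8], [2, 3, 5, 8], [7, 8], [4, 8], [8]])

def item_2 : List (List ℕ) × List (List ℕ) := ([[0, 1, 2, 5, 7], [0, 2, 4, 5, 7, 8], [2, 3, 5, 8], [0, 2, 6], [5, 6], [4, 5, 7, 8], [5, 6, 7, 8], [8]], [[0, 1, 3, 5, 6, 7], [0, 3, 4], [2, 3, 6, 7], [0, 2, 5, 7, 8], [7, 8], [4, 5, 7, 8], [5, 6, 7, 8], [8]])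

def ov_0 : List ℕ × ℕ × ℕ × List (ℕ × ℤ) := ([2, 1, 0], 0, 1, [(4002, 1), (5000, 1), (5004, -1)])

def ov_1 : List ℕ × ℕ × ℕ × List (ℕ × ℤ) := ([3, 1, 0], 0, 1, [(4001, -1), (4003, 1), (6000, 1), (6004, -2), (7001, -1), (7006, 1), (8001, -1), (8007, -1), (8008, -1)])

def ov_2 : List ℕ × ℕ × ℕ × List (ℕ × ℤ) := ([3, 2, 0], 0, 1, [(4000, 1), (4002, -1), (7000, 1), (7002, -1), (8000, 1), (8002, -1)])

def ov_3 : List ℕ × ℕ × ℕ × List (ℕ × ℤ) := ([3, 2, 1], 0, 1, [(4001, 1), (5003, 1), (5004, 1), (6002, -1), (6004, 1), (6005, -1), (7001, 1), (7006, -1), (8001, 1), (8006, -1), (8007, 1)])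

def ov_4 : List ℕ × ℕ × ℕ × List (ℕ × ℤ) := ([4, 1, 0], 0, 1, [(7000, 1), (7004, -1)])

def ov_5 : List ℕ × ℕ × ℕ × List (ℕ × ℤ) := ([4, 2, 1], 0, 1, [(5004, 1), (7002, -1), (7005, -1)])

def ov_6 : List ℕ × ℕ × ℕ × List (ℕ × ℤ) := ([4, 3, 0], 0, 1, [(7004, 1), (8000, 1), (8007, -1)])

def ov_7 : List ℕ × ℕ × ℕ × List (ℕ × ℤ) := ([4, 3, 1], 0, 1, [(6004, 1), (7003, -1), (7006, -1), (8001, 1)])

def ov_8 : List ℕ × ℕ × ℕ × List (ℕ × ℤ) := ([4, 3, 2], 0, 1, [(7004, 1), (8002, 1), (8007, -1)])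

def ov_9 : List ℕ × ℕ × ℕ × List (ℕ × ℤ) := ([5, 1, 0], 0, 1, [(5004, -1), (7000, 1), (7004, -1), (8000, 1), (8004, -1)])

def ov_10 : List ℕ × ℕ × ℕ × List (ℕ × ℤ) := ([5, 2, 1], 0, 1, [(7002, -1), (7005, -1), (8002, -1), (8005, -1)])

def ov_11 : List ℕ × ℕ × ℕ × List (ℕ × ℤ) := ([5, 3, 0], 0, 1, [(5004, -1), (7005, 1), (8005, 1)])

def ov_12 : List ℕ × ℕ × ℕ × List (ℕ × ℤ) := ([5, 3, 1], 0, 1, [(6005, 1), (7003, -1), (7006, -1), (8003, -1), (8007, 1)])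

def ov_13 : List ℕ × ℕ × ℕ × List (ℕ × ℤ) := ([5, 4, 1], 0, 1, [(7004, -1), (7005, 1), (8004, -1), (8007, -1)])

def ov_14 : List ℕ × ℕ × ℕ × List (ℕ × ℤ) := ([5, 4, 3], 0, 1, [(8005, 1)])

def ov_15 : List ℕ × ℕ × ℕ × List (ℕ × ℤ) := ([6, 1, 0], 0, 1, [(6004, -1), (7000, 1), (7001, -1), (8004, -1), (8008, -1)])

def ov_16 : List ℕ × ℕ × ℕ × List (ℕ × ℤ) := ([6, 2, 1], 0, 1, [(6005, -1), (7001, 1), (7002, -1), (8001, 1), (8005, -1), (8007, -1)])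

def ov_17 : List ℕ × ℕ × ℕ × List (ℕ × ℤ) := ([6, 3, 0], 0, 1, [(6004, -1), (7000, 1), (7003, -1), (7006, 1), (8004, -1), (8006, 1), (8007, 2), (8008, -1)])

def ov_18 : List ℕ × ℕ × ℕ × List (ℕ × ℤ) := ([6, 3, 1], 0, 1, [(7001, 1), (7003, -1), (8006, -1), (8007, 2)])

def ov_19 : List ℕ × ℕ × ℕ × List (ℕ × ℤ) := ([6, 3, 2], 0, 1, [(6004, -1), (7002, 1), (7003, -1), (7006, 1), (8003, -1), (8006, 1), (8008, -1)])

def ov_20 : List ℕ × ℕ × ℕ × List (ℕ × ℤ) := ([6, 4, 2], 0, 1, [(7004, -1), (8002, 1), (8004, -1), (8007, -1)])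

def ov_21 : List ℕ × ℕ × ℕ × List (ℕ × ℤ) := ([6, 4, 3], 0, 1, [(7004, -1), (8003, 1), (8006, 1)])

def ov_22 : List ℕ × ℕ × ℕ × List (ℕ × ℤ) := ([6, 5, 0], 0, 1, [(7005, -1), (8000, 1), (8007, -1)])

def ov_23 : List ℕ × ℕ × ℕ × List (ℕ × ℤ) := ([7, 3, 1], 0, 1, [(7006, -1), (8001, 1), (8003, -1)])

def ov_24 : List ℕ × ℕ × ℕ × List (ℕ × ℤ) := ([7, 6, 2], 0, 1, [(8007, 1)])

def ov_25 : List ℕ × ℕ × ℕ × List (ℕ × ℤ) := ([8, 1, 0], 0, 1, [(8004, -1)])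

def ov_26 : List ℕ × ℕ × ℕ × List (ℕ × ℤ) := ([8, 3, 1], 0, 1, [(8006, -1)])

def ov_27 : List ℕ × ℕ × ℕ × List (ℕ × ℤ) := ([1, 1, 0], 0, 1, [(1000, -2), (4000, 1), (4001, -1), (4004, -1), (6000, 1), (6004, -2), (7004, -1), (8004, -1), (8007, -2), (8008, -1)])

def ov_28 : List ℕ × ℕ × ℕ × List (ℕ × ℤ) := ([1, 0, 0], 0, 1, [(1000, 2), (4000, 1), (4004, 1)])

def ov_29 : List ℕ × ℕ × ℕ × List (ℕ × ℤ) := ([2, 2, 0], 0, 1, [(2000, -2)])

def ov_30 : List ℕ × ℕ × ℕ × List (ℕ × ℤ) := ([2, 2, 1], 0, 1, [(2001, -2), (5002, -1), (5005, -1)])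

def ov_31 : List ℕ × ℕ × ℕ × List (ℕ × ℤ) := ([2, 1, 1], 0, 1, [(2001, 2), (4002, 1), (5001, 1), (5005, 1), (6002, 1), (6005, 2), (7005, 2), (7007, 1), (8005, 1), (8007, 3), (8008, 2)])

def ov_32 : List ℕ × ℕ × ℕ × List (ℕ × ℤ) := ([3, 3, 1], 0, 1, [(3001, -2), (4001, 1), (6003, -1), (6006, -1), (7001, 1), (7006, -1)])

def ov_33 : List ℕ × ℕ × ℕ × List (ℕ × ℤ) := ([3, 1, 1], 0, 1, [(3001, 2), (4003, 1), (6001, 1), (6003, 1), (6006, 1), (7006, 2), (7007, 1), (8006, 2), (8007, 2), (8008, 1)])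

def ov_34 : List ℕ × ℕ × ℕ × List (ℕ × ℤ) := ([3, 3, 2], 0, 1, [(3002, -2), (4002, 1), (4003, -1), (4004, -1), (7002, 1), (7003, -1), (7004, -1), (7007, -1), (8003, -1), (8004, -1), (8007, -2), (8008, -2)])

def ov_35 : List ℕ × ℕ × ℕ × List (ℕ × ℤ) := ([3, 2, 2], 0, 1, [(3002, 2), (4002, 1), (4004, 1), (7002, 1), (7004, 1), (7007, 1), (8002, 1), (8004, 1), (8007, 1), (8008, 1)])

def ov_36 : List ℕ × ℕ × ℕ × List (ℕ × ℤ) := ([4, 4, 0], 0, 1, [(4000, -2)])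

def ov_37 : List ℕ × ℕ × ℕ × List (ℕ × ℤ) := ([4, 4, 1], 0, 1, [(4001, -2), (7004, -1), (7007, -1)])

def ov_38 : List ℕ × ℕ × ℕ × List (ℕ × ℤ) := ([4, 4, 3], 0, 1, [(4003, -2), (8004, -1), (8008, -1)])

def ov_39 : List ℕ × ℕ × ℕ × List (ℕ × ℤ) := ([5, 5, 1], 0, 1, [(5001, -2), (7005, -1), (7007, -1), (8005, -1), (8007, -1), (8008, -1)])

def ov_40 : List ℕ × ℕ × ℕ × List (ℕ × ℤ) := ([5, 5, 2], 0, 1, [(5002, -2)])

def ov_41 : List ℕ × ℕ × ℕ × List (ℕ × ℤ) := ([6, 6, 0], 0, 1, [(6000, -2), (7006, -1), (7007, -1), (8000, 1), (8007, -2)])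

def ov_42 : List ℕ × ℕ × ℕ × List (ℕ × ℤ) := ([6, 0, 0], 0, 1, [(6000, 2), (7000, 1), (7007, 1)])

def ov_43 : List ℕ × ℕ × ℕ × List (ℕ × ℤ) := ([6, 6, 3], 0, 1, [(6003, -2), (7006, -1), (7007, -1), (8003, 1), (8007, -2)])

def ov_44 : List ℕ × ℕ × ℕ × List (ℕ × ℤ) := ([8, 8, 3], 0, 1, [(8003, -2)])

def ov_45 : List ℕ × ℕ × ℕ × List (ℕ × ℤ) := ([1, 1, 1], 0, 1, [(4001, 1), (6001, 1), (7006, 1), (7007, 1)])

def ov_46 : List ℕ × ℕ × ℕ × List (ℕ × ℤ) := ([3, 3, 3], 0, 1, [(4003, 1), (7003, 1), (8007, 1), (8008, 1)])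

def fr_0 : ℕ × List ℕ × List ℕ × List (ℕ × ℤ) := (0, [1, 0], [0, 1, 6], [(1000, 1), (2000, -1), (2001, -2), (3000, 1), (3002, 2), (4001, -2), (4002, 1), (4003, -1), (4004, 2), (5001, -2), (5002, 1), (5004, -1), (5005, -1), (6000, -1), (6001, -2), (6003, -2), (6004, -1), (6005, -1), (7001, -2), (7002, 2), (7004, 1), (7005, -1), (7007, -3), (8000, -1), (8001, -1), (8002, 1), (8003, -1), (8004, 3), (8005, 1), (8006, -3), (8007, -6), (8008, -2), (1000006, -1)])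

def fr_1 : ℕ × List ℕ × List ℕ × List (ℕ × ℤ) := (0, [2, 0], [0, 2, 7], [(1000, 1), (2000, -1), (2001, -1), (3000, 1), (3002, 1), (4000, -1), (4001, -1), (4004, 1), (5001, -2), (5002, 1), (5003, -1), (5004, -1), (5005, -1), (6000, -1), (6001, -2), (6003, -2), (6004, -1), (6005, -2), (7000, 1), (7001, -1), (7004, 1), (7005, 2), (7006, 1), (7007, -3), (8000, -1), (8001, -1), (8003, -2), (8004, 1), (8005, 3), (8006, -1), (8007, -6), (8008, -2), (1000007, -1)])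

def fr_2 : ℕ × List ℕ × List ℕ × List (ℕ × ℤ) := (0, [2, 1], [1, 2, 5, 6, 7], [(4000, -1), (4001, -1), (4003, 1), (5002, -1), (6002, -1), (6004, -1), (7000, 1), (7001, -1), (7004, -1), (7005, 1), (7007, -1), (8003, 1), (8004, -2), (8007, -2), (8008, -1), (1000005, -1), (1000006, -1), (1000007, -1)])

def fr_3 : ℕ × List ℕ × List ℕ × List (ℕ × ℤ) := (0, [3, 0], [0, 3, 6, 7], [(1000, 1), (2001, -1), (3000, 1), (3002, 1), (4000, -1), (4001, -1), (4002, -1), (4004, 1), (5000, -1), (5001, -1), (5002, -1), (5004, -1), (5005, -1), (6000, -1), (6002, -1), (6004, -2), (6005, -2), (7000, 2), (7001, -1), (7003, -1), (7004, 1), (7006, 1), (7007, -1), (8000, 1), (8001, -1), (8002, 1), (8003, -1), (8004, 1), (8005, 2), (8006, 1), (8007, -5), (8008, -3), (1000006, -1), (1000007, -1)])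

def fr_4 : ℕ × List ℕ × List ℕ × List (ℕ × ℤ) := (0, [3, 1], [1, 3, 5, 6], [(1000, -1), (2000, 2), (2001, 1), (3000, -1), (3002, -1), (4002, -1), (4003, -1), (4004, -1), (5002, -1), (5003, 1), (5004, 1), (5005, 1), (6000, 1), (6002, 1), (6004, 3), (6005, 3), (7000, 2), (7001, 1), (7002, -2), (7003, 1), (7006, -1), (8000, 1), (8001, 1), (8002, -1), (8004, -1), (8005, -1), (8006, -1), (8007, 1), (8008, 3), (1000005, -1), (1000006, -1)])

def fr_5 : ℕ × List ℕ × List ℕ × List (ℕ × ℤ) := (0, [4, 2], [2, 4, 5, 6, 7], [(1000, -1), (3000, -1), (4003, -1), (4004, -1), (5001, 2), (5003, 2), (6000, 1), (6001, 2), (6003, 2), (6005, 2), (7005, 1), (7006, 2), (7007, 3), (8003, 2), (8004, -2), (8005, 3), (8006, 2), (8007, 3), (8008, 1), (1000005, -1), (1000006, -1), (1000007, -1)])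

def fr_6 : ℕ × List ℕ × List ℕ × List (ℕ × ℤ) := (0, [4, 3], [3, 4, 6, 7], [(1000, -1), (2000, -1), (2001, 1), (3000, -1), (3002, -1), (4001, 1), (4004, -2), (5001, 1), (6000, 1), (6002, 1), (6004, -2), (6005, -2), (7001, 1), (7002, -1), (7003, 1), (7005, -1), (7006, -1), (7007, 1), (8000, -1), (8001, 1), (8003, 1), (8004, -3), (8005, -1), (8006, -1), (8007, -3), (8008, -1), (1000006, -1), (1000007, -1)])

def fr_7 : ℕ × List ℕ × List ℕ × List (ℕ × ℤ) := (0, [5, 3], [3, 5], [(4000, -1), (4002, -1), (5000, -1), (5002, -1)])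

def fr_8 : ℕ × List ℕ × List ℕ × List (ℕ × ℤ) := (0, [6, 3], [3, 6], [(7004, -1), (7005, -1)])

def fr_9 : ℕ × List ℕ × List ℕ × List (ℕ × ℤ) := (1, [1, 0], [0, 1, 5, 6, 7], [(3000, 1), (3002, 1), (4000, 1), (4003, -1), (4004, 1), (5002, -1), (5003, -2), (5004, -2), (6000, 1), (6002, -1), (6004, -1), (6005, 1), (7000, 1), (7002, -1), (7004, 2), (7005, 1), (7006, 3), (7007, 1), (8000, 1), (8003, -2), (8004, 4), (8005, 1), (8006, 1), (8007, 1), (1001005, -1), (1001006, -1), (1001007, -1)])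

def fr_10 : ℕ × List ℕ × List ℕ × List (ℕ × ℤ) := (1, [2, 0], [0, 2, 5, 6], [(2000, 1), (3000, 2), (4000, 1), (4003, 1), (4004, 1), (5002, -1), (5003, -2), (5004, -1), (7002, 1), (7003, -1), (7004, 2), (7005, -2), (7007, 1), (8007, 3), (8008, 1), (1001005, -1), (1001006, -1)])

def fr_11 : ℕ × List ℕ × List ℕ × List (ℕ × ℤ) := (1, [2, 1], [1, 2, 5, 7], [(2000, 1), (3002, -1), (4000, 1), (4002, 1), (5000, 1), (5003, 1), (5004, -1), (6000, 1), (6002, 1), (6004, 1), (6005, 1), (7000, 1), (7004, -1), (7005, -2), (7006, -1), (8002, -1), (8004, 1), (8005, 1), (8007, -1), (8008, 1), (1001005, -1), (1001007, -1)])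

def fr_12 : ℕ × List ℕ × List ℕ × List (ℕ × ℤ) := (1, [4, 0], [0, 4, 7], [(2000, 1), (3000, 1), (3002, -1), (4002, 1), (4003, -1), (5000, 1), (5002, -2), (5003, -1), (5004, -1), (7002, -1), (7003, 1), (7005, -3), (8000, 1), (8002, -2), (8003, 1), (8004, 1), (8005, -3), (8007, -1), (1001007, -1)])

def fr_13 : ℕ × List ℕ × List ℕ × List (ℕ × ℤ) := (1, [4, 1], [1, 4, 5, 6, 7], [(3002, -2), (4003, 1), (4004, -1), (5003, 2), (5004, -1), (7003, -1), (7005, -1), (7006, -2), (7007, -1), (8002, -2), (8003, 1), (8004, -1), (8006, 1), (8007, 3), (8008, -1), (1001005, -1), (1001006, -1), (1001007, -1)])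

def fr_14 : ℕ × List ℕ × List ℕ × List (ℕ × ℤ) := (1, [5, 5], [], [(4004, -1), (7007, 1), (8004, -1), (8007, 1), (1001005, 2)])

def fr_15 : ℕ × List ℕ × List ℕ × List (ℕ × ℤ) := (1, [5, 0], [0, 5, 7], [(4002, -1), (4003, -1), (7000, 1), (7003, 1), (7005, 1), (8000, 1), (8002, -1), (8007, -1), (1001007, -1)])

def fr_16 : ℕ × List ℕ × List ℕ × List (ℕ × ℤ) := (1, [5, 2], [2, 5, 7], [(4000, -1), (4002, -1), (4003, -1), (5004, 1), (7003, 1), (8000, -1), (8002, -1), (8004, 1), (1001007, -1)])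

def fr_17 : ℕ × List ℕ × List ℕ × List (ℕ × ℤ) := (2, [2, 1], [1, 2], [(3002, -2), (4002, -1), (4003, 2), (4004, -1), (5000, -1), (5003, 1), (5004, -1), (6000, 1), (6003, 1), (6004, 1), (7000, 1), (7003, 1), (7005, -1), (7006, 2), (8000, -1), (8002, 1), (8003, 1), (8004, -2), (8005, -1), (8006, 2), (8007, 4), (8008, 1)])

def fr_18 : ℕ × List ℕ × List ℕ × List (ℕ × ℤ) := (2, [3, 1], [1, 3, 7], [(2000, 1), (3000, -1), (3002, -1), (4002, 1), (4004, -1), (5000, 2), (5002, 1), (5003, 1), (5004, 1), (6000, -1), (6002, -1), (6004, -1), (6005, -1), (7000, 2), (7002, -1), (7003, 1), (7006, 1), (7007, -2), (8000, 2), (8003, 1), (8004, -2), (8006, 1), (8007, -3), (8008, -2), (1002007, -1)])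

def fr_19 : ℕ × List ℕ × List ℕ × List (ℕ × ℤ) := (2, [3, 2], [2, 3, 7], [(5000, 1), (5002, 2), (5003, 1), (6000, -1), (6002, -2), (6003, -1), (6005, -2), (7000, -1), (7002, 1), (7005, 1), (7006, -1), (7007, -2), (8000, 1), (8005, 1), (8006, -1), (8007, -3), (8008, -2), (1002007, -1)])

def fr_20 : ℕ × List ℕ × List ℕ × List (ℕ × ℤ) := (2, [4, 3], [3, 4], [(5000, -1), (5002, -1), (6000, -1), (6002, -1), (6005, 1), (7000, 1), (7005, 1), (7007, -1), (8000, 1), (8002, 1), (8005, 1), (8007, -1)])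

def tg_0 : ℕ × ℤ × List (ℕ × ℤ) := (1000, 0, [(0, 1)])

def tg_1 : ℕ × ℤ × List (ℕ × ℤ) := (2001, 0, [(1, 1)])

def tg_2 : ℕ × ℤ × List (ℕ × ℤ) := (3001, 0, [(2, 1)])

def tg_3 : ℕ × ℤ × List (ℕ × ℤ) := (4001, 0, [(3, 1)])

def tg_4 : ℕ × ℤ × List (ℕ × ℤ) := (4003, 0, [(4, 1)])

def tg_5 : ℕ × ℤ × List (ℕ × ℤ) := (8005, 0, [(19, 1)])

def tg_6 : ℕ × ℤ × List (ℕ × ℤ) := (8007, 0, [(29, 1)])

def tg_7 : ℕ × ℤ × List (ℕ × ℤ) := (8004, 0, [(30, -1)])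

def tg_8 : ℕ × ℤ × List (ℕ × ℤ) := (8006, 0, [(31, -1)])

def tg_9 : ℕ × ℤ × List (ℕ × ℤ) := (8008, 0, [(43, -1)])

def tg_10 : ℕ × ℤ × List (ℕ × ℤ) := (7003, 0, [(51, 1)])

def tg_11 : ℕ × ℤ × List (ℕ × ℤ) := (7001, 0, [(23, 1)])

def tg_12 : ℕ × ℤ × List (ℕ × ℤ) := (7002, 0, [(10, -1), (16, -1)])

def tg_13 : ℕ × ℤ × List (ℕ × ℤ) := (7006, 0, [(9, 1), (11, 1), (46, -1), (47, -1)])

def tg_14 : ℕ × ℤ × List (ℕ × ℤ) := (4002, 0, [(7, -1), (10, 1), (11, -1), (13, -1), (26, -2), (49, -1), (67, 1), (68, -1)])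

def tg_15 : ℕ × ℤ × List (ℕ × ℤ) := (5002, 0, [(5, -1), (7, -1), (9, 1), (10, -1), (11, 1), (13, -1), (26, -2), (49, -1), (59, -1), (60, 1)])

def tg_16 : ℕ × ℤ × List (ℕ × ℤ) := (5005, 0, [(35, -1)])

def tg_17 : ℕ × ℤ × List (ℕ × ℤ) := (6002, 0, [(5, -1), (6, -1), (9, 1), (10, -1), (11, 1), (12, -2), (13, 1), (17, 1), (28, 1), (42, 1), (49, -1), (72, -1)])

def tg_18 : ℕ × ℤ × List (ℕ × ℤ) := (5003, 0, [(8, 1), (10, -1), (12, -1), (17, 1), (26, -1), (49, -1), (60, 1)])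

def tg_19 : ℕ × ℤ × List (ℕ × ℤ) := (6003, 0, [(5, 8), (6, -3), (9, -3), (10, 7), (11, -1), (12, -9), (13, -3), (17, 4), (26, 11), (28, 6), (33, 1), (36, -4), (40, -2), (48, 2), (49, 1), (50, -4), (54, -2), (57, 2), (59, 5), (60, -8), (62, 2), (64, -2), (65, -2), (67, 4), (69, 1)])

def tg_20 : ℕ × ℤ × List (ℕ × ℤ) := (6006, 0, [(37, -1)])

def tg_21 : ℕ × ℤ × List (ℕ × ℤ) := (2000, 1, [(5, 22), (6, -8), (9, -2), (10, 18), (11, -6), (12, -24), (13, -2), (17, 16), (26, 36), (28, 16), (33, 4), (36, -16), (40, -8), (42, 4), (49, 1), (50, -16), (54, -8), (57, 8), (59, 18), (60, -34), (62, 6), (64, -4), (65, -6), (67, 10)])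

def tg_22 : ℕ × ℤ × List (ℕ × ℤ) := (3000, 1, [(5, 2), (6, -1), (10, 2), (11, -1), (12, -3), (17, 2), (26, 6), (28, 2), (36, -2), (40, -1), (42, 1), (49, 1), (50, -2), (54, -1), (57, 1), (59, 2), (60, -6), (62, 1), (65, -1), (67, 1)])

def tg_23 : ℕ × ℤ × List (ℕ × ℤ) := (3002, 1, [(5, 14), (6, -5), (9, -2), (10, 11), (11, -4), (12, -15), (13, -2), (17, 10), (26, 20), (28, 10), (33, 2), (36, -10), (40, -5), (42, 3), (49, -1), (50, -10), (54, -5), (57, 5), (59, 11), (60, -19), (62, 4), (64, -3), (65, -4), (67, 7)])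

def tg_24 : ℕ × ℤ × List (ℕ × ℤ) := (4004, 1, [(5, 12), (6, -4), (9, -1), (10, 10), (11, -3), (12, -12), (13, -1), (17, 8), (26, 19), (28, 8), (33, 3), (36, -8), (40, -4), (42, 2), (49, 1), (50, -8), (54, -4), (57, 4), (59, 10), (60, -18), (62, 3), (64, -2), (65, -3), (67, 5)])

def tg_25 : ℕ × ℤ × List (ℕ × ℤ) := (4000, 1, [(5, 10), (6, -4), (9, -1), (10, 8), (11, -3), (12, -12), (13, -1), (17, 8), (26, 17), (28, 8), (33, 2), (36, -8), (40, -4), (42, 2), (50, -8), (54, -4), (57, 4), (59, 8), (60, -16), (62, 3), (64, -2), (65, -3), (67, 5)])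

def tg_26 : ℕ × ℤ × List (ℕ × ℤ) := (5000, 1, [(5, 12), (6, -4), (9, -1), (10, 10), (11, -3), (12, -12), (13, -1), (17, 8), (26, 19), (28, 8), (33, 2), (36, -8), (40, -4), (42, 2), (49, 1), (50, -8), (54, -4), (57, 4), (59, 9), (60, -18), (62, 3), (64, -2), (65, -3), (67, 5)])

def tg_27 : ℕ × ℤ × List (ℕ × ℤ) := (5001, 1, [(5, 11), (6, -4), (9, -1), (10, 9), (11, -3), (12, -12), (13, -1), (17, 6), (26, 15), (28, 8), (33, 2), (36, -7), (40, -4), (42, 3), (50, -8), (54, -4), (57, 4), (59, 9), (60, -15), (62, 3), (64, -2), (65, -3), (67, 5)])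

def tg_28 : ℕ × ℤ × List (ℕ × ℤ) := (5004, 1, [(5, 11), (6, -4), (9, -1), (10, 10), (11, -3), (12, -12), (13, -1), (17, 8), (26, 19), (28, 8), (33, 2), (36, -8), (40, -4), (42, 2), (49, 1), (50, -8), (54, -4), (57, 4), (59, 9), (60, -18), (62, 3), (64, -2), (65, -3), (67, 5)])

def tg_29 : ℕ × ℤ × List (ℕ × ℤ) := (6000, 1, [(5, 11), (6, -3), (9, -1), (10, 9), (11, -3), (12, -10), (13, -1), (17, 8), (26, 18), (28, 7), (33, 2), (36, -8), (40, -4), (42, 2), (49, 1), (50, -8), (54, -4), (57, 4), (59, 9), (60, -17), (62, 3), (64, -2), (65, -3), (67, 5)])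

def tg_30 : ℕ × ℤ × List (ℕ × ℤ) := (6001, 1, [(5, 11), (6, -4), (9, -1), (10, 9), (11, -3), (12, -12), (13, -1), (17, 8), (26, 17), (28, 8), (33, 2), (36, -8), (40, -4), (42, 3), (50, -7), (54, -4), (57, 4), (59, 9), (60, -17), (62, 3), (64, -2), (65, -3), (67, 5)])

def tg_31 : ℕ × ℤ × List (ℕ × ℤ) := (6004, 1, [(5, 11), (6, -4), (9, -1), (10, 9), (11, -3), (12, -11), (13, -1), (17, 8), (26, 18), (28, 7), (33, 2), (36, -8), (40, -4), (42, 2), (49, 1), (50, -8), (54, -4), (57, 4), (59, 9), (60, -17), (62, 3), (64, -2), (65, -3), (67, 5)])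

def tg_32 : ℕ × ℤ × List (ℕ × ℤ) := (6005, 1, [(5, 11), (6, -4), (9, -1), (10, 9), (11, -3), (12, -12), (13, -1), (17, 9), (26, 18), (28, 8), (33, 2), (36, -8), (40, -4), (42, 2), (50, -8), (54, -4), (57, 4), (59, 9), (60, -17), (62, 3), (64, -2), (65, -3), (67, 5)])

def tg_33 : ℕ × ℤ × List (ℕ × ℤ) := (7007, 1, [(5, 11), (6, -4), (9, -1), (10, 9), (11, -3), (12, -12), (13, -1), (17, 8), (26, 19), (28, 8), (33, 2), (36, -8), (40, -4), (42, 1), (49, 1), (50, -8), (54, -4), (57, 4), (59, 9), (60, -17), (62, 3), (64, -2), (65, -3), (67, 5)])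

def tg_34 : ℕ × ℤ × List (ℕ × ℤ) := (7000, 1, [(5, 11), (6, -4), (10, 9), (11, -3), (12, -12), (13, -1), (17, 8), (26, 17), (28, 8), (33, 2), (36, -8), (40, -4), (42, 2), (50, -8), (54, -4), (57, 4), (59, 9), (60, -17), (62, 3), (64, -2), (65, -3), (67, 5)])

def tg_35 : ℕ × ℤ × List (ℕ × ℤ) := (7004, 1, [(5, 11), (6, -4), (9, -1), (10, 9), (11, -3), (12, -12), (13, -1), (17, 8), (26, 17), (28, 8), (33, 2), (36, -8), (40, -4), (42, 2), (50, -8), (54, -4), (57, 4), (59, 9), (60, -17), (62, 3), (64, -2), (65, -3), (67, 5)])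

def tg_36 : ℕ × ℤ × List (ℕ × ℤ) := (7005, 1, [(5, 11), (6, -4), (9, -1), (10, 9), (11, -3), (12, -12), (13, -1), (17, 8), (26, 19), (28, 8), (33, 2), (36, -8), (40, -4), (42, 2), (49, 1), (50, -8), (54, -4), (57, 4), (59, 9), (60, -18), (62, 3), (64, -2), (65, -3), (67, 5)])

def tg_37 : ℕ × ℤ × List (ℕ × ℤ) := (8000, 1, [(5, 11), (6, -4), (9, -1), (10, 9), (11, -2), (12, -12), (13, -1), (17, 8), (26, 19), (28, 8), (33, 2), (36, -8), (40, -4), (42, 2), (49, 1), (50, -8), (54, -4), (57, 4), (59, 9), (60, -17), (62, 3), (64, -2), (65, -3), (67, 5)])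

def tg_38 : ℕ × ℤ × List (ℕ × ℤ) := (8001, 1, [(5, 11), (6, -4), (9, -1), (10, 9), (11, -3), (12, -12), (13, -1), (17, 8), (26, 18), (28, 9), (33, 2), (36, -8), (40, -4), (42, 2), (50, -8), (54, -4), (57, 4), (59, 9), (60, -17), (62, 3), (64, -2), (65, -3), (67, 5)])

def tg_39 : ℕ × ℤ × List (ℕ × ℤ) := (8002, 1, [(5, 11), (6, -4), (9, -1), (10, 9), (11, -3), (12, -12), (17, 8), (26, 19), (28, 8), (33, 2), (36, -8), (40, -4), (42, 2), (49, 1), (50, -8), (54, -4), (57, 4), (59, 9), (60, -17), (62, 3), (64, -2), (65, -3), (67, 5)])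

def tg_40 : ℕ × ℤ × List (ℕ × ℤ) := (8003, 1, [(5, 11), (6, -4), (9, -1), (10, 9), (11, -3), (12, -12), (13, -1), (17, 8), (26, 18), (28, 8), (33, 2), (36, -8), (40, -4), (42, 2), (50, -8), (54, -4), (57, 4), (59, 9), (60, -17), (62, 3), (64, -2), (65, -3), (67, 5)])

def C : Cert where
  p := 2
  n := 9
  r := 4
  fuel := 53
  rules := [rule_0, rule_1, rule_2, rule_3, rule_4, rule_5, rule_6, rule_7, rule_8]
  defs := [(1, 0), (2, 1), (3, 1), (4, 1), (4, 3)]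
  items := [item_0, item_1, item_2]
  ovs := [ov_0, ov_1, ov_2, ov_3, ov_4, ov_5, ov_6, ov_7, ov_8, ov_9, ov_10, ov_11, ov_12, ov_13, ov_14, ov_15, ov_16, ov_17, ov_18, ov_19, ov_20, ov_21, ov_22, ov_23, ov_24, ov_25, ov_26, ov_27, ov_28, ov_29, ov_30, ov_31, ov_32, ov_33, ov_34, ov_35, ov_36, ov_37, ov_38, ov_39, ov_40, ov_41, ov_42, ov_43, ov_44, ov_45, ov_46]
  frs := [fr_0, fr_1, fr_2, fr_3, fr_4, fr_5, fr_6, fr_7, fr_8, fr_9, fr_10, fr_11, fr_12, fr_13, fr_14, fr_15, fr_16, fr_17, fr_18, fr_19, fr_20]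
  k0 := 2000
  zm := 2
  zcomb := [(5, -234541089494282), (6, -329097225747302), (7, 412906686929450), (8, 210675222176552), (9, 2387175058773213), (10, -1012447466457032), (11, 9617156817917831), (12, 309662581582308), (13, -4493123574031010), (14, -1054771462450543), (15, 3514206729335768), (16, 408057339149095), (17, -619080828830182), (18, -6448899759551567), (19, 2274055450038785), (20, 581642115023048), (21, -870928232451154), (22, -1844960304015484), (23, 730105637718728), (24, 1574655526102076), (25, 8381646970995414), (26, 1129578971609800), (27, -8381646970995414), (32, 290507181913694), (33, 301253783386190), (34, -230144751970698), (35, 27843405561922), (36, 90229520922160), (37, 399996906588688), (38, 399996906588688), (39, 83879318305230), (41, 555020080606580), (42, 262244970939186), (44, 2128342304700), (45, 192566587644900), (48, -200033357323092), (52, 146265433665468),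 (53, 53733019628876), (54, 92532414036592), (55, -230144751970698), (56, -92532414036592), (58, 83879318305230), (61, 12840082680836), (62, 4326553998880), (63, 4326553998880), (65, -17166636679716), (66, 2163276999440), (69, -69795791100), (70, -12266396), (71, 12266396)]
  targets := [tg_0, tg_1, tg_2, tg_3, tg_4, tg_5, tg_6, tg_7, tg_8, tg_9, tg_10, tg_11, tg_12, tg_13, tg_14, tg_15, tg_16, tg_17, tg_18, tg_19, tg_20, tg_21, tg_22, tg_23, tg_24, tg_25, tg_26, tg_27, tg_28, tg_29, tg_30, tg_31, tg_32, tg_33, tg_34, tg_35, tg_36, tg_37, tg_38, tg_39, tg_40]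

def codes : List ℕ := [nat_lit 0x57e1aded0a033277f4889c5abc4f1706a4b9d9d94e6332e0d5e98d6f0223b07fd40a947a3e473784ac995bd16ee13ac0, nat_lit 0xa5499bbd281d7e242d6645ab46c7a35ea6259daa1585cb93e87d48f01cce3310fe2b71780bf3701392f6d09ec6c8ff40, nat_lit 0xafe5c2eee1d29b368fda329fbfa4c6fea0d68b778bca739bc25319835709f68054b78444d2121d93160de6c150a7c540, nat_lit 0xebed71beb82475949620c1c3effd30baa8657184d724d182e3cdf3b698a67db41428e141e7ddb2b288e779a4552cf100, nat_lit 0x43e0eded5a06988d5b3637b0bc1f1212a5f96772a4c9c84f7f1322d1a9c9a47e940ac47f80ecdd2e56365b816bf53b80, nat_lit 0x7ee07ec40bd76291b9d87a1bd05a956ab13ccc2b5276c0f3b1dc8d0b3724adad4a1746e81f6666a58dcf0317a1b9fc0, nat_lit 0x27e6ad4660b55621b137a7a91725a176a3b966e2bd0764a5b1bfc8d039d0c078d4a1fecc817cc4e0fadcf0bbd8913dc0, nat_lit 0x13eb16ec14e999c3b4663c4bbd51fd42ae0237795fc886a091e3366e1cc91bcb94e4346b3f59ddc0a622b5717f4a8e80, nat_lit 0xafe0d6eee4c68f62dece66cebfa1d2fea5c29f23dade27ca87425cc6464ca7c054e6c444970358d60748b78150f68540]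

def conj : List ℕ := [nat_lit 0x8451a2edf738dd3434b492ae530cd73aaa4d0a694163cfdbe9e7798041e3b082efd924753eba0c571c9667df9a0e7900, nat_lit 0xbaab69bebb2824d28e20c2cfeffe3cebee7d7187db75979ad30df3d71db24d74144964558658a68248e71821411c3100, nat_lit 0x9bef658bae61defb34ceba30daeb75caaa719fff248fbe2019e74509a6415cf3144cb21058e35548a2511df7040db600]

def base : List ℕ := [1, 2, 8]

def ord : List ℕ := [0, 155, 352, 507, 331, 464, 43, 176, 25, 290, 377, 66, 242, 457, 402, 169, 37, 325, 30, 382, 501, 149, 462, 174, 167, 455, 60, 348, 375, 23, 492, 140, 281, 146, 121, 498, 322, 201, 34, 425, 256, 299, 96, 75, 251, 208, 411, 432, 316, 92, 279, 119, 236, 396, 199, 423, 430, 206, 293, 69, 126, 286, 245, 405, 289, 314, 65, 90, 234, 241, 394, 401, 312, 387, 88, 227, 83, 232, 307, 392, 260, 100, 447, 223, 212, 436, 111, 271, 6, 358, 285, 125, 470, 182, 205, 429, 56, 51, 344, 339, 483, 488, 131, 136,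 33, 138, 321, 490, 346, 497, 58, 145, 29, 381, 438, 214, 461, 173, 102, 262, 15, 367, 4, 356, 479, 191, 468, 180, 148, 175, 500, 463, 36, 31, 324, 383, 403, 456, 168, 243, 376, 291, 67, 24, 177, 330, 42, 465, 506, 1, 353, 154, 374, 493, 22, 141, 454, 349, 166, 61, 424, 323, 35, 200, 499, 280, 120, 147, 127, 244, 287, 404, 207, 68, 431, 292, 397, 422, 237, 198, 317, 278, 93, 118, 410, 209, 433, 250, 97, 298, 74, 257, 437, 270, 110, 213, 261, 446, 222, 101, 306, 233, 393, 82, 89, 386, 226, 313, 400, 235, 395, 240, 91, 288, 64, 315, 204, 471, 183, 428, 124, 359, 7, 284, 137, 482, 130, 489, 338, 57, 345, 50, 469, 478, 190, 181, 357, 366, 14, 5, 172, 263, 103, 460, 28, 439, 215, 380, 59, 496, 144, 347, 320, 139, 491, 32, 304, 427, 224, 123, 203, 80, 283, 384, 297, 162, 249, 370, 450, 73, 18, 409, 277, 197, 302, 254, 117, 421, 78, 414, 268, 220, 295, 247, 108, 444, 71, 407, 41, 274, 505, 194,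 114, 329, 418, 153, 48, 27, 480, 459, 379, 336, 171, 128, 151, 327, 12, 476, 503, 39, 364, 188, 158, 334, 21, 453, 510, 46, 373, 165, 17, 10, 449, 474, 362, 369, 186, 161, 8, 3, 472, 467, 355, 360, 179, 184, 52, 484, 143, 351, 340, 132, 495, 63, 45, 509, 390, 86, 333, 157, 230, 310, 264, 435, 216, 99, 211, 104, 259, 440, 273, 442, 193, 106, 218, 113, 266, 417, 54, 486, 301, 253, 342, 134, 77, 413, 319, 239, 308, 228, 95, 399, 84, 388, 415, 420, 79, 116, 303, 276, 255, 196, 408, 451, 19, 72, 371, 296, 248, 163, 385, 202, 282, 81, 122, 305, 225, 426, 406, 445, 70, 109, 294, 269, 246, 221, 419, 328, 152, 115, 504, 275, 195, 40, 372, 511, 164, 47, 452, 335, 20, 159, 365, 502, 189, 38, 477, 326, 13, 150, 170, 337, 129, 378, 481, 26, 458, 49, 62, 133, 341, 494, 142, 53, 485, 350, 185, 354, 178, 361, 466, 9, 473, 2, 160, 363, 187, 368, 475, 16, 448, 11, 311, 156, 332, 231, 391, 44, 508, 87, 258,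 105, 441, 210, 217, 434, 98, 265, 94, 85, 389, 398, 238, 229, 309, 318, 343, 76, 412, 135, 487, 252, 300, 55, 267, 112, 416, 219, 192, 443, 107, 272]

theorem check_ok : C.check = true := by decide +kernel

def cn : ℕ := nat_lit 64
def cw : ℕ := nat_lit 6
def cmask : ℕ := nat_lit 63
def cidc : ℕ := nat_lit 0xffef7cefae78df6d74cf2c70beeb6caeaa689e69648e28607de75c6da6585d65544d24503ce34c2ca2481c61440c2040

theorem chk_ok : chkP cn cw cmask cidc C codes conj base ord = true := by decide +kernel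

end Cfsg.Agent.Lib.Schur.Cert.Sp62p2
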