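import Cfsg.Agent.Lib.Schur.PcPerm

/-!
# A tail certificate for a Sylow subgroup, on permutation codes
-/

set_option autoImplicit false
set_option maxRecDepth 100000
set_option maxHeartbeats 0

namespace Cfsg.Agent.Lib.Schur.Cert.Sp62p3

open Cfsg.Agent.Lib.Schur.PcMain Cfsg.Agent.Lib.Schur.PcPerm

def rule_0 : List (List ℕ) := [[]]

def rule_1 : List (List ℕ) := [[1, 2], []]

def rule_2 : List (List ℕ) := [[2], [2, 3], []]

def rule_3 : List (List ℕ) := [[3], [3], [3], []]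

def item_0 : List (List ℕ) × List (List ℕ) := ([[0], [1], [2], [3, 3]], [[0], [1, 1, 3], [2, 2, 3], [3, 3]])

def ov_0 : List ℕ × ℕ × ℕ × List (ℕ × ℤ) := ([2, 1, 0], 0, 1, [(3000, 1), (3002, -1)])

def ov_1 : List ℕ × ℕ × ℕ × List (ℕ × ℤ) := ([3, 1, 0], 0, 1, [(3002, -1)])

def ov_2 : List ℕ × ℕ × ℕ × List (ℕ × ℤ) := ([1, 1, 1, 0], 0, 2, [(1000, -3), (2001, -3), (2002, -1), (3001, -1), (3002, -2), (3003, -1)])

def ov_3 : List ℕ × ℕ × ℕ × List (ℕ × ℤ) := ([1, 0, 0, 0], 0, 1, [(1000, 3), (2000, 3), (2002, 1)])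

def ov_4 : List ℕ × ℕ × ℕ × List (ℕ × ℤ) := ([2, 2, 2, 1], 0, 2, [(2001, -3), (3002, -3), (3003, -1)])

def fr_0 : ℕ × List ℕ × List ℕ × List (ℕ × ℤ) := (0, [2, 0], [0, 2], [(2000, 1), (3000, 1)])

def tg_0 : ℕ × ℤ × List (ℕ × ℤ) := (1000, 0, [(0, 1)])

def tg_1 : ℕ × ℤ × List (ℕ × ℤ) := (2001, 0, [(1, 1)])

def tg_2 : ℕ × ℤ × List (ℕ × ℤ) := (3002, 0, [(3, -1)])

def tg_3 : ℕ × ℤ × List (ℕ × ℤ) := (3000, 0, [(2, 1)])

def tg_4 : ℕ × ℤ × List (ℕ × ℤ) := (2000, 0, [(7, 1)])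

def tg_5 : ℕ × ℤ × List (ℕ × ℤ) := (2002, 0, [(5, 1)])

def tg_6 : ℕ × ℤ × List (ℕ × ℤ) := (3003, 0, [(6, -1)])

def tg_7 : ℕ × ℤ × List (ℕ × ℤ) := (3001, 0, [(4, -1)])

def C : Cert where
  p := 3
  n := 4
  r := 2
  fuel := 13
  rules := [rule_0, rule_1, rule_2, rule_3]
  defs := [(1, 0), (2, 1)]
  items := [item_0]
  ovs := [ov_0, ov_1, ov_2, ov_3, ov_4]
  frs := [fr_0]
  k0 := 1000
  zm := 1
  zcomb := [(0, 1)]
  targets := [tg_0, tg_1, tg_2, tg_3, tg_4, tg_5, tg_6, tg_7]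

def codes : List ℕ := [nat_lit 0x715797cfac78ff6f7441949b9ee96c20128310d18fae2a60f35fb74da4587d6754c39cbb1ce14ca21aa392d9af2c2240, nat_lit 0xbff017a381d5aba152b7d094afb113b3c0d1bbe056a79196e69581fae443f2c4c4eeb502f6d485eaa547e285c0fef40, nat_lit 0x71992124cc74ffa1c2aaf49775896020dc35fbb183aee4d628fcb77da9e2a6c454f391012cecf679b9a3a2d415f78140, nat_lit 0xb5107dc0c7201baa966e7dcbf824ae8df3f3569e45234918d49665a141387a2c8e0ffbd399a2b6ec75eb37185d42cf00]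

def conj : List ℕ := [nat_lit 0x75cf7c3cebee554d741c69e6e78658aea2cac704508e20c27deffe34cb6c5d6df6144964efa6daa68248cf24d2860040]

def base : List ℕ := [1, 2]

def ord : List ℕ := [0, 1, 2, 66, 76, 59, 78, 16, 35, 30, 40, 50, 60, 44, 25, 14, 21, 4, 45, 47, 46, 65, 64, 63, 39, 32, 49, 7, 53, 69, 12, 5, 22, 38, 36, 37, 72, 73, 74, 34, 15, 80, 75, 68, 58, 28, 29, 27, 17, 79, 33, 55, 56, 54, 67, 77, 57, 24, 43, 62, 41, 31, 48, 18, 20, 19, 51, 8, 70, 9, 11, 10, 42, 61, 26, 13, 23, 3, 71, 52, 6]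

theorem check_ok : C.check = true := by decide +kernel

def cn : ℕ := nat_lit 64
def cw : ℕ := nat_lit 6
def cmask : ℕ := nat_lit 63
def cidc : ℕ := nat_lit 0xffef7cefae78df6d74cf2c70beeb6caeaa689e69648e28607de75c6da6585d65544d24503ce34c2ca2481c61440c2040

theorem chk_ok : chkP cn cw cmask cidc C codes conj base ord = true := by decide +kernel

end Cfsg.Agent.Lib.Schur.Cert.Sp62p3
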