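import Cfsg.Agent.Lib.Schur.PcBase
import Cfsg.Agent.Lib.TC.D.SuzChain.Lev

/-!
# A tail certificate for a Sylow subgroup, with words in the columns of a table
-/

set_option autoImplicit false
set_option maxRecDepth 100000
set_option maxHeartbeats 0

namespace Cfsg.Agent.Lib.Schur.Cert.Suzp2

open Cfsg.Agent.Lib.Schur.PcMain Cfsg.Agent.Lib.Schur.PcBase

def rule_0 : List (List ℕ) := [[7, 8, 9, 10, 11, 12]]

def rule_1 : List (List ℕ) := [[1, 4], [5, 7, 9, 12]]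

def rule_2 : List (List ℕ) := [[2, 7], [2, 5], [7, 9, 12]]

def rule_3 : List (List ℕ) := [[3, 8], [3, 6], [3, 9], [12]]

def rule_4 : List (List ℕ) := [[4], [4, 7, 8, 9, 10, 11, 12], [4, 7, 8, 9, 10], [4, 8, 9, 10, 12], [11]]

def rule_5 : List (List ℕ) := [[5, 7, 8, 9, 11, 12], [5, 11], [5, 12], [5, 8, 10, 11, 12], [5, 12], [11, 12]]

def rule_6 : List (List ℕ) := [[6, 8, 9, 10, 11, 12], [6, 8, 12], [6, 8, 11], [6, 12], [6, 11], [6, 12], [12]]

def rule_7 : List (List ℕ) := [[7, 11], [7, 10], [7, 10, 11, 12], [7, 10, 11, 12], [7], [7, 11], [7, 11], [12]]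

def rule_8 : List (List ℕ) := [[8, 10, 11], [8, 11, 12], [8, 11], [8, 12], [8, 11, 12], [8], [8, 12], [8, 12], [12]]

def rule_9 : List (List ℕ) := [[9, 10], [9, 10, 11], [9, 10, 11, 12], [9, 12], [9, 11, 12], [9, 11], [9, 12], [9, 12], [9, 12], [12]]

def rule_10 : List (List ℕ) := [[10], [10, 11, 12], [10, 12], [10, 12], [10], [10], [10, 12], [10], [10], [10], []]

def rule_11 : List (List ℕ) := [[11], [11], [11], [11, 12], [11], [11], [11], [11], [11], [11], [11], []]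

def rule_12 : List (List ℕ) := [[12], [12], [12], [12], [12], [12], [12], [12], [12], [12], [12], [12], []]

def item_0 : List (List ℕ) × List (List ℕ) := ([[0, 2, 5, 8, 9, 10], [1, 2, 6, 8, 10, 11, 12], [2, 3, 4, 7, 9, 12], [3, 6, 8, 9], [4, 5, 6, 7, 8, 12], [5, 6, 9, 10, 11, 12], [6, 10, 11], [7, 8, 9], [8, 9, 11, 12], [9, 12], [10, 12], [11, 12], [12]], [[2, 4, 5, 7, 8, 9, 11], [1, 2, 5, 6, 10, 12], [0, 3, 5, 7, 8, 9, 11], [3, 9, 11], [5, 6, 8, 9, 10, 12], [4, 6, 7, 8, 11, 12], [6, 10, 11], [7, 8, 9, 11, 12], [9, 10, 11, 12], [8, 11], [10, 11, 12], [11, 12], [12]])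

def item_1 : List (List ℕ) × List (List ℕ) := ([[0, 2, 5, 8, 9, 10], [2, 3, 4, 7, 9, 12], [3, 6, 8, 9], [4, 5, 6, 7, 8, 12], [5, 6, 9, 10, 11, 12], [6, 10, 11], [7, 8, 9], [8, 9, 11, 12], [9, 12], [10, 12], [11, 12], [12]], [[0, 3, 4, 5, 10, 11], [0, 2, 3, 5, 7, 9, 10, 11], [3, 6, 8, 12], [0, 3, 5, 9, 11], [0, 2, 3, 4, 6, 8, 10], [3, 8, 10], [7, 8, 9, 10, 12], [8, 11, 12], [8, 9, 12], [10, 12], [10, 11, 12], [12]])

def item_2 : List (List ℕ) × List (List ℕ) := ([[1, 2, 6, 8, 10, 11, 12], [3, 6, 8, 9], [4, 5, 6, 7, 8, 12], [5, 6, 9, 10, 11, 12], [6, 10, 11], [7, 8, 9], [8, 9, 11, 12], [9, 12], [10, 12], [11, 12], [12]], [[7, 8, 9, 10, 11], [3, 6, 8], [1, 2, 6, 7, 9, 10], [1, 2, 5, 7, 9, 11], [6, 10, 12], [1, 2, 4, 5, 7, 9, 12], [8, 10, 11, 12], [9, 12], [6, 8, 10, 12], [11, 12], [12]])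

def ov_0 : List ℕ × ℕ × ℕ × List (ℕ × ℤ) := ([2, 1, 0], 0, 1, [(4002, 1), (5000, 1), (5004, -1), (7001, -1), (7004, -1), (7007, 1), (8005, 1), (8007, 2), (8008, 1), (9005, 1), (9007, 2), (9008, 1), (9009, 1), (10004, -1), (10005, 1), (10007, 2), (10008, 1), (10009, 1), (11007, 1), (11008, 1), (11009, 1), (11010, 1), (11011, 1), (12005, 1), (12008, 2), (12009, 3), (12010, 1), (12011, 1), (12012, 4)])

def ov_1 : List ℕ × ℕ × ℕ × List (ℕ × ℤ) := ([3, 1, 0], 0, 1, [(4003, 1), (6000, 1), (6004, -1), (8001, -1), (8004, -1), (8008, 1), (9006, 1), (9008, 2), (9009, 1), (10006, 1), (10008, 2), (10009, 1), (10010, 1), (11004, -1), (11008, -1), (11011, -1), (12004, -1), (12006, 1), (12008, 2), (12009, 1), (12010, 4), (12012, 3)])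

def ov_2 : List ℕ × ℕ × ℕ × List (ℕ × ℤ) := ([3, 2, 0], 0, 1, [(7003, 1), (8002, -1), (8007, -1), (9000, 1), (9007, -1), (9008, -1), (10008, 1), (10009, 1), (10010, 1), (11007, -1), (11008, 1), (11009, 1), (11010, 1), (12007, -1), (12008, 1), (12010, 1), (12011, -1), (12012, -1)])

def ov_3 : List ℕ × ℕ × ℕ × List (ℕ × ℤ) := ([3, 2, 1], 0, 1, [(5003, 1), (6002, -1), (6005, -1), (8005, -1), (8006, 1), (9001, 1), (9005, -1), (9006, -1), (9008, -1), (10006, 1), (10009, 1), (10010, 1), (11005, -1), (11006, 1), (11009, 1), (11010, 1), (12006, 1), (12008, -2), (12010, 2), (12011, -1)])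

def ov_4 : List ℕ × ℕ × ℕ × List (ℕ × ℤ) := ([4, 1, 0], 0, 1, [(7000, 1), (7004, -1), (8000, 1), (8004, -1), (9000, 1), (9004, -1), (10000, 1), (10004, -1), (10009, 1), (10010, 1), (11000, 1), (11004, -1), (11008, -1), (11009, 1), (11010, 1), (12000, 1), (12004, -1), (12009, -1), (12011, -1), (12012, -1)])

def ov_5 : List ℕ × ℕ × ℕ × List (ℕ × ℤ) := ([4, 2, 0], 0, 1, [(7000, 1), (7004, 1), (8000, 1), (8007, -1), (9000, 1), (9007, -1), (10000, 1), (10007, -1), (10009, 1), (10010, 1), (11008, 1), (11010, 1), (11011, 1), (12009, 1), (12010, 2), (12011, 2), (12012, -1)])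

def ov_6 : List ℕ × ℕ × ℕ × List (ℕ × ℤ) := ([4, 2, 1], 0, 1, [(5004, 1), (7001, 1), (7002, -1), (8001, 1), (8002, -1), (9001, 1), (9002, -1), (10001, 1), (10002, -1), (11002, -1), (11007, 1), (11010, 1), (12002, -1), (12007, 1), (12008, 2), (12009, 1), (12010, 2), (12011, 2)])

def ov_7 : List ℕ × ℕ × ℕ × List (ℕ × ℤ) := ([4, 3, 0], 0, 1, [(8000, 1), (8004, 1), (9000, 1), (9008, -1), (10000, 1), (10008, -1), (10009, 1), (10010, 1), (11008, 1), (11010, 1), (11011, 1), (12000, 1), (12009, -1), (12011, 1)])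

def ov_8 : List ℕ × ℕ × ℕ × List (ℕ × ℤ) := ([4, 3, 1], 0, 1, [(6004, 1), (7003, -1), (7006, -1), (8001, 1), (8003, -1), (8007, -1), (9001, 1), (9003, -1), (9007, -1), (10001, 1), (10003, -1), (10006, -1), (10007, -1), (10008, 1), (10009, 1), (11003, -1), (11007, 1), (11009, 1), (11011, 1), (12001, 1), (12003, -1), (12007, -1), (12008, 1), (12009, -2), (12010, 1), (12011, 2), (12012, -3)])

def ov_9 : List ℕ × ℕ × ℕ × List (ℕ × ℤ) := ([4, 3, 2], 0, 1, [(7003, -1), (8002, 1), (8003, -1), (8007, -1), (9002, 1), (9003, -1), (9004, 1), (10002, 1), (10003, -1), (10007, -1), (10008, 1), (11007, 1), (11008, 1), (11009, -1), (11010, 1), (11011, 1), (12002, 1), (12009, -1), (12011, 4), (12012, -1)])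

def ov_10 : List ℕ × ℕ × ℕ × List (ℕ × ℤ) := ([5, 1, 0], 0, 1, [(5004, -1), (7001, -1), (7004, -1), (8001, -1), (8004, -1), (9001, -1), (9004, -1), (10008, -1), (10009, -1), (10010, -1), (11000, 1), (11001, -1), (11007, -1), (11008, -1), (11009, -1), (11010, -1), (11011, -2), (12001, -1), (12007, -1), (12008, -1), (12009, -1), (12010, -1), (12011, -2), (12012, -2)])

def ov_11 : List ℕ × ℕ × ℕ × List (ℕ × ℤ) := ([5, 2, 0], 0, 1, [(7002, -1), (7005, 1), (8002, -1), (8007, -1), (9002, -1), (9007, -1), (10008, -1), (10009, -1), (10010, -1), (11002, -1), (11007, 1), (11009, 1), (11011, -1), (12000, 1), (12002, -1), (12007, -1), (12009, 1), (12010, -1), (12012, -2)])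

def ov_12 : List ℕ × ℕ × ℕ × List (ℕ × ℤ) := ([5, 2, 1], 0, 1, [(11002, -1), (11005, -1), (12001, 1), (12005, -1), (12011, -1)])

def ov_13 : List ℕ × ℕ × ℕ × List (ℕ × ℤ) := ([5, 3, 0], 0, 1, [(7003, -1), (8000, 1), (8003, -1), (8005, 1), (9003, -1), (10000, 1), (10007, -1), (11000, 1), (11003, -1), (11007, -1), (12000, 1), (12003, -1), (12007, -1), (12008, 1), (12009, -1), (12010, -1), (12011, -1), (12012, -2)])

def ov_14 : List ℕ × ℕ × ℕ × List (ℕ × ℤ) := ([5, 3, 1], 0, 1, [(6005, 1), (8001, 1), (8006, -1), (10001, 1), (10006, -1), (11001, 1), (11003, -1), (11008, 1), (11011, 1), (12001, 1), (12008, 1), (12010, -1), (12011, 2)])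

def ov_15 : List ℕ × ℕ × ℕ × List (ℕ × ℤ) := ([5, 3, 2], 0, 1, [(8002, 1), (9005, 1), (9008, 1), (10002, 1), (10009, -1), (11002, 1), (11008, 1), (11009, -1), (11011, 1), (12002, 1), (12003, -1), (12008, 1), (12011, 2), (12012, 1)])

def ov_16 : List ℕ × ℕ × ℕ × List (ℕ × ℤ) := ([5, 4, 0], 0, 1, [(7004, -1), (8004, -1), (9004, -1), (11004, -1), (11009, -1), (11011, -1), (12000, 1), (12004, -1), (12007, -1), (12008, -1), (12011, -2), (12012, -1)])

def ov_17 : List ℕ × ℕ × ℕ × List (ℕ × ℤ) := ([5, 4, 1], 0, 1, [(7005, 1), (8005, 1), (9005, 1), (10005, 1), (11004, -1), (11005, 1), (11007, -1), (11010, -1), (11011, 1), (12001, 1), (12005, 1), (12007, -1), (12008, -1), (12009, -1), (12010, -1), (12011, -1)])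

def ov_18 : List ℕ × ℕ × ℕ × List (ℕ × ℤ) := ([5, 4, 2], 0, 1, [(7005, 1), (8005, 1), (9005, 1), (10005, 1), (11008, 1), (11009, 1), (11011, 1), (12002, 1), (12004, -1)])

def ov_19 : List ℕ × ℕ × ℕ × List (ℕ × ℤ) := ([5, 4, 3], 0, 1, [(8004, -1), (8005, 1), (9005, 1), (9008, 1), (10004, -1), (10005, 1), (10009, -1), (11004, -1), (11008, 1), (11010, 1), (12003, 1), (12004, -1), (12005, 1), (12008, -1), (12009, 1)])

def ov_20 : List ℕ × ℕ × ℕ × List (ℕ × ℤ) := ([6, 1, 0], 0, 1, [(6004, -1), (8000, 1), (8001, -1), (9001, -1), (9004, -1), (9008, 1), (10001, -1), (10008, 1), (11001, -1), (11008, 1), (11009, -2), (11011, -2), (12000, 1), (12001, -1), (12004, -1), (12010, -1), (12011, -1), (12012, -1)])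

def ov_21 : List ℕ × ℕ × ℕ × List (ℕ × ℤ) := ([6, 2, 0], 0, 1, [(7006, 1), (8000, 1), (8002, -1), (9002, -1), (9007, -1), (9008, 1), (10002, -1), (10008, 1), (11000, 1), (11002, -1), (11009, 1), (12002, -1), (12008, 1), (12011, -2), (12012, -1)])

def ov_22 : List ℕ × ℕ × ℕ × List (ℕ × ℤ) := ([6, 2, 1], 0, 1, [(6005, -1), (8001, 1), (8002, -1), (11001, 1), (11008, -1), (12002, -1), (12008, 1), (12011, -1)])

def ov_23 : List ℕ × ℕ × ℕ × List (ℕ × ℤ) := ([6, 3, 0], 0, 1, [(8003, -1), (8006, 1), (9003, -1), (9008, -1), (10003, -1), (10008, -1), (11003, -1), (11008, -1), (12000, 1), (12003, -1), (12009, -1), (12010, -1), (12012, -2)])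

def ov_24 : List ℕ × ℕ × ℕ × List (ℕ × ℤ) := ([6, 3, 1], 0, 1, [(8003, -1), (8006, -1), (12001, 1), (12003, -1), (12006, -1), (12008, -1), (12012, -1)])

def ov_25 : List ℕ × ℕ × ℕ × List (ℕ × ℤ) := ([6, 3, 2], 0, 1, [(8003, -1), (9006, 1), (9008, 1), (11003, -1), (11009, -1), (12002, 1), (12009, -1)])

def ov_26 : List ℕ × ℕ × ℕ × List (ℕ × ℤ) := ([6, 4, 0], 0, 1, [(8004, -1), (9004, -1), (10004, -1), (11000, 1), (11004, -1), (11008, -1), (11010, -1), (11011, -1), (12004, -1), (12009, -1), (12012, -1)])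

def ov_27 : List ℕ × ℕ × ℕ × List (ℕ × ℤ) := ([6, 4, 1], 0, 1, [(7006, 1), (8004, -1), (8006, 1), (8007, -1), (9006, 1), (9008, 1), (10006, 1), (10008, 1), (11001, 1), (11006, 1), (11009, 1), (11010, 1), (12004, -1), (12006, 1), (12008, -1), (12009, 2), (12011, 2), (12012, 1)])

def ov_28 : List ℕ × ℕ × ℕ × List (ℕ × ℤ) := ([6, 4, 2], 0, 1, [(7006, 1), (8004, -1), (8006, 1), (8007, -1), (9006, 1), (9008, 1), (10006, 1), (10008, 1), (11002, 1), (11004, -1), (11007, -1), (12007, -1), (12008, 1), (12009, 1), (12010, -1), (12011, -1), (12012, 1)])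

def ov_29 : List ℕ × ℕ × ℕ × List (ℕ × ℤ) := ([6, 4, 3], 0, 1, [(8006, 1), (9006, 1), (10006, 1), (11003, 1), (11008, -1), (11009, -1), (11010, -1), (12004, -1), (12006, 1), (12008, -1), (12010, -1), (12011, 1), (12012, 2)])

def ov_30 : List ℕ × ℕ × ℕ × List (ℕ × ℤ) := ([6, 5, 0], 0, 1, [(7006, 1), (8005, -1), (8006, 1), (8007, -1), (9005, -1), (9006, 1), (9007, -1), (10005, -1), (10007, -1), (10008, -1), (10009, -1), (11005, -1), (11006, 1), (11008, 1), (11009, 1), (11010, -1), (12000, 1), (12005, -1), (12006, 1), (12010, -2), (12011, -3)])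

def ov_31 : List ℕ × ℕ × ℕ × List (ℕ × ℤ) := ([6, 5, 1], 0, 1, [(8005, -1), (11006, 1), (11008, 1), (12001, 1), (12005, -1), (12008, -1)])

def ov_32 : List ℕ × ℕ × ℕ × List (ℕ × ℤ) := ([6, 5, 2], 0, 1, [(8005, -1), (11005, -1), (12002, 1), (12006, 1)])

def ov_33 : List ℕ × ℕ × ℕ × List (ℕ × ℤ) := ([6, 5, 3], 0, 1, [(8006, 1), (10006, 1), (11006, 1), (12003, 1), (12005, -1), (12006, 1), (12010, 1), (12012, 1)])

def ov_34 : List ℕ × ℕ × ℕ × List (ℕ × ℤ) := ([6, 5, 4], 0, 1, [(11005, -1), (12004, 1), (12006, 1)])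

def ov_35 : List ℕ × ℕ × ℕ × List (ℕ × ℤ) := ([7, 1, 0], 0, 1, [(7004, -1), (10000, 1), (10004, -1), (11001, -1), (11004, -1), (11010, 1)])

def ov_36 : List ℕ × ℕ × ℕ × List (ℕ × ℤ) := ([7, 2, 0], 0, 1, [(10000, 1), (10007, -1), (11000, 1), (11002, -1), (11010, 1), (12000, 1), (12007, -1), (12011, 1)])

def ov_37 : List ℕ × ℕ × ℕ × List (ℕ × ℤ) := ([7, 2, 1], 0, 1, [(7005, -1), (10001, 1), (10002, -1), (11001, 1), (11005, -1), (11010, -1), (12001, 1), (12010, -1), (12011, 1)])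

def ov_38 : List ℕ × ℕ × ℕ × List (ℕ × ℤ) := ([7, 3, 0], 0, 1, [(8007, 1), (10000, 1), (10008, -1), (11000, 1), (11003, -1), (11010, 1), (12000, 1), (12010, 1), (12011, 1)])

def ov_39 : List ℕ × ℕ × ℕ × List (ℕ × ℤ) := ([7, 3, 1], 0, 1, [(7006, -1), (10001, 1), (10003, -1), (11001, 1), (11006, -1), (11010, -1), (12001, 1), (12010, -1), (12011, 1)])

def ov_40 : List ℕ × ℕ × ℕ × List (ℕ × ℤ) := ([7, 3, 2], 0, 1, [(9007, 1), (10002, 1), (10003, -1), (11002, 1), (11003, -1), (12002, 1), (12003, -1), (12011, 2)])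

def ov_41 : List ℕ × ℕ × ℕ × List (ℕ × ℤ) := ([7, 4, 0], 0, 1, [(11004, -1)])

def ov_42 : List ℕ × ℕ × ℕ × List (ℕ × ℤ) := ([7, 4, 1], 0, 1, [(8007, 1), (9007, 1), (10004, -1), (10008, -1), (10009, -1), (11007, 1), (11010, 1), (12007, 1), (12009, -1), (12010, -1), (12012, 1)])

def ov_43 : List ℕ × ℕ × ℕ × List (ℕ × ℤ) := ([7, 4, 2], 0, 1, [(8007, 1), (9007, 1), (10004, -1), (10008, -1), (10009, -1), (11004, -1), (11007, -1), (11008, -1), (11009, -1), (11010, -1), (12004, -1), (12007, -1), (12008, 1), (12010, 1), (12012, 1)])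

def ov_44 : List ℕ × ℕ × ℕ × List (ℕ × ℤ) := ([7, 4, 3], 0, 1, [(8007, 1), (9007, 1), (10004, -1), (10007, 1), (10008, -1), (10009, -1), (11004, -1), (11008, -1), (11009, -1), (11010, -1), (12004, -1), (12007, 1), (12008, -1), (12011, 1), (12012, 1)])

def ov_45 : List ℕ × ℕ × ℕ × List (ℕ × ℤ) := ([7, 5, 0], 0, 1, [(8007, 1), (9007, 1), (11000, 1), (11005, -1), (11007, 1), (12007, 1), (12009, -1), (12012, 1)])

def ov_46 : List ℕ × ℕ × ℕ × List (ℕ × ℤ) := ([7, 5, 1], 0, 1, [(10005, -1), (11001, 1), (11007, 1)])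

def ov_47 : List ℕ × ℕ × ℕ × List (ℕ × ℤ) := ([7, 5, 2], 0, 1, [(10005, -1), (11002, 1), (11005, -1), (11010, -1), (12005, -1), (12007, 1), (12010, 1), (12011, 1)])

def ov_48 : List ℕ × ℕ × ℕ × List (ℕ × ℤ) := ([7, 5, 3], 0, 1, [(8007, 1), (10005, -1), (10007, 1), (10008, -1), (11003, 1), (11005, -1), (11007, 1), (12005, -1), (12007, 1), (12008, -1), (12011, 1), (12012, 1)])

def ov_49 : List ℕ × ℕ × ℕ × List (ℕ × ℤ) := ([7, 5, 4], 0, 1, [(11004, 1), (12007, 1), (12011, 1)])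

def ov_50 : List ℕ × ℕ × ℕ × List (ℕ × ℤ) := ([7, 6, 0], 0, 1, [(8007, 1), (9007, 1), (10007, 1), (11000, 1), (11006, -1), (11007, 1), (12007, 1), (12009, 1), (12011, 2), (12012, 1)])

def ov_51 : List ℕ × ℕ × ℕ × List (ℕ × ℤ) := ([7, 6, 1], 0, 1, [(8007, 1), (10006, -1), (10008, -1), (11001, 1), (11008, -1), (11010, -1), (12007, 1), (12008, -1)])

def ov_52 : List ℕ × ℕ × ℕ × List (ℕ × ℤ) := ([7, 6, 2], 0, 1, [(8007, 1), (10006, -1), (10008, -1), (11002, 1), (11006, -1), (11007, 1), (12006, -1), (12010, 1), (12011, 1)])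

def ov_53 : List ℕ × ℕ × ℕ × List (ℕ × ℤ) := ([7, 6, 3], 0, 1, [(10006, -1), (11003, 1), (11006, -1), (11010, -1), (12006, -1), (12007, 1), (12010, 1)])

def ov_54 : List ℕ × ℕ × ℕ × List (ℕ × ℤ) := ([7, 6, 4], 0, 1, [(11004, 1), (11007, 1)])

def ov_55 : List ℕ × ℕ × ℕ × List (ℕ × ℤ) := ([7, 6, 5], 0, 1, [(11005, 1), (11006, -1), (12007, 1), (12011, 2)])

def ov_56 : List ℕ × ℕ × ℕ × List (ℕ × ℤ) := ([8, 1, 0], 0, 1, [(8004, -1), (10001, -1), (10004, -1), (11000, 1), (11001, -1), (11004, -1), (11010, -2), (11011, -1), (12000, 1), (12010, -2), (12011, -2), (12012, -1)])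

def ov_57 : List ℕ × ℕ × ℕ × List (ℕ × ℤ) := ([8, 2, 0], 0, 1, [(8007, -1), (10002, -1), (10007, -1), (11000, 1), (11002, -1), (11010, -1), (12007, -1), (12010, -1), (12011, -1), (12012, -1)])

def ov_58 : List ℕ × ℕ × ℕ × List (ℕ × ℤ) := ([8, 2, 1], 0, 1, [(8005, -1), (11001, 1), (11002, -1), (12002, -1), (12005, -1), (12011, 1)])

def ov_59 : List ℕ × ℕ × ℕ × List (ℕ × ℤ) := ([8, 3, 0], 0, 1, [(10003, -1), (10008, -1), (11003, -1), (11008, -1), (12000, 1), (12008, -1), (12010, -1), (12012, -1)])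

def ov_60 : List ℕ × ℕ × ℕ × List (ℕ × ℤ) := ([8, 3, 1], 0, 1, [(8006, -1), (11003, -1), (11006, -1), (12001, 1), (12003, -1), (12006, -1), (12011, -2), (12012, -1)])

def ov_61 : List ℕ × ℕ × ℕ × List (ℕ × ℤ) := ([9, 1, 0], 0, 1, [(9004, -1), (10000, 1), (10001, -1), (11000, 1), (11010, -1), (11011, -1), (12004, -1), (12012, -1)])

def ov_62 : List ℕ × ℕ × ℕ × List (ℕ × ℤ) := ([9, 2, 1], 0, 1, [(9005, -1), (10001, 1), (10002, -1), (11001, 1), (11002, -1), (12001, 1), (12010, -1), (12011, 1)])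

def ov_63 : List ℕ × ℕ × ℕ × List (ℕ × ℤ) := ([9, 3, 0], 0, 1, [(9008, -1), (10003, -1), (10008, -1), (12000, 1), (12010, -2), (12012, -1)])

def ov_64 : List ℕ × ℕ × ℕ × List (ℕ × ℤ) := ([9, 4, 0], 0, 1, [(10004, -1), (11000, 1), (11010, -1), (12000, 1), (12010, -1)])

def ov_65 : List ℕ × ℕ × ℕ × List (ℕ × ℤ) := ([9, 6, 5], 0, 1, [(11006, -1), (12005, 1), (12009, 1)])

def ov_66 : List ℕ × ℕ × ℕ × List (ℕ × ℤ) := ([9, 7, 6], 0, 1, [(11009, 1), (12006, 1), (12007, -1)])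

def ov_67 : List ℕ × ℕ × ℕ × List (ℕ × ℤ) := ([10, 2, 1], 0, 1, [(10005, -1), (11002, -1), (11005, -1), (12001, 1), (12002, -1), (12011, -1)])

def ov_68 : List ℕ × ℕ × ℕ × List (ℕ × ℤ) := ([10, 3, 0], 0, 1, [(10008, -1), (12000, 1), (12008, -1)])

def ov_69 : List ℕ × ℕ × ℕ × List (ℕ × ℤ) := ([10, 3, 2], 0, 1, [(10009, -1), (12002, 1), (12003, -1)])

def ov_70 : List ℕ × ℕ × ℕ × List (ℕ × ℤ) := ([10, 5, 0], 0, 1, [(10007, -1), (10008, -1), (10009, -1), (11010, 1), (12010, 1)])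

def ov_71 : List ℕ × ℕ × ℕ × List (ℕ × ℤ) := ([10, 5, 4], 0, 1, [(12010, 1)])

def ov_72 : List ℕ × ℕ × ℕ × List (ℕ × ℤ) := ([10, 7, 0], 0, 1, [(11010, 1)])

def ov_73 : List ℕ × ℕ × ℕ × List (ℕ × ℤ) := ([11, 2, 0], 0, 1, [(11007, -1)])

def ov_74 : List ℕ × ℕ × ℕ × List (ℕ × ℤ) := ([11, 2, 1], 0, 1, [(11005, -1)])

def ov_75 : List ℕ × ℕ × ℕ × List (ℕ × ℤ) := ([11, 3, 1], 0, 1, [(11006, -1), (12001, 1), (12006, -1)])

def ov_76 : List ℕ × ℕ × ℕ × List (ℕ × ℤ) := ([11, 5, 2], 0, 1, [(12011, 1)])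

def ov_77 : List ℕ × ℕ × ℕ × List (ℕ × ℤ) := ([11, 6, 2], 0, 1, [(11008, -1)])

def ov_78 : List ℕ × ℕ × ℕ × List (ℕ × ℤ) := ([12, 1, 0], 0, 1, [(12004, -1)])

def ov_79 : List ℕ × ℕ × ℕ × List (ℕ × ℤ) := ([12, 2, 0], 0, 1, [(12007, -1)])

def ov_80 : List ℕ × ℕ × ℕ × List (ℕ × ℤ) := ([12, 2, 1], 0, 1, [(12005, -1)])

def ov_81 : List ℕ × ℕ × ℕ × List (ℕ × ℤ) := ([12, 3, 0], 0, 1, [(12008, -1)])

def ov_82 : List ℕ × ℕ × ℕ × List (ℕ × ℤ) := ([12, 3, 1], 0, 1, [(12006, -1)])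

def ov_83 : List ℕ × ℕ × ℕ × List (ℕ × ℤ) := ([12, 3, 2], 0, 1, [(12009, -1)])

def ov_84 : List ℕ × ℕ × ℕ × List (ℕ × ℤ) := ([1, 1, 0], 0, 1, [(1000, -2), (4001, -1), (4004, -1), (5000, 1), (5004, -2), (7000, 1), (7004, -1), (8004, -1), (8007, 1), (9000, 1), (9004, -1), (9008, -1), (10004, -1), (11005, -1), (11008, -2), (11009, -1), (11010, -1), (11011, -1), (12000, 1), (12004, -1), (12007, -1), (12008, -1), (12009, -2), (12011, -4), (12012, -2)])

def ov_85 : List ℕ × ℕ × ℕ × List (ℕ × ℤ) := ([1, 0, 0], 0, 1, [(1000, 2), (4000, 1), (4004, 1), (7001, 1), (7004, 2), (8001, 1), (8004, 2), (9001, 1), (9004, 2), (10001, 1), (10004, 2), (10008, 1), (10009, 1), (10010, 1), (11001, 1), (11007, 1), (11008, 1), (11009, 2), (11010, 2), (11011, 4), (12001, 1), (12004, 2), (12009, 3), (12010, 2), (12011, 4), (12012, 3)])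

def ov_86 : List ℕ × ℕ × ℕ × List (ℕ × ℤ) := ([2, 2, 0], 0, 1, [(2000, -2), (7000, 1), (7002, -1), (7007, -1), (9000, 1), (9007, -2), (10007, -1), (11007, -1), (11009, 1), (11010, 1), (12000, 1), (12007, -1), (12009, -1), (12010, -2), (12011, -2), (12012, -2)])

def ov_87 : List ℕ × ℕ × ℕ × List (ℕ × ℤ) := ([2, 2, 1], 0, 1, [(2001, -2), (5002, -1), (5005, -1), (7001, 1), (7005, -2), (9001, 1), (9005, -2), (10009, 1), (10010, 1), (11007, -1), (11009, -1), (11011, -2), (12001, 1), (12005, -1), (12007, -1), (12009, -1), (12011, -2), (12012, -1)])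

def ov_88 : List ℕ × ℕ × ℕ × List (ℕ × ℤ) := ([2, 1, 1], 0, 1, [(2001, 2), (5001, 1), (5002, 1), (5005, 1), (7002, 1), (7005, 2), (9002, 1), (9005, 2), (10009, 1), (10010, 1), (11005, 1), (11007, 1), (11009, 2), (11010, 1), (11011, 4), (12002, 1), (12005, 1), (12007, 2), (12009, 1), (12010, 1), (12011, 4), (12012, 2)])

def ov_89 : List ℕ × ℕ × ℕ × List (ℕ × ℤ) := ([3, 3, 0], 0, 1, [(3000, -2), (8003, -1), (8008, -1), (12000, 1), (12008, -1), (12012, -1)])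

def ov_90 : List ℕ × ℕ × ℕ × List (ℕ × ℤ) := ([3, 0, 0], 0, 1, [(3000, 2), (7003, 1), (8000, 1), (8003, 1), (8008, 1), (9003, 1), (9008, 2), (10003, 1), (10008, 1), (10009, 1), (10010, 1), (11003, 1), (11008, 1), (11009, 1), (11010, 1), (11011, 1), (12003, 1), (12008, 1), (12009, 1), (12010, 2), (12011, 1), (12012, 4)])

def ov_91 : List ℕ × ℕ × ℕ × List (ℕ × ℤ) := ([3, 3, 1], 0, 1, [(3001, -2), (6003, -1), (6006, -1), (12001, 1), (12006, -1), (12012, -1)])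

def ov_92 : List ℕ × ℕ × ℕ × List (ℕ × ℤ) := ([3, 1, 1], 0, 1, [(3001, 2), (5003, 1), (6001, 1), (6006, 1), (7003, 1), (7006, 2), (8006, 2), (8007, 1), (8008, 1), (9003, 1), (9006, 2), (9008, 1), (10007, 1), (10010, 1), (11006, 1), (11007, 1), (11008, 2), (11009, 2), (11010, 1), (11011, 2), (12003, 1), (12006, 2), (12007, 2), (12008, 1), (12009, 3), (12010, 1), (12011, 3), (12012, 6)])

def ov_93 : List ℕ × ℕ × ℕ × List (ℕ × ℤ) := ([3, 3, 2], 0, 1, [(3002, -2), (9003, -1), (9009, -1), (12002, 1), (12009, -1), (12012, -1)])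

def ov_94 : List ℕ × ℕ × ℕ × List (ℕ × ℤ) := ([3, 2, 2], 0, 1, [(3002, 2), (7003, 1), (9002, 1), (9003, 1), (9009, 1), (10009, 3), (10010, 1), (11009, 3), (11010, 1), (11011, 1), (12003, 1), (12009, 2), (12010, 1), (12011, 1), (12012, 2)])

def ov_95 : List ℕ × ℕ × ℕ × List (ℕ × ℤ) := ([4, 4, 0], 0, 1, [(4000, -2), (11000, 1)])

def ov_96 : List ℕ × ℕ × ℕ × List (ℕ × ℤ) := ([4, 4, 1], 0, 1, [(4001, -2), (7004, -1), (7007, -1), (8004, -1), (8007, -1), (8008, -1), (9004, -1), (9007, -1), (9008, -1), (9009, -1), (10004, -1), (10007, -1), (10008, -1), (10009, -1), (10010, -1), (11001, 1), (11004, -1), (11007, -1), (11008, -1), (11010, -1), (11011, -2), (12004, -1), (12007, -1), (12008, -1), (12009, -2), (12010, -3), (12011, -2), (12012, -5)])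

def ov_97 : List ℕ × ℕ × ℕ × List (ℕ × ℤ) := ([4, 4, 2], 0, 1, [(4002, -2), (7004, -1), (7007, -1), (8004, -1), (8007, -1), (8008, -1), (9004, -1), (9007, -1), (9008, -1), (9009, -1), (10004, -1), (10007, -1), (10008, -1), (10009, -1), (10010, -1), (11002, 1), (11007, -2), (11008, -2), (11009, -1), (11010, -2), (11011, -1), (12008, -2), (12009, -3), (12010, -2), (12011, -3), (12012, -4)])

def ov_98 : List ℕ × ℕ × ℕ × List (ℕ × ℤ) := ([4, 4, 3], 0, 1, [(4003, -2), (8004, -1), (8008, -1), (9004, -1), (9008, -1), (9009, -1), (10004, -1), (10008, -1), (10009, -1), (10010, -1), (11003, 1), (11008, -2), (11009, -1), (11010, -2), (11011, -1), (12004, -1), (12008, -1), (12009, -3), (12010, -1), (12011, -2), (12012, -3)])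

def ov_99 : List ℕ × ℕ × ℕ × List (ℕ × ℤ) := ([5, 5, 1], 0, 1, [(5001, -2), (11001, 1), (11005, -1), (11011, -1), (12001, 1), (12011, -2)])

def ov_100 : List ℕ × ℕ × ℕ × List (ℕ × ℤ) := ([5, 1, 1], 0, 1, [(5001, 2), (7005, 1), (9005, 1), (11001, 1), (11009, -1), (11011, 2), (12005, 1), (12011, 2)])

def ov_101 : List ℕ × ℕ × ℕ × List (ℕ × ℤ) := ([5, 5, 2], 0, 1, [(5002, -2), (11002, 1), (12002, 1), (12005, -1), (12012, -1)])

def ov_102 : List ℕ × ℕ × ℕ × List (ℕ × ℤ) := ([5, 5, 3], 0, 1, [(5003, -2), (8005, -1), (8008, -1), (10005, -1), (10008, -1), (10010, -1), (11003, 1), (11005, -1), (11008, -1), (11010, -1), (11011, -1), (12003, 1), (12005, -1), (12008, -1), (12010, -3), (12011, -2), (12012, -1)])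

def ov_103 : List ℕ × ℕ × ℕ × List (ℕ × ℤ) := ([6, 6, 1], 0, 1, [(6001, -2), (8006, -1), (8008, -1), (12001, 1), (12006, -1), (12008, -2), (12012, -2)])

def ov_104 : List ℕ × ℕ × ℕ × List (ℕ × ℤ) := ([7, 7, 1], 0, 1, [(7001, -2), (10007, -1), (10010, -1), (12001, 1), (12010, -2)])

def ov_105 : List ℕ × ℕ × ℕ × List (ℕ × ℤ) := ([10, 10, 1], 0, 1, [(10001, -2), (11010, -1), (11011, -1), (12010, -1), (12011, -1), (12012, -1)])

def ov_106 : List ℕ × ℕ × ℕ × List (ℕ × ℤ) := ([11, 11, 3], 0, 1, [(11003, -2), (12011, -1), (12012, -1)])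

def ov_107 : List ℕ × ℕ × ℕ × List (ℕ × ℤ) := ([0, 0, 0], 0, 1, [(7000, 1), (8000, 1), (9000, 1), (10000, 1), (10009, 1), (10010, 1), (11000, 1), (11008, 1), (11010, 1), (11011, 1), (12000, 1)])

def ov_108 : List ℕ × ℕ × ℕ × List (ℕ × ℤ) := ([1, 1, 1], 0, 1, [(5001, 1), (7001, 1), (9001, 1), (10009, 1), (10010, 1), (11007, 1), (11009, 1), (11010, 2), (11011, 1), (12001, 1)])

def ov_109 : List ℕ × ℕ × ℕ × List (ℕ × ℤ) := ([2, 2, 2], 0, 1, [(7002, 1), (9002, 1), (10009, 1), (10010, 1), (11009, 1), (11010, 1), (11011, 1), (12002, 1), (12009, 1), (12010, 1), (12011, 1), (12012, 1)])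

def ov_110 : List ℕ × ℕ × ℕ × List (ℕ × ℤ) := ([3, 3, 3], 0, 1, [(12003, 1)])

def fr_0 : ℕ × List ℕ × List ℕ × List (ℕ × ℤ) := (0, [1, 0], [0, 1, 4, 6, 8, 10, 12], [(1000, -1), (2000, -1), (4001, -1), (4002, -3), (5002, 1), (6000, -1), (6004, 2), (7001, -1), (7005, 2), (7006, 3), (7007, -2), (8000, -1), (8004, 1), (8005, -3), (8006, -2), (8007, -1), (8008, -2), (9002, 1), (9004, -1), (9005, 1), (9006, -1), (9007, -3), (9008, -1), (9009, -3), (10000, -1), (10001, 1), (10004, 1), (10005, -2), (10006, -2), (10007, -1), (10008, -2), (10009, -2), (10010, -4), (11000, -1), (11001, -1), (11004, 1), (11005, -2), (11007, -1), (11008, -2), (11009, 2), (11010, -4), (11011, 3), (12000, -1), (12002, 1), (12004, -1), (12005, 1), (12007, 2), (12008, -2), (12009, -10), (12010, -8), (12011, -6), (12012, -8), (1000004, -1), (1000006, -1), (1000008, -1), (1000010, -1), (1000012, -1)])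

def fr_1 : ℕ × List ℕ × List ℕ × List (ℕ × ℤ) := (0, [2, 0], [0, 2, 8, 9, 11, 12], [(2000, -2), (3000, -1), (4000, -2), (4002, -1), (4003, -1), (5000, -1), (5002, 2), (5004, 2), (7000, -2), (7002, 1), (7003, -2), (7004, -1), (7007, -2), (8000, -1), (8002, 1), (8003, 1), (8008, -2), (9000, -2), (9002, 1), (9003, -1), (9007, -2), (9008, -2), (9009, -1), (10002, 1), (10004, -2), (10005, -3), (10007, -2), (10008, -4), (10009, -7), (10010, -3), (11000, -1), (11003, -1), (11004, -1), (11007, -1), (11008, -8), (11009, -2), (11010, -3), (11011, -2), (12000, -1), (12002, -1), (12003, -2), (12007, 4), (12008, -1), (12009, -9), (12010, -7), (12011, -8), (12012, -3), (1000008, -1), (1000009, -1), (1000011, -1), (1000012, -1)])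

def fr_2 : ℕ × List ℕ × List ℕ × List (ℕ × ℤ) := (0, [2, 1], [1, 2, 5, 8, 9, 12], [(1000, -1), (2000, -1), (2001, -1), (4001, -1), (4002, -2), (4003, -1), (4004, -1), (5000, -1), (5001, 1), (5003, -2), (5004, -1), (6000, -1), (6002, 1), (6004, -1), (6005, 2), (7002, 1), (7003, -1), (7006, 1), (7007, -3), (8001, 1), (8002, 2), (8003, -1), (8004, -1), (8005, -4), (8006, -2), (8007, -3), (8008, -4), (9002, 1), (9003, -1), (9005, -2), (9006, -2), (9007, -3), (9008, -1), (9009, -2), (10000, -1), (10002, 1), (10004, -2), (10005, -2), (10006, -2), (10007, -4), (10008, -4), (10009, -3), (10010, -3), (11001, 1), (11004, -1), (11007, -2), (11008, -6), (11009, -2), (11010, -4), (11011, -2), (12000, -1), (12001, -1), (12002, 1), (12005, -4), (12006, -1), (12008, -4), (12009, -9), (12010, -9), (12011, -3), (12012, -13), (1000005, -1), (1000008, -1), (1000009, -1), (1000012, -1)])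

def fr_3 : ℕ × List ℕ × List ℕ × List (ℕ × ℤ) := (0, [3, 0], [0, 3, 12], [(3000, -1), (4003, -1), (6000, -1), (6002, -1), (6005, -1), (7003, -1), (8000, -1), (8002, -1), (8005, -1), (8006, -1), (8008, -2), (9000, -1), (9002, 1), (9005, -2), (9007, -1), (9008, -5), (9009, -1), (10002, -1), (10003, 1), (10004, 1), (10005, -1), (10007, 1), (10008, -2), (10009, -1), (10010, -2), (11002, 1), (11003, -1), (11006, 1), (11008, -3), (11010, -4), (11011, -3), (12002, -1), (12005, -1), (12006, 1), (12008, -4), (12009, -2), (12010, -8), (12011, -4), (12012, -7), (1000012, -1)])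

def fr_4 : ℕ × List ℕ × List ℕ × List (ℕ × ℤ) := (0, [3, 1], [1, 3, 6, 8, 10, 11], [(5003, -1), (6001, -1), (6002, 1), (6005, 1), (8001, -1), (8003, 1), (8005, 1), (9006, 1), (9008, 2), (10006, 1), (10008, 1), (10010, -1), (11001, 1), (11003, 1), (11009, -1), (11010, -2), (11011, -1), (12005, 1), (12008, 3), (12010, -2), (12011, 2), (12012, 2), (1000006, -1), (1000008, -1), (1000010, -1), (1000011, -1)])

def fr_5 : ℕ × List ℕ × List ℕ × List (ℕ × ℤ) := (0, [3, 2], [2, 3, 10], [(3000, 1), (3002, -1), (4003, 1), (5003, -1), (6002, -1), (6003, -1), (6004, -1), (7006, 1), (8002, -1), (8005, 1), (8006, 1), (8007, 1), (9000, 1), (9002, -1), (9003, 1), (9005, 1), (9006, -1), (9007, 2), (9008, -1), (10004, -1), (10005, 1), (10008, 1), (11000, 1), (11003, -1), (11004, -1), (11005, 1), (11006, 1), (11007, -1), (11010, -1), (11011, -2), (12003, 1), (12004, 1), (12006, -1), (12007, 1), (12008, 2), (12009, 5), (12010,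 -2), (12011, -7), (1000010, -1)])

def fr_6 : ℕ × List ℕ × List ℕ × List (ℕ × ℤ) := (0, [4, 4], [12], [(4004, -1), (5004, -1), (6004, -1), (7004, -1), (7005, -1), (7006, -1), (7007, -1), (8004, -1), (8007, -1), (9005, 1), (9006, 1), (9008, 1), (9009, 1), (10005, 1), (10006, 1), (10008, 1), (10009, 1), (10010, 1), (11005, -2), (11006, -2), (11007, -1), (11009, 1), (11011, -2), (12004, -1), (12006, -1), (12007, -3), (12008, -2), (12009, 2), (12010, 2), (12011, -3), (1000004, 2), (1000012, -1)])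

def fr_7 : ℕ × List ℕ × List ℕ × List (ℕ × ℤ) := (0, [4, 0], [0, 4, 9, 10, 11, 12], [(4000, -1), (4002, -1), (5000, -1), (5004, 2), (6000, -1), (6004, 1), (7000, -1), (7005, -3), (7006, -3), (7007, -1), (8000, -1), (8004, 1), (8005, -2), (8006, -2), (8007, 1), (8008, -2), (9002, 1), (9004, 2), (9005, -1), (9006, -2), (9007, 2), (9008, -3), (9009, -1), (10002, 1), (10004, 1), (10005, -1), (10008, -4), (10010, -1), (11002, -1), (11004, 1), (11006, -1), (11007, -2), (11008, -5), (11009, -1), (11010, -3), (11011, -4), (12000, -1), (12004, 1), (12005, 2), (12006, -1), (12008, 1), (12009, -4), (12010, -1), (12012, -1), (1000009, -1), (1000010, -1), (1000011, -1), (1000012, -1)])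

def fr_8 : ℕ × List ℕ × List ℕ × List (ℕ × ℤ) := (0, [4, 1], [1, 4, 11, 12], [(4001, -1), (4002, -1), (6004, 1), (6005, 1), (7001, -1), (7005, -2), (7006, -3), (7007, -1), (8002, -1), (8004, 1), (8006, -1), (8007, 1), (8008, -1), (9001, 1), (9005, -1), (9006, -1), (9007, -1), (9008, -4), (9009, -1), (10001, 1), (10004, 1), (10005, -1), (10006, -1), (10008, -3), (10009, -2), (10010, -1), (11004, 1), (11006, 1), (11008, -5), (11009, -4), (11010, -5), (11011, -2), (12002, 1), (12004, 1), (12005, -1), (12006, -1), (12007, -2), (12008, 2), (12009, -5), (12010, 4), (12011, 5), (12012, -4), (1000011, -1), (1000012, -1)])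

def fr_9 : ℕ × List ℕ × List ℕ × List (ℕ × ℤ) := (0, [4, 2], [2, 4, 7, 8, 11, 12], [(4002, -1), (4003, -1), (5000, 1), (5002, -1), (5004, -1), (6000, 1), (6002, -1), (6004, -1), (6005, 1), (7002, -1), (7003, 1), (7004, 1), (8000, 1), (8002, -1), (8004, -1), (8005, -3), (8007, 1), (9000, 1), (9004, 1), (9005, -1), (9006, -1), (9007, 2), (9008, -1), (10000, 1), (10005, -2), (10007, -1), (10008, -2), (10009, -2), (11005, -2), (11006, 2), (11007, 3), (11008, -2), (11009, 1), (11010, -2), (11011, -1), (12000, 1), (12002, -1), (12003, -1), (12010, 3), (12011, -2), (1000007, -1), (1000008, -1), (1000011, -1), (1000012, -1)])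

def fr_10 : ℕ × List ℕ × List ℕ × List (ℕ × ℤ) := (0, [5, 5], [], [(4004, 1), (5005, -1), (6004, 1), (6005, -1), (7004, 1), (7006, 1), (7007, 1), (8004, 1), (8006, 1), (8007, 1), (8008, 1), (9005, -1), (9006, -1), (9009, -1), (10005, -1), (10006, -1), (10009, -1), (10010, -1), (11004, 1), (11005, -1), (11006, -1), (11007, 1), (11008, 2), (11009, -2), (11010, -1), (11011, 1), (12004, 1), (12005, -1), (12006, -2), (12007, 1), (12008, 2), (12009, -1), (12010, -2), (12011, 1), (1000005, 2)])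

def fr_11 : ℕ × List ℕ × List ℕ × List (ℕ × ℤ) := (0, [5, 0], [0, 5, 7, 9, 11, 12], [(4002, 1), (5000, -1), (5002, -1), (5004, -1), (6000, -1), (6004, 1), (7004, -1), (7005, -1), (7006, -1), (8002, 1), (8005, 1), (8008, -1), (9000, -1), (9002, -1), (9005, 1), (9008, -1), (10000, -1), (10002, -1), (10006, 2), (10007, 1), (10009, -2), (10010, -1), (11000, -1), (11002, 1), (11005, -1), (11006, -1), (11007, -3), (11009, 2), (11010, -4), (11011, -2), (12000, -1), (12002, 1), (12005, -1), (12006, -3), (12007, -2), (12008, -1), (12011, 5), (12012, -3), (1000007, -1), (1000009, -1), (1000011, -1), (1000012, -1)])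

def fr_12 : ℕ × List ℕ × List ℕ × List (ℕ × ℤ) := (0, [5, 1], [1, 5, 12], [(4001, 1), (4002, 1), (5001, -1), (5002, -1), (5004, -1), (6004, -1), (6005, 2), (7001, 1), (7005, 1), (7006, 3), (7007, 1), (8001, 1), (8005, 2), (8006, 4), (8008, 1), (9001, -1), (9006, 1), (9007, 1), (9008, 3), (9009, 1), (10001, -1), (10004, -1), (10005, 1), (10006, 1), (10008, 1), (10009, 2), (10010, 1), (11005, 1), (11007, -1), (11008, 1), (11009, 3), (11010, 1), (11011, 1), (12002, -1), (12004, -1), (12005, 1), (12007, 3), (12008, 4), (12009, 4), (12010, 2), (12011, 3), (12012, 7), (1000012, -1)])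

def fr_13 : ℕ × List ℕ × List ℕ × List (ℕ × ℤ) := (0, [5, 3], [3, 5, 8, 9, 10, 11], [(4003, 1), (5003, -1), (6005, 1), (7003, 1), (8003, 1), (8005, 1), (8007, 1), (9003, -1), (9004, -1), (9005, 1), (9008, -1), (9009, 1), (10003, -1), (10007, 1), (10009, 1), (11004, -1), (11008, 1), (11010, -1), (11011, -1), (12007, 1), (12008, -2), (12009, 3), (12010, 1), (12011, 6), (12012, 1), (1000008, -1), (1000009, -1), (1000010, -1), (1000011, -1)])

def fr_14 : ℕ × List ℕ × List ℕ × List (ℕ × ℤ) := (0, [6, 1], [1, 6, 11], [(6005, 1), (8006, 1), (10005, 1), (10008, -1), (11006, 1), (11010, 1), (12006, 1), (12008, 1), (12011, -1), (12012, 1), (1000011, -1)])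

def fr_15 : ℕ × List ℕ × List ℕ × List (ℕ × ℤ) := (0, [6, 4], [4, 6, 12], [(6004, -1), (7006, 1), (9006, -1), (10004, -1), (10006, -1), (10007, -1), (10009, 1), (11004, -1), (11005, 1), (11006, 1), (11008, 2), (11009, 1), (11010, 1), (12009, 1), (12011, 2), (12012, -1), (1000012, -1)])

def fr_16 : ℕ × List ℕ × List ℕ × List (ℕ × ℤ) := (0, [7, 6], [6, 7, 11, 12], [(11006, 1), (11010, -1), (12006, 1), (12010, 1), (1000011, -1), (1000012, -1)])

def fr_17 : ℕ × List ℕ × List ℕ × List (ℕ × ℤ) := (0, [11, 0], [0, 11], [(11000, -1), (11004, 1), (11007, 1), (11010, -1), (12000, -1), (12004, 1), (12007, 1), (12010, -1), (12011, 1)])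

def fr_18 : ℕ × List ℕ × List ℕ × List (ℕ × ℤ) := (0, [11, 3], [3, 11, 12], [(11006, -1), (11008, -1), (1000012, -1)])

def fr_19 : ℕ × List ℕ × List ℕ × List (ℕ × ℤ) := (1, [2, 0], [0, 2, 11], [(3002, -1), (4003, -1), (6002, -1), (6003, 1), (6004, 1), (8002, -1), (8003, 2), (8004, 1), (8008, -1), (9000, -1), (9003, 2), (9004, 1), (9005, -1), (9006, -1), (9008, -4), (9009, -1), (10002, -1), (10005, -2), (10006, -1), (10008, -2), (10010, -1), (11003, -1), (11005, 1), (11008, -1), (11009, 1), (11010, -3), (12000, 1), (12002, -1), (12003, 1), (12005, 1), (12006, 1), (12008, -2), (12009, 1), (12010, -8), (12011, 3), (12012, -2), (1001011, -1)])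

def fr_20 : ℕ × List ℕ × List ℕ × List (ℕ × ℤ) := (1, [3, 0], [0, 3, 8, 9, 10, 11], [(4000, -2), (4002, -1), (4003, -1), (5000, -1), (5002, -1), (5004, 2), (6000, -1), (6002, -1), (6005, -1), (7000, -1), (7004, -1), (7005, -2), (7006, -2), (7007, -1), (8000, -1), (8002, -1), (8004, 1), (8005, -3), (8006, -1), (8007, 1), (8008, -3), (9000, 1), (9003, 1), (9004, 1), (9005, -2), (9006, -1), (9007, 1), (9008, -5), (9009, -2), (10000, -1), (10004, 1), (10005, -3), (10008, -4), (10009, -1), (10010, -2), (11002, -1), (11003, -1), (11004, 1), (11005, -2), (11006, -2), (11007, -3), (11008, -6), (11009, -2), (11010, -3), (11011, -5), (12000, -1), (12002, -1), (12003, 1), (12005, 1), (12006, -3), (12007, -1), (12008, -2), (12009, -1), (12010, -3), (12011, -3), (12012, -6), (1001008, -1), (1001009, -1), (1001010, -1), (1001011, -1)])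

def fr_21 : ℕ × List ℕ × List ℕ × List (ℕ × ℤ) := (1, [3, 2], [2, 3, 8, 9], [(3000, -1), (4003, -1), (6000, -1), (6003, -2), (6004, 1), (7003, -1), (7006, -1), (8000, -1), (8003, -2), (8004, 1), (8005, -1), (8007, 1), (8008, -2), (9004, 1), (9005, -1), (9008, -2), (9009, -1), (10005, -1), (10008, -3), (10010, -2), (11003, 1), (11005, 1), (11006, -1), (11008, -3), (11009, -1), (11010, -4), (11011, -1), (12000, -1), (12003, -2), (12005, -1), (12006, -1), (12007, -1), (12008, -3), (12009, 2), (12010, -5), (12011, -3), (12012, -4), (1001008, -1), (1001009, -1)])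

def fr_22 : ℕ × List ℕ × List ℕ × List (ℕ × ℤ) := (1, [4, 3], [3, 4, 10], [(2000, 1), (3002, -1), (4000, 1), (4003, 1), (5000, -1), (5002, -1), (5003, -1), (5004, -2), (6000, 1), (6003, 1), (6004, -1), (6005, 1), (7002, 1), (7003, -1), (7006, 1), (8000, 1), (8003, -1), (8005, 2), (8006, 2), (8007, 1), (9000, -1), (9005, -2), (9006, 1), (9007, -1), (9008, -2), (10000, 1), (10004, -1), (10008, -1), (10009, 2), (11000, -1), (11002, 1), (11003, -1), (11004, -1), (11008, -1), (11009, -3), (11010, 3), (11011, -1), (12003, 1), (12004, -1), (12005, -1), (12007, 1), (12008, 1), (12009, 2), (12010, 3), (12012, -1), (1001010, -1)])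

def fr_23 : ℕ × List ℕ × List ℕ × List (ℕ × ℤ) := (1, [5, 3], [3, 5, 11], [(3000, 1), (5003, -1), (6004, -1), (6005, -1), (7006, 1), (8000, 1), (8006, 1), (9003, -1), (9008, -1), (10000, 1), (10004, -1), (10005, -1), (10006, -1), (10007, -1), (10008, -2), (10009, -1), (11004, -1), (11005, 1), (11008, 1), (11010, 1), (12003, 1), (12008, -1), (12011, 3), (12012, -2), (1001011, -1)])

def fr_24 : ℕ × List ℕ × List ℕ × List (ℕ × ℤ) := (1, [5, 4], [4, 5], [(3000, 1), (3002, 1), (4003, -1), (6003, -1), (6005, -1), (8000, 1), (8003, -1), (8006, -1), (9003, 1), (9004, 1), (9006, 1), (9008, -1), (10000, 1), (10003, -1), (10005, -1), (10006, -1), (10008, -1), (10009, -1), (11002, 1), (11003, 1), (11004, 1), (11005, -1), (11009, -1), (11010, 1), (11011, 1), (12002, 1), (12003, 1), (12004, -1), (12006, 1), (12008, -1), (12009, -2), (12010, -3), (12011, 1), (12012, -2)])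

def fr_25 : ℕ × List ℕ × List ℕ × List (ℕ × ℤ) := (1, [6, 5], [5, 6, 10, 11], [(7003, 1), (7006, -1), (8003, 1), (8006, -1), (8007, -1), (9003, 1), (9006, -1), (9008, 1), (10003, 1), (10008, 1), (10009, 1), (11007, 1), (11008, 2), (11009, 1), (11010, 1), (12003, 1), (12008, 1), (12010, -1), (12011, -1), (12012, 1), (1001010, -1), (1001011, -1)])

def fr_26 : ℕ × List ℕ × List ℕ × List (ℕ × ℤ) := (1, [7, 5], [5, 7], [(8003, 1), (8006, -1), (9006, -1), (10009, 1), (11003, 1), (11006, -1), (11008, 2), (11009, 1), (12003, 1), (12006, -1), (12008, 1), (12009, -1), (12010, -2)])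

def fr_27 : ℕ × List ℕ × List ℕ × List (ℕ × ℤ) := (1, [8, 6], [6, 8], [(8007, 1), (9008, -1), (10008, -1), (10009, -1), (12010, -1)])

def fr_28 : ℕ × List ℕ × List ℕ × List (ℕ × ℤ) := (1, [8, 7], [7, 8, 11], [(11008, -1), (12008, -1), (12009, 2), (1001011, -1)])

def fr_29 : ℕ × List ℕ × List ℕ × List (ℕ × ℤ) := (1, [9, 7], [7, 9], [(10009, -1), (12009, -1)])

def fr_30 : ℕ × List ℕ × List ℕ × List (ℕ × ℤ) := (1, [9, 8], [8, 9], [(10008, 1), (12008, 1)])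

def fr_31 : ℕ × List ℕ × List ℕ × List (ℕ × ℤ) := (2, [2, 0], [0, 2, 9, 10], [(4001, -1), (4002, -1), (5001, -1), (5002, -1), (6001, -1), (6002, -1), (6004, 1), (6005, 1), (7001, -2), (7002, -1), (7005, -2), (7006, -4), (7007, -1), (8001, -2), (8002, -2), (8004, 1), (8005, -1), (8006, -3), (8008, -2), (9001, -1), (9002, -2), (9005, -2), (9006, -3), (9007, -1), (9008, -3), (9009, -1), (10001, -1), (10002, -1), (10004, 1), (10005, -1), (10006, -2), (10008, -3), (10009, -3), (10010, -4), (11001, -1), (11004, 1), (11008, -9), (11009, -7), (11010, -8), (11011, -9), (12001, -1), (12004, 1), (12005, -1), (12006, -3), (12007, -2), (12008, -2), (12009, -8), (12010, -2), (12011, -5), (12012, -12), (1002009, -1), (1002010, -1)])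

def fr_32 : ℕ × List ℕ × List ℕ × List (ℕ × ℤ) := (2, [3, 0], [0, 3, 10], [(5001, -1), (5002, -1), (6001, -1), (6002, -1), (6005, 1), (7001, -1), (7002, -1), (7005, -1), (8001, -1), (8002, -2), (8006, 1), (8007, -1), (8008, -1), (9001, -2), (9002, -2), (9005, -1), (9006, -1), (10001, -2), (10002, -1), (10007, -1), (10008, -3), (10009, -2), (10010, -3), (11001, -2), (11006, -1), (11008, -4), (11009, -2), (11010, -2), (11011, -7), (12001, -1), (12002, -1), (12006, -1), (12007, -1), (12008, -3), (12009, -1), (12010, -6), (12011, -8), (12012, -5), (1002010, -1)])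

def fr_33 : ℕ × List ℕ × List ℕ × List (ℕ × ℤ) := (2, [3, 2], [2, 3, 9], [(5001, 1), (5002, 1), (5004, -1), (6001, -1), (6002, -1), (6004, -1), (6005, -1), (7005, 2), (8002, -1), (8005, 1), (8006, 1), (8007, -1), (8008, -1), (9004, -1), (9006, -2), (9007, -1), (9008, -4), (10001, -1), (10002, -1), (10004, -1), (10005, -2), (10006, -1), (10007, -2), (10008, -1), (10009, -1), (11001, 1), (11004, -1), (11005, -1), (11006, -2), (11008, -1), (11009, -1), (11011, -1), (12002, -1), (12004, -1), (12005, 1), (12006, -3), (12007, 2), (12008, -2), (12009, -1), (12010, -4), (12011, -11), (12012, -7), (1002009, -1)])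

def fr_34 : ℕ × List ℕ × List ℕ × List (ℕ × ℤ) := (2, [4, 3], [3, 4], [(6001, 1), (6002, 1), (7006, -1), (8002, 1), (8008, 1), (10001, 1), (10002, 1), (10007, 1), (11002, 1), (11006, -1), (11007, 1), (11008, 1), (11009, -1), (11011, 1), (12001, 1), (12002, 1), (12005, 1), (12010, -1), (12011, 2), (12012, 2)])

def fr_35 : ℕ × List ℕ × List ℕ × List (ℕ × ℤ) := (2, [5, 3], [3, 5, 9, 10], [(4001, 1), (4002, 1), (5004, -1), (7002, 1), (7004, 1), (7005, -3), (7006, -1), (7007, 1), (8002, 1), (8005, 1), (8006, -1), (8007, 2), (8008, 1), (9002, 1), (9004, 1), (9005, -3), (9006, -1), (9007, 2), (9008, 3), (9009, 1), (10002, 1), (10005, 2), (10007, 3), (10008, 1), (10010, 2), (11001, -1), (11002, 1), (11004, 1), (11005, 1), (11007, 3), (11009, -2), (11010, 2), (11011, -1), (12001, 1), (12002, 1), (12004, 2), (12008, 1), (12010, 3), (12011, 4), (12012, 6), (1002009, -1), (1002010, -1)])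

def fr_36 : ℕ × List ℕ × List ℕ × List (ℕ × ℤ) := (2, [6, 4], [4, 6], [(9006, -1), (10006, 1), (10009, 1), (11008, 1), (11009, 1), (12008, -1), (12009, -1), (12011, -2)])

def fr_37 : ℕ × List ℕ × List ℕ × List (ℕ × ℤ) := (2, [7, 0], [0, 7], [(9001, -1), (9002, -1), (9006, -1), (9007, 1), (10002, -1), (10010, -1), (11002, -1), (11010, -1), (11011, -1), (12001, -1), (12002, -1), (12006, -1), (12007, 1), (12009, 2), (12010, -3), (12011, -2), (12012, -1)])

def fr_38 : ℕ × List ℕ × List ℕ × List (ℕ × ℤ) := (2, [7, 1], [1, 7, 10], [(1002010, -1)])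

def fr_39 : ℕ × List ℕ × List ℕ × List (ℕ × ℤ) := (2, [7, 3], [3, 7, 9], [(9001, 1), (9002, 1), (9006, -1), (9007, 1), (10002, 1), (10009, 1), (10010, 1), (11002, 1), (11006, -1), (11007, 1), (11011, 1), (12001, 1), (12002, 1), (12006, -1), (12007, 1), (12009, 1), (12010, 1), (12011, 1), (12012, 1), (1002009, -1)])

def fr_40 : ℕ × List ℕ × List ℕ × List (ℕ × ℤ) := (2, [8, 1], [1, 8], [(6003, 1), (8003, 1), (10009, -1), (12008, 1), (12009, -1), (12012, 1)])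

def fr_41 : ℕ × List ℕ × List ℕ × List (ℕ × ℤ) := (2, [8, 7], [7, 8], [(9006, -1), (9008, -1), (12006, -1), (12012, -1)])

def tg_0 : ℕ × ℤ × List (ℕ × ℤ) := (1000, 0, [(0, 1)])

def tg_1 : ℕ × ℤ × List (ℕ × ℤ) := (2001, 0, [(1, 1)])

def tg_2 : ℕ × ℤ × List (ℕ × ℤ) := (3001, 0, [(2, 1)])

def tg_3 : ℕ × ℤ × List (ℕ × ℤ) := (2000, 0, [(3, 1)])

def tg_4 : ℕ × ℤ × List (ℕ × ℤ) := (3000, 0, [(4, 1)])

def tg_5 : ℕ × ℤ × List (ℕ × ℤ) := (3002, 0, [(5, 1)])

def tg_6 : ℕ × ℤ × List (ℕ × ℤ) := (7001, 0, [(6, 1)])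

def tg_7 : ℕ × ℤ × List (ℕ × ℤ) := (5001, 0, [(7, 1)])

def tg_8 : ℕ × ℤ × List (ℕ × ℤ) := (5002, 0, [(8, 1)])

def tg_9 : ℕ × ℤ × List (ℕ × ℤ) := (11004, 0, [(50, -1)])

def tg_10 : ℕ × ℤ × List (ℕ × ℤ) := (12010, 0, [(80, 1)])

def tg_11 : ℕ × ℤ × List (ℕ × ℤ) := (11010, 0, [(81, 1)])

def tg_12 : ℕ × ℤ × List (ℕ × ℤ) := (11007, 0, [(82, -1)])

def tg_13 : ℕ × ℤ × List (ℕ × ℤ) := (11005, 0, [(83, -1)])

def tg_14 : ℕ × ℤ × List (ℕ × ℤ) := (12011, 0, [(85, 1)])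

def tg_15 : ℕ × ℤ × List (ℕ × ℤ) := (11008, 0, [(86, -1)])

def tg_16 : ℕ × ℤ × List (ℕ × ℤ) := (12004, 0, [(87, -1)])

def tg_17 : ℕ × ℤ × List (ℕ × ℤ) := (12007, 0, [(88, -1)])

def tg_18 : ℕ × ℤ × List (ℕ × ℤ) := (12005, 0, [(89, -1)])

def tg_19 : ℕ × ℤ × List (ℕ × ℤ) := (12008, 0, [(90, -1)])

def tg_20 : ℕ × ℤ × List (ℕ × ℤ) := (12006, 0, [(91, -1)])

def tg_21 : ℕ × ℤ × List (ℕ × ℤ) := (12009, 0, [(92, -1)])

def tg_22 : ℕ × ℤ × List (ℕ × ℤ) := (12003, 0, [(119, 1)])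

def tg_23 : ℕ × ℤ × List (ℕ × ℤ) := (10009, 0, [(149, -1)])

def tg_24 : ℕ × ℤ × List (ℕ × ℤ) := (10008, 0, [(150, 1)])

def tg_25 : ℕ × ℤ × List (ℕ × ℤ) := (11006, 0, [(74, -1)])

def tg_26 : ℕ × ℤ × List (ℕ × ℤ) := (11009, 0, [(75, 1)])

def tg_27 : ℕ × ℤ × List (ℕ × ℤ) := (12000, 0, [(77, 1)])

def tg_28 : ℕ × ℤ × List (ℕ × ℤ) := (12002, 0, [(78, 1)])

def tg_29 : ℕ × ℤ × List (ℕ × ℤ) := (12001, 0, [(84, 1)])

def tg_30 : ℕ × ℤ × List (ℕ × ℤ) := (8005, 0, [(41, -1)])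

def tg_31 : ℕ × ℤ × List (ℕ × ℤ) := (11002, 0, [(21, -1)])

def tg_32 : ℕ × ℤ × List (ℕ × ℤ) := (10007, 0, [(79, -1)])

def tg_33 : ℕ × ℤ × List (ℕ × ℤ) := (12012, 0, [(110, -1)])

def tg_34 : ℕ × ℤ × List (ℕ × ℤ) := (10010, 0, [(113, -1)])

def tg_35 : ℕ × ℤ × List (ℕ × ℤ) := (11001, 0, [(67, 1)])

def tg_36 : ℕ × ℤ × List (ℕ × ℤ) := (10005, 0, [(76, -1)])

def tg_37 : ℕ × ℤ × List (ℕ × ℤ) := (11011, 0, [(108, -1)])

def tg_38 : ℕ × ℤ × List (ℕ × ℤ) := (11000, 0, [(137, -1)])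

def tg_39 : ℕ × ℤ × List (ℕ × ℤ) := (9001, 0, [(117, 1)])

def tg_40 : ℕ × ℤ × List (ℕ × ℤ) := (10004, 0, [(73, -1)])

def tg_41 : ℕ × ℤ × List (ℕ × ℤ) := (10000, 0, [(45, 1)])

def tg_42 : ℕ × ℤ × List (ℕ × ℤ) := (7004, 0, [(44, -1)])

def tg_43 : ℕ × ℤ × List (ℕ × ℤ) := (5005, 0, [(96, -1), (109, -2)])

def tg_44 : ℕ × ℤ × List (ℕ × ℤ) := (8007, 0, [(23, -2), (31, 1), (33, 5), (34, -5), (48, 1), (49, 1), (54, -2), (62, 2), (72, -2), (109, -1), (115, 4), (118, -1), (134, 4), (136, -4), (138, 4), (147, 2), (152, -1), (154, -1), (157, 1), (158, 1), (161, -5)])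

def tg_45 : ℕ × ℤ × List (ℕ × ℤ) := (9008, 0, [(147, -1)])

def tg_46 : ℕ × ℤ × List (ℕ × ℤ) := (10003, 0, [(72, -1)])

def tg_47 : ℕ × ℤ × List (ℕ × ℤ) := (9007, 0, [(54, 1)])

def tg_48 : ℕ × ℤ × List (ℕ × ℤ) := (10006, 0, [(60, -1)])

def tg_49 : ℕ × ℤ × List (ℕ × ℤ) := (11003, 0, [(68, -1)])

def tg_50 : ℕ × ℤ × List (ℕ × ℤ) := (8006, 0, [(69, -1)])

def tg_51 : ℕ × ℤ × List (ℕ × ℤ) := (9006, 0, [(156, -1)])

def tg_52 : ℕ × ℤ × List (ℕ × ℤ) := (10002, 0, [(66, -1)])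

def tg_53 : ℕ × ℤ × List (ℕ × ℤ) := (8003, 0, [(146, 1)])

def tg_54 : ℕ × ℤ × List (ℕ × ℤ) := (9002, 0, [(157, -1)])

def tg_55 : ℕ × ℤ × List (ℕ × ℤ) := (8008, 0, [(98, -1)])

def tg_56 : ℕ × ℤ × List (ℕ × ℤ) := (6003, 0, [(160, 1)])

def tg_57 : ℕ × ℤ × List (ℕ × ℤ) := (7002, 0, [(118, 1)])

def tg_58 : ℕ × ℤ × List (ℕ × ℤ) := (9003, 0, [(32, -1)])

def tg_59 : ℕ × ℤ × List (ℕ × ℤ) := (6006, 0, [(100, -1)])

def tg_60 : ℕ × ℤ × List (ℕ × ℤ) := (9009, 0, [(102, -1)])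

def tg_61 : ℕ × ℤ × List (ℕ × ℤ) := (7003, 0, [(103, 1)])

def tg_62 : ℕ × ℤ × List (ℕ × ℤ) := (8000, 0, [(22, 1)])

def tg_63 : ℕ × ℤ × List (ℕ × ℤ) := (7007, 0, [(95, -1), (116, 1)])

def tg_64 : ℕ × ℤ × List (ℕ × ℤ) := (6005, 0, [(134, 1), (136, -1), (138, 1)])

def tg_65 : ℕ × ℤ × List (ℕ × ℤ) := (5003, 0, [(135, 1), (138, -1), (143, -1), (148, 1)])

def tg_66 : ℕ × ℤ × List (ℕ × ℤ) := (6001, 0, [(12, 1), (23, -1), (31, 1), (48, -1), (71, -1), (114, -1), (154, 1)])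

def tg_67 : ℕ × ℤ × List (ℕ × ℤ) := (6000, 0, [(10, 1), (23, 1), (35, -1), (48, -1), (70, 2), (114, -1), (135, -1), (138, 1), (144, 1)])

def tg_68 : ℕ × ℤ × List (ℕ × ℤ) := (4004, 0, [(9, 1), (15, -2), (23, 1), (31, 1), (35, 1), (48, 1), (70, -1), (71, 1), (93, -1), (109, -3), (114, 1), (116, 1), (155, -1), (158, 1), (159, 1)])

def tg_69 : ℕ × ℤ × List (ℕ × ℤ) := (4000, 0, [(23, -1), (35, 2), (94, 1)])

def tg_70 : ℕ × ℤ × List (ℕ × ℤ) := (4001, 1, [(10, 2), (15, -8), (16, -2), (23, 2), (31, 8), (35, -2), (48, -4), (70, 4), (71, 4), (93, -2), (114, -5), (116, 2), (142, -2), (145, 2), (148, -2)])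

def tg_71 : ℕ × ℤ × List (ℕ × ℤ) := (4002, 1, [(9, 1), (15, -1), (31, 1), (35, 1), (71, 1), (93, -1), (116, 1)])

def tg_72 : ℕ × ℤ × List (ℕ × ℤ) := (4003, 1, [(10, 2), (15, -4), (16, -1), (23, 2), (31, 4), (35, -2), (48, -3), (70, 3), (71, 2), (93, -1), (114, -3), (116, 1), (135, -1), (138, 1), (142, -1), (145, 1), (148, -1)])

def tg_73 : ℕ × ℤ × List (ℕ × ℤ) := (5000, 1, [(10, 2), (15, -6), (16, -2), (23, 2), (31, 6), (35, -3), (48, -4), (70, 4), (71, 4), (93, -1), (114, -4), (116, 1), (142, -2), (145, 2), (148, -2)])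

def tg_74 : ℕ × ℤ × List (ℕ × ℤ) := (5004, 1, [(10, 1), (15, -3), (16, -1), (23, 1), (31, 3), (35, -1), (48, -2), (70, 2), (71, 2), (93, -1), (114, -2), (116, 1), (142, -1), (145, 1), (148, -1)])

def tg_75 : ℕ × ℤ × List (ℕ × ℤ) := (6002, 1, [(10, 1), (12, -1), (15, -4), (16, -1), (23, 1), (31, 4), (35, -1), (48, -2), (70, 2), (71, 3), (93, -1), (114, -2), (116, 1), (142, -1), (145, 1), (148, -1)])

def tg_76 : ℕ × ℤ × List (ℕ × ℤ) := (6004, 1, [(10, 1), (15, -4), (16, -1), (23, 1), (31, 4), (35, -1), (48, -3), (70, 2), (71, 2), (93, -1), (114, -3), (116, 1), (135, -1), (138, 1), (142, -1), (145, 1), (148, -1)])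

def tg_77 : ℕ × ℤ × List (ℕ × ℤ) := (7000, 1, [(10, 1), (15, -4), (16, -2), (23, 1), (31, 4), (35, -2), (48, -2), (70, 3), (71, 2), (93, -1), (114, -3), (116, 2), (142, -1), (145, 1), (148, -1)])

def tg_78 : ℕ × ℤ × List (ℕ × ℤ) := (7005, 1, [(10, 1), (15, -4), (16, -1), (23, 1), (31, 4), (35, -1), (48, -2), (70, 2), (71, 3), (93, -1), (109, 1), (114, -2), (116, 1), (142, -1), (145, 1), (148, -1)])

def tg_79 : ℕ × ℤ × List (ℕ × ℤ) := (7006, 1, [(10, 1), (15, -4), (16, -1), (23, 1), (31, 4), (35, -1), (48, -3), (70, 2), (71, 2), (93, -1), (114, -3), (116, 1), (142, -1), (145, 1), (148, -1)])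

def tg_80 : ℕ × ℤ × List (ℕ × ℤ) := (8001, 1, [(10, 1), (15, -4), (16, -1), (23, 2), (31, 4), (35, -1), (48, -2), (70, 2), (71, 2), (93, -1), (114, -2), (116, 1), (142, -1), (145, 1), (148, -1)])

def tg_81 : ℕ × ℤ × List (ℕ × ℤ) := (8002, 1, [(10, 1), (15, -4), (16, -1), (23, 2), (31, 3), (35, -1), (48, -2), (70, 2), (71, 2), (93, -1), (114, -2), (116, 1), (142, -1), (145, 1), (148, -1)])

def tg_82 : ℕ × ℤ × List (ℕ × ℤ) := (8004, 1, [(10, 1), (15, -4), (16, -1), (23, 1), (31, 4), (35, -2), (48, -2), (70, 3), (71, 2), (93, -1), (114, -3), (116, 1), (142, -1), (145, 1), (148, -1)])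

def tg_83 : ℕ × ℤ × List (ℕ × ℤ) := (9000, 1, [(10, 1), (15, -4), (23, 1), (31, 4), (48, -2), (70, 1), (71, 2), (93, -1), (114, -2), (116, 1), (142, -1), (145, 1), (148, -1)])

def tg_84 : ℕ × ℤ × List (ℕ × ℤ) := (9004, 1, [(10, 1), (15, -4), (16, -1), (23, 1), (31, 4), (35, -1), (48, -2), (70, 1), (71, 2), (93, -1), (114, -2), (116, 1), (142, -1), (145, 1), (148, -1)])

def tg_85 : ℕ × ℤ × List (ℕ × ℤ) := (9005, 1, [(10, 1), (15, -4), (16, -1), (23, 1), (31, 4), (35, -1), (48, -2), (70, 2), (71, 1), (93, -1), (114, -3), (116, 1), (142, -1), (145, 1), (148, -1)])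

def tg_86 : ℕ × ℤ × List (ℕ × ℤ) := (10001, 1, [(10, 1), (15, -4), (16, -1), (23, 1), (31, 4), (35, -1), (48, -2), (70, 2), (71, 2), (93, -1), (114, -3), (116, 1), (142, -1), (145, 1), (148, -1)])

def C : Cert where
  p := 2
  n := 13
  r := 4
  fuel := 160
  rules := [rule_0, rule_1, rule_2, rule_3, rule_4, rule_5, rule_6, rule_7, rule_8, rule_9, rule_10, rule_11, rule_12]
  defs := [(1, 0), (2, 1), (3, 1), (2, 0), (3, 0), (3, 2), (7, 1), (5, 1), (5, 2)]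
  items := [item_0, item_1, item_2]
  ovs := [ov_0, ov_1, ov_2, ov_3, ov_4, ov_5, ov_6, ov_7, ov_8, ov_9, ov_10, ov_11, ov_12, ov_13, ov_14, ov_15, ov_16, ov_17, ov_18, ov_19, ov_20, ov_21, ov_22, ov_23, ov_24, ov_25, ov_26, ov_27, ov_28, ov_29, ov_30, ov_31, ov_32, ov_33, ov_34, ov_35, ov_36, ov_37, ov_38, ov_39, ov_40, ov_41, ov_42, ov_43, ov_44, ov_45, ov_46, ov_47, ov_48, ov_49, ov_50, ov_51, ov_52, ov_53, ov_54, ov_55, ov_56, ov_57, ov_58, ov_59, ov_60, ov_61, ov_62, ov_63, ov_64, ov_65, ov_66, ov_67, ov_68, ov_69, ov_70, ov_71, ov_72, ov_73, ov_74, ov_75, ov_76, ov_77, ov_78, ov_79, ov_80, ov_81, ov_82, ov_83, ov_84, ov_85, ov_86, ov_87, ov_88, ov_89, ov_90, ov_91, ov_92, ov_93, ov_94, ov_95, ov_96, ov_97, ov_98, ov_99, ov_100, ov_101, ov_102, ov_103, ov_104, ov_105, ov_106, ov_107, ov_108, ov_109, ov_110]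
  frs := [fr_0, fr_1, fr_2, fr_3, fr_4, fr_5, fr_6, fr_7, fr_8, fr_9, fr_10, fr_11, fr_12, fr_13, fr_14, fr_15, fr_16, fr_17, fr_18, fr_19, fr_20, fr_21, fr_22, fr_23, fr_24, fr_25, fr_26, fr_27, fr_28, fr_29, fr_30, fr_31, fr_32, fr_33, fr_34, fr_35, fr_36, fr_37, fr_38, fr_39, fr_40, fr_41]
  k0 := 4001
  zm := 2
  zcomb := [(3, 2), (4, 2), (5, 2), (6, 2), (7, 2), (8, 2), (9, -409537153652294), (10, -125588132924834), (11, 14206283626744223438319442851776359178414215259586146964713517845418488163909767464638899506127452314986418236340503520066270257520405391821346017579933613263831812484004), (12, 317700067468884), (13, -43632812109272731122222737830022919540852918575003411385660576325767396860393971463183177812882764718574220664021961781671199216459515343126010232704663659085588814825904), (14, 43632812109272731122222737830022919540852918575003411385660576325767396860393971463183177812882764718574220664021961781671199216459515343126010232704663658467186489881656),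 (15, -20121615620038413255825049095274258400704780677541130481921616577280130104141693044647891766955918175396733997208910976277433031696925079888206946839455544773667301456303), (16, -14206283626744223438319442851776359178414215259586146964713517845418488163909767464638899506127452314986418236340503520066270257520405391821346017579933613556463168074322), (17, -18885130829704011961040790144247692348468293267741548782635664047638804466936678711883069634377160042367821428487747810960121482010083696276941050927135786001957148281540), (18, 16460836219291688764602416010830845929315263646103877118201051327149876688008706226807790009563141612256015502464740341820837577739559304821863075484371151347300595015435), (19, -20121615620038413255825049095274258400704780677541130481921616577280130104141693044647891766955918175396733997208910976277433031696925079888206946839455545559724281204301), (20, 20121615620038413255825049095274258400704780677541130481921616577280130104141693044647891766955918175396733997208910976277433031696925079888206946839455543411152232450279),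 (21, 4356656891153816306926669060327292821679805067983046312668239345188006686981349662973377969080012938262512661879463250321386076302902707761618643973560181840584292113421), (22, 16630578237156546634757816985193205597567244881223818629148130565907415942837739949714179130941470745098224162363510989205554161790929783276423993022698248344901042633803), (23, -736041842043896), (24, 14206283626744223438319442851776359178414215259586146964713517845418488163909767464638899506127452314986418236340503520066270257520405391821346017579933610905538587762440), (25, 80289950875669057557735075012433914967544803015168623537013080117514098264831523033183995678645332803115042050921917384879169172860060921603330617994768952321561115210218), (26, 92204744711593134262487582684471721289617794917349953004761092131166890248697926517731946785980559227075398183056842181528268669528101307240826701895704413199341567045330), (27, -79606843290610101436641992612666434403409961914158408049559128330152510215107823246446484428997231998307982903610822340843631761411201902514541022108104686146444626789511),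 (28, -45022777326912584471411045866995346479487374398316580150087758792620242240402545753175861200305062836004995749598355952172776786708492475999055836576795567598230041277326), (29, -18885130829704011961040790144247692348468293267741548782635664047638804466936678711883069634377160042367821428487747810960121482010083696276941050927135785625681894575776), (30, 16460836219291688764602416010830845929315263646103877118201051327149876688008706226807790009563141612256015502464740341820837577739559304821863075484371151070688757826141), (31, -493303337522364), (32, -14206283626744223438319442851776359178414215259586146964713517845418488163909767464638899506127452314986418236340503520066270257520405391821346017579933613631424731322828), (33, -36161879453646833309607727508524312404730204279088495555759774050873500803553693230412702119610194998516639900081011942538609614616661405458821764061937685074669108900360), (34,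 36161879453646833309607727508524312404730204279088495555759774050873500803553693230412702119610194998516639900081011942538609614616661405458821764061937684530983774234328), (35, 18810443902637787545955918067941801251796453151221344231405828160322109854649526413337933545133651745479749541261443525850422135046022502509690687960857190533294547879278), (36, 63707624873295298807730340993916134013365444254504645969373257961899715911187533565086488194893011897869013111789220006510806099018788138622434663792316422510319046214905), (37, -80834999643105671326127534205580971876283675032811183640037696190501023023230243486525848501639030260241687808929875567869895537697243460269814650994561129869064880223582), (38, -815912404651132583964521353445774126946647365243069654923058676084819648608308291721842475669893343892802969128523789757650554867018404360017637650430746237430450624798), (39, -18218592279185328207246012943413700414865326135538888230172277146187374042902675017251499337194283292251162233811832591421869621071187679451424139209262229914694339924641),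 (40, -95674667281074773075526557075832364128200795496956245546741432830673976103705467694097253556129780774557712452019239648713944680831936992618498740101736376663073453383791), (41, 59868851877840101678940327904627580756530636983600945108194407699810144939558974513261392527667555057353391746142078831952655034364434127513160476520610566498410294374960), (42, -3359703902340980083456212571019782087569779307975917169259803704963572106383837152137715464088307656838023530359392113770333164372749789606478397592167734830700890527793), (43, -159413634970205199432927548957989481107671762775954705672463642062839129352554523787292693672038022668525961259499063239736017581660327112659430340249131048417894038296565), (44, 27097288962914817942535449742886182514865814812379329716229689111300825560098112937830251714076114809430133274330917154740662291755894844536896794254013912746542580663633), (45, -79969901691586977397356678764247482493891348778718914295724156794446321940376081222246973225062595396809026266024487613873947684281928655221705569517690376531516870929537),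 (46, 32719517041021446081670639167079545286912613680732675437123580378294510137731796315933354123939245404164149276654930816962069939813824484614492626627055270347387947051570), (47, 50448318118259836258382854887944453559872504344701912915059854962656568601349995799341441886172462157267087065670562989994001488255509419229730799820911829815733009787359), (48, -392661629686557), (49, 7599938346025937602799097652359811854558093526875792523873066585403135251159853704044630928868273774767659652947396332186670405647728234281629002969513269424288172807257), (50, 55198228801368493410099981668485726038609344663077656375963403379330523177050010497950522448056981072160927960571209417499139712679237127693212388463285303875826805783923), (51, 164408133810306459048364621039288159808683459682914074020300476176061603604232553926396066935472639946743860567206169694139289855378077920470513437308931568185740528539928), (52, 2281547272081765932646712941412327571419678043451708819938364344561158254223602673661571637720482762118071940447357828067739305592741746707777425054187024533916932250282),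 (53, -136539725932738547701714508166315492012632945719838010207327986474872438205997382006152247176198388937960014189071590309638774492721628599826097955084130192482555452800525), (54, -74990571917898829959138035200063856505324836688133062941054629102618733546809591938838999183517114653750031885133485153866301645176181749085050049117389083282145449003970), (55, -136054447569225043695673489894569658006677543516114552349910487669249292795141312763796934826859063344125079592209822567105949979574958720417483276804558168704748492344000), (56, 111008018581391426874152053903570866427605557742771871541966231841853921952535410818316282291379425480366392807770391455956074857269282298499412643161915907703133677912062), (57, 10840145361089393383201993139222432400657770513756533843230737981976882678696134480841753029352185548772268548098927591083604864785271030096724616062708649945174808307148), (58, -49272498613435709867059918815716777291392546873710642028115102562010352892531708377700094745224163203936292282442685795748593627480229061135086229311222056501828788637609),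 (59, 94558502888680931489724954433562039569250109909683626721959529353254987949805748111032166981611940594674858651340687826565125551614396191380289221340913364142581480409605), (60, 2085639575416729764763107004121867567476871316172454247306383765098578825757361669450704524476925715208783699945781665920245076170104313718174223636318337751941107001441), (61, -63693218926763266106673100158262895389602807642791251619003727723122958585206830269630560739866919147866491748066651464601966707190377629033691282990823100321650969610726), (62, 59189719104248063117132856162258326093159572142834821659485707396013485359351291946764007603262934111922028279980046144754769955112133495978582087836797360437788050055577), (63, 31722289548654264722890402936239007902197354753581617285514505823459237955648371013644644220795366099302112100856609517645985789472307036932127849361488028724826379965992), (64, -126034354126386307536907496611111041624093336528131537605268443195688660795461051469788979037311555412683838520955431220276666744900083199951322224125636196644721513822022),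 (65, 12597901420983032825845590071805286886207833003191544955201963801014380033590103271285462356983327228767415279446019840684636908116899404726285679787599724854554327229832), (66, 9208320551787128215272950432330884146764475783270394533384620629807243381479517897398068078012398860986662609841880011568303755051234221376689340761847155325349307751082), (67, 38230110013646994593024603304621629790823188134992972102981637851352758943074465665911140653276244147316126631900168285900573550738027256560416239023890446726620692454224), (68, 9030639891130609031958719332833393743009151354348026105275063980504280691677886245669548202073196970330564509416114657018883756143201548994794990053184979003767620687185), (69, -17565987529085203521775655422796141265983994567562064133973321550382060270293604616776614970215759971824441766699895633836603421893155181427824415172101346061154442572333), (93, 417974915265660), (94, 509934288215634),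 (95, -122286485426), (96, -1429650302760550), (97, -1379512878721366), (98, 267929502309954), (99, 58819758048738), (100, -16875523230826), (101, -16875523230826), (102, -8437761614502), (104, 355241992188914), (105, -397063941099704), (106, -463832315686818), (107, 100397134569936), (108, -639680158563073), (110, -25007568776194), (111, 83521611334446), (112, 33384187295262), (120, 83643897821580), (121, -91837086465002), (122, 100274848078368), (123, -309506878825692), (124, -83643897821580), (125, 16875523230826), (126, 41821948910790), (127, -16875523234920), (128, 192356507517408), (129, -8437761617460), (130, 50137424039184), (131, 8437761617460), (132, 122286483380), (133, 4094), (135, -285912), (139, -910), (140, 910), (141, -910), (142, -910), (151, -230), (152, 230), (153, 230)]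
  targets := [tg_0, tg_1, tg_2, tg_3, tg_4, tg_5, tg_6, tg_7, tg_8, tg_9, tg_10, tg_11, tg_12, tg_13, tg_14, tg_15, tg_16, tg_17, tg_18, tg_19, tg_20, tg_21, tg_22, tg_23, tg_24, tg_25, tg_26, tg_27, tg_28, tg_29, tg_30, tg_31, tg_32, tg_33, tg_34, tg_35, tg_36, tg_37, tg_38, tg_39, tg_40, tg_41, tg_42, tg_43, tg_44, tg_45, tg_46, tg_47, tg_48, tg_49, tg_50, tg_51, tg_52, tg_53, tg_54, tg_55, tg_56, tg_57, tg_58, tg_59, tg_60, tg_61, tg_62, tg_63, tg_64, tg_65, tg_66, tg_67, tg_68, tg_69, tg_70, tg_71, tg_72, tg_73, tg_74, tg_75, tg_76, tg_77, tg_78, tg_79, tg_80, tg_81, tg_82, tg_83, tg_84, tg_85, tg_86]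

def wE : List (List ℕ) := [[1, 3, 4, 3, 2, 1, 3, 2, 1, 0, 1, 2, 3, 4, 3, 2, 1, 3, 2, 1, 0, 1, 0, 2, 5, 1, 0, 2, 1, 3, 2, 1, 4, 3, 2, 3, 4, 6, 1, 2, 3, 2, 1, 6, 5, 1, 2, 3, 2, 1], [1, 2, 3, 2, 1, 3, 2, 4, 3, 2, 1, 0, 1, 2, 3, 2, 1, 4, 3, 2, 1, 0, 1, 2, 3, 2, 5, 1, 2, 3, 2, 1, 0, 4, 3, 2, 1, 0, 5, 6, 1, 2, 3, 2, 1, 4, 3, 2, 1, 5, 1, 6, 1, 2], [1, 0, 1, 3, 2, 1, 0, 3, 4, 3, 2, 1, 0, 1, 2, 3, 4, 5, 1, 2, 3, 2, 1, 0, 4, 3, 2, 1, 0, 5, 6, 1, 0, 2, 1, 3, 2, 4, 3, 5, 1, 2, 6], [2, 3, 2, 1, 0, 1, 2, 3, 2, 1, 0, 1, 4, 3, 2, 1, 3, 2, 3, 4, 3, 2, 1, 0, 3, 5, 1, 2, 3, 2, 1, 0, 4, 3, 5, 6, 1, 2, 3, 2, 1, 4, 3, 2, 1, 6, 1], [0, 2, 1, 0, 1, 3, 4, 3, 2, 3, 2, 1, 0, 4, 3, 2, 1, 3, 2, 3, 4, 3, 2, 1, 0, 5, 1, 0, 2, 3, 2, 1, 4, 3, 2, 3, 4, 6, 1, 0, 2, 1, 3, 2, 1, 4, 6], [0, 2, 3, 2, 1, 0, 1, 2, 3, 2, 1, 3, 4, 3, 2, 3, 2, 1, 0, 4, 3, 2, 1, 0, 5, 1, 0, 2, 3, 2, 1, 4, 3, 2, 1, 6, 1, 0, 2, 1, 3, 2, 1, 4, 6], [0, 1, 0, 1, 3, 2, 1,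 3, 2, 1, 0, 1, 0, 3, 4, 3, 2, 1, 0, 3, 2, 1, 4, 3, 2, 3, 5, 1, 0, 2, 1, 3, 2, 1, 0, 4, 6, 1, 0, 2, 3, 2, 1, 4, 3, 2, 1, 5, 1, 6], [0, 1, 0, 1, 0, 2, 1, 3, 2, 1, 4, 3, 2, 1, 0, 3, 2, 1, 0, 1, 4, 3, 5, 1, 0, 2, 3, 2, 1, 4, 3, 2, 3, 2, 4, 3, 6, 1, 2, 3, 2, 1, 4, 3, 2, 1, 3, 2, 5, 6], [3, 2, 4, 3, 2, 1, 3, 2, 3, 4, 3, 2, 1, 0, 1, 3, 2, 3, 4, 3, 2, 1, 0, 1, 5, 1, 0, 2, 3, 2, 1, 4, 3, 2, 1, 5, 1, 6, 1, 0, 2, 3, 2, 1, 4, 3, 2, 3, 5, 6], [0, 1, 0, 1, 3, 4, 3, 2, 1, 3, 2, 1, 3, 2, 4, 3, 2, 1, 0, 3, 2, 1, 0, 4, 3, 5, 1, 0, 2, 3, 2, 1, 4, 3, 2, 5, 1, 6, 1, 0, 2, 1, 3, 2, 1, 4, 6], [2, 3, 2, 1, 0, 1, 3, 2, 3, 4, 3, 2, 1, 3, 2, 3, 2, 1, 0, 1, 4, 5, 1, 2, 3, 2, 1, 0, 4, 3, 2, 1, 0, 3, 4, 6, 1, 0, 2, 1, 5], [1, 2, 1, 4, 3, 2, 1, 0, 1, 2, 3, 4, 5, 1, 0, 2, 1, 3, 2, 3, 2, 4, 3, 2, 6, 1, 0, 1, 2, 3, 2, 1, 4, 5], [0, 1, 0, 1, 0, 3, 4, 3, 2, 1, 3, 2, 3, 4, 3, 2, 1, 0, 3, 2, 1, 0, 1, 3, 2, 3, 5, 1, 2, 3, 2, 1, 4, 3, 5, 6, 1, 0,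 2, 1, 3, 2, 1, 4, 5]]

def wY : List (List ℕ) := [[1, 0, 2, 1, 4, 3, 2, 1, 3, 2, 1, 0, 3, 4, 3, 2, 1, 3, 2, 3, 2, 1, 4, 5, 1, 2, 3, 2, 1, 0, 4, 3, 2, 1, 5, 1, 6, 1, 2, 3, 2, 4, 3, 2, 1, 0, 5, 1, 0, 1, 2, 1], [2, 1, 0, 1, 3, 4, 3, 2, 3, 2, 1, 0, 1, 2, 3, 4, 3, 2, 1, 0, 3, 2, 5, 1, 0, 2, 1, 3, 2, 1, 0, 4, 3, 2, 5, 6, 1, 0, 2, 1, 3, 2, 4, 3, 2, 6, 1, 5, 1, 0, 1], [4, 3, 2, 1, 3, 2, 1, 3, 2, 4, 3, 2, 1, 0, 3, 2, 1, 0, 1, 4, 5, 1, 0, 2, 3, 2, 1, 0, 4, 3, 2, 1, 0, 5, 6, 1, 0, 2, 1, 3, 2, 4, 3, 2, 5, 1, 0, 6, 1, 0]]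

def lv : List (ℕ × List (List ℕ)) := [(47, [[1, 9, 12], [0, 2, 5, 7], [0, 7, 11, 12], [2, 3, 6, 11], [0, 1, 2, 5, 9, 10], [5, 6, 7, 9], [3], [5, 6, 8, 12], [0, 9, 10, 11, 12], [1, 2, 3, 5, 8], [0, 7, 8, 9, 11], [0, 2, 3, 12], [2, 4, 7, 9], [1, 2, 3, 5, 6, 8], [0, 1, 11], [7, 8, 12], [2, 7, 10, 11], [5, 9], [1, 7, 8, 11, 12], [1, 6, 8, 12], [0, 2, 7], [1, 2, 11], [2, 3, 7], [0, 1, 7, 12], [2, 6, 11], [0, 6, 8, 11], [0, 8, 9], [], [1, 2, 4, 7, 9], [0, 1, 5, 7], [0, 1, 7, 8, 11], [2, 3, 5, 6, 12], [0, 1, 4, 6], [8, 10, 11], [2, 7, 8, 9, 11], [4, 5, 8, 11], [0, 1, 2, 3, 6, 11], [0, 1, 3, 4, 10], [1, 2, 9, 10], [0], [1, 4, 5], [1, 4, 8, 9], [1, 2, 3, 5, 9, 10], [5, 6, 7, 11], [1, 2, 3, 6, 8], [2, 5, 7], [5, 6, 8], [1, 2, 7, 11], [1, 2, 5, 11, 12], [2, 3, 9, 11], [0, 5, 7, 11], [3, 5, 8, 11], [1, 3, 5, 6, 10], [1, 2, 5, 8, 11], [0, 4, 7, 10], [2, 3, 10], [2, 8, 9, 12], [1, 3, 10, 11], [0, 1, 4, 8, 9, 11], [4, 10],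 [1, 5, 7, 9, 10], [0, 1, 6, 7, 8, 12], [3, 4, 5, 9, 11], [5, 6, 7, 8], [1, 4, 5, 10], [0, 2, 8, 10, 11], [2, 4, 8], [1, 3, 6, 7, 12], [0, 6, 8, 12], [0, 2, 10, 12], [2, 7], [0, 1, 3, 7, 11, 12], [1, 5, 7, 8, 9, 10, 11], [1, 4, 9, 11], [3, 5, 7, 12], [1, 6, 8, 11], [0, 1, 2], [1, 6, 11], [0, 1, 4, 9], [1, 2, 8, 9, 11], [0, 1, 6, 8, 12], [2, 5, 6, 9], [7, 9, 10], [1, 4, 5, 6, 10], [1, 6, 7, 8, 12], [0, 1, 9], [1, 2, 3, 8, 10], [5, 6, 7], [1, 2, 5, 7, 11], [1, 4, 5, 6], [1, 10, 11, 12], [1, 3, 5, 12], [0, 1, 3, 4, 10, 11], [2, 6, 9], [6, 10], [0, 1, 3, 5, 6, 8], [0, 3, 5, 11], [3, 7, 12], [1, 3, 8, 10], [1, 3, 7], [0, 5, 6, 7, 9], [0, 1, 4, 7], [1, 2, 4, 7], [4, 12], [8, 9], [1, 4, 10, 12], [2, 3, 5, 12], [0, 1, 4, 8, 11], [0, 1, 2, 3, 7, 8, 11], [2, 5, 8, 10], [5, 8, 12], [0, 10], [4, 5, 8], [2, 4, 6, 7, 11], [3, 6, 7, 11], [4, 5, 7, 8], [0, 2, 6, 7, 9], [0, 2, 4, 8], [0, 1, 6, 8], [1, 3, 5, 7, 10], [0, 1, 5,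 6, 9], [2, 4, 5, 8, 9], [7, 11], [3, 10], [2, 3, 11], [1, 3, 4, 10], [1, 2, 4, 7, 9, 10], [1, 3, 4], [0, 1, 4, 7, 11], [0, 2, 4, 7, 10], [1, 11, 12], [3, 5, 11], [0, 2, 4, 7, 9], [2, 11], [4, 8, 11], [1, 6, 7, 10], [1, 3, 7, 9, 11], [0, 3, 9], [1, 2, 4, 7, 10], [1, 2, 4, 7, 12], [2, 5, 6], [1, 6, 8], [2, 3, 6], [1, 6, 10], [4, 7, 8], [0, 1, 3, 6, 8], [1, 4, 10], [7, 10, 11, 12], [8, 9, 11], [1, 6, 7, 9], [0, 2, 4, 10], [0, 1, 3, 5, 12], [1, 2, 3, 5, 9], [1, 3, 7, 8, 11], [1, 4, 7, 11], [6, 12], [0, 1, 3, 7, 8], [1, 2, 3, 4, 11], [1, 8, 12], [1, 9, 10], [1, 4, 5, 9], [0, 1, 2, 3, 11], [0, 1, 5, 11, 12], [0, 2, 3, 7], [0, 4, 8], [0, 2, 7, 10], [4, 5, 6], [1, 4, 8, 12], [1, 3, 5, 6, 8], [2, 3, 6, 7, 12], [0, 8, 9, 11], [1, 2, 4, 5, 7, 9], [1, 2, 7], [1, 4, 5, 6, 8, 9, 11], [2, 5, 8, 11], [5, 7, 8], [9, 11], [0, 1, 4, 9, 10], [0, 2, 6, 9, 11], [0, 4, 7, 11], [2, 8, 12], [0, 4, 6, 7], [0, 2, 3, 10, 11], [1, 8, 9,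 11], [1, 2, 3, 5, 8, 9], [2, 8, 10, 11], [0, 7, 8], [5, 9, 10], [6, 7, 9], [0, 6, 7, 12], [1, 3, 5, 8, 9], [2, 3, 5, 7], [7, 9], [3, 5, 7, 10], [3, 5, 6, 7], [0, 1, 3, 4], [0, 2, 6, 9], [1, 2, 8, 10], [3, 6, 12], [8, 10, 12], [2, 9, 11], [6, 8], [1, 11], [0, 3, 8, 9], [1, 6, 7, 12], [0, 1, 5, 6, 10], [1, 6, 12], [0, 1, 4, 7, 8], [0, 1, 2, 6, 9], [4, 11, 12], [1, 3, 9, 11], [1, 2, 6], [0, 1, 7, 10, 11], [5, 6, 7, 10, 11], [1, 2, 7, 8, 9, 11], [0, 3, 4, 9], [0, 3, 7, 9, 11], [5, 8, 11], [0, 1, 2, 11], [1, 2, 10, 12], [4, 5, 6, 11], [2, 5, 8, 10, 11], [0, 1, 6, 7, 10], [6, 7, 8, 11], [3, 5, 9], [7, 10, 11], [1, 2, 5], [0, 1, 2, 7, 11], [4, 9, 11, 12], [7, 10, 12], [1, 3, 6, 11], [1, 8, 10, 12], [1, 9], [1, 2, 3, 5, 8, 10], [7, 12], [3, 5, 10, 11], [0, 1, 2, 5, 8], [1, 3, 5, 8, 11], [0, 2, 3, 6, 8], [1, 4, 7, 8, 12], [1, 3, 7, 9, 10, 11], [1, 6, 7, 10, 12], [1, 2, 3, 5, 8, 10, 12], [5, 7, 11], [3, 9, 11], [0, 6,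 7, 10, 12], [0, 5, 6, 8], [0, 4, 5, 8], [1, 4, 5, 7, 8, 9], [1, 4, 5, 7, 10], [2, 3, 5, 8, 10], [0, 4, 5, 7], [2, 3, 4, 5], [0, 5, 7, 8], [0, 2, 3, 11], [7, 8], [1, 2, 7, 10, 11], [1, 3, 4, 5, 7], [0, 3], [1, 2, 3, 11], [6, 7, 12], [0, 1, 12], [1, 3, 7, 11, 12], [1, 2, 3, 9, 11], [0, 1, 7, 9, 10], [3, 7, 8, 11], [1, 6], [4, 6, 8, 11], [0, 1, 2, 7, 8, 11], [1, 8, 9, 10, 11], [2, 9, 11, 12], [2, 3, 5, 8, 10, 12], [0, 2, 8, 9, 11], [4, 10, 12], [1, 3, 5, 7, 8, 9], [0, 4, 7], [1, 7, 9, 11, 12], [2, 4, 8, 9], [1, 4, 8, 11], [4, 8, 10], [3, 5, 7, 8, 11], [3, 4, 8, 10], [1, 2, 6, 9, 11, 12], [0, 2, 6, 10], [0, 1, 3, 9, 11], [1, 3, 5, 6, 7, 8], [5, 9, 12], [1, 2, 6, 9, 11], [3, 8, 10], [1, 5, 7, 9, 12], [3, 5, 9, 12], [3, 4, 5, 7], [0, 1, 4, 5, 11], [1, 2, 3, 5, 11], [2, 5, 11, 12], [0, 1, 5, 11], [0, 1, 8, 9, 11], [1, 2, 6, 11], [0, 1, 3, 8, 9], [0, 1, 4, 5, 7], [1, 5, 11], [1, 3, 4, 5, 12], [1, 5, 8, 9], [11], [1,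 3, 7, 8], [1, 4, 8, 10, 12], [5, 8, 9, 10], [0, 1, 10, 11], [1, 2, 3, 10, 11], [0, 2, 4, 6], [5, 7, 10, 12], [6, 9], [0, 5, 6, 7, 8], [0, 1, 9, 10], [0, 6], [1, 4, 6, 10], [0, 4, 12], [1, 5, 7, 8, 9, 11], [2, 11, 12], [1, 2, 5, 6], [7, 9, 11], [1, 5, 6, 8], [1, 2, 3, 6, 11], [4, 5, 10, 11], [0, 1, 4, 5], [1, 2, 8], [0, 1, 3, 4, 5], [1, 5], [0, 1, 5, 6], [1, 6, 7], [0, 1, 3, 11], [4, 8, 9], [0, 5, 6, 9], [0, 4, 11], [0, 3, 5, 6], [0, 9, 10, 11], [0, 5, 7], [1, 2, 9, 12], [0, 1, 4, 12], [5, 7], [1, 3, 5, 6, 7, 9], [1, 4, 8, 10, 11], [3, 7, 8], [1, 3, 4, 5, 8, 11], [1, 4, 5, 9, 10], [1, 3, 5], [4, 7, 10], [1, 4, 5, 6, 8, 11], [4, 6, 7], [0, 2, 3, 8], [3, 4, 8, 9, 11], [3, 4, 10], [0, 3, 6, 8], [0, 1, 4, 11], [1, 2, 3, 7, 10, 11], [1, 2, 4], [0, 2, 4, 9], [2, 3, 6, 8], [1, 5, 6, 12], [2, 3], [7, 9, 12], [1, 8, 10], [4, 8, 10, 11], [4, 5, 6, 7], [1, 4, 10, 11], [1, 6, 11, 12], [1, 4, 12], [0, 6, 8], [2, 3, 12],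 [7, 10], [0, 3, 7, 11], [0, 1, 2, 9, 11], [7, 8, 10, 12], [1, 2, 7, 9, 12], [5, 6], [1, 2, 6, 8], [1, 7, 8, 10], [7, 8, 11], [0, 1, 3, 5], [0, 1, 2, 7], [3, 7, 9, 10, 11], [0, 1, 3, 4, 5, 7], [1, 2, 3, 6, 12], [1, 4, 11, 12], [1, 2, 5, 8, 12], [5, 8], [0, 5, 8, 9], [9, 10], [1, 3, 10], [3, 9, 12], [5, 6, 7, 10], [2, 4, 7, 12], [3, 4, 8, 9], [0, 2, 4, 8, 9], [6, 7, 8, 10, 11], [4, 8, 11, 12], [1, 2, 8, 9], [5, 6, 8, 9, 10], [0, 1, 3, 6], [0, 7], [1, 3, 10, 12], [10, 11, 12], [1, 2, 4, 10], [0, 1, 7, 8, 10], [0, 7, 9, 10], [2, 8, 9], [2, 8, 9, 10, 11], [2, 10], [2, 4, 9, 12], [1, 2, 7, 9], [1, 2, 3, 5, 7, 10], [0, 1, 8, 10], [6, 7, 9, 10], [2, 6, 8, 9, 11], [0, 1, 3, 4, 11], [1, 2, 3, 6, 7, 12], [0, 3, 11], [2, 9, 12], [0, 1, 7], [1, 6, 9, 10], [0, 1, 3, 7, 10], [1, 5, 7, 8, 9, 10], [1, 3, 4, 5, 11], [1, 3, 4, 7, 11], [1, 6, 7, 8], [1, 4, 8, 9, 11], [1, 2, 4, 6], [1, 6, 9], [0, 2, 9, 10, 11], [8, 12], [0, 1,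 4, 7, 10, 11], [1, 3, 5, 7, 8, 10], [3, 11, 12], [0, 1, 2, 4, 10], [1, 2, 8, 11], [4, 5, 11], [2, 6], [1, 5, 6, 7, 8], [0, 1, 3, 6, 7], [2, 4, 12], [1, 6, 7, 8, 10, 12], [3, 9, 10, 11], [0, 1, 3, 6, 7, 11], [1, 4, 5, 8], [1, 2, 7, 10], [0, 1, 4, 9, 11], [1, 4, 7, 8, 11], [1, 2, 4, 5, 9], [1, 5, 7, 8, 9], [5, 6, 8, 10], [1, 5, 7, 9], [1, 3, 9, 12], [0, 8, 10], [0, 7, 10, 11], [1, 2, 6, 9], [1, 4, 5, 11], [0, 3, 5, 7, 11], [1, 4, 5, 8, 9], [2, 5], [1, 3, 4, 8], [0, 6, 7, 8], [1, 4, 8, 10], [0, 1, 4, 10], [6, 7, 10], [2, 4, 7, 9, 10], [4, 5, 7], [1, 3, 5, 7, 8], [4, 5, 7, 10], [0, 1, 5, 8, 9], [1, 5, 7, 11], [1, 2, 3, 5, 8, 12], [6, 7, 8], [1, 2, 5, 6, 8], [1, 4, 5, 8, 11], [2, 4, 5, 9], [0, 5, 11], [2, 4, 10, 12], [1], [5, 11], [2, 10, 11], [0, 1, 4, 6, 9, 11], [4, 8, 9, 10, 11], [2, 5, 11], [4, 6, 10], [2, 9], [3, 5, 10], [3, 8, 9], [0, 4, 9], [6], [1, 2, 9, 11, 12], [5, 7, 8, 9, 10], [2, 6, 8], [2, 3, 5, 6],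 [0, 1, 2, 4, 7, 8], [0, 3, 9, 11], [0, 2, 4, 7], [0, 1, 2, 5, 9], [1, 5, 6, 7, 8, 9, 12], [3, 7, 11, 12], [0, 1, 4, 11, 12], [1, 6, 7, 9, 10], [0, 1, 6, 7, 12], [0, 3, 9, 12], [2, 4, 7, 8, 12], [10, 11], [4, 6, 8, 10, 11], [0, 1, 4, 9, 10, 11], [1, 4, 5, 10, 11], [8], [0, 1, 2, 3, 10, 11], [0, 7, 9, 12], [1, 4, 6, 7, 11], [0, 1, 2, 8, 11], [5, 12], [1, 2, 4, 8], [2, 7, 9, 11], [1, 2, 4, 6, 7], [3, 6, 7, 10], [0, 1, 2, 4, 8], [0, 2, 7, 11], [0, 1, 6, 7, 8], [1, 2, 3, 8], [3, 5, 7, 9], [0, 9, 10], [5], [1, 7, 8, 11], [2, 3, 7, 11], [4, 6, 7, 11], [1, 2, 3, 7, 12], [0, 1, 6], [1, 2, 4, 5, 7, 11], [1, 2, 3], [1, 2, 5, 8, 10, 11], [1, 3, 5, 8, 10], [0, 7, 8, 11], [1, 5, 6, 10], [9], [5, 10, 12], [0, 3, 10, 11], [1, 7, 10], [0, 2, 7, 9, 11], [0, 7, 9], [0, 1, 4, 6, 7], [6, 7, 8, 12], [4, 7, 10, 11], [1, 3, 5, 11], [0, 7, 12], [0, 1, 2, 10], [1, 7, 9, 11], [0, 1, 6, 10], [3, 6, 8], [3, 6, 9, 11], [0, 1, 8], [5, 6,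 8, 9], [1, 4, 5, 6, 7], [3, 10, 12], [0, 1, 2, 3, 10], [9, 12], [4, 8, 10, 12], [1, 5, 6, 7, 8, 10], [0, 1], [0, 1, 7, 11, 12], [0, 1, 10], [0, 1, 3, 12], [7, 9, 10, 12], [1, 3, 5, 6, 7], [4, 7, 8, 12], [0, 1, 8, 9], [0, 6, 11], [1, 4, 6, 8, 9], [0, 10, 11], [8, 11, 12], [0, 2, 3, 10], [2, 4, 7], [7, 11, 12], [1, 5, 6, 7, 12], [0, 1, 2, 6, 9, 10], [1, 8], [2, 7, 8, 11], [2, 4, 5, 6, 7], [3, 5], [3, 8], [0, 5, 7, 8, 11], [1, 7], [0, 1, 2, 5, 8, 9, 10], [1, 3, 5, 10, 12], [4, 5], [1, 2, 3, 7, 11], [3, 5, 7], [11, 12], [5, 8, 9], [3, 7, 9, 11], [4, 7], [0, 4, 8, 10], [1, 3, 5, 6, 7, 10], [0, 2, 6, 8], [0, 1, 3, 4, 5, 9], [2, 3, 5, 8], [1, 2, 3, 6, 10, 11], [1, 5, 7, 8, 11], [2], [1, 2], [0, 2, 4, 9, 12], [3, 6, 7, 12], [5, 6, 9, 10], [1, 5, 6, 7, 8, 9], [0, 2, 7, 9], [7, 8, 11, 12], [0, 1, 2, 9], [12], [1, 2, 5, 7, 8, 11], [0, 1, 4, 5, 11, 12], [0, 3, 5, 7], [1, 3, 11, 12], [1, 2, 5, 8, 11, 12], [1, 2, 3, 5],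 [0, 5, 6], [1, 2, 4, 6, 7, 11], [0, 1, 8, 11], [2, 10, 12], [5, 7, 9], [2, 4, 5, 6], [4, 8], [2, 8, 10], [0, 6, 7, 10, 11], [0, 7, 10], [2, 7, 10], [1, 3], [2, 8, 9, 11], [1, 4], [1, 2, 5, 8], [0, 5, 11, 12], [1, 2, 4, 12], [2, 4, 6, 7], [0, 3, 12], [3, 4, 8], [1, 3, 4, 9], [0, 1, 2, 8, 12], [0, 1, 5, 6, 8], [0, 7, 11], [0, 2, 3, 6], [0, 2, 4, 12], [1, 3, 5, 6, 8, 10], [5, 8, 10], [0, 1, 2, 5, 10], [0, 4, 5, 12], [3, 6], [6, 7, 10, 11], [3, 11], [1, 5, 10], [0, 2, 10, 11], [1, 4, 9, 10], [0, 1, 2, 3, 7], [0, 1, 5, 8, 11], [1, 3, 6, 12], [1, 8, 11], [0, 1, 8, 10, 11], [0, 1, 5, 12], [1, 2, 3, 9, 10, 11], [1, 5, 6, 7, 8, 9, 11], [1, 4, 7, 10, 11], [3, 5, 6], [2, 5, 10, 11], [0, 6, 12], [0, 4], [1, 7, 11, 12], [1, 5, 8, 11], [1, 7, 10, 11, 12], [0, 1, 2, 3, 6], [1, 4, 6], [0, 3, 4], [0, 3, 7], [2, 3, 8, 10], [1, 9, 11], [0, 1, 2, 8], [9, 11, 12], [0, 2, 6], [0, 4, 5, 8, 9], [0, 1, 2, 5], [0, 1, 3, 7], [0, 8, 10,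 11], [2, 7, 11], [2, 3, 5, 7, 10], [2, 5, 7, 8], [0, 3, 4, 10], [1, 3, 5, 7], [2, 6, 9, 11], [1, 3, 5, 10], [0, 4, 6, 8, 9], [0, 1, 3, 9], [5, 10, 11], [1, 2, 8, 12], [3, 5, 7, 11], [5, 7, 8, 9], [3, 7, 10], [1, 2, 6, 8, 11], [0, 1, 2, 8, 10], [0, 6, 7, 8, 12], [6, 9, 10], [0, 1, 2, 6, 7, 9], [0, 1, 2, 6, 11], [1, 9, 11, 12], [0, 1, 4, 5, 7, 11], [1, 5, 6], [1, 3, 4, 5, 8], [0, 1, 9, 10, 11], [0, 1, 4, 5, 8], [0, 1, 5, 7, 11], [1, 3, 7, 12], [3, 7, 8, 10], [1, 2, 5, 9], [0, 1, 3, 4, 7, 11], [4], [1, 3, 6, 7, 11], [0, 1, 6, 9], [0, 9], [0, 1, 2, 4, 7], [3, 7], [0, 6, 7, 10], [0, 1, 2, 4], [0, 5, 8, 11], [0, 9, 11, 12], [2, 3, 11, 12], [2, 7, 9, 12], [1, 4, 7, 8], [2, 6, 8, 11], [0, 1, 2, 7, 10], [1, 10, 11], [1, 5, 7, 10], [0, 3, 4, 8], [4, 7, 11], [2, 5, 8], [1, 4, 6, 9, 11], [1, 4, 10, 11, 12], [0, 1, 7, 10], [4, 5, 6, 8], [1, 9, 10, 11], [1, 2, 6, 8, 9, 11], [2, 7, 9], [1, 3, 8, 9], [0, 5], [0, 1, 2, 8, 10,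 11], [4, 8, 9, 11], [4, 5, 6, 10], [0, 9, 12], [0, 4, 8, 9], [1, 4, 8, 9, 10, 11], [5, 7, 8, 10], [1, 3, 8], [1, 2, 3, 5, 7, 9], [3, 5, 8, 9], [7], [9, 10, 11], [1, 2, 3, 5, 6, 7], [2, 4, 10], [1, 3, 4, 9, 12], [1, 4, 7, 10], [0, 1, 5], [1, 2, 10], [1, 7, 8, 10, 11], [0, 1, 4, 5, 6], [1, 3, 6, 9, 11], [0, 1, 11, 12], [8, 9, 10, 11], [1, 4, 8, 9, 12], [0, 1, 2, 4, 7, 10], [0, 6, 7, 11], [1, 7, 8], [2, 5, 9], [1, 2, 5, 9, 10], [1, 2, 7, 8, 11], [1, 5, 7], [0, 2, 4, 7, 9, 10], [1, 4, 9, 10, 11], [2, 3, 5, 11], [3, 9], [1, 4, 5, 6, 8, 9], [0, 4, 9, 10], [0, 1, 3, 4, 8], [2, 4, 7, 8], [2, 3, 5, 6, 10], [2, 8, 11], [1, 2, 4, 7, 8], [1, 3, 12], [1, 3, 4, 8, 9], [6, 11, 12], [0, 3, 7, 8], [1, 2, 4, 10, 12], [0, 1, 4, 10, 11], [4, 9, 10, 11], [0, 5, 9], [5, 7, 8, 12], [6, 11], [1, 5, 8], [1, 4, 8], [0, 2, 3, 8, 10], [1, 7, 10, 12], [0, 2, 10], [1, 5, 7, 10, 11], [1, 4, 8, 11, 12], [1, 3, 6], [1, 4, 5, 6, 8], [0, 1,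 2, 10, 11], [5, 7, 10, 11], [4, 9], [7, 8, 10], [2, 3, 6, 7], [2, 3, 6, 7, 11], [0, 1, 5, 6, 7], [3, 5, 6, 10], [1, 2, 4, 9, 12], [1, 4, 5, 7, 11], [0, 1, 4, 8], [6, 7, 8, 10], [1, 4, 9], [1, 2, 7, 9, 11], [4, 6], [2, 3, 8], [1, 3, 5, 8], [0, 1, 6, 7, 8, 11], [1, 2, 9], [1, 3, 5, 6, 12], [7, 9, 11, 12], [2, 6, 9, 11, 12], [0, 1, 2, 3, 8], [3, 5, 6, 7, 8], [1, 3, 5, 7, 12], [1, 4, 5, 8, 9, 11], [5, 7, 10], [3, 5, 8], [0, 1, 3, 7, 11], [10], [2, 12], [0, 3, 5], [3, 4, 10, 11], [0, 1, 4], [1, 2, 9, 10, 11, 12], [0, 4, 5], [0, 8, 9, 10, 11], [1, 2, 5, 7], [0, 2, 3], [1, 2, 9, 11], [8, 10], [0, 1, 7, 8], [0, 1, 6, 7, 11], [1, 10, 12], [4, 7, 8, 11], [1, 2, 3, 7], [1, 3, 7, 8, 10], [0, 1, 2, 3, 5, 8], [0, 1, 4, 8, 10], [0, 1, 4, 8, 9], [0, 7, 9, 10, 12], [0, 1, 4, 6, 8, 11], [3, 12], [6, 8, 11], [1, 12], [1, 3, 11], [1, 7, 9], [1, 2, 10, 11], [0, 1, 3, 9, 10, 11], [0, 6, 7], [4, 5, 9], [1, 2, 3, 5, 7, 12], [4, 5,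 7, 8, 11], [0, 2, 8, 11], [0, 1, 7, 9, 11], [0, 2, 9], [0, 1, 3], [2, 3, 7, 12], [0, 2, 11], [2, 5, 12], [1, 2, 3, 11, 12], [4, 8, 10, 11, 12], [0, 2, 9, 11], [1, 2, 3, 5, 6], [0, 6, 9], [1, 4, 5, 6, 11], [1, 7, 8, 12], [0, 2, 9, 10], [0, 8, 11], [0, 8], [4, 9, 12], [1, 7, 12], [0, 1, 4, 7, 10], [2, 3, 5, 8, 12], [4, 5, 7, 11], [0, 3, 5, 6, 8], [2, 4, 5, 6, 10], [1, 5, 6, 7], [1, 7, 9, 12], [3, 7, 10, 12], [0, 1, 4, 6, 10], [1, 3, 5, 7, 9], [0, 4, 7, 8], [1, 7, 10, 11], [1, 2, 3, 5, 6, 10], [0, 2], [1, 3, 6, 7], [2, 3, 5, 9], [1, 5, 9], [0, 11], [2, 3, 5], [0, 1, 2, 3], [5, 7, 9, 10], [5, 6, 9], [1, 2, 5, 7, 8], [1, 8, 9], [5, 10], [1, 4, 6, 7], [1, 3, 5, 9], [4, 5, 7, 10, 11], [6, 8, 12], [3, 7, 11], [0, 3, 11, 12], [1, 2, 5, 12], [1, 3, 4, 8, 9, 11], [0, 3, 4, 5, 6], [6, 7], [0, 3, 6, 7], [7, 8, 10, 11], [10, 12], [1, 2, 9, 10, 11], [4, 9, 11], [1, 6, 7, 8, 10], [1, 4, 9, 12], [0, 1, 6, 7], [0, 1, 3, 10],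 [0, 1, 3, 11, 12], [0, 4, 10], [1, 4, 5, 7], [1, 3, 9], [1, 3, 4, 8, 10], [0, 11, 12], [1, 2, 3, 12], [2, 8], [0, 1, 2, 7, 9, 11], [1, 2, 4, 8, 9], [0, 3, 5, 8, 11], [3, 4, 11], [1, 4, 9, 11, 12], [1, 2, 4, 9], [4, 6, 9, 11], [2, 5, 9, 12], [0, 3, 6], [0, 1, 4, 7, 8, 9], [1, 3, 7, 11], [1, 2, 5, 11], [3, 4, 9, 12], [1, 2, 3, 6], [1, 7, 11], [6, 7, 11], [0, 2, 12], [0, 2, 4], [1, 3, 6, 7, 10], [4, 10, 11, 12], [2, 4, 9], [1, 4, 7], [1, 8, 10, 11], [0, 1, 5, 8, 10, 11], [1, 3, 4, 5], [0, 2, 9, 12], [1, 2, 11, 12], [2, 4], [1, 2, 3, 5, 10], [0, 2, 11, 12], [3, 5, 6, 8], [1, 2, 8, 9, 12], [2, 3, 4, 11], [1, 10], [1, 6, 7, 11], [4, 8, 12], [1, 5, 7, 9, 11], [4, 11], [1, 2, 6, 10, 11], [0, 5, 8], [1, 2, 12], [1, 4, 11], [4, 5, 10], [2, 3, 5, 10], [3, 4], [1, 4, 5, 7, 10, 11], [8, 11], [5, 7, 12], [1, 8, 11, 12], [0, 1, 6, 7, 9], [0, 1, 2, 9, 11, 12], [3, 10, 11], [0, 6, 10], [1, 3, 4, 5, 8, 9, 11], [3, 6, 7], [0,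 9, 11], [0, 12], [3, 4, 9, 11], [1, 3, 5, 6], [1, 2, 6, 8, 12], [1, 5, 7, 8], [1, 4, 6, 8, 11], [2, 4, 6], [4, 9, 10], [1, 2, 3, 10], [0, 1, 2, 6], [3, 4, 9], [5, 6, 10], [1, 2, 6, 10], [1, 5, 9, 10], [5, 6, 10, 12], [5, 6, 7, 12], [4, 10, 11], [0, 6, 11, 12], [2, 5, 6, 9, 10], [0, 1, 7, 11], [0, 1, 2, 5, 8, 9], [0, 1, 7, 9], [1, 2, 3, 5, 7], [0, 3, 4, 5, 8], [0, 1, 9, 11], [5, 6, 7, 8, 10], [2, 3, 6, 12], [5, 6, 12], [2, 4, 7, 10], [1, 2, 3, 6, 7], [1, 5, 10, 11], [3, 6, 11]]), (0, [[], [2, 4, 6, 8, 9, 10], [0, 2, 5, 6, 9, 11], [0, 4, 5, 7, 9, 11], [2, 3, 4, 8, 9, 10, 12], [0, 3, 4, 5, 6, 7, 8, 9, 11, 12], [0, 2, 3, 5], [3, 6, 8, 9, 10, 12]])]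

theorem check_ok : C.check = true := by decide +kernel

abbrev base : List ℕ := Cfsg.Agent.Lib.TC.Iso.allBase [0] Cfsg.Agent.Lib.TC.D.SuzChain.Lev.levels

theorem hrules : chkRules Cfsg.Agent.Lib.TC.D.SuzG24.Tab.pt C wE base = true := by decide +kernel

theorem hitems : ∀ f < C.items.length, chkItem Cfsg.Agent.Lib.TC.D.SuzG24.Tab.pt C wE wY base f = true := by decide +kernel

theorem hlev : chkLev Cfsg.Agent.Lib.TC.D.SuzG24.Tab.pt wE [] lv = true := by decide +kernel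

theorem hwE : ∀ l ∈ wE, ∀ z ∈ l, z < 7 := by decide +kernel

theorem hwY : ∀ l ∈ wY, ∀ z ∈ l, z < 7 := by decide +kernel

theorem hlvn : ∀ t ∈ lv, ∀ u ∈ t.2, ∀ y ∈ u, y < C.n := by decide +kernel

theorem hprod : (lv.map fun t => t.2.length).prod = C.p ^ C.n := by decide +kernel

end Cfsg.Agent.Lib.Schur.Cert.Suzp2
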